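import Cfsg.Agent.H8.T.Co2Oc0
import Cfsg.Agent.H8.CosetGlue
import Cfsg.Agent.H8.T.LtC2

set_option Elab.async false
set_option autoImplicit false
set_option linter.all false
set_option maxRecDepth 100000
set_option maxHeartbeats 400000

namespace Cfsg.Agent.H8.Co2O
open Cfsg.Agent.H8.LtC2 (T0 T1 T2)

theorem pk0 : allR (ckPerm (nat_lit 4600) X0 X1) (nat_lit 0) (nat_lit 4600) = true := by
  apply allR_of_forall
  intro i hi
  have hi : i < 4600 := hi
  rcases Nat.lt_or_ge i 2300 with h0 | h0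
  · exact allR_spec _ (0 : ℕ) (2300 : ℕ) pk0_0 i (by omega) (by omega)
  exact allR_spec _ (2300 : ℕ) (2300 : ℕ) pk0_1 i (by omega) (by omega)
theorem pk1 : allR (ckPerm (nat_lit 4600) X1 X0) (nat_lit 0) (nat_lit 4600) = true := by
  apply allR_of_forall
  intro i hi
  have hi : i < 4600 := hi
  rcases Nat.lt_or_ge i 2300 with h0 | h0
  · exact allR_spec _ (0 : ℕ) (2300 : ℕ) pk1_0 i (by omega) (by omega)
  exact allR_spec _ (2300 : ℕ) (2300 : ℕ) pk1_1 i (by omega) (by omega)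
theorem pk2 : allR (ckPerm (nat_lit 4600) X2 X3) (nat_lit 0) (nat_lit 4600) = true := by
  apply allR_of_forall
  intro i hi
  have hi : i < 4600 := hi
  rcases Nat.lt_or_ge i 2300 with h0 | h0
  · exact allR_spec _ (0 : ℕ) (2300 : ℕ) pk2_0 i (by omega) (by omega)
  exact allR_spec _ (2300 : ℕ) (2300 : ℕ) pk2_1 i (by omega) (by omega)
theorem pk3 : allR (ckPerm (nat_lit 4600) X3 X2) (nat_lit 0) (nat_lit 4600) = true := by
  apply allR_of_forall
  intro i hi
  have hi : i < 4600 := hi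
  rcases Nat.lt_or_ge i 2300 with h0 | h0
  · exact allR_spec _ (0 : ℕ) (2300 : ℕ) pk3_0 i (by omega) (by omega)
  exact allR_spec _ (2300 : ℕ) (2300 : ℕ) pk3_1 i (by omega) (by omega)
theorem pk4 : allR (ckPerm (nat_lit 4600) X4 X5) (nat_lit 0) (nat_lit 4600) = true := by
  apply allR_of_forall
  intro i hi
  have hi : i < 4600 := hi
  rcases Nat.lt_or_ge i 2300 with h0 | h0
  · exact allR_spec _ (0 : ℕ) (2300 : ℕ) pk4_0 i (by omega) (by omega)
  exact allR_spec _ (2300 : ℕ) (2300 : ℕ) pk4_1 i (by omega) (by omega)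
theorem pk5 : allR (ckPerm (nat_lit 4600) X5 X4) (nat_lit 0) (nat_lit 4600) = true := by
  apply allR_of_forall
  intro i hi
  have hi : i < 4600 := hi
  rcases Nat.lt_or_ge i 2300 with h0 | h0
  · exact allR_spec _ (0 : ℕ) (2300 : ℕ) pk5_0 i (by omega) (by omega)
  exact allR_spec _ (2300 : ℕ) (2300 : ℕ) pk5_1 i (by omega) (by omega)
theorem pk6 : allR (ckPerm (nat_lit 4600) X6 X7) (nat_lit 0) (nat_lit 4600) = true := by
  apply allR_of_forall
  intro i hi
  have hi : i < 4600 := hi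
  rcases Nat.lt_or_ge i 2300 with h0 | h0
  · exact allR_spec _ (0 : ℕ) (2300 : ℕ) pk6_0 i (by omega) (by omega)
  exact allR_spec _ (2300 : ℕ) (2300 : ℕ) pk6_1 i (by omega) (by omega)
theorem pk7 : allR (ckPerm (nat_lit 4600) X7 X6) (nat_lit 0) (nat_lit 4600) = true := by
  apply allR_of_forall
  intro i hi
  have hi : i < 4600 := hi
  rcases Nat.lt_or_ge i 2300 with h0 | h0
  · exact allR_spec _ (0 : ℕ) (2300 : ℕ) pk7_0 i (by omega) (by omega)
  exact allR_spec _ (2300 : ℕ) (2300 : ℕ) pk7_1 i (by omega) (by omega)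
theorem pk8 : allR (ckPerm (nat_lit 4600) X8 X9) (nat_lit 0) (nat_lit 4600) = true := by
  apply allR_of_forall
  intro i hi
  have hi : i < 4600 := hi
  rcases Nat.lt_or_ge i 2300 with h0 | h0
  · exact allR_spec _ (0 : ℕ) (2300 : ℕ) pk8_0 i (by omega) (by omega)
  exact allR_spec _ (2300 : ℕ) (2300 : ℕ) pk8_1 i (by omega) (by omega)
theorem pk9 : allR (ckPerm (nat_lit 4600) X9 X8) (nat_lit 0) (nat_lit 4600) = true := by
  apply allR_of_forall
  intro i hi
  have hi : i < 4600 := hi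
  rcases Nat.lt_or_ge i 2300 with h0 | h0
  · exact allR_spec _ (0 : ℕ) (2300 : ℕ) pk9_0 i (by omega) (by omega)
  exact allR_spec _ (2300 : ℕ) (2300 : ℕ) pk9_1 i (by omega) (by omega)
theorem pk10 : allR (ckPerm (nat_lit 4600) X10 X11) (nat_lit 0) (nat_lit 4600) = true := by
  apply allR_of_forall
  intro i hi
  have hi : i < 4600 := hi
  rcases Nat.lt_or_ge i 2300 with h0 | h0
  · exact allR_spec _ (0 : ℕ) (2300 : ℕ) pk10_0 i (by omega) (by omega)
  exact allR_spec _ (2300 : ℕ) (2300 : ℕ) pk10_1 i (by omega) (by omega)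
theorem pk11 : allR (ckPerm (nat_lit 4600) X11 X10) (nat_lit 0) (nat_lit 4600) = true := by
  apply allR_of_forall
  intro i hi
  have hi : i < 4600 := hi
  rcases Nat.lt_or_ge i 2300 with h0 | h0
  · exact allR_spec _ (0 : ℕ) (2300 : ℕ) pk11_0 i (by omega) (by omega)
  exact allR_spec _ (2300 : ℕ) (2300 : ℕ) pk11_1 i (by omega) (by omega)
theorem pk12 : allR (ckPerm (nat_lit 4600) X12 X13) (nat_lit 0) (nat_lit 4600) = true := by
  apply allR_of_forall
  intro i hi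
  have hi : i < 4600 := hi
  rcases Nat.lt_or_ge i 2300 with h0 | h0
  · exact allR_spec _ (0 : ℕ) (2300 : ℕ) pk12_0 i (by omega) (by omega)
  exact allR_spec _ (2300 : ℕ) (2300 : ℕ) pk12_1 i (by omega) (by omega)
theorem pk13 : allR (ckPerm (nat_lit 4600) X13 X12) (nat_lit 0) (nat_lit 4600) = true := by
  apply allR_of_forall
  intro i hi
  have hi : i < 4600 := hi
  rcases Nat.lt_or_ge i 2300 with h0 | h0
  · exact allR_spec _ (0 : ℕ) (2300 : ℕ) pk13_0 i (by omega) (by omega)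
  exact allR_spec _ (2300 : ℕ) (2300 : ℕ) pk13_1 i (by omega) (by omega)
theorem pk14 : allR (ckPerm (nat_lit 4600) X14 X15) (nat_lit 0) (nat_lit 4600) = true := by
  apply allR_of_forall
  intro i hi
  have hi : i < 4600 := hi
  rcases Nat.lt_or_ge i 2300 with h0 | h0
  · exact allR_spec _ (0 : ℕ) (2300 : ℕ) pk14_0 i (by omega) (by omega)
  exact allR_spec _ (2300 : ℕ) (2300 : ℕ) pk14_1 i (by omega) (by omega)
theorem pk15 : allR (ckPerm (nat_lit 4600) X15 X14) (nat_lit 0) (nat_lit 4600) = true := by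
  apply allR_of_forall
  intro i hi
  have hi : i < 4600 := hi
  rcases Nat.lt_or_ge i 2300 with h0 | h0
  · exact allR_spec _ (0 : ℕ) (2300 : ℕ) pk15_0 i (by omega) (by omega)
  exact allR_spec _ (2300 : ℕ) (2300 : ℕ) pk15_1 i (by omega) (by omega)
theorem pk16 : allR (ckPerm (nat_lit 4600) X16 X17) (nat_lit 0) (nat_lit 4600) = true := by
  apply allR_of_forall
  intro i hi
  have hi : i < 4600 := hi
  rcases Nat.lt_or_ge i 2300 with h0 | h0
  · exact allR_spec _ (0 : ℕ) (2300 : ℕ) pk16_0 i (by omega) (by omega)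
  exact allR_spec _ (2300 : ℕ) (2300 : ℕ) pk16_1 i (by omega) (by omega)
theorem pk17 : allR (ckPerm (nat_lit 4600) X17 X16) (nat_lit 0) (nat_lit 4600) = true := by
  apply allR_of_forall
  intro i hi
  have hi : i < 4600 := hi
  rcases Nat.lt_or_ge i 2300 with h0 | h0
  · exact allR_spec _ (0 : ℕ) (2300 : ℕ) pk17_0 i (by omega) (by omega)
  exact allR_spec _ (2300 : ℕ) (2300 : ℕ) pk17_1 i (by omega) (by omega)
theorem pk18 : allR (ckPerm (nat_lit 4600) X18 X19) (nat_lit 0) (nat_lit 4600) = true := by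
  apply allR_of_forall
  intro i hi
  have hi : i < 4600 := hi
  rcases Nat.lt_or_ge i 2300 with h0 | h0
  · exact allR_spec _ (0 : ℕ) (2300 : ℕ) pk18_0 i (by omega) (by omega)
  exact allR_spec _ (2300 : ℕ) (2300 : ℕ) pk18_1 i (by omega) (by omega)
theorem pk19 : allR (ckPerm (nat_lit 4600) X19 X18) (nat_lit 0) (nat_lit 4600) = true := by
  apply allR_of_forall
  intro i hi
  have hi : i < 4600 := hi
  rcases Nat.lt_or_ge i 2300 with h0 | h0
  · exact allR_spec _ (0 : ℕ) (2300 : ℕ) pk19_0 i (by omega) (by omega)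
  exact allR_spec _ (2300 : ℕ) (2300 : ℕ) pk19_1 i (by omega) (by omega)
theorem pk20 : allR (ckPerm (nat_lit 4600) X20 X21) (nat_lit 0) (nat_lit 4600) = true := by
  apply allR_of_forall
  intro i hi
  have hi : i < 4600 := hi
  rcases Nat.lt_or_ge i 2300 with h0 | h0
  · exact allR_spec _ (0 : ℕ) (2300 : ℕ) pk20_0 i (by omega) (by omega)
  exact allR_spec _ (2300 : ℕ) (2300 : ℕ) pk20_1 i (by omega) (by omega)
theorem pk21 : allR (ckPerm (nat_lit 4600) X21 X20) (nat_lit 0) (nat_lit 4600) = true := by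
  apply allR_of_forall
  intro i hi
  have hi : i < 4600 := hi
  rcases Nat.lt_or_ge i 2300 with h0 | h0
  · exact allR_spec _ (0 : ℕ) (2300 : ℕ) pk21_0 i (by omega) (by omega)
  exact allR_spec _ (2300 : ℕ) (2300 : ℕ) pk21_1 i (by omega) (by omega)
theorem pk22 : allR (ckPerm (nat_lit 4600) X22 X23) (nat_lit 0) (nat_lit 4600) = true := by
  apply allR_of_forall
  intro i hi
  have hi : i < 4600 := hi
  rcases Nat.lt_or_ge i 2300 with h0 | h0
  · exact allR_spec _ (0 : ℕ) (2300 : ℕ) pk22_0 i (by omega) (by omega)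
  exact allR_spec _ (2300 : ℕ) (2300 : ℕ) pk22_1 i (by omega) (by omega)
theorem pk23 : allR (ckPerm (nat_lit 4600) X23 X22) (nat_lit 0) (nat_lit 4600) = true := by
  apply allR_of_forall
  intro i hi
  have hi : i < 4600 := hi
  rcases Nat.lt_or_ge i 2300 with h0 | h0
  · exact allR_spec _ (0 : ℕ) (2300 : ℕ) pk23_0 i (by omega) (by omega)
  exact allR_spec _ (2300 : ℕ) (2300 : ℕ) pk23_1 i (by omega) (by omega)
theorem pk24 : allR (ckPerm (nat_lit 4600) X24 X25) (nat_lit 0) (nat_lit 4600) = true := by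
  apply allR_of_forall
  intro i hi
  have hi : i < 4600 := hi
  rcases Nat.lt_or_ge i 2300 with h0 | h0
  · exact allR_spec _ (0 : ℕ) (2300 : ℕ) pk24_0 i (by omega) (by omega)
  exact allR_spec _ (2300 : ℕ) (2300 : ℕ) pk24_1 i (by omega) (by omega)
theorem pk25 : allR (ckPerm (nat_lit 4600) X25 X24) (nat_lit 0) (nat_lit 4600) = true := by
  apply allR_of_forall
  intro i hi
  have hi : i < 4600 := hi
  rcases Nat.lt_or_ge i 2300 with h0 | h0
  · exact allR_spec _ (0 : ℕ) (2300 : ℕ) pk25_0 i (by omega) (by omega)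
  exact allR_spec _ (2300 : ℕ) (2300 : ℕ) pk25_1 i (by omega) (by omega)
theorem pk26 : allR (ckPerm (nat_lit 4600) X26 X27) (nat_lit 0) (nat_lit 4600) = true := by
  apply allR_of_forall
  intro i hi
  have hi : i < 4600 := hi
  rcases Nat.lt_or_ge i 2300 with h0 | h0
  · exact allR_spec _ (0 : ℕ) (2300 : ℕ) pk26_0 i (by omega) (by omega)
  exact allR_spec _ (2300 : ℕ) (2300 : ℕ) pk26_1 i (by omega) (by omega)
theorem pk27 : allR (ckPerm (nat_lit 4600) X27 X26) (nat_lit 0) (nat_lit 4600) = true := by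
  apply allR_of_forall
  intro i hi
  have hi : i < 4600 := hi
  rcases Nat.lt_or_ge i 2300 with h0 | h0
  · exact allR_spec _ (0 : ℕ) (2300 : ℕ) pk27_0 i (by omega) (by omega)
  exact allR_spec _ (2300 : ℕ) (2300 : ℕ) pk27_1 i (by omega) (by omega)
theorem pk28 : allR (ckPerm (nat_lit 4600) X28 X29) (nat_lit 0) (nat_lit 4600) = true := by
  apply allR_of_forall
  intro i hi
  have hi : i < 4600 := hi
  rcases Nat.lt_or_ge i 2300 with h0 | h0
  · exact allR_spec _ (0 : ℕ) (2300 : ℕ) pk28_0 i (by omega) (by omega)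
  exact allR_spec _ (2300 : ℕ) (2300 : ℕ) pk28_1 i (by omega) (by omega)
theorem pk29 : allR (ckPerm (nat_lit 4600) X29 X28) (nat_lit 0) (nat_lit 4600) = true := by
  apply allR_of_forall
  intro i hi
  have hi : i < 4600 := hi
  rcases Nat.lt_or_ge i 2300 with h0 | h0
  · exact allR_spec _ (0 : ℕ) (2300 : ℕ) pk29_0 i (by omega) (by omega)
  exact allR_spec _ (2300 : ℕ) (2300 : ℕ) pk29_1 i (by omega) (by omega)
theorem pk30 : allR (ckPerm (nat_lit 4600) X30 X31) (nat_lit 0) (nat_lit 4600) = true := by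
  apply allR_of_forall
  intro i hi
  have hi : i < 4600 := hi
  rcases Nat.lt_or_ge i 2300 with h0 | h0
  · exact allR_spec _ (0 : ℕ) (2300 : ℕ) pk30_0 i (by omega) (by omega)
  exact allR_spec _ (2300 : ℕ) (2300 : ℕ) pk30_1 i (by omega) (by omega)
theorem pk31 : allR (ckPerm (nat_lit 4600) X31 X30) (nat_lit 0) (nat_lit 4600) = true := by
  apply allR_of_forall
  intro i hi
  have hi : i < 4600 := hi
  rcases Nat.lt_or_ge i 2300 with h0 | h0
  · exact allR_spec _ (0 : ℕ) (2300 : ℕ) pk31_0 i (by omega) (by omega)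
  exact allR_spec _ (2300 : ℕ) (2300 : ℕ) pk31_1 i (by omega) (by omega)
theorem pk32 : allR (ckPerm (nat_lit 4600) X32 X33) (nat_lit 0) (nat_lit 4600) = true := by
  apply allR_of_forall
  intro i hi
  have hi : i < 4600 := hi
  rcases Nat.lt_or_ge i 2300 with h0 | h0
  · exact allR_spec _ (0 : ℕ) (2300 : ℕ) pk32_0 i (by omega) (by omega)
  exact allR_spec _ (2300 : ℕ) (2300 : ℕ) pk32_1 i (by omega) (by omega)
theorem pk33 : allR (ckPerm (nat_lit 4600) X33 X32) (nat_lit 0) (nat_lit 4600) = true := by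
  apply allR_of_forall
  intro i hi
  have hi : i < 4600 := hi
  rcases Nat.lt_or_ge i 2300 with h0 | h0
  · exact allR_spec _ (0 : ℕ) (2300 : ℕ) pk33_0 i (by omega) (by omega)
  exact allR_spec _ (2300 : ℕ) (2300 : ℕ) pk33_1 i (by omega) (by omega)
theorem pk34 : allR (ckPerm (nat_lit 4600) X34 X35) (nat_lit 0) (nat_lit 4600) = true := by
  apply allR_of_forall
  intro i hi
  have hi : i < 4600 := hi
  rcases Nat.lt_or_ge i 2300 with h0 | h0
  · exact allR_spec _ (0 : ℕ) (2300 : ℕ) pk34_0 i (by omega) (by omega)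
  exact allR_spec _ (2300 : ℕ) (2300 : ℕ) pk34_1 i (by omega) (by omega)
theorem pk35 : allR (ckPerm (nat_lit 4600) X35 X34) (nat_lit 0) (nat_lit 4600) = true := by
  apply allR_of_forall
  intro i hi
  have hi : i < 4600 := hi
  rcases Nat.lt_or_ge i 2300 with h0 | h0
  · exact allR_spec _ (0 : ℕ) (2300 : ℕ) pk35_0 i (by omega) (by omega)
  exact allR_spec _ (2300 : ℕ) (2300 : ℕ) pk35_1 i (by omega) (by omega)
theorem pk36 : allR (ckPerm (nat_lit 4600) X36 X37) (nat_lit 0) (nat_lit 4600) = true := by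
  apply allR_of_forall
  intro i hi
  have hi : i < 4600 := hi
  rcases Nat.lt_or_ge i 2300 with h0 | h0
  · exact allR_spec _ (0 : ℕ) (2300 : ℕ) pk36_0 i (by omega) (by omega)
  exact allR_spec _ (2300 : ℕ) (2300 : ℕ) pk36_1 i (by omega) (by omega)
theorem pk37 : allR (ckPerm (nat_lit 4600) X37 X36) (nat_lit 0) (nat_lit 4600) = true := by
  apply allR_of_forall
  intro i hi
  have hi : i < 4600 := hi
  rcases Nat.lt_or_ge i 2300 with h0 | h0
  · exact allR_spec _ (0 : ℕ) (2300 : ℕ) pk37_0 i (by omega) (by omega)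
  exact allR_spec _ (2300 : ℕ) (2300 : ℕ) pk37_1 i (by omega) (by omega)
theorem pk38 : allR (ckPerm (nat_lit 4600) X38 X39) (nat_lit 0) (nat_lit 4600) = true := by
  apply allR_of_forall
  intro i hi
  have hi : i < 4600 := hi
  rcases Nat.lt_or_ge i 2300 with h0 | h0
  · exact allR_spec _ (0 : ℕ) (2300 : ℕ) pk38_0 i (by omega) (by omega)
  exact allR_spec _ (2300 : ℕ) (2300 : ℕ) pk38_1 i (by omega) (by omega)
theorem pk39 : allR (ckPerm (nat_lit 4600) X39 X38) (nat_lit 0) (nat_lit 4600) = true := by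
  apply allR_of_forall
  intro i hi
  have hi : i < 4600 := hi
  rcases Nat.lt_or_ge i 2300 with h0 | h0
  · exact allR_spec _ (0 : ℕ) (2300 : ℕ) pk39_0 i (by omega) (by omega)
  exact allR_spec _ (2300 : ℕ) (2300 : ℕ) pk39_1 i (by omega) (by omega)
theorem pk40 : allR (ckPerm (nat_lit 4600) X40 X41) (nat_lit 0) (nat_lit 4600) = true := by
  apply allR_of_forall
  intro i hi
  have hi : i < 4600 := hi
  rcases Nat.lt_or_ge i 2300 with h0 | h0
  · exact allR_spec _ (0 : ℕ) (2300 : ℕ) pk40_0 i (by omega) (by omega)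
  exact allR_spec _ (2300 : ℕ) (2300 : ℕ) pk40_1 i (by omega) (by omega)
theorem pk41 : allR (ckPerm (nat_lit 4600) X41 X40) (nat_lit 0) (nat_lit 4600) = true := by
  apply allR_of_forall
  intro i hi
  have hi : i < 4600 := hi
  rcases Nat.lt_or_ge i 2300 with h0 | h0
  · exact allR_spec _ (0 : ℕ) (2300 : ℕ) pk41_0 i (by omega) (by omega)
  exact allR_spec _ (2300 : ℕ) (2300 : ℕ) pk41_1 i (by omega) (by omega)
theorem pk42 : allR (ckPerm (nat_lit 4600) X42 X43) (nat_lit 0) (nat_lit 4600) = true := by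
  apply allR_of_forall
  intro i hi
  have hi : i < 4600 := hi
  rcases Nat.lt_or_ge i 2300 with h0 | h0
  · exact allR_spec _ (0 : ℕ) (2300 : ℕ) pk42_0 i (by omega) (by omega)
  exact allR_spec _ (2300 : ℕ) (2300 : ℕ) pk42_1 i (by omega) (by omega)
theorem pk43 : allR (ckPerm (nat_lit 4600) X43 X42) (nat_lit 0) (nat_lit 4600) = true := by
  apply allR_of_forall
  intro i hi
  have hi : i < 4600 := hi
  rcases Nat.lt_or_ge i 2300 with h0 | h0
  · exact allR_spec _ (0 : ℕ) (2300 : ℕ) pk43_0 i (by omega) (by omega)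
  exact allR_spec _ (2300 : ℕ) (2300 : ℕ) pk43_1 i (by omega) (by omega)
theorem pk44 : allR (ckPerm (nat_lit 4600) X44 X45) (nat_lit 0) (nat_lit 4600) = true := by
  apply allR_of_forall
  intro i hi
  have hi : i < 4600 := hi
  rcases Nat.lt_or_ge i 2300 with h0 | h0
  · exact allR_spec _ (0 : ℕ) (2300 : ℕ) pk44_0 i (by omega) (by omega)
  exact allR_spec _ (2300 : ℕ) (2300 : ℕ) pk44_1 i (by omega) (by omega)
theorem pk45 : allR (ckPerm (nat_lit 4600) X45 X44) (nat_lit 0) (nat_lit 4600) = true := by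
  apply allR_of_forall
  intro i hi
  have hi : i < 4600 := hi
  rcases Nat.lt_or_ge i 2300 with h0 | h0
  · exact allR_spec _ (0 : ℕ) (2300 : ℕ) pk45_0 i (by omega) (by omega)
  exact allR_spec _ (2300 : ℕ) (2300 : ℕ) pk45_1 i (by omega) (by omega)
theorem pk46 : allR (ckPerm (nat_lit 4600) X46 X47) (nat_lit 0) (nat_lit 4600) = true := by
  apply allR_of_forall
  intro i hi
  have hi : i < 4600 := hi
  rcases Nat.lt_or_ge i 2300 with h0 | h0
  · exact allR_spec _ (0 : ℕ) (2300 : ℕ) pk46_0 i (by omega) (by omega)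
  exact allR_spec _ (2300 : ℕ) (2300 : ℕ) pk46_1 i (by omega) (by omega)
theorem pk47 : allR (ckPerm (nat_lit 4600) X47 X46) (nat_lit 0) (nat_lit 4600) = true := by
  apply allR_of_forall
  intro i hi
  have hi : i < 4600 := hi
  rcases Nat.lt_or_ge i 2300 with h0 | h0
  · exact allR_spec _ (0 : ℕ) (2300 : ℕ) pk47_0 i (by omega) (by omega)
  exact allR_spec _ (2300 : ℕ) (2300 : ℕ) pk47_1 i (by omega) (by omega)
theorem pk48 : allR (ckPerm (nat_lit 4600) X48 X49) (nat_lit 0) (nat_lit 4600) = true := by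
  apply allR_of_forall
  intro i hi
  have hi : i < 4600 := hi
  rcases Nat.lt_or_ge i 2300 with h0 | h0
  · exact allR_spec _ (0 : ℕ) (2300 : ℕ) pk48_0 i (by omega) (by omega)
  exact allR_spec _ (2300 : ℕ) (2300 : ℕ) pk48_1 i (by omega) (by omega)
theorem pk49 : allR (ckPerm (nat_lit 4600) X49 X48) (nat_lit 0) (nat_lit 4600) = true := by
  apply allR_of_forall
  intro i hi
  have hi : i < 4600 := hi
  rcases Nat.lt_or_ge i 2300 with h0 | h0
  · exact allR_spec _ (0 : ℕ) (2300 : ℕ) pk49_0 i (by omega) (by omega)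
  exact allR_spec _ (2300 : ℕ) (2300 : ℕ) pk49_1 i (by omega) (by omega)
theorem pk50 : allR (ckPerm (nat_lit 4600) X50 X51) (nat_lit 0) (nat_lit 4600) = true := by
  apply allR_of_forall
  intro i hi
  have hi : i < 4600 := hi
  rcases Nat.lt_or_ge i 2300 with h0 | h0
  · exact allR_spec _ (0 : ℕ) (2300 : ℕ) pk50_0 i (by omega) (by omega)
  exact allR_spec _ (2300 : ℕ) (2300 : ℕ) pk50_1 i (by omega) (by omega)
theorem pk51 : allR (ckPerm (nat_lit 4600) X51 X50) (nat_lit 0) (nat_lit 4600) = true := by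
  apply allR_of_forall
  intro i hi
  have hi : i < 4600 := hi
  rcases Nat.lt_or_ge i 2300 with h0 | h0
  · exact allR_spec _ (0 : ℕ) (2300 : ℕ) pk51_0 i (by omega) (by omega)
  exact allR_spec _ (2300 : ℕ) (2300 : ℕ) pk51_1 i (by omega) (by omega)
theorem pk52 : allR (ckPerm (nat_lit 4600) X52 X53) (nat_lit 0) (nat_lit 4600) = true := by
  apply allR_of_forall
  intro i hi
  have hi : i < 4600 := hi
  rcases Nat.lt_or_ge i 2300 with h0 | h0
  · exact allR_spec _ (0 : ℕ) (2300 : ℕ) pk52_0 i (by omega) (by omega)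
  exact allR_spec _ (2300 : ℕ) (2300 : ℕ) pk52_1 i (by omega) (by omega)
theorem pk53 : allR (ckPerm (nat_lit 4600) X53 X52) (nat_lit 0) (nat_lit 4600) = true := by
  apply allR_of_forall
  intro i hi
  have hi : i < 4600 := hi
  rcases Nat.lt_or_ge i 2300 with h0 | h0
  · exact allR_spec _ (0 : ℕ) (2300 : ℕ) pk53_0 i (by omega) (by omega)
  exact allR_spec _ (2300 : ℕ) (2300 : ℕ) pk53_1 i (by omega) (by omega)
theorem pk54 : allR (ckPerm (nat_lit 4600) X54 X55) (nat_lit 0) (nat_lit 4600) = true := by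
  apply allR_of_forall
  intro i hi
  have hi : i < 4600 := hi
  rcases Nat.lt_or_ge i 2300 with h0 | h0
  · exact allR_spec _ (0 : ℕ) (2300 : ℕ) pk54_0 i (by omega) (by omega)
  exact allR_spec _ (2300 : ℕ) (2300 : ℕ) pk54_1 i (by omega) (by omega)
theorem pk55 : allR (ckPerm (nat_lit 4600) X55 X54) (nat_lit 0) (nat_lit 4600) = true := by
  apply allR_of_forall
  intro i hi
  have hi : i < 4600 := hi
  rcases Nat.lt_or_ge i 2300 with h0 | h0
  · exact allR_spec _ (0 : ℕ) (2300 : ℕ) pk55_0 i (by omega) (by omega)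
  exact allR_spec _ (2300 : ℕ) (2300 : ℕ) pk55_1 i (by omega) (by omega)
theorem wk0 : allR (OT.ckEqW [T0, T2, T0, T1, T2, T1, T2] [X0]) (nat_lit 0) (nat_lit 4600) = true := by
  apply allR_of_forall
  intro i hi
  have hi : i < 4600 := hi
  rcases Nat.lt_or_ge i 575 with h0 | h0
  · exact allR_spec _ (0 : ℕ) (575 : ℕ) wk0_0 i (by omega) (by omega)
  rcases Nat.lt_or_ge i 1150 with h1 | h1
  · exact allR_spec _ (575 : ℕ) (575 : ℕ) wk0_1 i (by omega) (by omega)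
  rcases Nat.lt_or_ge i 1725 with h2 | h2
  · exact allR_spec _ (1150 : ℕ) (575 : ℕ) wk0_2 i (by omega) (by omega)
  rcases Nat.lt_or_ge i 2300 with h3 | h3
  · exact allR_spec _ (1725 : ℕ) (575 : ℕ) wk0_3 i (by omega) (by omega)
  rcases Nat.lt_or_ge i 2875 with h4 | h4
  · exact allR_spec _ (2300 : ℕ) (575 : ℕ) wk0_4 i (by omega) (by omega)
  rcases Nat.lt_or_ge i 3450 with h5 | h5
  · exact allR_spec _ (2875 : ℕ) (575 : ℕ) wk0_5 i (by omega) (by omega)
  rcases Nat.lt_or_ge i 4025 with h6 | h6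
  · exact allR_spec _ (3450 : ℕ) (575 : ℕ) wk0_6 i (by omega) (by omega)
  exact allR_spec _ (4025 : ℕ) (575 : ℕ) wk0_7 i (by omega) (by omega)
theorem wk1 : allR (OT.ckEqW [T0] [X2]) (nat_lit 0) (nat_lit 4600) = true := by
  apply allR_of_forall
  intro i hi
  have hi : i < 4600 := hi
  rcases Nat.lt_or_ge i 2300 with h0 | h0
  · exact allR_spec _ (0 : ℕ) (2300 : ℕ) wk1_0 i (by omega) (by omega)
  exact allR_spec _ (2300 : ℕ) (2300 : ℕ) wk1_1 i (by omega) (by omega)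
theorem wk2 : allR (OT.ckEqW [T1, X0, T2, T0, X1, X1, T1, X1, T1, X0] [X4]) (nat_lit 0) (nat_lit 4600) = true := by
  apply allR_of_forall
  intro i hi
  have hi : i < 4600 := hi
  rcases Nat.lt_or_ge i 418 with h0 | h0
  · exact allR_spec _ (0 : ℕ) (418 : ℕ) wk2_0 i (by omega) (by omega)
  rcases Nat.lt_or_ge i 836 with h1 | h1
  · exact allR_spec _ (418 : ℕ) (418 : ℕ) wk2_1 i (by omega) (by omega)
  rcases Nat.lt_or_ge i 1254 with h2 | h2
  · exact allR_spec _ (836 : ℕ) (418 : ℕ) wk2_2 i (by omega) (by omega)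
  rcases Nat.lt_or_ge i 1672 with h3 | h3
  · exact allR_spec _ (1254 : ℕ) (418 : ℕ) wk2_3 i (by omega) (by omega)
  rcases Nat.lt_or_ge i 2090 with h4 | h4
  · exact allR_spec _ (1672 : ℕ) (418 : ℕ) wk2_4 i (by omega) (by omega)
  rcases Nat.lt_or_ge i 2508 with h5 | h5
  · exact allR_spec _ (2090 : ℕ) (418 : ℕ) wk2_5 i (by omega) (by omega)
  rcases Nat.lt_or_ge i 2926 with h6 | h6
  · exact allR_spec _ (2508 : ℕ) (418 : ℕ) wk2_6 i (by omega) (by omega)
  rcases Nat.lt_or_ge i 3344 with h7 | h7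
  · exact allR_spec _ (2926 : ℕ) (418 : ℕ) wk2_7 i (by omega) (by omega)
  rcases Nat.lt_or_ge i 3762 with h8 | h8
  · exact allR_spec _ (3344 : ℕ) (418 : ℕ) wk2_8 i (by omega) (by omega)
  rcases Nat.lt_or_ge i 4180 with h9 | h9
  · exact allR_spec _ (3762 : ℕ) (418 : ℕ) wk2_9 i (by omega) (by omega)
  rcases Nat.lt_or_ge i 4598 with h10 | h10
  · exact allR_spec _ (4180 : ℕ) (418 : ℕ) wk2_10 i (by omega) (by omega)
  exact allR_spec _ (4598 : ℕ) (2 : ℕ) wk2_11 i (by omega) (by omega)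
theorem wk3 : allR (OT.ckEqW [X3, X5, X3, X4, X2, X4, X2, X4, X4, X3, X5, X3, X4, X4, X3, X5, X5] [X6]) (nat_lit 0) (nat_lit 4600) = true := by
  apply allR_of_forall
  intro i hi
  have hi : i < 4600 := hi
  rcases Nat.lt_or_ge i 255 with h0 | h0
  · exact allR_spec _ (0 : ℕ) (255 : ℕ) wk3_0 i (by omega) (by omega)
  rcases Nat.lt_or_ge i 510 with h1 | h1
  · exact allR_spec _ (255 : ℕ) (255 : ℕ) wk3_1 i (by omega) (by omega)
  rcases Nat.lt_or_ge i 765 with h2 | h2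
  · exact allR_spec _ (510 : ℕ) (255 : ℕ) wk3_2 i (by omega) (by omega)
  rcases Nat.lt_or_ge i 1020 with h3 | h3
  · exact allR_spec _ (765 : ℕ) (255 : ℕ) wk3_3 i (by omega) (by omega)
  rcases Nat.lt_or_ge i 1275 with h4 | h4
  · exact allR_spec _ (1020 : ℕ) (255 : ℕ) wk3_4 i (by omega) (by omega)
  rcases Nat.lt_or_ge i 1530 with h5 | h5
  · exact allR_spec _ (1275 : ℕ) (255 : ℕ) wk3_5 i (by omega) (by omega)
  rcases Nat.lt_or_ge i 1785 with h6 | h6
  · exact allR_spec _ (1530 : ℕ) (255 : ℕ) wk3_6 i (by omega) (by omega)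
  rcases Nat.lt_or_ge i 2040 with h7 | h7
  · exact allR_spec _ (1785 : ℕ) (255 : ℕ) wk3_7 i (by omega) (by omega)
  rcases Nat.lt_or_ge i 2295 with h8 | h8
  · exact allR_spec _ (2040 : ℕ) (255 : ℕ) wk3_8 i (by omega) (by omega)
  rcases Nat.lt_or_ge i 2550 with h9 | h9
  · exact allR_spec _ (2295 : ℕ) (255 : ℕ) wk3_9 i (by omega) (by omega)
  rcases Nat.lt_or_ge i 2805 with h10 | h10
  · exact allR_spec _ (2550 : ℕ) (255 : ℕ) wk3_10 i (by omega) (by omega)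
  rcases Nat.lt_or_ge i 3060 with h11 | h11
  · exact allR_spec _ (2805 : ℕ) (255 : ℕ) wk3_11 i (by omega) (by omega)
  rcases Nat.lt_or_ge i 3315 with h12 | h12
  · exact allR_spec _ (3060 : ℕ) (255 : ℕ) wk3_12 i (by omega) (by omega)
  rcases Nat.lt_or_ge i 3570 with h13 | h13
  · exact allR_spec _ (3315 : ℕ) (255 : ℕ) wk3_13 i (by omega) (by omega)
  rcases Nat.lt_or_ge i 3825 with h14 | h14
  · exact allR_spec _ (3570 : ℕ) (255 : ℕ) wk3_14 i (by omega) (by omega)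
  rcases Nat.lt_or_ge i 4080 with h15 | h15
  · exact allR_spec _ (3825 : ℕ) (255 : ℕ) wk3_15 i (by omega) (by omega)
  rcases Nat.lt_or_ge i 4335 with h16 | h16
  · exact allR_spec _ (4080 : ℕ) (255 : ℕ) wk3_16 i (by omega) (by omega)
  rcases Nat.lt_or_ge i 4590 with h17 | h17
  · exact allR_spec _ (4335 : ℕ) (255 : ℕ) wk3_17 i (by omega) (by omega)
  exact allR_spec _ (4590 : ℕ) (10 : ℕ) wk3_18 i (by omega) (by omega)
theorem wk4 : allR (OT.ckEqW [X4, X3, X4, X4, X4, X4, X2, X4, X4, X4, X4, X4, X3, X5, X5, X5, X3, X5, X3, X5, X5, X3, X5, X5, X5, X5, X5] [X8]) (nat_lit 0) (nat_lit 4600) = true := by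
  apply allR_of_forall
  intro i hi
  have hi : i < 4600 := hi
  rcases Nat.lt_or_ge i 164 with h0 | h0
  · exact allR_spec _ (0 : ℕ) (164 : ℕ) wk4_0 i (by omega) (by omega)
  rcases Nat.lt_or_ge i 328 with h1 | h1
  · exact allR_spec _ (164 : ℕ) (164 : ℕ) wk4_1 i (by omega) (by omega)
  rcases Nat.lt_or_ge i 492 with h2 | h2
  · exact allR_spec _ (328 : ℕ) (164 : ℕ) wk4_2 i (by omega) (by omega)
  rcases Nat.lt_or_ge i 656 with h3 | h3
  · exact allR_spec _ (492 : ℕ) (164 : ℕ) wk4_3 i (by omega) (by omega)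
  rcases Nat.lt_or_ge i 820 with h4 | h4
  · exact allR_spec _ (656 : ℕ) (164 : ℕ) wk4_4 i (by omega) (by omega)
  rcases Nat.lt_or_ge i 984 with h5 | h5
  · exact allR_spec _ (820 : ℕ) (164 : ℕ) wk4_5 i (by omega) (by omega)
  rcases Nat.lt_or_ge i 1148 with h6 | h6
  · exact allR_spec _ (984 : ℕ) (164 : ℕ) wk4_6 i (by omega) (by omega)
  rcases Nat.lt_or_ge i 1312 with h7 | h7
  · exact allR_spec _ (1148 : ℕ) (164 : ℕ) wk4_7 i (by omega) (by omega)
  rcases Nat.lt_or_ge i 1476 with h8 | h8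
  · exact allR_spec _ (1312 : ℕ) (164 : ℕ) wk4_8 i (by omega) (by omega)
  rcases Nat.lt_or_ge i 1640 with h9 | h9
  · exact allR_spec _ (1476 : ℕ) (164 : ℕ) wk4_9 i (by omega) (by omega)
  rcases Nat.lt_or_ge i 1804 with h10 | h10
  · exact allR_spec _ (1640 : ℕ) (164 : ℕ) wk4_10 i (by omega) (by omega)
  rcases Nat.lt_or_ge i 1968 with h11 | h11
  · exact allR_spec _ (1804 : ℕ) (164 : ℕ) wk4_11 i (by omega) (by omega)
  rcases Nat.lt_or_ge i 2132 with h12 | h12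
  · exact allR_spec _ (1968 : ℕ) (164 : ℕ) wk4_12 i (by omega) (by omega)
  rcases Nat.lt_or_ge i 2296 with h13 | h13
  · exact allR_spec _ (2132 : ℕ) (164 : ℕ) wk4_13 i (by omega) (by omega)
  rcases Nat.lt_or_ge i 2460 with h14 | h14
  · exact allR_spec _ (2296 : ℕ) (164 : ℕ) wk4_14 i (by omega) (by omega)
  rcases Nat.lt_or_ge i 2624 with h15 | h15
  · exact allR_spec _ (2460 : ℕ) (164 : ℕ) wk4_15 i (by omega) (by omega)
  rcases Nat.lt_or_ge i 2788 with h16 | h16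
  · exact allR_spec _ (2624 : ℕ) (164 : ℕ) wk4_16 i (by omega) (by omega)
  rcases Nat.lt_or_ge i 2952 with h17 | h17
  · exact allR_spec _ (2788 : ℕ) (164 : ℕ) wk4_17 i (by omega) (by omega)
  rcases Nat.lt_or_ge i 3116 with h18 | h18
  · exact allR_spec _ (2952 : ℕ) (164 : ℕ) wk4_18 i (by omega) (by omega)
  rcases Nat.lt_or_ge i 3280 with h19 | h19
  · exact allR_spec _ (3116 : ℕ) (164 : ℕ) wk4_19 i (by omega) (by omega)
  rcases Nat.lt_or_ge i 3444 with h20 | h20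
  · exact allR_spec _ (3280 : ℕ) (164 : ℕ) wk4_20 i (by omega) (by omega)
  rcases Nat.lt_or_ge i 3608 with h21 | h21
  · exact allR_spec _ (3444 : ℕ) (164 : ℕ) wk4_21 i (by omega) (by omega)
  rcases Nat.lt_or_ge i 3772 with h22 | h22
  · exact allR_spec _ (3608 : ℕ) (164 : ℕ) wk4_22 i (by omega) (by omega)
  rcases Nat.lt_or_ge i 3936 with h23 | h23
  · exact allR_spec _ (3772 : ℕ) (164 : ℕ) wk4_23 i (by omega) (by omega)
  rcases Nat.lt_or_ge i 4100 with h24 | h24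
  · exact allR_spec _ (3936 : ℕ) (164 : ℕ) wk4_24 i (by omega) (by omega)
  rcases Nat.lt_or_ge i 4264 with h25 | h25
  · exact allR_spec _ (4100 : ℕ) (164 : ℕ) wk4_25 i (by omega) (by omega)
  rcases Nat.lt_or_ge i 4428 with h26 | h26
  · exact allR_spec _ (4264 : ℕ) (164 : ℕ) wk4_26 i (by omega) (by omega)
  rcases Nat.lt_or_ge i 4592 with h27 | h27
  · exact allR_spec _ (4428 : ℕ) (164 : ℕ) wk4_27 i (by omega) (by omega)
  exact allR_spec _ (4592 : ℕ) (8 : ℕ) wk4_28 i (by omega) (by omega)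
theorem wk5 : allR (OT.ckEqW [X6, X9, X6, X8, X7, X7, X8, X7, X9, X9, X7, X7, X9, X7] [X10]) (nat_lit 0) (nat_lit 4600) = true := by
  apply allR_of_forall
  intro i hi
  have hi : i < 4600 := hi
  rcases Nat.lt_or_ge i 306 with h0 | h0
  · exact allR_spec _ (0 : ℕ) (306 : ℕ) wk5_0 i (by omega) (by omega)
  rcases Nat.lt_or_ge i 612 with h1 | h1
  · exact allR_spec _ (306 : ℕ) (306 : ℕ) wk5_1 i (by omega) (by omega)
  rcases Nat.lt_or_ge i 918 with h2 | h2
  · exact allR_spec _ (612 : ℕ) (306 : ℕ) wk5_2 i (by omega) (by omega)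
  rcases Nat.lt_or_ge i 1224 with h3 | h3
  · exact allR_spec _ (918 : ℕ) (306 : ℕ) wk5_3 i (by omega) (by omega)
  rcases Nat.lt_or_ge i 1530 with h4 | h4
  · exact allR_spec _ (1224 : ℕ) (306 : ℕ) wk5_4 i (by omega) (by omega)
  rcases Nat.lt_or_ge i 1836 with h5 | h5
  · exact allR_spec _ (1530 : ℕ) (306 : ℕ) wk5_5 i (by omega) (by omega)
  rcases Nat.lt_or_ge i 2142 with h6 | h6
  · exact allR_spec _ (1836 : ℕ) (306 : ℕ) wk5_6 i (by omega) (by omega)
  rcases Nat.lt_or_ge i 2448 with h7 | h7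
  · exact allR_spec _ (2142 : ℕ) (306 : ℕ) wk5_7 i (by omega) (by omega)
  rcases Nat.lt_or_ge i 2754 with h8 | h8
  · exact allR_spec _ (2448 : ℕ) (306 : ℕ) wk5_8 i (by omega) (by omega)
  rcases Nat.lt_or_ge i 3060 with h9 | h9
  · exact allR_spec _ (2754 : ℕ) (306 : ℕ) wk5_9 i (by omega) (by omega)
  rcases Nat.lt_or_ge i 3366 with h10 | h10
  · exact allR_spec _ (3060 : ℕ) (306 : ℕ) wk5_10 i (by omega) (by omega)
  rcases Nat.lt_or_ge i 3672 with h11 | h11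
  · exact allR_spec _ (3366 : ℕ) (306 : ℕ) wk5_11 i (by omega) (by omega)
  rcases Nat.lt_or_ge i 3978 with h12 | h12
  · exact allR_spec _ (3672 : ℕ) (306 : ℕ) wk5_12 i (by omega) (by omega)
  rcases Nat.lt_or_ge i 4284 with h13 | h13
  · exact allR_spec _ (3978 : ℕ) (306 : ℕ) wk5_13 i (by omega) (by omega)
  rcases Nat.lt_or_ge i 4590 with h14 | h14
  · exact allR_spec _ (4284 : ℕ) (306 : ℕ) wk5_14 i (by omega) (by omega)
  exact allR_spec _ (4590 : ℕ) (10 : ℕ) wk5_15 i (by omega) (by omega)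
theorem wk6 : allR (OT.ckEqW [X6, X8, X7, X7, X9, X7, X8, X7, X9, X7, X8] [X12]) (nat_lit 0) (nat_lit 4600) = true := by
  apply allR_of_forall
  intro i hi
  have hi : i < 4600 := hi
  rcases Nat.lt_or_ge i 383 with h0 | h0
  · exact allR_spec _ (0 : ℕ) (383 : ℕ) wk6_0 i (by omega) (by omega)
  rcases Nat.lt_or_ge i 766 with h1 | h1
  · exact allR_spec _ (383 : ℕ) (383 : ℕ) wk6_1 i (by omega) (by omega)
  rcases Nat.lt_or_ge i 1149 with h2 | h2
  · exact allR_spec _ (766 : ℕ) (383 : ℕ) wk6_2 i (by omega) (by omega)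
  rcases Nat.lt_or_ge i 1532 with h3 | h3
  · exact allR_spec _ (1149 : ℕ) (383 : ℕ) wk6_3 i (by omega) (by omega)
  rcases Nat.lt_or_ge i 1915 with h4 | h4
  · exact allR_spec _ (1532 : ℕ) (383 : ℕ) wk6_4 i (by omega) (by omega)
  rcases Nat.lt_or_ge i 2298 with h5 | h5
  · exact allR_spec _ (1915 : ℕ) (383 : ℕ) wk6_5 i (by omega) (by omega)
  rcases Nat.lt_or_ge i 2681 with h6 | h6
  · exact allR_spec _ (2298 : ℕ) (383 : ℕ) wk6_6 i (by omega) (by omega)
  rcases Nat.lt_or_ge i 3064 with h7 | h7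
  · exact allR_spec _ (2681 : ℕ) (383 : ℕ) wk6_7 i (by omega) (by omega)
  rcases Nat.lt_or_ge i 3447 with h8 | h8
  · exact allR_spec _ (3064 : ℕ) (383 : ℕ) wk6_8 i (by omega) (by omega)
  rcases Nat.lt_or_ge i 3830 with h9 | h9
  · exact allR_spec _ (3447 : ℕ) (383 : ℕ) wk6_9 i (by omega) (by omega)
  rcases Nat.lt_or_ge i 4213 with h10 | h10
  · exact allR_spec _ (3830 : ℕ) (383 : ℕ) wk6_10 i (by omega) (by omega)
  rcases Nat.lt_or_ge i 4596 with h11 | h11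
  · exact allR_spec _ (4213 : ℕ) (383 : ℕ) wk6_11 i (by omega) (by omega)
  exact allR_spec _ (4596 : ℕ) (4 : ℕ) wk6_12 i (by omega) (by omega)
theorem wk7 : allR (OT.ckEqW [X11, X13, X11, X13, X10, X13, X13, X10] [X14]) (nat_lit 0) (nat_lit 4600) = true := by
  apply allR_of_forall
  intro i hi
  have hi : i < 4600 := hi
  rcases Nat.lt_or_ge i 511 with h0 | h0
  · exact allR_spec _ (0 : ℕ) (511 : ℕ) wk7_0 i (by omega) (by omega)
  rcases Nat.lt_or_ge i 1022 with h1 | h1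
  · exact allR_spec _ (511 : ℕ) (511 : ℕ) wk7_1 i (by omega) (by omega)
  rcases Nat.lt_or_ge i 1533 with h2 | h2
  · exact allR_spec _ (1022 : ℕ) (511 : ℕ) wk7_2 i (by omega) (by omega)
  rcases Nat.lt_or_ge i 2044 with h3 | h3
  · exact allR_spec _ (1533 : ℕ) (511 : ℕ) wk7_3 i (by omega) (by omega)
  rcases Nat.lt_or_ge i 2555 with h4 | h4
  · exact allR_spec _ (2044 : ℕ) (511 : ℕ) wk7_4 i (by omega) (by omega)
  rcases Nat.lt_or_ge i 3066 with h5 | h5
  · exact allR_spec _ (2555 : ℕ) (511 : ℕ) wk7_5 i (by omega) (by omega)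
  rcases Nat.lt_or_ge i 3577 with h6 | h6
  · exact allR_spec _ (3066 : ℕ) (511 : ℕ) wk7_6 i (by omega) (by omega)
  rcases Nat.lt_or_ge i 4088 with h7 | h7
  · exact allR_spec _ (3577 : ℕ) (511 : ℕ) wk7_7 i (by omega) (by omega)
  rcases Nat.lt_or_ge i 4599 with h8 | h8
  · exact allR_spec _ (4088 : ℕ) (511 : ℕ) wk7_8 i (by omega) (by omega)
  exact allR_spec _ (4599 : ℕ) (1 : ℕ) wk7_9 i (by omega) (by omega)
theorem wk8 : allR (OT.ckEqW [X14, X11, X11, X11, X11, X12, X12, X7, X8, X7, X9, X6, X9, X6, X4, X4, X2, X5, X2, X4, X4, X2, X5, X2, X4, X2, X5, X1, T1, X0, T2, X0, X0] [X16]) (nat_lit 0) (nat_lit 4600) = true := by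
  apply allR_of_forall
  intro i hi
  have hi : i < 4600 := hi
  rcases Nat.lt_or_ge i 135 with h0 | h0
  · exact allR_spec _ (0 : ℕ) (135 : ℕ) wk8_0 i (by omega) (by omega)
  rcases Nat.lt_or_ge i 270 with h1 | h1
  · exact allR_spec _ (135 : ℕ) (135 : ℕ) wk8_1 i (by omega) (by omega)
  rcases Nat.lt_or_ge i 405 with h2 | h2
  · exact allR_spec _ (270 : ℕ) (135 : ℕ) wk8_2 i (by omega) (by omega)
  rcases Nat.lt_or_ge i 540 with h3 | h3
  · exact allR_spec _ (405 : ℕ) (135 : ℕ) wk8_3 i (by omega) (by omega)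
  rcases Nat.lt_or_ge i 675 with h4 | h4
  · exact allR_spec _ (540 : ℕ) (135 : ℕ) wk8_4 i (by omega) (by omega)
  rcases Nat.lt_or_ge i 810 with h5 | h5
  · exact allR_spec _ (675 : ℕ) (135 : ℕ) wk8_5 i (by omega) (by omega)
  rcases Nat.lt_or_ge i 945 with h6 | h6
  · exact allR_spec _ (810 : ℕ) (135 : ℕ) wk8_6 i (by omega) (by omega)
  rcases Nat.lt_or_ge i 1080 with h7 | h7
  · exact allR_spec _ (945 : ℕ) (135 : ℕ) wk8_7 i (by omega) (by omega)
  rcases Nat.lt_or_ge i 1215 with h8 | h8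
  · exact allR_spec _ (1080 : ℕ) (135 : ℕ) wk8_8 i (by omega) (by omega)
  rcases Nat.lt_or_ge i 1350 with h9 | h9
  · exact allR_spec _ (1215 : ℕ) (135 : ℕ) wk8_9 i (by omega) (by omega)
  rcases Nat.lt_or_ge i 1485 with h10 | h10
  · exact allR_spec _ (1350 : ℕ) (135 : ℕ) wk8_10 i (by omega) (by omega)
  rcases Nat.lt_or_ge i 1620 with h11 | h11
  · exact allR_spec _ (1485 : ℕ) (135 : ℕ) wk8_11 i (by omega) (by omega)
  rcases Nat.lt_or_ge i 1755 with h12 | h12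
  · exact allR_spec _ (1620 : ℕ) (135 : ℕ) wk8_12 i (by omega) (by omega)
  rcases Nat.lt_or_ge i 1890 with h13 | h13
  · exact allR_spec _ (1755 : ℕ) (135 : ℕ) wk8_13 i (by omega) (by omega)
  rcases Nat.lt_or_ge i 2025 with h14 | h14
  · exact allR_spec _ (1890 : ℕ) (135 : ℕ) wk8_14 i (by omega) (by omega)
  rcases Nat.lt_or_ge i 2160 with h15 | h15
  · exact allR_spec _ (2025 : ℕ) (135 : ℕ) wk8_15 i (by omega) (by omega)
  rcases Nat.lt_or_ge i 2295 with h16 | h16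
  · exact allR_spec _ (2160 : ℕ) (135 : ℕ) wk8_16 i (by omega) (by omega)
  rcases Nat.lt_or_ge i 2430 with h17 | h17
  · exact allR_spec _ (2295 : ℕ) (135 : ℕ) wk8_17 i (by omega) (by omega)
  rcases Nat.lt_or_ge i 2565 with h18 | h18
  · exact allR_spec _ (2430 : ℕ) (135 : ℕ) wk8_18 i (by omega) (by omega)
  rcases Nat.lt_or_ge i 2700 with h19 | h19
  · exact allR_spec _ (2565 : ℕ) (135 : ℕ) wk8_19 i (by omega) (by omega)
  rcases Nat.lt_or_ge i 2835 with h20 | h20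
  · exact allR_spec _ (2700 : ℕ) (135 : ℕ) wk8_20 i (by omega) (by omega)
  rcases Nat.lt_or_ge i 2970 with h21 | h21
  · exact allR_spec _ (2835 : ℕ) (135 : ℕ) wk8_21 i (by omega) (by omega)
  rcases Nat.lt_or_ge i 3105 with h22 | h22
  · exact allR_spec _ (2970 : ℕ) (135 : ℕ) wk8_22 i (by omega) (by omega)
  rcases Nat.lt_or_ge i 3240 with h23 | h23
  · exact allR_spec _ (3105 : ℕ) (135 : ℕ) wk8_23 i (by omega) (by omega)
  rcases Nat.lt_or_ge i 3375 with h24 | h24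
  · exact allR_spec _ (3240 : ℕ) (135 : ℕ) wk8_24 i (by omega) (by omega)
  rcases Nat.lt_or_ge i 3510 with h25 | h25
  · exact allR_spec _ (3375 : ℕ) (135 : ℕ) wk8_25 i (by omega) (by omega)
  rcases Nat.lt_or_ge i 3645 with h26 | h26
  · exact allR_spec _ (3510 : ℕ) (135 : ℕ) wk8_26 i (by omega) (by omega)
  rcases Nat.lt_or_ge i 3780 with h27 | h27
  · exact allR_spec _ (3645 : ℕ) (135 : ℕ) wk8_27 i (by omega) (by omega)
  rcases Nat.lt_or_ge i 3915 with h28 | h28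
  · exact allR_spec _ (3780 : ℕ) (135 : ℕ) wk8_28 i (by omega) (by omega)
  rcases Nat.lt_or_ge i 4050 with h29 | h29
  · exact allR_spec _ (3915 : ℕ) (135 : ℕ) wk8_29 i (by omega) (by omega)
  rcases Nat.lt_or_ge i 4185 with h30 | h30
  · exact allR_spec _ (4050 : ℕ) (135 : ℕ) wk8_30 i (by omega) (by omega)
  rcases Nat.lt_or_ge i 4320 with h31 | h31
  · exact allR_spec _ (4185 : ℕ) (135 : ℕ) wk8_31 i (by omega) (by omega)
  rcases Nat.lt_or_ge i 4455 with h32 | h32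
  · exact allR_spec _ (4320 : ℕ) (135 : ℕ) wk8_32 i (by omega) (by omega)
  rcases Nat.lt_or_ge i 4590 with h33 | h33
  · exact allR_spec _ (4455 : ℕ) (135 : ℕ) wk8_33 i (by omega) (by omega)
  exact allR_spec _ (4590 : ℕ) (10 : ℕ) wk8_34 i (by omega) (by omega)
theorem wk9 : allR (OT.ckEqW [X10, X10, X10, X12, X11, X11, X13, X11, X6, X9, X7, X8, X6, X6, X9, X7, X4, X2, X4, X4, X4, X2, X4, X4, X4, X2, X4, X4, X2, X0, X0, T1, X0, T0, T1, T0, X1, T1] [X18]) (nat_lit 0) (nat_lit 4600) = true := by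
  apply allR_of_forall
  intro i hi
  have hi : i < 4600 := hi
  rcases Nat.lt_or_ge i 117 with h0 | h0
  · exact allR_spec _ (0 : ℕ) (117 : ℕ) wk9_0 i (by omega) (by omega)
  rcases Nat.lt_or_ge i 234 with h1 | h1
  · exact allR_spec _ (117 : ℕ) (117 : ℕ) wk9_1 i (by omega) (by omega)
  rcases Nat.lt_or_ge i 351 with h2 | h2
  · exact allR_spec _ (234 : ℕ) (117 : ℕ) wk9_2 i (by omega) (by omega)
  rcases Nat.lt_or_ge i 468 with h3 | h3
  · exact allR_spec _ (351 : ℕ) (117 : ℕ) wk9_3 i (by omega) (by omega)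
  rcases Nat.lt_or_ge i 585 with h4 | h4
  · exact allR_spec _ (468 : ℕ) (117 : ℕ) wk9_4 i (by omega) (by omega)
  rcases Nat.lt_or_ge i 702 with h5 | h5
  · exact allR_spec _ (585 : ℕ) (117 : ℕ) wk9_5 i (by omega) (by omega)
  rcases Nat.lt_or_ge i 819 with h6 | h6
  · exact allR_spec _ (702 : ℕ) (117 : ℕ) wk9_6 i (by omega) (by omega)
  rcases Nat.lt_or_ge i 936 with h7 | h7
  · exact allR_spec _ (819 : ℕ) (117 : ℕ) wk9_7 i (by omega) (by omega)
  rcases Nat.lt_or_ge i 1053 with h8 | h8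
  · exact allR_spec _ (936 : ℕ) (117 : ℕ) wk9_8 i (by omega) (by omega)
  rcases Nat.lt_or_ge i 1170 with h9 | h9
  · exact allR_spec _ (1053 : ℕ) (117 : ℕ) wk9_9 i (by omega) (by omega)
  rcases Nat.lt_or_ge i 1287 with h10 | h10
  · exact allR_spec _ (1170 : ℕ) (117 : ℕ) wk9_10 i (by omega) (by omega)
  rcases Nat.lt_or_ge i 1404 with h11 | h11
  · exact allR_spec _ (1287 : ℕ) (117 : ℕ) wk9_11 i (by omega) (by omega)
  rcases Nat.lt_or_ge i 1521 with h12 | h12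
  · exact allR_spec _ (1404 : ℕ) (117 : ℕ) wk9_12 i (by omega) (by omega)
  rcases Nat.lt_or_ge i 1638 with h13 | h13
  · exact allR_spec _ (1521 : ℕ) (117 : ℕ) wk9_13 i (by omega) (by omega)
  rcases Nat.lt_or_ge i 1755 with h14 | h14
  · exact allR_spec _ (1638 : ℕ) (117 : ℕ) wk9_14 i (by omega) (by omega)
  rcases Nat.lt_or_ge i 1872 with h15 | h15
  · exact allR_spec _ (1755 : ℕ) (117 : ℕ) wk9_15 i (by omega) (by omega)
  rcases Nat.lt_or_ge i 1989 with h16 | h16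
  · exact allR_spec _ (1872 : ℕ) (117 : ℕ) wk9_16 i (by omega) (by omega)
  rcases Nat.lt_or_ge i 2106 with h17 | h17
  · exact allR_spec _ (1989 : ℕ) (117 : ℕ) wk9_17 i (by omega) (by omega)
  rcases Nat.lt_or_ge i 2223 with h18 | h18
  · exact allR_spec _ (2106 : ℕ) (117 : ℕ) wk9_18 i (by omega) (by omega)
  rcases Nat.lt_or_ge i 2340 with h19 | h19
  · exact allR_spec _ (2223 : ℕ) (117 : ℕ) wk9_19 i (by omega) (by omega)
  rcases Nat.lt_or_ge i 2457 with h20 | h20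
  · exact allR_spec _ (2340 : ℕ) (117 : ℕ) wk9_20 i (by omega) (by omega)
  rcases Nat.lt_or_ge i 2574 with h21 | h21
  · exact allR_spec _ (2457 : ℕ) (117 : ℕ) wk9_21 i (by omega) (by omega)
  rcases Nat.lt_or_ge i 2691 with h22 | h22
  · exact allR_spec _ (2574 : ℕ) (117 : ℕ) wk9_22 i (by omega) (by omega)
  rcases Nat.lt_or_ge i 2808 with h23 | h23
  · exact allR_spec _ (2691 : ℕ) (117 : ℕ) wk9_23 i (by omega) (by omega)
  rcases Nat.lt_or_ge i 2925 with h24 | h24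
  · exact allR_spec _ (2808 : ℕ) (117 : ℕ) wk9_24 i (by omega) (by omega)
  rcases Nat.lt_or_ge i 3042 with h25 | h25
  · exact allR_spec _ (2925 : ℕ) (117 : ℕ) wk9_25 i (by omega) (by omega)
  rcases Nat.lt_or_ge i 3159 with h26 | h26
  · exact allR_spec _ (3042 : ℕ) (117 : ℕ) wk9_26 i (by omega) (by omega)
  rcases Nat.lt_or_ge i 3276 with h27 | h27
  · exact allR_spec _ (3159 : ℕ) (117 : ℕ) wk9_27 i (by omega) (by omega)
  rcases Nat.lt_or_ge i 3393 with h28 | h28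
  · exact allR_spec _ (3276 : ℕ) (117 : ℕ) wk9_28 i (by omega) (by omega)
  rcases Nat.lt_or_ge i 3510 with h29 | h29
  · exact allR_spec _ (3393 : ℕ) (117 : ℕ) wk9_29 i (by omega) (by omega)
  rcases Nat.lt_or_ge i 3627 with h30 | h30
  · exact allR_spec _ (3510 : ℕ) (117 : ℕ) wk9_30 i (by omega) (by omega)
  rcases Nat.lt_or_ge i 3744 with h31 | h31
  · exact allR_spec _ (3627 : ℕ) (117 : ℕ) wk9_31 i (by omega) (by omega)
  rcases Nat.lt_or_ge i 3861 with h32 | h32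
  · exact allR_spec _ (3744 : ℕ) (117 : ℕ) wk9_32 i (by omega) (by omega)
  rcases Nat.lt_or_ge i 3978 with h33 | h33
  · exact allR_spec _ (3861 : ℕ) (117 : ℕ) wk9_33 i (by omega) (by omega)
  rcases Nat.lt_or_ge i 4095 with h34 | h34
  · exact allR_spec _ (3978 : ℕ) (117 : ℕ) wk9_34 i (by omega) (by omega)
  rcases Nat.lt_or_ge i 4212 with h35 | h35
  · exact allR_spec _ (4095 : ℕ) (117 : ℕ) wk9_35 i (by omega) (by omega)
  rcases Nat.lt_or_ge i 4329 with h36 | h36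
  · exact allR_spec _ (4212 : ℕ) (117 : ℕ) wk9_36 i (by omega) (by omega)
  rcases Nat.lt_or_ge i 4446 with h37 | h37
  · exact allR_spec _ (4329 : ℕ) (117 : ℕ) wk9_37 i (by omega) (by omega)
  rcases Nat.lt_or_ge i 4563 with h38 | h38
  · exact allR_spec _ (4446 : ℕ) (117 : ℕ) wk9_38 i (by omega) (by omega)
  exact allR_spec _ (4563 : ℕ) (37 : ℕ) wk9_39 i (by omega) (by omega)
theorem wk10 : allR (OT.ckEqW [X16] [X20]) (nat_lit 0) (nat_lit 4600) = true := by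
  apply allR_of_forall
  intro i hi
  have hi : i < 4600 := hi
  rcases Nat.lt_or_ge i 2300 with h0 | h0
  · exact allR_spec _ (0 : ℕ) (2300 : ℕ) wk10_0 i (by omega) (by omega)
  exact allR_spec _ (2300 : ℕ) (2300 : ℕ) wk10_1 i (by omega) (by omega)
theorem wk11 : allR (OT.ckEqW [X18, X17, X0, X16, X16, X19, X19, X19, X0, X19, X0, X17, X1, X18, X17, X0, X18, X17] [X22]) (nat_lit 0) (nat_lit 4600) = true := by
  apply allR_of_forall
  intro i hi
  have hi : i < 4600 := hi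
  rcases Nat.lt_or_ge i 242 with h0 | h0
  · exact allR_spec _ (0 : ℕ) (242 : ℕ) wk11_0 i (by omega) (by omega)
  rcases Nat.lt_or_ge i 484 with h1 | h1
  · exact allR_spec _ (242 : ℕ) (242 : ℕ) wk11_1 i (by omega) (by omega)
  rcases Nat.lt_or_ge i 726 with h2 | h2
  · exact allR_spec _ (484 : ℕ) (242 : ℕ) wk11_2 i (by omega) (by omega)
  rcases Nat.lt_or_ge i 968 with h3 | h3
  · exact allR_spec _ (726 : ℕ) (242 : ℕ) wk11_3 i (by omega) (by omega)
  rcases Nat.lt_or_ge i 1210 with h4 | h4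
  · exact allR_spec _ (968 : ℕ) (242 : ℕ) wk11_4 i (by omega) (by omega)
  rcases Nat.lt_or_ge i 1452 with h5 | h5
  · exact allR_spec _ (1210 : ℕ) (242 : ℕ) wk11_5 i (by omega) (by omega)
  rcases Nat.lt_or_ge i 1694 with h6 | h6
  · exact allR_spec _ (1452 : ℕ) (242 : ℕ) wk11_6 i (by omega) (by omega)
  rcases Nat.lt_or_ge i 1936 with h7 | h7
  · exact allR_spec _ (1694 : ℕ) (242 : ℕ) wk11_7 i (by omega) (by omega)
  rcases Nat.lt_or_ge i 2178 with h8 | h8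
  · exact allR_spec _ (1936 : ℕ) (242 : ℕ) wk11_8 i (by omega) (by omega)
  rcases Nat.lt_or_ge i 2420 with h9 | h9
  · exact allR_spec _ (2178 : ℕ) (242 : ℕ) wk11_9 i (by omega) (by omega)
  rcases Nat.lt_or_ge i 2662 with h10 | h10
  · exact allR_spec _ (2420 : ℕ) (242 : ℕ) wk11_10 i (by omega) (by omega)
  rcases Nat.lt_or_ge i 2904 with h11 | h11
  · exact allR_spec _ (2662 : ℕ) (242 : ℕ) wk11_11 i (by omega) (by omega)
  rcases Nat.lt_or_ge i 3146 with h12 | h12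
  · exact allR_spec _ (2904 : ℕ) (242 : ℕ) wk11_12 i (by omega) (by omega)
  rcases Nat.lt_or_ge i 3388 with h13 | h13
  · exact allR_spec _ (3146 : ℕ) (242 : ℕ) wk11_13 i (by omega) (by omega)
  rcases Nat.lt_or_ge i 3630 with h14 | h14
  · exact allR_spec _ (3388 : ℕ) (242 : ℕ) wk11_14 i (by omega) (by omega)
  rcases Nat.lt_or_ge i 3872 with h15 | h15
  · exact allR_spec _ (3630 : ℕ) (242 : ℕ) wk11_15 i (by omega) (by omega)
  rcases Nat.lt_or_ge i 4114 with h16 | h16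
  · exact allR_spec _ (3872 : ℕ) (242 : ℕ) wk11_16 i (by omega) (by omega)
  rcases Nat.lt_or_ge i 4356 with h17 | h17
  · exact allR_spec _ (4114 : ℕ) (242 : ℕ) wk11_17 i (by omega) (by omega)
  rcases Nat.lt_or_ge i 4598 with h18 | h18
  · exact allR_spec _ (4356 : ℕ) (242 : ℕ) wk11_18 i (by omega) (by omega)
  exact allR_spec _ (4598 : ℕ) (2 : ℕ) wk11_19 i (by omega) (by omega)
theorem wk12 : allR (OT.ckEqW [X19, X19, X16, X1, X18, X0, X16, X16, X19, X0, X19, X17, X1, X19, X1, X1, X18] [X24]) (nat_lit 0) (nat_lit 4600) = true := by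
  apply allR_of_forall
  intro i hi
  have hi : i < 4600 := hi
  rcases Nat.lt_or_ge i 255 with h0 | h0
  · exact allR_spec _ (0 : ℕ) (255 : ℕ) wk12_0 i (by omega) (by omega)
  rcases Nat.lt_or_ge i 510 with h1 | h1
  · exact allR_spec _ (255 : ℕ) (255 : ℕ) wk12_1 i (by omega) (by omega)
  rcases Nat.lt_or_ge i 765 with h2 | h2
  · exact allR_spec _ (510 : ℕ) (255 : ℕ) wk12_2 i (by omega) (by omega)
  rcases Nat.lt_or_ge i 1020 with h3 | h3
  · exact allR_spec _ (765 : ℕ) (255 : ℕ) wk12_3 i (by omega) (by omega)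
  rcases Nat.lt_or_ge i 1275 with h4 | h4
  · exact allR_spec _ (1020 : ℕ) (255 : ℕ) wk12_4 i (by omega) (by omega)
  rcases Nat.lt_or_ge i 1530 with h5 | h5
  · exact allR_spec _ (1275 : ℕ) (255 : ℕ) wk12_5 i (by omega) (by omega)
  rcases Nat.lt_or_ge i 1785 with h6 | h6
  · exact allR_spec _ (1530 : ℕ) (255 : ℕ) wk12_6 i (by omega) (by omega)
  rcases Nat.lt_or_ge i 2040 with h7 | h7
  · exact allR_spec _ (1785 : ℕ) (255 : ℕ) wk12_7 i (by omega) (by omega)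
  rcases Nat.lt_or_ge i 2295 with h8 | h8
  · exact allR_spec _ (2040 : ℕ) (255 : ℕ) wk12_8 i (by omega) (by omega)
  rcases Nat.lt_or_ge i 2550 with h9 | h9
  · exact allR_spec _ (2295 : ℕ) (255 : ℕ) wk12_9 i (by omega) (by omega)
  rcases Nat.lt_or_ge i 2805 with h10 | h10
  · exact allR_spec _ (2550 : ℕ) (255 : ℕ) wk12_10 i (by omega) (by omega)
  rcases Nat.lt_or_ge i 3060 with h11 | h11
  · exact allR_spec _ (2805 : ℕ) (255 : ℕ) wk12_11 i (by omega) (by omega)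
  rcases Nat.lt_or_ge i 3315 with h12 | h12
  · exact allR_spec _ (3060 : ℕ) (255 : ℕ) wk12_12 i (by omega) (by omega)
  rcases Nat.lt_or_ge i 3570 with h13 | h13
  · exact allR_spec _ (3315 : ℕ) (255 : ℕ) wk12_13 i (by omega) (by omega)
  rcases Nat.lt_or_ge i 3825 with h14 | h14
  · exact allR_spec _ (3570 : ℕ) (255 : ℕ) wk12_14 i (by omega) (by omega)
  rcases Nat.lt_or_ge i 4080 with h15 | h15
  · exact allR_spec _ (3825 : ℕ) (255 : ℕ) wk12_15 i (by omega) (by omega)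
  rcases Nat.lt_or_ge i 4335 with h16 | h16
  · exact allR_spec _ (4080 : ℕ) (255 : ℕ) wk12_16 i (by omega) (by omega)
  rcases Nat.lt_or_ge i 4590 with h17 | h17
  · exact allR_spec _ (4335 : ℕ) (255 : ℕ) wk12_17 i (by omega) (by omega)
  exact allR_spec _ (4590 : ℕ) (10 : ℕ) wk12_18 i (by omega) (by omega)
theorem wk13 : allR (OT.ckEqW [X25, X25, X25, X23, X24, X23, X24, X24, X22, X22, X22, X24, X24, X23, X25, X22] [X26]) (nat_lit 0) (nat_lit 4600) = true := by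
  apply allR_of_forall
  intro i hi
  have hi : i < 4600 := hi
  rcases Nat.lt_or_ge i 270 with h0 | h0
  · exact allR_spec _ (0 : ℕ) (270 : ℕ) wk13_0 i (by omega) (by omega)
  rcases Nat.lt_or_ge i 540 with h1 | h1
  · exact allR_spec _ (270 : ℕ) (270 : ℕ) wk13_1 i (by omega) (by omega)
  rcases Nat.lt_or_ge i 810 with h2 | h2
  · exact allR_spec _ (540 : ℕ) (270 : ℕ) wk13_2 i (by omega) (by omega)
  rcases Nat.lt_or_ge i 1080 with h3 | h3
  · exact allR_spec _ (810 : ℕ) (270 : ℕ) wk13_3 i (by omega) (by omega)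
  rcases Nat.lt_or_ge i 1350 with h4 | h4
  · exact allR_spec _ (1080 : ℕ) (270 : ℕ) wk13_4 i (by omega) (by omega)
  rcases Nat.lt_or_ge i 1620 with h5 | h5
  · exact allR_spec _ (1350 : ℕ) (270 : ℕ) wk13_5 i (by omega) (by omega)
  rcases Nat.lt_or_ge i 1890 with h6 | h6
  · exact allR_spec _ (1620 : ℕ) (270 : ℕ) wk13_6 i (by omega) (by omega)
  rcases Nat.lt_or_ge i 2160 with h7 | h7
  · exact allR_spec _ (1890 : ℕ) (270 : ℕ) wk13_7 i (by omega) (by omega)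
  rcases Nat.lt_or_ge i 2430 with h8 | h8
  · exact allR_spec _ (2160 : ℕ) (270 : ℕ) wk13_8 i (by omega) (by omega)
  rcases Nat.lt_or_ge i 2700 with h9 | h9
  · exact allR_spec _ (2430 : ℕ) (270 : ℕ) wk13_9 i (by omega) (by omega)
  rcases Nat.lt_or_ge i 2970 with h10 | h10
  · exact allR_spec _ (2700 : ℕ) (270 : ℕ) wk13_10 i (by omega) (by omega)
  rcases Nat.lt_or_ge i 3240 with h11 | h11
  · exact allR_spec _ (2970 : ℕ) (270 : ℕ) wk13_11 i (by omega) (by omega)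
  rcases Nat.lt_or_ge i 3510 with h12 | h12
  · exact allR_spec _ (3240 : ℕ) (270 : ℕ) wk13_12 i (by omega) (by omega)
  rcases Nat.lt_or_ge i 3780 with h13 | h13
  · exact allR_spec _ (3510 : ℕ) (270 : ℕ) wk13_13 i (by omega) (by omega)
  rcases Nat.lt_or_ge i 4050 with h14 | h14
  · exact allR_spec _ (3780 : ℕ) (270 : ℕ) wk13_14 i (by omega) (by omega)
  rcases Nat.lt_or_ge i 4320 with h15 | h15
  · exact allR_spec _ (4050 : ℕ) (270 : ℕ) wk13_15 i (by omega) (by omega)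
  rcases Nat.lt_or_ge i 4590 with h16 | h16
  · exact allR_spec _ (4320 : ℕ) (270 : ℕ) wk13_16 i (by omega) (by omega)
  exact allR_spec _ (4590 : ℕ) (10 : ℕ) wk13_17 i (by omega) (by omega)
theorem wk14 : allR (OT.ckEqW [X25, X25, X22, X22, X22, X25, X23, X23, X23, X24, X24, X22, X25, X23, X24, X24, X24] [X28]) (nat_lit 0) (nat_lit 4600) = true := by
  apply allR_of_forall
  intro i hi
  have hi : i < 4600 := hi
  rcases Nat.lt_or_ge i 255 with h0 | h0
  · exact allR_spec _ (0 : ℕ) (255 : ℕ) wk14_0 i (by omega) (by omega)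
  rcases Nat.lt_or_ge i 510 with h1 | h1
  · exact allR_spec _ (255 : ℕ) (255 : ℕ) wk14_1 i (by omega) (by omega)
  rcases Nat.lt_or_ge i 765 with h2 | h2
  · exact allR_spec _ (510 : ℕ) (255 : ℕ) wk14_2 i (by omega) (by omega)
  rcases Nat.lt_or_ge i 1020 with h3 | h3
  · exact allR_spec _ (765 : ℕ) (255 : ℕ) wk14_3 i (by omega) (by omega)
  rcases Nat.lt_or_ge i 1275 with h4 | h4
  · exact allR_spec _ (1020 : ℕ) (255 : ℕ) wk14_4 i (by omega) (by omega)
  rcases Nat.lt_or_ge i 1530 with h5 | h5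
  · exact allR_spec _ (1275 : ℕ) (255 : ℕ) wk14_5 i (by omega) (by omega)
  rcases Nat.lt_or_ge i 1785 with h6 | h6
  · exact allR_spec _ (1530 : ℕ) (255 : ℕ) wk14_6 i (by omega) (by omega)
  rcases Nat.lt_or_ge i 2040 with h7 | h7
  · exact allR_spec _ (1785 : ℕ) (255 : ℕ) wk14_7 i (by omega) (by omega)
  rcases Nat.lt_or_ge i 2295 with h8 | h8
  · exact allR_spec _ (2040 : ℕ) (255 : ℕ) wk14_8 i (by omega) (by omega)
  rcases Nat.lt_or_ge i 2550 with h9 | h9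
  · exact allR_spec _ (2295 : ℕ) (255 : ℕ) wk14_9 i (by omega) (by omega)
  rcases Nat.lt_or_ge i 2805 with h10 | h10
  · exact allR_spec _ (2550 : ℕ) (255 : ℕ) wk14_10 i (by omega) (by omega)
  rcases Nat.lt_or_ge i 3060 with h11 | h11
  · exact allR_spec _ (2805 : ℕ) (255 : ℕ) wk14_11 i (by omega) (by omega)
  rcases Nat.lt_or_ge i 3315 with h12 | h12
  · exact allR_spec _ (3060 : ℕ) (255 : ℕ) wk14_12 i (by omega) (by omega)
  rcases Nat.lt_or_ge i 3570 with h13 | h13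
  · exact allR_spec _ (3315 : ℕ) (255 : ℕ) wk14_13 i (by omega) (by omega)
  rcases Nat.lt_or_ge i 3825 with h14 | h14
  · exact allR_spec _ (3570 : ℕ) (255 : ℕ) wk14_14 i (by omega) (by omega)
  rcases Nat.lt_or_ge i 4080 with h15 | h15
  · exact allR_spec _ (3825 : ℕ) (255 : ℕ) wk14_15 i (by omega) (by omega)
  rcases Nat.lt_or_ge i 4335 with h16 | h16
  · exact allR_spec _ (4080 : ℕ) (255 : ℕ) wk14_16 i (by omega) (by omega)
  rcases Nat.lt_or_ge i 4590 with h17 | h17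
  · exact allR_spec _ (4335 : ℕ) (255 : ℕ) wk14_17 i (by omega) (by omega)
  exact allR_spec _ (4590 : ℕ) (10 : ℕ) wk14_18 i (by omega) (by omega)
theorem wk15 : allR (OT.ckEqW [X29, X26, X26, X28, X28, X26, X26, X28, X27, X29, X29] [X30]) (nat_lit 0) (nat_lit 4600) = true := by
  apply allR_of_forall
  intro i hi
  have hi : i < 4600 := hi
  rcases Nat.lt_or_ge i 383 with h0 | h0
  · exact allR_spec _ (0 : ℕ) (383 : ℕ) wk15_0 i (by omega) (by omega)
  rcases Nat.lt_or_ge i 766 with h1 | h1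
  · exact allR_spec _ (383 : ℕ) (383 : ℕ) wk15_1 i (by omega) (by omega)
  rcases Nat.lt_or_ge i 1149 with h2 | h2
  · exact allR_spec _ (766 : ℕ) (383 : ℕ) wk15_2 i (by omega) (by omega)
  rcases Nat.lt_or_ge i 1532 with h3 | h3
  · exact allR_spec _ (1149 : ℕ) (383 : ℕ) wk15_3 i (by omega) (by omega)
  rcases Nat.lt_or_ge i 1915 with h4 | h4
  · exact allR_spec _ (1532 : ℕ) (383 : ℕ) wk15_4 i (by omega) (by omega)
  rcases Nat.lt_or_ge i 2298 with h5 | h5
  · exact allR_spec _ (1915 : ℕ) (383 : ℕ) wk15_5 i (by omega) (by omega)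
  rcases Nat.lt_or_ge i 2681 with h6 | h6
  · exact allR_spec _ (2298 : ℕ) (383 : ℕ) wk15_6 i (by omega) (by omega)
  rcases Nat.lt_or_ge i 3064 with h7 | h7
  · exact allR_spec _ (2681 : ℕ) (383 : ℕ) wk15_7 i (by omega) (by omega)
  rcases Nat.lt_or_ge i 3447 with h8 | h8
  · exact allR_spec _ (3064 : ℕ) (383 : ℕ) wk15_8 i (by omega) (by omega)
  rcases Nat.lt_or_ge i 3830 with h9 | h9
  · exact allR_spec _ (3447 : ℕ) (383 : ℕ) wk15_9 i (by omega) (by omega)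
  rcases Nat.lt_or_ge i 4213 with h10 | h10
  · exact allR_spec _ (3830 : ℕ) (383 : ℕ) wk15_10 i (by omega) (by omega)
  rcases Nat.lt_or_ge i 4596 with h11 | h11
  · exact allR_spec _ (4213 : ℕ) (383 : ℕ) wk15_11 i (by omega) (by omega)
  exact allR_spec _ (4596 : ℕ) (4 : ℕ) wk15_12 i (by omega) (by omega)
theorem wk16 : allR (OT.ckEqW [X29, X26, X28, X26, X26, X29] [X32]) (nat_lit 0) (nat_lit 4600) = true := by
  apply allR_of_forall
  intro i hi
  have hi : i < 4600 := hi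
  rcases Nat.lt_or_ge i 657 with h0 | h0
  · exact allR_spec _ (0 : ℕ) (657 : ℕ) wk16_0 i (by omega) (by omega)
  rcases Nat.lt_or_ge i 1314 with h1 | h1
  · exact allR_spec _ (657 : ℕ) (657 : ℕ) wk16_1 i (by omega) (by omega)
  rcases Nat.lt_or_ge i 1971 with h2 | h2
  · exact allR_spec _ (1314 : ℕ) (657 : ℕ) wk16_2 i (by omega) (by omega)
  rcases Nat.lt_or_ge i 2628 with h3 | h3
  · exact allR_spec _ (1971 : ℕ) (657 : ℕ) wk16_3 i (by omega) (by omega)
  rcases Nat.lt_or_ge i 3285 with h4 | h4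
  · exact allR_spec _ (2628 : ℕ) (657 : ℕ) wk16_4 i (by omega) (by omega)
  rcases Nat.lt_or_ge i 3942 with h5 | h5
  · exact allR_spec _ (3285 : ℕ) (657 : ℕ) wk16_5 i (by omega) (by omega)
  rcases Nat.lt_or_ge i 4599 with h6 | h6
  · exact allR_spec _ (3942 : ℕ) (657 : ℕ) wk16_6 i (by omega) (by omega)
  exact allR_spec _ (4599 : ℕ) (1 : ℕ) wk16_7 i (by omega) (by omega)
theorem wk17 : allR (OT.ckEqW [X33, X30, X30, X33] [X34]) (nat_lit 0) (nat_lit 4600) = true := by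
  apply allR_of_forall
  intro i hi
  have hi : i < 4600 := hi
  rcases Nat.lt_or_ge i 920 with h0 | h0
  · exact allR_spec _ (0 : ℕ) (920 : ℕ) wk17_0 i (by omega) (by omega)
  rcases Nat.lt_or_ge i 1840 with h1 | h1
  · exact allR_spec _ (920 : ℕ) (920 : ℕ) wk17_1 i (by omega) (by omega)
  rcases Nat.lt_or_ge i 2760 with h2 | h2
  · exact allR_spec _ (1840 : ℕ) (920 : ℕ) wk17_2 i (by omega) (by omega)
  rcases Nat.lt_or_ge i 3680 with h3 | h3
  · exact allR_spec _ (2760 : ℕ) (920 : ℕ) wk17_3 i (by omega) (by omega)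
  exact allR_spec _ (3680 : ℕ) (920 : ℕ) wk17_4 i (by omega) (by omega)
theorem wk18 : allR (OT.ckEqW [X31, X31, X31, X32, X30, X32, X30, X33] [X36]) (nat_lit 0) (nat_lit 4600) = true := by
  apply allR_of_forall
  intro i hi
  have hi : i < 4600 := hi
  rcases Nat.lt_or_ge i 511 with h0 | h0
  · exact allR_spec _ (0 : ℕ) (511 : ℕ) wk18_0 i (by omega) (by omega)
  rcases Nat.lt_or_ge i 1022 with h1 | h1
  · exact allR_spec _ (511 : ℕ) (511 : ℕ) wk18_1 i (by omega) (by omega)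
  rcases Nat.lt_or_ge i 1533 with h2 | h2
  · exact allR_spec _ (1022 : ℕ) (511 : ℕ) wk18_2 i (by omega) (by omega)
  rcases Nat.lt_or_ge i 2044 with h3 | h3
  · exact allR_spec _ (1533 : ℕ) (511 : ℕ) wk18_3 i (by omega) (by omega)
  rcases Nat.lt_or_ge i 2555 with h4 | h4
  · exact allR_spec _ (2044 : ℕ) (511 : ℕ) wk18_4 i (by omega) (by omega)
  rcases Nat.lt_or_ge i 3066 with h5 | h5
  · exact allR_spec _ (2555 : ℕ) (511 : ℕ) wk18_5 i (by omega) (by omega)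
  rcases Nat.lt_or_ge i 3577 with h6 | h6
  · exact allR_spec _ (3066 : ℕ) (511 : ℕ) wk18_6 i (by omega) (by omega)
  rcases Nat.lt_or_ge i 4088 with h7 | h7
  · exact allR_spec _ (3577 : ℕ) (511 : ℕ) wk18_7 i (by omega) (by omega)
  rcases Nat.lt_or_ge i 4599 with h8 | h8
  · exact allR_spec _ (4088 : ℕ) (511 : ℕ) wk18_8 i (by omega) (by omega)
  exact allR_spec _ (4599 : ℕ) (1 : ℕ) wk18_9 i (by omega) (by omega)
theorem wk19 : allR (OT.ckEqW [X0, X18, X16, X16, X0, X19, X0, X17, X1, X18, X1, X18, X0, X16] [X38]) (nat_lit 0) (nat_lit 4600) = true := by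
  apply allR_of_forall
  intro i hi
  have hi : i < 4600 := hi
  rcases Nat.lt_or_ge i 306 with h0 | h0
  · exact allR_spec _ (0 : ℕ) (306 : ℕ) wk19_0 i (by omega) (by omega)
  rcases Nat.lt_or_ge i 612 with h1 | h1
  · exact allR_spec _ (306 : ℕ) (306 : ℕ) wk19_1 i (by omega) (by omega)
  rcases Nat.lt_or_ge i 918 with h2 | h2
  · exact allR_spec _ (612 : ℕ) (306 : ℕ) wk19_2 i (by omega) (by omega)
  rcases Nat.lt_or_ge i 1224 with h3 | h3
  · exact allR_spec _ (918 : ℕ) (306 : ℕ) wk19_3 i (by omega) (by omega)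
  rcases Nat.lt_or_ge i 1530 with h4 | h4
  · exact allR_spec _ (1224 : ℕ) (306 : ℕ) wk19_4 i (by omega) (by omega)
  rcases Nat.lt_or_ge i 1836 with h5 | h5
  · exact allR_spec _ (1530 : ℕ) (306 : ℕ) wk19_5 i (by omega) (by omega)
  rcases Nat.lt_or_ge i 2142 with h6 | h6
  · exact allR_spec _ (1836 : ℕ) (306 : ℕ) wk19_6 i (by omega) (by omega)
  rcases Nat.lt_or_ge i 2448 with h7 | h7
  · exact allR_spec _ (2142 : ℕ) (306 : ℕ) wk19_7 i (by omega) (by omega)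
  rcases Nat.lt_or_ge i 2754 with h8 | h8
  · exact allR_spec _ (2448 : ℕ) (306 : ℕ) wk19_8 i (by omega) (by omega)
  rcases Nat.lt_or_ge i 3060 with h9 | h9
  · exact allR_spec _ (2754 : ℕ) (306 : ℕ) wk19_9 i (by omega) (by omega)
  rcases Nat.lt_or_ge i 3366 with h10 | h10
  · exact allR_spec _ (3060 : ℕ) (306 : ℕ) wk19_10 i (by omega) (by omega)
  rcases Nat.lt_or_ge i 3672 with h11 | h11
  · exact allR_spec _ (3366 : ℕ) (306 : ℕ) wk19_11 i (by omega) (by omega)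
  rcases Nat.lt_or_ge i 3978 with h12 | h12
  · exact allR_spec _ (3672 : ℕ) (306 : ℕ) wk19_12 i (by omega) (by omega)
  rcases Nat.lt_or_ge i 4284 with h13 | h13
  · exact allR_spec _ (3978 : ℕ) (306 : ℕ) wk19_13 i (by omega) (by omega)
  rcases Nat.lt_or_ge i 4590 with h14 | h14
  · exact allR_spec _ (4284 : ℕ) (306 : ℕ) wk19_14 i (by omega) (by omega)
  exact allR_spec _ (4590 : ℕ) (10 : ℕ) wk19_15 i (by omega) (by omega)
theorem wk20 : allR (OT.ckEqW [X19, X0, X16, X1, X19, X1, X1, X19, X19, X0, X18, X0, X19, X0, X18, X1, X1] [X40]) (nat_lit 0) (nat_lit 4600) = true := by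
  apply allR_of_forall
  intro i hi
  have hi : i < 4600 := hi
  rcases Nat.lt_or_ge i 255 with h0 | h0
  · exact allR_spec _ (0 : ℕ) (255 : ℕ) wk20_0 i (by omega) (by omega)
  rcases Nat.lt_or_ge i 510 with h1 | h1
  · exact allR_spec _ (255 : ℕ) (255 : ℕ) wk20_1 i (by omega) (by omega)
  rcases Nat.lt_or_ge i 765 with h2 | h2
  · exact allR_spec _ (510 : ℕ) (255 : ℕ) wk20_2 i (by omega) (by omega)
  rcases Nat.lt_or_ge i 1020 with h3 | h3
  · exact allR_spec _ (765 : ℕ) (255 : ℕ) wk20_3 i (by omega) (by omega)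
  rcases Nat.lt_or_ge i 1275 with h4 | h4
  · exact allR_spec _ (1020 : ℕ) (255 : ℕ) wk20_4 i (by omega) (by omega)
  rcases Nat.lt_or_ge i 1530 with h5 | h5
  · exact allR_spec _ (1275 : ℕ) (255 : ℕ) wk20_5 i (by omega) (by omega)
  rcases Nat.lt_or_ge i 1785 with h6 | h6
  · exact allR_spec _ (1530 : ℕ) (255 : ℕ) wk20_6 i (by omega) (by omega)
  rcases Nat.lt_or_ge i 2040 with h7 | h7
  · exact allR_spec _ (1785 : ℕ) (255 : ℕ) wk20_7 i (by omega) (by omega)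
  rcases Nat.lt_or_ge i 2295 with h8 | h8
  · exact allR_spec _ (2040 : ℕ) (255 : ℕ) wk20_8 i (by omega) (by omega)
  rcases Nat.lt_or_ge i 2550 with h9 | h9
  · exact allR_spec _ (2295 : ℕ) (255 : ℕ) wk20_9 i (by omega) (by omega)
  rcases Nat.lt_or_ge i 2805 with h10 | h10
  · exact allR_spec _ (2550 : ℕ) (255 : ℕ) wk20_10 i (by omega) (by omega)
  rcases Nat.lt_or_ge i 3060 with h11 | h11
  · exact allR_spec _ (2805 : ℕ) (255 : ℕ) wk20_11 i (by omega) (by omega)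
  rcases Nat.lt_or_ge i 3315 with h12 | h12
  · exact allR_spec _ (3060 : ℕ) (255 : ℕ) wk20_12 i (by omega) (by omega)
  rcases Nat.lt_or_ge i 3570 with h13 | h13
  · exact allR_spec _ (3315 : ℕ) (255 : ℕ) wk20_13 i (by omega) (by omega)
  rcases Nat.lt_or_ge i 3825 with h14 | h14
  · exact allR_spec _ (3570 : ℕ) (255 : ℕ) wk20_14 i (by omega) (by omega)
  rcases Nat.lt_or_ge i 4080 with h15 | h15
  · exact allR_spec _ (3825 : ℕ) (255 : ℕ) wk20_15 i (by omega) (by omega)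
  rcases Nat.lt_or_ge i 4335 with h16 | h16
  · exact allR_spec _ (4080 : ℕ) (255 : ℕ) wk20_16 i (by omega) (by omega)
  rcases Nat.lt_or_ge i 4590 with h17 | h17
  · exact allR_spec _ (4335 : ℕ) (255 : ℕ) wk20_17 i (by omega) (by omega)
  exact allR_spec _ (4590 : ℕ) (10 : ℕ) wk20_18 i (by omega) (by omega)
theorem wk21 : allR (OT.ckEqW [X38, X41, X41, X39, X39, X40, X39, X39, X41, X41, X39] [X42]) (nat_lit 0) (nat_lit 4600) = true := by
  apply allR_of_forall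
  intro i hi
  have hi : i < 4600 := hi
  rcases Nat.lt_or_ge i 383 with h0 | h0
  · exact allR_spec _ (0 : ℕ) (383 : ℕ) wk21_0 i (by omega) (by omega)
  rcases Nat.lt_or_ge i 766 with h1 | h1
  · exact allR_spec _ (383 : ℕ) (383 : ℕ) wk21_1 i (by omega) (by omega)
  rcases Nat.lt_or_ge i 1149 with h2 | h2
  · exact allR_spec _ (766 : ℕ) (383 : ℕ) wk21_2 i (by omega) (by omega)
  rcases Nat.lt_or_ge i 1532 with h3 | h3
  · exact allR_spec _ (1149 : ℕ) (383 : ℕ) wk21_3 i (by omega) (by omega)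
  rcases Nat.lt_or_ge i 1915 with h4 | h4
  · exact allR_spec _ (1532 : ℕ) (383 : ℕ) wk21_4 i (by omega) (by omega)
  rcases Nat.lt_or_ge i 2298 with h5 | h5
  · exact allR_spec _ (1915 : ℕ) (383 : ℕ) wk21_5 i (by omega) (by omega)
  rcases Nat.lt_or_ge i 2681 with h6 | h6
  · exact allR_spec _ (2298 : ℕ) (383 : ℕ) wk21_6 i (by omega) (by omega)
  rcases Nat.lt_or_ge i 3064 with h7 | h7
  · exact allR_spec _ (2681 : ℕ) (383 : ℕ) wk21_7 i (by omega) (by omega)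
  rcases Nat.lt_or_ge i 3447 with h8 | h8
  · exact allR_spec _ (3064 : ℕ) (383 : ℕ) wk21_8 i (by omega) (by omega)
  rcases Nat.lt_or_ge i 3830 with h9 | h9
  · exact allR_spec _ (3447 : ℕ) (383 : ℕ) wk21_9 i (by omega) (by omega)
  rcases Nat.lt_or_ge i 4213 with h10 | h10
  · exact allR_spec _ (3830 : ℕ) (383 : ℕ) wk21_10 i (by omega) (by omega)
  rcases Nat.lt_or_ge i 4596 with h11 | h11
  · exact allR_spec _ (4213 : ℕ) (383 : ℕ) wk21_11 i (by omega) (by omega)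
  exact allR_spec _ (4596 : ℕ) (4 : ℕ) wk21_12 i (by omega) (by omega)
theorem wk22 : allR (OT.ckEqW [X41, X41, X38, X41, X39, X39, X39, X41] [X44]) (nat_lit 0) (nat_lit 4600) = true := by
  apply allR_of_forall
  intro i hi
  have hi : i < 4600 := hi
  rcases Nat.lt_or_ge i 511 with h0 | h0
  · exact allR_spec _ (0 : ℕ) (511 : ℕ) wk22_0 i (by omega) (by omega)
  rcases Nat.lt_or_ge i 1022 with h1 | h1
  · exact allR_spec _ (511 : ℕ) (511 : ℕ) wk22_1 i (by omega) (by omega)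
  rcases Nat.lt_or_ge i 1533 with h2 | h2
  · exact allR_spec _ (1022 : ℕ) (511 : ℕ) wk22_2 i (by omega) (by omega)
  rcases Nat.lt_or_ge i 2044 with h3 | h3
  · exact allR_spec _ (1533 : ℕ) (511 : ℕ) wk22_3 i (by omega) (by omega)
  rcases Nat.lt_or_ge i 2555 with h4 | h4
  · exact allR_spec _ (2044 : ℕ) (511 : ℕ) wk22_4 i (by omega) (by omega)
  rcases Nat.lt_or_ge i 3066 with h5 | h5
  · exact allR_spec _ (2555 : ℕ) (511 : ℕ) wk22_5 i (by omega) (by omega)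
  rcases Nat.lt_or_ge i 3577 with h6 | h6
  · exact allR_spec _ (3066 : ℕ) (511 : ℕ) wk22_6 i (by omega) (by omega)
  rcases Nat.lt_or_ge i 4088 with h7 | h7
  · exact allR_spec _ (3577 : ℕ) (511 : ℕ) wk22_7 i (by omega) (by omega)
  rcases Nat.lt_or_ge i 4599 with h8 | h8
  · exact allR_spec _ (4088 : ℕ) (511 : ℕ) wk22_8 i (by omega) (by omega)
  exact allR_spec _ (4599 : ℕ) (1 : ℕ) wk22_9 i (by omega) (by omega)
theorem wk23 : allR (OT.ckEqW [X43, X43, X45, X42, X44, X42, X44, X44, X43, X43] [X46]) (nat_lit 0) (nat_lit 4600) = true := by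
  apply allR_of_forall
  intro i hi
  have hi : i < 4600 := hi
  rcases Nat.lt_or_ge i 418 with h0 | h0
  · exact allR_spec _ (0 : ℕ) (418 : ℕ) wk23_0 i (by omega) (by omega)
  rcases Nat.lt_or_ge i 836 with h1 | h1
  · exact allR_spec _ (418 : ℕ) (418 : ℕ) wk23_1 i (by omega) (by omega)
  rcases Nat.lt_or_ge i 1254 with h2 | h2
  · exact allR_spec _ (836 : ℕ) (418 : ℕ) wk23_2 i (by omega) (by omega)
  rcases Nat.lt_or_ge i 1672 with h3 | h3
  · exact allR_spec _ (1254 : ℕ) (418 : ℕ) wk23_3 i (by omega) (by omega)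
  rcases Nat.lt_or_ge i 2090 with h4 | h4
  · exact allR_spec _ (1672 : ℕ) (418 : ℕ) wk23_4 i (by omega) (by omega)
  rcases Nat.lt_or_ge i 2508 with h5 | h5
  · exact allR_spec _ (2090 : ℕ) (418 : ℕ) wk23_5 i (by omega) (by omega)
  rcases Nat.lt_or_ge i 2926 with h6 | h6
  · exact allR_spec _ (2508 : ℕ) (418 : ℕ) wk23_6 i (by omega) (by omega)
  rcases Nat.lt_or_ge i 3344 with h7 | h7
  · exact allR_spec _ (2926 : ℕ) (418 : ℕ) wk23_7 i (by omega) (by omega)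
  rcases Nat.lt_or_ge i 3762 with h8 | h8
  · exact allR_spec _ (3344 : ℕ) (418 : ℕ) wk23_8 i (by omega) (by omega)
  rcases Nat.lt_or_ge i 4180 with h9 | h9
  · exact allR_spec _ (3762 : ℕ) (418 : ℕ) wk23_9 i (by omega) (by omega)
  rcases Nat.lt_or_ge i 4598 with h10 | h10
  · exact allR_spec _ (4180 : ℕ) (418 : ℕ) wk23_10 i (by omega) (by omega)
  exact allR_spec _ (4598 : ℕ) (2 : ℕ) wk23_11 i (by omega) (by omega)
theorem wk24 : allR (OT.ckEqW [X45, X42, X44, X44, X43, X43, X45, X43, X43] [X48]) (nat_lit 0) (nat_lit 4600) = true := by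
  apply allR_of_forall
  intro i hi
  have hi : i < 4600 := hi
  rcases Nat.lt_or_ge i 460 with h0 | h0
  · exact allR_spec _ (0 : ℕ) (460 : ℕ) wk24_0 i (by omega) (by omega)
  rcases Nat.lt_or_ge i 920 with h1 | h1
  · exact allR_spec _ (460 : ℕ) (460 : ℕ) wk24_1 i (by omega) (by omega)
  rcases Nat.lt_or_ge i 1380 with h2 | h2
  · exact allR_spec _ (920 : ℕ) (460 : ℕ) wk24_2 i (by omega) (by omega)
  rcases Nat.lt_or_ge i 1840 with h3 | h3
  · exact allR_spec _ (1380 : ℕ) (460 : ℕ) wk24_3 i (by omega) (by omega)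
  rcases Nat.lt_or_ge i 2300 with h4 | h4
  · exact allR_spec _ (1840 : ℕ) (460 : ℕ) wk24_4 i (by omega) (by omega)
  rcases Nat.lt_or_ge i 2760 with h5 | h5
  · exact allR_spec _ (2300 : ℕ) (460 : ℕ) wk24_5 i (by omega) (by omega)
  rcases Nat.lt_or_ge i 3220 with h6 | h6
  · exact allR_spec _ (2760 : ℕ) (460 : ℕ) wk24_6 i (by omega) (by omega)
  rcases Nat.lt_or_ge i 3680 with h7 | h7
  · exact allR_spec _ (3220 : ℕ) (460 : ℕ) wk24_7 i (by omega) (by omega)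
  rcases Nat.lt_or_ge i 4140 with h8 | h8
  · exact allR_spec _ (3680 : ℕ) (460 : ℕ) wk24_8 i (by omega) (by omega)
  exact allR_spec _ (4140 : ℕ) (460 : ℕ) wk24_9 i (by omega) (by omega)
theorem wk25 : allR (OT.ckEqW [X49, X46, X48, X47, X48, X47, X48, X47, X49] [X50]) (nat_lit 0) (nat_lit 4600) = true := by
  apply allR_of_forall
  intro i hi
  have hi : i < 4600 := hi
  rcases Nat.lt_or_ge i 460 with h0 | h0
  · exact allR_spec _ (0 : ℕ) (460 : ℕ) wk25_0 i (by omega) (by omega)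
  rcases Nat.lt_or_ge i 920 with h1 | h1
  · exact allR_spec _ (460 : ℕ) (460 : ℕ) wk25_1 i (by omega) (by omega)
  rcases Nat.lt_or_ge i 1380 with h2 | h2
  · exact allR_spec _ (920 : ℕ) (460 : ℕ) wk25_2 i (by omega) (by omega)
  rcases Nat.lt_or_ge i 1840 with h3 | h3
  · exact allR_spec _ (1380 : ℕ) (460 : ℕ) wk25_3 i (by omega) (by omega)
  rcases Nat.lt_or_ge i 2300 with h4 | h4
  · exact allR_spec _ (1840 : ℕ) (460 : ℕ) wk25_4 i (by omega) (by omega)
  rcases Nat.lt_or_ge i 2760 with h5 | h5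
  · exact allR_spec _ (2300 : ℕ) (460 : ℕ) wk25_5 i (by omega) (by omega)
  rcases Nat.lt_or_ge i 3220 with h6 | h6
  · exact allR_spec _ (2760 : ℕ) (460 : ℕ) wk25_6 i (by omega) (by omega)
  rcases Nat.lt_or_ge i 3680 with h7 | h7
  · exact allR_spec _ (3220 : ℕ) (460 : ℕ) wk25_7 i (by omega) (by omega)
  rcases Nat.lt_or_ge i 4140 with h8 | h8
  · exact allR_spec _ (3680 : ℕ) (460 : ℕ) wk25_8 i (by omega) (by omega)
  exact allR_spec _ (4140 : ℕ) (460 : ℕ) wk25_9 i (by omega) (by omega)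
theorem wk26 : allR (OT.ckEqW [X49, X47, X49, X47] [X52]) (nat_lit 0) (nat_lit 4600) = true := by
  apply allR_of_forall
  intro i hi
  have hi : i < 4600 := hi
  rcases Nat.lt_or_ge i 920 with h0 | h0
  · exact allR_spec _ (0 : ℕ) (920 : ℕ) wk26_0 i (by omega) (by omega)
  rcases Nat.lt_or_ge i 1840 with h1 | h1
  · exact allR_spec _ (920 : ℕ) (920 : ℕ) wk26_1 i (by omega) (by omega)
  rcases Nat.lt_or_ge i 2760 with h2 | h2
  · exact allR_spec _ (1840 : ℕ) (920 : ℕ) wk26_2 i (by omega) (by omega)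
  rcases Nat.lt_or_ge i 3680 with h3 | h3
  · exact allR_spec _ (2760 : ℕ) (920 : ℕ) wk26_3 i (by omega) (by omega)
  exact allR_spec _ (3680 : ℕ) (920 : ℕ) wk26_4 i (by omega) (by omega)
theorem wk27 : allR (OT.ckEqW [X47, X49, X49, X49, X47, X49, X49, X49] [X54]) (nat_lit 0) (nat_lit 4600) = true := by
  apply allR_of_forall
  intro i hi
  have hi : i < 4600 := hi
  rcases Nat.lt_or_ge i 511 with h0 | h0
  · exact allR_spec _ (0 : ℕ) (511 : ℕ) wk27_0 i (by omega) (by omega)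
  rcases Nat.lt_or_ge i 1022 with h1 | h1
  · exact allR_spec _ (511 : ℕ) (511 : ℕ) wk27_1 i (by omega) (by omega)
  rcases Nat.lt_or_ge i 1533 with h2 | h2
  · exact allR_spec _ (1022 : ℕ) (511 : ℕ) wk27_2 i (by omega) (by omega)
  rcases Nat.lt_or_ge i 2044 with h3 | h3
  · exact allR_spec _ (1533 : ℕ) (511 : ℕ) wk27_3 i (by omega) (by omega)
  rcases Nat.lt_or_ge i 2555 with h4 | h4
  · exact allR_spec _ (2044 : ℕ) (511 : ℕ) wk27_4 i (by omega) (by omega)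
  rcases Nat.lt_or_ge i 3066 with h5 | h5
  · exact allR_spec _ (2555 : ℕ) (511 : ℕ) wk27_5 i (by omega) (by omega)
  rcases Nat.lt_or_ge i 3577 with h6 | h6
  · exact allR_spec _ (3066 : ℕ) (511 : ℕ) wk27_6 i (by omega) (by omega)
  rcases Nat.lt_or_ge i 4088 with h7 | h7
  · exact allR_spec _ (3577 : ℕ) (511 : ℕ) wk27_7 i (by omega) (by omega)
  rcases Nat.lt_or_ge i 4599 with h8 | h8
  · exact allR_spec _ (4088 : ℕ) (511 : ℕ) wk27_8 i (by omega) (by omega)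
  exact allR_spec _ (4599 : ℕ) (1 : ℕ) wk27_9 i (by omega) (by omega)
def bws : List (List Nat) := [[0, 2, 0, 1, 2, 1, 2], [0], [1, 3, 2, 0, 4, 4, 1, 4, 1, 3], [6, 8, 6, 7, 5, 7, 5, 7, 7, 6, 8, 6, 7, 7, 6, 8, 8], [7, 6, 7, 7, 7, 7, 5, 7, 7, 7, 7, 7, 6, 8, 8, 8, 6, 8, 6, 8, 8, 6, 8, 8, 8, 8, 8], [9, 12, 9, 11, 10, 10, 11, 10, 12, 12, 10, 10, 12, 10], [9, 11, 10, 10, 12, 10, 11, 10, 12, 10, 11], [14, 16, 14, 16, 13, 16, 16, 13], [17, 14, 14, 14, 14, 15, 15, 10, 11, 10, 12, 9, 12, 9, 7, 7, 5, 8, 5, 7, 7, 5, 8, 5, 7, 5, 8, 4, 1, 3, 2, 3, 3], [13, 13, 13, 15, 14, 14, 16, 14, 9, 12, 10, 11, 9, 9, 12, 10, 7, 5, 7, 7, 7, 5, 7, 7, 7, 5, 7, 7, 5, 3, 3, 1, 3, 0, 1, 0, 4, 1], [19], [21, 20, 3, 19, 19, 22, 22, 22, 3, 22, 3, 20, 4, 21, 20, 3, 21, 20], [22, 22, 19, 4, 21, 3, 19, 19, 22, 3, 22, 20, 4, 22, 4, 4, 21], [28, 28, 28, 26, 27, 26, 27, 27, 25, 25, 25, 27, 27, 26, 28, 25], [28, 28, 25, 25, 25, 28, 26, 26, 26, 27, 27, 25,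 28, 26, 27, 27, 27], [32, 29, 29, 31, 31, 29, 29, 31, 30, 32, 32], [32, 29, 31, 29, 29, 32], [36, 33, 33, 36], [34, 34, 34, 35, 33, 35, 33, 36], [3, 21, 19, 19, 3, 22, 3, 20, 4, 21, 4, 21, 3, 19], [22, 3, 19, 4, 22, 4, 4, 22, 22, 3, 21, 3, 22, 3, 21, 4, 4], [41, 44, 44, 42, 42, 43, 42, 42, 44, 44, 42], [44, 44, 41, 44, 42, 42, 42, 44], [46, 46, 48, 45, 47, 45, 47, 47, 46, 46], [48, 45, 47, 47, 46, 46, 48, 46, 46], [52, 49, 51, 50, 51, 50, 51, 50, 52], [52, 50, 52, 50], [50, 52, 52, 52, 50, 52, 52, 52]]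
noncomputable def T' : Nat → Nat → Nat := fun l => (@Nat.rec (fun _ => Nat → Nat) T0 (fun l _ => (@Nat.rec (fun _ => Nat → Nat) T1 (fun l _ => (@Nat.rec (fun _ => Nat → Nat) T2 (fun l _ => (@Nat.rec (fun _ => Nat → Nat) X0 (fun l _ => (@Nat.rec (fun _ => Nat → Nat) X1 (fun l _ => (@Nat.rec (fun _ => Nat → Nat) X2 (fun l _ => (@Nat.rec (fun _ => Nat → Nat) X3 (fun l _ => (@Nat.rec (fun _ => Nat → Nat) X4 (fun l _ => (@Nat.rec (fun _ => Nat → Nat) X5 (fun l _ => (@Nat.rec (fun _ => Nat → Nat) X6 (fun l _ => (@Nat.rec (fun _ => Nat → Nat) X7 (fun l _ => (@Nat.rec (fun _ => Nat → Nat) X8 (fun l _ => (@Nat.rec (fun _ => Nat → Nat) X9 (fun l _ => (@Nat.rec (fun _ => Nat → Nat) X10 (fun l _ => (@Nat.rec (fun _ => Nat → Nat) X11 (fun l _ => (@Nat.rec (fun _ => Nat → Nat) X12 (fun l _ => (@Nat.rec (fun _ => Nat → Nat) X13 (fun l _ => (@Nat.rec (fun _ => Nat → Nat) X14 (fun l _ => (@Nat.rec (fun _ => Nat → Nat) X15 (fun l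 _ => (@Nat.rec (fun _ => Nat → Nat) X16 (fun l _ => (@Nat.rec (fun _ => Nat → Nat) X17 (fun l _ => (@Nat.rec (fun _ => Nat → Nat) X18 (fun l _ => (@Nat.rec (fun _ => Nat → Nat) X19 (fun l _ => (@Nat.rec (fun _ => Nat → Nat) X20 (fun l _ => (@Nat.rec (fun _ => Nat → Nat) X21 (fun l _ => (@Nat.rec (fun _ => Nat → Nat) X22 (fun l _ => (@Nat.rec (fun _ => Nat → Nat) X23 (fun l _ => (@Nat.rec (fun _ => Nat → Nat) X24 (fun l _ => (@Nat.rec (fun _ => Nat → Nat) X25 (fun l _ => (@Nat.rec (fun _ => Nat → Nat) X26 (fun l _ => (@Nat.rec (fun _ => Nat → Nat) X27 (fun l _ => (@Nat.rec (fun _ => Nat → Nat) X28 (fun l _ => (@Nat.rec (fun _ => Nat → Nat) X29 (fun l _ => (@Nat.rec (fun _ => Nat → Nat) X30 (fun l _ => (@Nat.rec (fun _ => Nat → Nat) X31 (fun l _ => (@Nat.rec (fun _ => Nat → Nat) X32 (fun l _ => (@Nat.rec (fun _ => Nat → Nat) X33 (fun l _ => (@Nat.rec (fun _ => Nat → Nat) X34 (fun l _ => (@Nat.rec (fun _ => Nat → Nat)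 X35 (fun l _ => (@Nat.rec (fun _ => Nat → Nat) X36 (fun l _ => (@Nat.rec (fun _ => Nat → Nat) X37 (fun l _ => (@Nat.rec (fun _ => Nat → Nat) X38 (fun l _ => (@Nat.rec (fun _ => Nat → Nat) X39 (fun l _ => (@Nat.rec (fun _ => Nat → Nat) X40 (fun l _ => (@Nat.rec (fun _ => Nat → Nat) X41 (fun l _ => (@Nat.rec (fun _ => Nat → Nat) X42 (fun l _ => (@Nat.rec (fun _ => Nat → Nat) X43 (fun l _ => (@Nat.rec (fun _ => Nat → Nat) X44 (fun l _ => (@Nat.rec (fun _ => Nat → Nat) X45 (fun l _ => (@Nat.rec (fun _ => Nat → Nat) X46 (fun l _ => (@Nat.rec (fun _ => Nat → Nat) X47 (fun l _ => (@Nat.rec (fun _ => Nat → Nat) X48 (fun l _ => (@Nat.rec (fun _ => Nat → Nat) X49 (fun l _ => (@Nat.rec (fun _ => Nat → Nat) X50 (fun l _ => (@Nat.rec (fun _ => Nat → Nat) X51 (fun l _ => (@Nat.rec (fun _ => Nat → Nat) X52 (fun l _ => (@Nat.rec (fun _ => Nat → Nat) X53 (fun l _ => (@Nat.rec (fun _ => Nat → Nat) X54 (fun l _ => X55) l)) l)) l))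 l)) l)) l)) l)) l)) l)) l)) l)) l)) l)) l)) l)) l)) l)) l)) l)) l)) l)) l)) l)) l)) l)) l)) l)) l)) l)) l)) l)) l)) l)) l)) l)) l)) l)) l)) l)) l)) l)) l)) l)) l)) l)) l)) l)) l)) l)) l)) l)) l)) l)) l)) l)) l)) l)) l)
def inv' : Nat → Nat := fun l => [0, 1, 2, 4, 3, 6, 5, 8, 7, 10, 9, 12, 11, 14, 13, 16, 15, 18, 17, 20, 19, 22, 21, 24, 23, 26, 25, 28, 27, 30, 29, 32, 31, 34, 33, 36, 35, 38, 37, 40, 39, 42, 41, 44, 43, 46, 45, 48, 47, 50, 49, 52, 51, 54, 53, 56, 55, 58, 57].getD l 0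

theorem hTT : ∀ l < 3, T' l = Cfsg.Agent.H8.LtC2.T l := by
  intro l hl
  interval_cases l <;> rfl

theorem hii : ∀ l < 3, inv' l = Cfsg.Agent.H8.LtC2.inv l := by
  intro l hl
  interval_cases l <;> rfl

theorem h1 : ∀ l, 3 ≤ l → l < 59 → inv' l < 59 ∧ inv' (inv' l) = l := by
  intro l h1 h2
  interval_cases l <;> decide

theorem h2 : ∀ l, 3 ≤ l → l < 59 → ∀ i < 4600, T' l i < 4600 ∧ T' (inv' l) (T' l i) = i := by
  intro l h1 h2 i hi
  interval_cases l
  · exact ckPerm_sound _ _ _ _ (allR_zero _ _ pk0 i hi)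
  · exact ckPerm_sound _ _ _ _ (allR_zero _ _ pk1 i hi)
  · exact ckPerm_sound _ _ _ _ (allR_zero _ _ pk2 i hi)
  · exact ckPerm_sound _ _ _ _ (allR_zero _ _ pk3 i hi)
  · exact ckPerm_sound _ _ _ _ (allR_zero _ _ pk4 i hi)
  · exact ckPerm_sound _ _ _ _ (allR_zero _ _ pk5 i hi)
  · exact ckPerm_sound _ _ _ _ (allR_zero _ _ pk6 i hi)
  · exact ckPerm_sound _ _ _ _ (allR_zero _ _ pk7 i hi)
  · exact ckPerm_sound _ _ _ _ (allR_zero _ _ pk8 i hi)
  · exact ckPerm_sound _ _ _ _ (allR_zero _ _ pk9 i hi)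
  · exact ckPerm_sound _ _ _ _ (allR_zero _ _ pk10 i hi)
  · exact ckPerm_sound _ _ _ _ (allR_zero _ _ pk11 i hi)
  · exact ckPerm_sound _ _ _ _ (allR_zero _ _ pk12 i hi)
  · exact ckPerm_sound _ _ _ _ (allR_zero _ _ pk13 i hi)
  · exact ckPerm_sound _ _ _ _ (allR_zero _ _ pk14 i hi)
  · exact ckPerm_sound _ _ _ _ (allR_zero _ _ pk15 i hi)
  · exact ckPerm_sound _ _ _ _ (allR_zero _ _ pk16 i hi)
  · exact ckPerm_sound _ _ _ _ (allR_zero _ _ pk17 i hi)
  · exact ckPerm_sound _ _ _ _ (allR_zero _ _ pk18 i hi)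
  · exact ckPerm_sound _ _ _ _ (allR_zero _ _ pk19 i hi)
  · exact ckPerm_sound _ _ _ _ (allR_zero _ _ pk20 i hi)
  · exact ckPerm_sound _ _ _ _ (allR_zero _ _ pk21 i hi)
  · exact ckPerm_sound _ _ _ _ (allR_zero _ _ pk22 i hi)
  · exact ckPerm_sound _ _ _ _ (allR_zero _ _ pk23 i hi)
  · exact ckPerm_sound _ _ _ _ (allR_zero _ _ pk24 i hi)
  · exact ckPerm_sound _ _ _ _ (allR_zero _ _ pk25 i hi)
  · exact ckPerm_sound _ _ _ _ (allR_zero _ _ pk26 i hi)
  · exact ckPerm_sound _ _ _ _ (allR_zero _ _ pk27 i hi)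
  · exact ckPerm_sound _ _ _ _ (allR_zero _ _ pk28 i hi)
  · exact ckPerm_sound _ _ _ _ (allR_zero _ _ pk29 i hi)
  · exact ckPerm_sound _ _ _ _ (allR_zero _ _ pk30 i hi)
  · exact ckPerm_sound _ _ _ _ (allR_zero _ _ pk31 i hi)
  · exact ckPerm_sound _ _ _ _ (allR_zero _ _ pk32 i hi)
  · exact ckPerm_sound _ _ _ _ (allR_zero _ _ pk33 i hi)
  · exact ckPerm_sound _ _ _ _ (allR_zero _ _ pk34 i hi)
  · exact ckPerm_sound _ _ _ _ (allR_zero _ _ pk35 i hi)
  · exact ckPerm_sound _ _ _ _ (allR_zero _ _ pk36 i hi)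
  · exact ckPerm_sound _ _ _ _ (allR_zero _ _ pk37 i hi)
  · exact ckPerm_sound _ _ _ _ (allR_zero _ _ pk38 i hi)
  · exact ckPerm_sound _ _ _ _ (allR_zero _ _ pk39 i hi)
  · exact ckPerm_sound _ _ _ _ (allR_zero _ _ pk40 i hi)
  · exact ckPerm_sound _ _ _ _ (allR_zero _ _ pk41 i hi)
  · exact ckPerm_sound _ _ _ _ (allR_zero _ _ pk42 i hi)
  · exact ckPerm_sound _ _ _ _ (allR_zero _ _ pk43 i hi)
  · exact ckPerm_sound _ _ _ _ (allR_zero _ _ pk44 i hi)
  · exact ckPerm_sound _ _ _ _ (allR_zero _ _ pk45 i hi)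
  · exact ckPerm_sound _ _ _ _ (allR_zero _ _ pk46 i hi)
  · exact ckPerm_sound _ _ _ _ (allR_zero _ _ pk47 i hi)
  · exact ckPerm_sound _ _ _ _ (allR_zero _ _ pk48 i hi)
  · exact ckPerm_sound _ _ _ _ (allR_zero _ _ pk49 i hi)
  · exact ckPerm_sound _ _ _ _ (allR_zero _ _ pk50 i hi)
  · exact ckPerm_sound _ _ _ _ (allR_zero _ _ pk51 i hi)
  · exact ckPerm_sound _ _ _ _ (allR_zero _ _ pk52 i hi)
  · exact ckPerm_sound _ _ _ _ (allR_zero _ _ pk53 i hi)
  · exact ckPerm_sound _ _ _ _ (allR_zero _ _ pk54 i hi)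
  · exact ckPerm_sound _ _ _ _ (allR_zero _ _ pk55 i hi)

theorem tok : TableOK 4600 59 T' inv' :=
  OT.tableOK_ext Cfsg.Agent.H8.LtC2.tok (by decide) hTT hii h1 h2

theorem hwb : ∀ i < bws.length, (∀ l ∈ bws.getD i [], l < 3 + 2 * i) ∧ inv' (3 + 2 * i) = 3 + 2 * i + 1 ∧
    ∀ j < 4600, trN T' (bws.getD i []) j = T' (3 + 2 * i) j := by
  intro i hi
  have hl : bws.length = 28 := by decide
  rw [hl] at hi
  interval_cases i
  · exact ⟨by decide, by decide, fun j hj => OT.ckEqW_sound (T := T') [0, 2, 0, 1, 2, 1, 2] [3] j (allR_zero _ _ wk0 j hj)⟩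
  · exact ⟨by decide, by decide, fun j hj => OT.ckEqW_sound (T := T') [0] [5] j (allR_zero _ _ wk1 j hj)⟩
  · exact ⟨by decide, by decide, fun j hj => OT.ckEqW_sound (T := T') [1, 3, 2, 0, 4, 4, 1, 4, 1, 3] [7] j (allR_zero _ _ wk2 j hj)⟩
  · exact ⟨by decide, by decide, fun j hj => OT.ckEqW_sound (T := T') [6, 8, 6, 7, 5, 7, 5, 7, 7, 6, 8, 6, 7, 7, 6, 8, 8] [9] j (allR_zero _ _ wk3 j hj)⟩
  · exact ⟨by decide, by decide, fun j hj => OT.ckEqW_sound (T := T') [7, 6, 7, 7, 7, 7, 5, 7, 7, 7, 7, 7, 6, 8, 8, 8, 6, 8, 6, 8, 8, 6, 8, 8, 8, 8, 8] [11] j (allR_zero _ _ wk4 j hj)⟩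
  · exact ⟨by decide, by decide, fun j hj => OT.ckEqW_sound (T := T') [9, 12, 9, 11, 10, 10, 11, 10, 12, 12, 10, 10, 12, 10] [13] j (allR_zero _ _ wk5 j hj)⟩
  · exact ⟨by decide, by decide, fun j hj => OT.ckEqW_sound (T := T') [9, 11, 10, 10, 12, 10, 11, 10, 12, 10, 11] [15] j (allR_zero _ _ wk6 j hj)⟩
  · exact ⟨by decide, by decide, fun j hj => OT.ckEqW_sound (T := T') [14, 16, 14, 16, 13, 16, 16, 13] [17] j (allR_zero _ _ wk7 j hj)⟩
  · exact ⟨by decide, by decide, fun j hj => OT.ckEqW_sound (T := T') [17, 14, 14, 14, 14, 15, 15, 10, 11, 10, 12, 9, 12, 9, 7, 7, 5, 8, 5, 7, 7, 5, 8, 5, 7, 5, 8, 4, 1, 3, 2, 3, 3] [19] j (allR_zero _ _ wk8 j hj)⟩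
  · exact ⟨by decide, by decide, fun j hj => OT.ckEqW_sound (T := T') [13, 13, 13, 15, 14, 14, 16, 14, 9, 12, 10, 11, 9, 9, 12, 10, 7, 5, 7, 7, 7, 5, 7, 7, 7, 5, 7, 7, 5, 3, 3, 1, 3, 0, 1, 0, 4, 1] [21] j (allR_zero _ _ wk9 j hj)⟩
  · exact ⟨by decide, by decide, fun j hj => OT.ckEqW_sound (T := T') [19] [23] j (allR_zero _ _ wk10 j hj)⟩
  · exact ⟨by decide, by decide, fun j hj => OT.ckEqW_sound (T := T') [21, 20, 3, 19, 19, 22, 22, 22, 3, 22, 3, 20, 4, 21, 20, 3, 21, 20] [25] j (allR_zero _ _ wk11 j hj)⟩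
  · exact ⟨by decide, by decide, fun j hj => OT.ckEqW_sound (T := T') [22, 22, 19, 4, 21, 3, 19, 19, 22, 3, 22, 20, 4, 22, 4, 4, 21] [27] j (allR_zero _ _ wk12 j hj)⟩
  · exact ⟨by decide, by decide, fun j hj => OT.ckEqW_sound (T := T') [28, 28, 28, 26, 27, 26, 27, 27, 25, 25, 25, 27, 27, 26, 28, 25] [29] j (allR_zero _ _ wk13 j hj)⟩
  · exact ⟨by decide, by decide, fun j hj => OT.ckEqW_sound (T := T') [28, 28, 25, 25, 25, 28, 26, 26, 26, 27, 27, 25, 28, 26, 27, 27, 27] [31] j (allR_zero _ _ wk14 j hj)⟩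
  · exact ⟨by decide, by decide, fun j hj => OT.ckEqW_sound (T := T') [32, 29, 29, 31, 31, 29, 29, 31, 30, 32, 32] [33] j (allR_zero _ _ wk15 j hj)⟩
  · exact ⟨by decide, by decide, fun j hj => OT.ckEqW_sound (T := T') [32, 29, 31, 29, 29, 32] [35] j (allR_zero _ _ wk16 j hj)⟩
  · exact ⟨by decide, by decide, fun j hj => OT.ckEqW_sound (T := T') [36, 33, 33, 36] [37] j (allR_zero _ _ wk17 j hj)⟩
  · exact ⟨by decide, by decide, fun j hj => OT.ckEqW_sound (T := T') [34, 34, 34, 35, 33, 35, 33, 36] [39] j (allR_zero _ _ wk18 j hj)⟩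
  · exact ⟨by decide, by decide, fun j hj => OT.ckEqW_sound (T := T') [3, 21, 19, 19, 3, 22, 3, 20, 4, 21, 4, 21, 3, 19] [41] j (allR_zero _ _ wk19 j hj)⟩
  · exact ⟨by decide, by decide, fun j hj => OT.ckEqW_sound (T := T') [22, 3, 19, 4, 22, 4, 4, 22, 22, 3, 21, 3, 22, 3, 21, 4, 4] [43] j (allR_zero _ _ wk20 j hj)⟩
  · exact ⟨by decide, by decide, fun j hj => OT.ckEqW_sound (T := T') [41, 44, 44, 42, 42, 43, 42, 42, 44, 44, 42] [45] j (allR_zero _ _ wk21 j hj)⟩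
  · exact ⟨by decide, by decide, fun j hj => OT.ckEqW_sound (T := T') [44, 44, 41, 44, 42, 42, 42, 44] [47] j (allR_zero _ _ wk22 j hj)⟩
  · exact ⟨by decide, by decide, fun j hj => OT.ckEqW_sound (T := T') [46, 46, 48, 45, 47, 45, 47, 47, 46, 46] [49] j (allR_zero _ _ wk23 j hj)⟩
  · exact ⟨by decide, by decide, fun j hj => OT.ckEqW_sound (T := T') [48, 45, 47, 47, 46, 46, 48, 46, 46] [51] j (allR_zero _ _ wk24 j hj)⟩
  · exact ⟨by decide, by decide, fun j hj => OT.ckEqW_sound (T := T') [52, 49, 51, 50, 51, 50, 51, 50, 52] [53] j (allR_zero _ _ wk25 j hj)⟩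
  · exact ⟨by decide, by decide, fun j hj => OT.ckEqW_sound (T := T') [52, 50, 52, 50] [55] j (allR_zero _ _ wk26 j hj)⟩
  · exact ⟨by decide, by decide, fun j hj => OT.ckEqW_sound (T := T') [50, 52, 52, 52, 50, 52, 52, 52] [57] j (allR_zero _ _ wk27 j hj)⟩

end Cfsg.Agent.H8.Co2O
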