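import Cfsg.Agent.H8.T.Co3Oa

set_option Elab.async false
set_option autoImplicit false
set_option linter.all false
set_option maxRecDepth 100000
set_option maxHeartbeats 400000

namespace Cfsg.Agent.H8.Co3O
open Cfsg.Agent.H8.LtC3 (T0 T1 T2)

noncomputable def FQ0c0 : Nat := nat_lit 0xa1961e3a1822628503055c982a4561828d4a7070e0c756ac369528548b928558b43060c116955a746ad08749ab2a1168d5a546a50a1570e5a746ad1a39725183862e5c54aae3a2c7060ab970d5aa868628b4a140a312ae0ab56a54a10e145c382a526741a51a586a45aace0b5a1871544953035a1972d4c6c70448183254c1971d5c34ea60c7928c4a712865c9019e1a942ad4c90a26369532508906862a3562c0a782963a546ac4a392851a7968428b869a3a1068d4a390861ab92ae16182262a942a208386a40a34eae1c1822d4cb4f044a756ae0a382844a5172e4a952a62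
noncomputable def FQ0c1 : Nat := nat_lit 0xc50b055a9568e5e917261a9171e1a70ead1aac20d5cb968d0a98a055c1169d0c942864ab131d5c34b064c9521d2c156860c301ae38946a43a7430d4a5432c0a9928d0a1828d1ab4b04065571438b858e5c345a64abd2961c9871e0ab8b0e3a54a0e0c1868d1a396a55818b0a285970f16b970d387970c4cb07042cb93ae2898b0d1cb4eac0a1028d0a1932d268c61548b12951c385951a9528d2cb82851c7560d0a94a8c5c193154c7560c1a952a50a546064ab06044ab068606352865c3862656195851c14a864a782861a956a52c5932a5ab46a40e34aa6583422d5c5862e4
noncomputable def FQ0c2 : Nat := nat_lit 0xcb428e1c3968e4e946a64c983064a796860a5429c1c353051a3d7051890b0c0a7872c1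
noncomputable def FQ0 : Nat → Nat := (fun h => @Nat.rec (fun _ => Nat → Nat)
 (fun h => @Nat.rec (fun _ => Nat → Nat)
 (fun i => Nat.land (Nat.shiftRight FQ0c0 (Nat.mul (nat_lit 7) (Nat.land i (nat_lit 255)))) (nat_lit 127))
 (fun _ _ => (fun i => Nat.land (Nat.shiftRight FQ0c1 (Nat.mul (nat_lit 7) (Nat.land i (nat_lit 255)))) (nat_lit 127))) (Nat.land h (nat_lit 256)) h)
 (fun _ _ => (fun i => Nat.land (Nat.shiftRight FQ0c2 (Nat.mul (nat_lit 7) (Nat.land i (nat_lit 255)))) (nat_lit 127))) (Nat.land h (nat_lit 512)) h)
theorem Fr0 : allR (ckReach FQ0 [[X0], [X1], [X22], [X23], [X24], [X25], [X28], [X29], [X30], [X31], [X32], [X33], [X34], [X35], [X36], [X37], [X38], [X39], [X40], [X41], [X42], [X43], [X44], [X45], [X46], [X47]] (nat_lit 45)) (nat_lit 0) (nat_lit 552) = true := by decide +kernel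
theorem Fc0 : cntT FQ0 (nat_lit 552) (nat_lit 552) (nat_lit 0) = true := by decide +kernel
def FG0 : List (List Nat) := [[3], [4], [25], [26], [27], [28], [31], [32], [33], [34], [35], [36], [37], [38], [39], [40], [41], [42], [43], [44], [45], [46], [47], [48], [49], [50]]
noncomputable def FQ1c0 : Nat := nat_lit 0x84031800000072a78f000c144051c508071a402100c587100018f160e50b1f0e0c7171c388022000318001860d2014f9f0c602052000208001c20c2c4030d100031620000043c3cc050c7cc061c6cf8610184000014e9700183900c000000014c0000180000018c0000000060a14e852a746950014c063014c0608780063c002080018a861c148051e187000c400000a7439d300000000182900c584000c78c041c000000a200000a5440000083150a382910c307961a744063e30d0d364038518600060c746880c54f10001871f3a58316000021c1018b060c34a861c4018e1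
noncomputable def FQ1c1 : Nat := nat_lit 0x53a384000878b000630308001cc000a144000840003061471d20000000a58b080c00000001840000000032a20280001c4000008c053014c06300000000000000018f0d28340062a3c0060c700061810f100c200070000005281cc06100000000188000018000001cb16200030c30003180000005066030e0000190000000520000061c4030d10108000000000000000000000040c200000c40200001cc00000c0000a000000014e873c003180000000000000000000000000000000029d00003161a1c70c0a38e863c143133c5878d3
noncomputable def FQ1c2 : Nat := nat_lit 0x29000000000000005000028c200000000000062a200000c60000001860000003000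
noncomputable def FQ1 : Nat → Nat := (fun h => @Nat.rec (fun _ => Nat → Nat)
 (fun h => @Nat.rec (fun _ => Nat → Nat)
 (fun i => Nat.land (Nat.shiftRight FQ1c0 (Nat.mul (nat_lit 7) (Nat.land i (nat_lit 255)))) (nat_lit 127))
 (fun _ _ => (fun i => Nat.land (Nat.shiftRight FQ1c1 (Nat.mul (nat_lit 7) (Nat.land i (nat_lit 255)))) (nat_lit 127))) (Nat.land h (nat_lit 256)) h)
 (fun _ _ => (fun i => Nat.land (Nat.shiftRight FQ1c2 (Nat.mul (nat_lit 7) (Nat.land i (nat_lit 255)))) (nat_lit 127))) (Nat.land h (nat_lit 512)) h)
theorem Fr1 : allR (ckReach FQ1 [[X28], [X29], [X30], [X31], [X32], [X33], [X34], [X35], [X36], [X37], [X38], [X39], [X40], [X41], [X42], [X43], [X44], [X45], [X46], [X47]] (nat_lit 52)) (nat_lit 0) (nat_lit 552) = true := by decide +kernel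
theorem Fc1 : cntT FQ1 (nat_lit 275) (nat_lit 552) (nat_lit 0) = true := by decide +kernel
def FG1 : List (List Nat) := [[31], [32], [33], [34], [35], [36], [37], [38], [39], [40], [41], [42], [43], [44], [45], [46], [47], [48], [49], [50]]
noncomputable def FQ2c0 : Nat := nat_lit 0x100040c583180000002000028000000000008805100000008600000000000000000000002800c50c000e000000c0000000000000a000000a60000001480006144000014b180000310000000000000000c2029808400000000000000c68e20000000a0028216002900014c000000000000000000000000c2000000000000000000000000000002100000000001888000000000a600000a000061000315100000000180000000288000000000000000000000000000000000000000000000c000000cc0000000000000003380000000000000a78c000a00000000000000100000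
noncomputable def FQ2c1 : Nat := nat_lit 0xa60000000000000000000000000000000410000000c40288000030000001880000000000030630000052000006000020c301c59000000061c60006264019800000000000000001869430000000000000000000000002880000000000000008308000000208000000000000061000290000000000180000648c000a50a10000000000184000a4000000000000000000000000000000000800000000031800003000018c000000006382028d10000000620000000000000184000c20000000000000000042a600000c70c0000000000000000000000000000000
noncomputable def FQ2c2 : Nat := nat_lit 0x70000004201440000000000a603180e6000000000000000000000000000000061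
noncomputable def FQ2 : Nat → Nat := (fun h => @Nat.rec (fun _ => Nat → Nat)
 (fun h => @Nat.rec (fun _ => Nat → Nat)
 (fun i => Nat.land (Nat.shiftRight FQ2c0 (Nat.mul (nat_lit 7) (Nat.land i (nat_lit 255)))) (nat_lit 127))
 (fun _ _ => (fun i => Nat.land (Nat.shiftRight FQ2c1 (Nat.mul (nat_lit 7) (Nat.land i (nat_lit 255)))) (nat_lit 127))) (Nat.land h (nat_lit 256)) h)
 (fun _ _ => (fun i => Nat.land (Nat.shiftRight FQ2c2 (Nat.mul (nat_lit 7) (Nat.land i (nat_lit 255)))) (nat_lit 127))) (Nat.land h (nat_lit 512)) h)
theorem Fr2 : allR (ckReach FQ2 [[X32], [X33], [X34], [X35], [X36], [X37], [X38], [X39], [X40], [X41], [X42], [X43], [X44], [X45], [X46], [X47]] (nat_lit 93)) (nat_lit 0) (nat_lit 552) = true := by decide +kernel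
theorem Fc2 : cntT FQ2 (nat_lit 112) (nat_lit 552) (nat_lit 0) = true := by decide +kernel
def FG2 : List (List Nat) := [[35], [36], [37], [38], [39], [40], [41], [42], [43], [44], [45], [46], [47], [48], [49], [50]]
noncomputable def FQ3c0 : Nat := nat_lit 0x520000000000000000000000000000000000000000000000000018800001000520000000000000000000000000000000000000031800000000000000000000000000000000000000019b300000000000052a20280000000000000000000280000000000002000010400000000000000000000000000000400000000010f1e200000000000000000288000011e100000220000053600000000000000000000000000000000000000000000000000000600000000000000000000000000000000000000000000000000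
noncomputable def FQ3c1 : Nat := nat_lit 0xc40000001c21b20146850018800000031000000000000000000000000000063000000000000000000000000000000000006000000000000001080000000000000000000000000000030200000000000000003180000288000000000000053018c000000288000000000003140000000042000008200000000000000000200000000014000000000000003800010b100018400000028b286038800148050010400000000530000043c400000000000000000520000000010000062000000002950a78c042018e80000c400000000000000000000000000000000000000
noncomputable def FQ3c2 : Nat := nat_lit 0x1000000000000a40000000cc00000000000003180010a980000000000000530000000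
noncomputable def FQ3 : Nat → Nat := (fun h => @Nat.rec (fun _ => Nat → Nat)
 (fun h => @Nat.rec (fun _ => Nat → Nat)
 (fun i => Nat.land (Nat.shiftRight FQ3c0 (Nat.mul (nat_lit 7) (Nat.land i (nat_lit 255)))) (nat_lit 127))
 (fun _ _ => (fun i => Nat.land (Nat.shiftRight FQ3c1 (Nat.mul (nat_lit 7) (Nat.land i (nat_lit 255)))) (nat_lit 127))) (Nat.land h (nat_lit 256)) h)
 (fun _ _ => (fun i => Nat.land (Nat.shiftRight FQ3c2 (Nat.mul (nat_lit 7) (Nat.land i (nat_lit 255)))) (nat_lit 127))) (Nat.land h (nat_lit 512)) h)
theorem Fr3 : allR (ckReach FQ3 [[X36], [X37], [X38], [X39], [X40], [X41], [X42], [X43], [X44], [X45], [X46], [X47]] (nat_lit 423)) (nat_lit 0) (nat_lit 552) = true := by decide +kernel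
theorem Fc3 : cntT FQ3 (nat_lit 81) (nat_lit 552) (nat_lit 0) = true := by decide +kernel
def FG3 : List (List Nat) := [[39], [40], [41], [42], [43], [44], [45], [46], [47], [48], [49], [50]]
noncomputable def FQ4c0 : Nat := nat_lit 0x400000000000000000000000000000000000000000000000000840000000000000000000000000000000420000000000000000000000000000000000000000000000000000000000000000000000000000000000000000031000000000000000000031000000000000000000000000000000000000000000000000001400000000000000000000000000000000000000000000000000000000190000000000000000000000000000000000000000000000000000000000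
noncomputable def FQ4c1 : Nat := nat_lit 0x82980000000000000000000000a400000000002200000000000032000004300000000000000000000001480000000000010480000000000000000000000000019000000000800290060020800000000a2000000000000000000000000000000000000200000000000000000840000042000000000050000000000000000000000000000000000000000000010c00046000000000000820000000000000000000840000001040000000000000198000000000102180000000000000000000040000000000000000000000000000000000000000000000000000000000000000
noncomputable def FQ4c2 : Nat := nat_lit 0xa600000a74d8000002800a400000000000000000000000000010d8000000000a100000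
noncomputable def FQ4 : Nat → Nat := (fun h => @Nat.rec (fun _ => Nat → Nat)
 (fun h => @Nat.rec (fun _ => Nat → Nat)
 (fun i => Nat.land (Nat.shiftRight FQ4c0 (Nat.mul (nat_lit 7) (Nat.land i (nat_lit 255)))) (nat_lit 127))
 (fun _ _ => (fun i => Nat.land (Nat.shiftRight FQ4c1 (Nat.mul (nat_lit 7) (Nat.land i (nat_lit 255)))) (nat_lit 127))) (Nat.land h (nat_lit 256)) h)
 (fun _ _ => (fun i => Nat.land (Nat.shiftRight FQ4c2 (Nat.mul (nat_lit 7) (Nat.land i (nat_lit 255)))) (nat_lit 127))) (Nat.land h (nat_lit 512)) h)
theorem Fr4 : allR (ckReach FQ4 [[X40], [X41], [X42], [X43], [X44], [X45], [X46], [X47]] (nat_lit 453)) (nat_lit 0) (nat_lit 552) = true := by decide +kernel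
theorem Fc4 : cntT FQ4 (nat_lit 45) (nat_lit 552) (nat_lit 0) = true := by decide +kernel
def FG4 : List (List Nat) := [[43], [44], [45], [46], [47], [48], [49], [50]]
noncomputable def FQ5c0 : Nat := nat_lit 0x8800000000000000000000000000000000000000000000000000000000000000000000000000000000000000000000000000000000000000000000000000000000000000000000000000000000000000000000000000000000000000000010802300000000000000000000000000000000000000000000000000000000000000000000000000000000000000000000000000000000000000000000000000000000000000000000000000000000000000000000000000000000000000000000000000000000000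
noncomputable def FQ5c1 : Nat := nat_lit 0xc8000000000000000000000000000000000000000000000000000000000000000000000000000000000000000000000000000000000000000000000000000000000000000000000000000033000000000000000000000000000000000000000000000000000000000000000000000000000000000000000000000000000000000000001000000000000000000000000000000000000008000000000000000000000000000000000000000000000000000000000000000000000000320000000
noncomputable def FQ5c2 : Nat := nat_lit 0x0
noncomputable def FQ5 : Nat → Nat := (fun h => @Nat.rec (fun _ => Nat → Nat)
 (fun h => @Nat.rec (fun _ => Nat → Nat)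
 (fun i => Nat.land (Nat.shiftRight FQ5c0 (Nat.mul (nat_lit 7) (Nat.land i (nat_lit 255)))) (nat_lit 127))
 (fun _ _ => (fun i => Nat.land (Nat.shiftRight FQ5c1 (Nat.mul (nat_lit 7) (Nat.land i (nat_lit 255)))) (nat_lit 127))) (Nat.land h (nat_lit 256)) h)
 (fun _ _ => (fun i => Nat.land (Nat.shiftRight FQ5c2 (Nat.mul (nat_lit 7) (Nat.land i (nat_lit 255)))) (nat_lit 127))) (Nat.land h (nat_lit 512)) h)
theorem Fr5 : allR (ckReach FQ5 [[X44], [X45], [X46], [X47]] (nat_lit 324)) (nat_lit 0) (nat_lit 552) = true := by decide +kernel
theorem Fc5 : cntT FQ5 (nat_lit 8) (nat_lit 552) (nat_lit 0) = true := by decide +kernel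
def FG5 : List (List Nat) := [[47], [48], [49], [50]]
noncomputable def FK5 : List Nat → Bool := levF FQ5 [[X44], [X45], [X46], [X47]] (nat_lit 324) (fun _ => false) (nat_lit 8)
noncomputable def FK4 : List Nat → Bool := levF FQ4 [[X40], [X41], [X42], [X43], [X44], [X45], [X46], [X47]] (nat_lit 453) FK5 (nat_lit 8)
noncomputable def FK3 : List Nat → Bool := levF FQ3 [[X36], [X37], [X38], [X39], [X40], [X41], [X42], [X43], [X44], [X45], [X46], [X47]] (nat_lit 423) FK4 (nat_lit 8)
noncomputable def FK2 : List Nat → Bool := levF FQ2 [[X32], [X33], [X34], [X35], [X36], [X37], [X38], [X39], [X40], [X41], [X42], [X43], [X44], [X45], [X46], [X47]] (nat_lit 93) FK3 (nat_lit 8)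
noncomputable def FK1 : List Nat → Bool := levF FQ1 [[X28], [X29], [X30], [X31], [X32], [X33], [X34], [X35], [X36], [X37], [X38], [X39], [X40], [X41], [X42], [X43], [X44], [X45], [X46], [X47]] (nat_lit 52) FK2 (nat_lit 8)
noncomputable def FK0 : List Nat → Bool := levF FQ0 [[X0], [X1], [X22], [X23], [X24], [X25], [X28], [X29], [X30], [X31], [X32], [X33], [X34], [X35], [X36], [X37], [X38], [X39], [X40], [X41], [X42], [X43], [X44], [X45], [X46], [X47]] (nat_lit 45) FK1 (nat_lit 8)
theorem FS : allR (OT.ckCand [X26] (nat_lit 10) FK0 [45, 73]) (nat_lit 0) (nat_lit 552) = true := by decide +kernel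

end Cfsg.Agent.H8.Co3O
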