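import Cfsg.Agent.H8.T.Co3Oc0
import Cfsg.Agent.H8.CosetGlue
import Cfsg.Agent.H8.T.LtC3

set_option Elab.async false
set_option autoImplicit false
set_option linter.all false
set_option maxRecDepth 100000
set_option maxHeartbeats 400000

namespace Cfsg.Agent.H8.Co3O
open Cfsg.Agent.H8.LtC3 (T0 T1 T2)

theorem pk0 : allR (ckPerm (nat_lit 552) X0 X1) (nat_lit 0) (nat_lit 552) = true := by
  apply allR_of_forall
  intro i hi
  have hi : i < 552 := hi
  rcases Nat.lt_or_ge i 276 with h0 | h0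
  · exact allR_spec _ (0 : ℕ) (276 : ℕ) pk0_0 i (by omega) (by omega)
  exact allR_spec _ (276 : ℕ) (276 : ℕ) pk0_1 i (by omega) (by omega)
theorem pk1 : allR (ckPerm (nat_lit 552) X1 X0) (nat_lit 0) (nat_lit 552) = true := by
  apply allR_of_forall
  intro i hi
  have hi : i < 552 := hi
  rcases Nat.lt_or_ge i 276 with h0 | h0
  · exact allR_spec _ (0 : ℕ) (276 : ℕ) pk1_0 i (by omega) (by omega)
  exact allR_spec _ (276 : ℕ) (276 : ℕ) pk1_1 i (by omega) (by omega)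
theorem pk2 : allR (ckPerm (nat_lit 552) X2 X3) (nat_lit 0) (nat_lit 552) = true := by
  apply allR_of_forall
  intro i hi
  have hi : i < 552 := hi
  rcases Nat.lt_or_ge i 276 with h0 | h0
  · exact allR_spec _ (0 : ℕ) (276 : ℕ) pk2_0 i (by omega) (by omega)
  exact allR_spec _ (276 : ℕ) (276 : ℕ) pk2_1 i (by omega) (by omega)
theorem pk3 : allR (ckPerm (nat_lit 552) X3 X2) (nat_lit 0) (nat_lit 552) = true := by
  apply allR_of_forall
  intro i hi
  have hi : i < 552 := hi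
  rcases Nat.lt_or_ge i 276 with h0 | h0
  · exact allR_spec _ (0 : ℕ) (276 : ℕ) pk3_0 i (by omega) (by omega)
  exact allR_spec _ (276 : ℕ) (276 : ℕ) pk3_1 i (by omega) (by omega)
theorem pk4 : allR (ckPerm (nat_lit 552) X4 X5) (nat_lit 0) (nat_lit 552) = true := by
  apply allR_of_forall
  intro i hi
  have hi : i < 552 := hi
  rcases Nat.lt_or_ge i 276 with h0 | h0
  · exact allR_spec _ (0 : ℕ) (276 : ℕ) pk4_0 i (by omega) (by omega)
  exact allR_spec _ (276 : ℕ) (276 : ℕ) pk4_1 i (by omega) (by omega)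
theorem pk5 : allR (ckPerm (nat_lit 552) X5 X4) (nat_lit 0) (nat_lit 552) = true := by
  apply allR_of_forall
  intro i hi
  have hi : i < 552 := hi
  rcases Nat.lt_or_ge i 276 with h0 | h0
  · exact allR_spec _ (0 : ℕ) (276 : ℕ) pk5_0 i (by omega) (by omega)
  exact allR_spec _ (276 : ℕ) (276 : ℕ) pk5_1 i (by omega) (by omega)
theorem pk6 : allR (ckPerm (nat_lit 552) X6 X7) (nat_lit 0) (nat_lit 552) = true := by
  apply allR_of_forall
  intro i hi
  have hi : i < 552 := hi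
  rcases Nat.lt_or_ge i 276 with h0 | h0
  · exact allR_spec _ (0 : ℕ) (276 : ℕ) pk6_0 i (by omega) (by omega)
  exact allR_spec _ (276 : ℕ) (276 : ℕ) pk6_1 i (by omega) (by omega)
theorem pk7 : allR (ckPerm (nat_lit 552) X7 X6) (nat_lit 0) (nat_lit 552) = true := by
  apply allR_of_forall
  intro i hi
  have hi : i < 552 := hi
  rcases Nat.lt_or_ge i 276 with h0 | h0
  · exact allR_spec _ (0 : ℕ) (276 : ℕ) pk7_0 i (by omega) (by omega)
  exact allR_spec _ (276 : ℕ) (276 : ℕ) pk7_1 i (by omega) (by omega)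
theorem pk8 : allR (ckPerm (nat_lit 552) X8 X9) (nat_lit 0) (nat_lit 552) = true := by
  apply allR_of_forall
  intro i hi
  have hi : i < 552 := hi
  rcases Nat.lt_or_ge i 276 with h0 | h0
  · exact allR_spec _ (0 : ℕ) (276 : ℕ) pk8_0 i (by omega) (by omega)
  exact allR_spec _ (276 : ℕ) (276 : ℕ) pk8_1 i (by omega) (by omega)
theorem pk9 : allR (ckPerm (nat_lit 552) X9 X8) (nat_lit 0) (nat_lit 552) = true := by
  apply allR_of_forall
  intro i hi
  have hi : i < 552 := hi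
  rcases Nat.lt_or_ge i 276 with h0 | h0
  · exact allR_spec _ (0 : ℕ) (276 : ℕ) pk9_0 i (by omega) (by omega)
  exact allR_spec _ (276 : ℕ) (276 : ℕ) pk9_1 i (by omega) (by omega)
theorem pk10 : allR (ckPerm (nat_lit 552) X10 X11) (nat_lit 0) (nat_lit 552) = true := by
  apply allR_of_forall
  intro i hi
  have hi : i < 552 := hi
  rcases Nat.lt_or_ge i 276 with h0 | h0
  · exact allR_spec _ (0 : ℕ) (276 : ℕ) pk10_0 i (by omega) (by omega)
  exact allR_spec _ (276 : ℕ) (276 : ℕ) pk10_1 i (by omega) (by omega)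
theorem pk11 : allR (ckPerm (nat_lit 552) X11 X10) (nat_lit 0) (nat_lit 552) = true := by
  apply allR_of_forall
  intro i hi
  have hi : i < 552 := hi
  rcases Nat.lt_or_ge i 276 with h0 | h0
  · exact allR_spec _ (0 : ℕ) (276 : ℕ) pk11_0 i (by omega) (by omega)
  exact allR_spec _ (276 : ℕ) (276 : ℕ) pk11_1 i (by omega) (by omega)
theorem pk12 : allR (ckPerm (nat_lit 552) X12 X13) (nat_lit 0) (nat_lit 552) = true := by
  apply allR_of_forall
  intro i hi
  have hi : i < 552 := hi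
  rcases Nat.lt_or_ge i 276 with h0 | h0
  · exact allR_spec _ (0 : ℕ) (276 : ℕ) pk12_0 i (by omega) (by omega)
  exact allR_spec _ (276 : ℕ) (276 : ℕ) pk12_1 i (by omega) (by omega)
theorem pk13 : allR (ckPerm (nat_lit 552) X13 X12) (nat_lit 0) (nat_lit 552) = true := by
  apply allR_of_forall
  intro i hi
  have hi : i < 552 := hi
  rcases Nat.lt_or_ge i 276 with h0 | h0
  · exact allR_spec _ (0 : ℕ) (276 : ℕ) pk13_0 i (by omega) (by omega)
  exact allR_spec _ (276 : ℕ) (276 : ℕ) pk13_1 i (by omega) (by omega)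
theorem pk14 : allR (ckPerm (nat_lit 552) X14 X15) (nat_lit 0) (nat_lit 552) = true := by
  apply allR_of_forall
  intro i hi
  have hi : i < 552 := hi
  rcases Nat.lt_or_ge i 276 with h0 | h0
  · exact allR_spec _ (0 : ℕ) (276 : ℕ) pk14_0 i (by omega) (by omega)
  exact allR_spec _ (276 : ℕ) (276 : ℕ) pk14_1 i (by omega) (by omega)
theorem pk15 : allR (ckPerm (nat_lit 552) X15 X14) (nat_lit 0) (nat_lit 552) = true := by
  apply allR_of_forall
  intro i hi
  have hi : i < 552 := hi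
  rcases Nat.lt_or_ge i 276 with h0 | h0
  · exact allR_spec _ (0 : ℕ) (276 : ℕ) pk15_0 i (by omega) (by omega)
  exact allR_spec _ (276 : ℕ) (276 : ℕ) pk15_1 i (by omega) (by omega)
theorem pk16 : allR (ckPerm (nat_lit 552) X16 X17) (nat_lit 0) (nat_lit 552) = true := by
  apply allR_of_forall
  intro i hi
  have hi : i < 552 := hi
  rcases Nat.lt_or_ge i 276 with h0 | h0
  · exact allR_spec _ (0 : ℕ) (276 : ℕ) pk16_0 i (by omega) (by omega)
  exact allR_spec _ (276 : ℕ) (276 : ℕ) pk16_1 i (by omega) (by omega)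
theorem pk17 : allR (ckPerm (nat_lit 552) X17 X16) (nat_lit 0) (nat_lit 552) = true := by
  apply allR_of_forall
  intro i hi
  have hi : i < 552 := hi
  rcases Nat.lt_or_ge i 276 with h0 | h0
  · exact allR_spec _ (0 : ℕ) (276 : ℕ) pk17_0 i (by omega) (by omega)
  exact allR_spec _ (276 : ℕ) (276 : ℕ) pk17_1 i (by omega) (by omega)
theorem pk18 : allR (ckPerm (nat_lit 552) X18 X19) (nat_lit 0) (nat_lit 552) = true := by
  apply allR_of_forall
  intro i hi
  have hi : i < 552 := hi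
  rcases Nat.lt_or_ge i 276 with h0 | h0
  · exact allR_spec _ (0 : ℕ) (276 : ℕ) pk18_0 i (by omega) (by omega)
  exact allR_spec _ (276 : ℕ) (276 : ℕ) pk18_1 i (by omega) (by omega)
theorem pk19 : allR (ckPerm (nat_lit 552) X19 X18) (nat_lit 0) (nat_lit 552) = true := by
  apply allR_of_forall
  intro i hi
  have hi : i < 552 := hi
  rcases Nat.lt_or_ge i 276 with h0 | h0
  · exact allR_spec _ (0 : ℕ) (276 : ℕ) pk19_0 i (by omega) (by omega)
  exact allR_spec _ (276 : ℕ) (276 : ℕ) pk19_1 i (by omega) (by omega)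
theorem pk20 : allR (ckPerm (nat_lit 552) X20 X21) (nat_lit 0) (nat_lit 552) = true := by
  apply allR_of_forall
  intro i hi
  have hi : i < 552 := hi
  rcases Nat.lt_or_ge i 276 with h0 | h0
  · exact allR_spec _ (0 : ℕ) (276 : ℕ) pk20_0 i (by omega) (by omega)
  exact allR_spec _ (276 : ℕ) (276 : ℕ) pk20_1 i (by omega) (by omega)
theorem pk21 : allR (ckPerm (nat_lit 552) X21 X20) (nat_lit 0) (nat_lit 552) = true := by
  apply allR_of_forall
  intro i hi
  have hi : i < 552 := hi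
  rcases Nat.lt_or_ge i 276 with h0 | h0
  · exact allR_spec _ (0 : ℕ) (276 : ℕ) pk21_0 i (by omega) (by omega)
  exact allR_spec _ (276 : ℕ) (276 : ℕ) pk21_1 i (by omega) (by omega)
theorem pk22 : allR (ckPerm (nat_lit 552) X22 X23) (nat_lit 0) (nat_lit 552) = true := by
  apply allR_of_forall
  intro i hi
  have hi : i < 552 := hi
  rcases Nat.lt_or_ge i 276 with h0 | h0
  · exact allR_spec _ (0 : ℕ) (276 : ℕ) pk22_0 i (by omega) (by omega)
  exact allR_spec _ (276 : ℕ) (276 : ℕ) pk22_1 i (by omega) (by omega)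
theorem pk23 : allR (ckPerm (nat_lit 552) X23 X22) (nat_lit 0) (nat_lit 552) = true := by
  apply allR_of_forall
  intro i hi
  have hi : i < 552 := hi
  rcases Nat.lt_or_ge i 276 with h0 | h0
  · exact allR_spec _ (0 : ℕ) (276 : ℕ) pk23_0 i (by omega) (by omega)
  exact allR_spec _ (276 : ℕ) (276 : ℕ) pk23_1 i (by omega) (by omega)
theorem pk24 : allR (ckPerm (nat_lit 552) X24 X25) (nat_lit 0) (nat_lit 552) = true := by
  apply allR_of_forall
  intro i hi
  have hi : i < 552 := hi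
  rcases Nat.lt_or_ge i 276 with h0 | h0
  · exact allR_spec _ (0 : ℕ) (276 : ℕ) pk24_0 i (by omega) (by omega)
  exact allR_spec _ (276 : ℕ) (276 : ℕ) pk24_1 i (by omega) (by omega)
theorem pk25 : allR (ckPerm (nat_lit 552) X25 X24) (nat_lit 0) (nat_lit 552) = true := by
  apply allR_of_forall
  intro i hi
  have hi : i < 552 := hi
  rcases Nat.lt_or_ge i 276 with h0 | h0
  · exact allR_spec _ (0 : ℕ) (276 : ℕ) pk25_0 i (by omega) (by omega)
  exact allR_spec _ (276 : ℕ) (276 : ℕ) pk25_1 i (by omega) (by omega)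
theorem pk26 : allR (ckPerm (nat_lit 552) X26 X27) (nat_lit 0) (nat_lit 552) = true := by
  apply allR_of_forall
  intro i hi
  have hi : i < 552 := hi
  rcases Nat.lt_or_ge i 276 with h0 | h0
  · exact allR_spec _ (0 : ℕ) (276 : ℕ) pk26_0 i (by omega) (by omega)
  exact allR_spec _ (276 : ℕ) (276 : ℕ) pk26_1 i (by omega) (by omega)
theorem pk27 : allR (ckPerm (nat_lit 552) X27 X26) (nat_lit 0) (nat_lit 552) = true := by
  apply allR_of_forall
  intro i hi
  have hi : i < 552 := hi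
  rcases Nat.lt_or_ge i 276 with h0 | h0
  · exact allR_spec _ (0 : ℕ) (276 : ℕ) pk27_0 i (by omega) (by omega)
  exact allR_spec _ (276 : ℕ) (276 : ℕ) pk27_1 i (by omega) (by omega)
theorem pk28 : allR (ckPerm (nat_lit 552) X28 X29) (nat_lit 0) (nat_lit 552) = true := by
  apply allR_of_forall
  intro i hi
  have hi : i < 552 := hi
  rcases Nat.lt_or_ge i 276 with h0 | h0
  · exact allR_spec _ (0 : ℕ) (276 : ℕ) pk28_0 i (by omega) (by omega)
  exact allR_spec _ (276 : ℕ) (276 : ℕ) pk28_1 i (by omega) (by omega)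
theorem pk29 : allR (ckPerm (nat_lit 552) X29 X28) (nat_lit 0) (nat_lit 552) = true := by
  apply allR_of_forall
  intro i hi
  have hi : i < 552 := hi
  rcases Nat.lt_or_ge i 276 with h0 | h0
  · exact allR_spec _ (0 : ℕ) (276 : ℕ) pk29_0 i (by omega) (by omega)
  exact allR_spec _ (276 : ℕ) (276 : ℕ) pk29_1 i (by omega) (by omega)
theorem pk30 : allR (ckPerm (nat_lit 552) X30 X31) (nat_lit 0) (nat_lit 552) = true := by
  apply allR_of_forall
  intro i hi
  have hi : i < 552 := hi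
  rcases Nat.lt_or_ge i 276 with h0 | h0
  · exact allR_spec _ (0 : ℕ) (276 : ℕ) pk30_0 i (by omega) (by omega)
  exact allR_spec _ (276 : ℕ) (276 : ℕ) pk30_1 i (by omega) (by omega)
theorem pk31 : allR (ckPerm (nat_lit 552) X31 X30) (nat_lit 0) (nat_lit 552) = true := by
  apply allR_of_forall
  intro i hi
  have hi : i < 552 := hi
  rcases Nat.lt_or_ge i 276 with h0 | h0
  · exact allR_spec _ (0 : ℕ) (276 : ℕ) pk31_0 i (by omega) (by omega)
  exact allR_spec _ (276 : ℕ) (276 : ℕ) pk31_1 i (by omega) (by omega)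
theorem pk32 : allR (ckPerm (nat_lit 552) X32 X33) (nat_lit 0) (nat_lit 552) = true := by
  apply allR_of_forall
  intro i hi
  have hi : i < 552 := hi
  rcases Nat.lt_or_ge i 276 with h0 | h0
  · exact allR_spec _ (0 : ℕ) (276 : ℕ) pk32_0 i (by omega) (by omega)
  exact allR_spec _ (276 : ℕ) (276 : ℕ) pk32_1 i (by omega) (by omega)
theorem pk33 : allR (ckPerm (nat_lit 552) X33 X32) (nat_lit 0) (nat_lit 552) = true := by
  apply allR_of_forall
  intro i hi
  have hi : i < 552 := hi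
  rcases Nat.lt_or_ge i 276 with h0 | h0
  · exact allR_spec _ (0 : ℕ) (276 : ℕ) pk33_0 i (by omega) (by omega)
  exact allR_spec _ (276 : ℕ) (276 : ℕ) pk33_1 i (by omega) (by omega)
theorem pk34 : allR (ckPerm (nat_lit 552) X34 X35) (nat_lit 0) (nat_lit 552) = true := by
  apply allR_of_forall
  intro i hi
  have hi : i < 552 := hi
  rcases Nat.lt_or_ge i 276 with h0 | h0
  · exact allR_spec _ (0 : ℕ) (276 : ℕ) pk34_0 i (by omega) (by omega)
  exact allR_spec _ (276 : ℕ) (276 : ℕ) pk34_1 i (by omega) (by omega)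
theorem pk35 : allR (ckPerm (nat_lit 552) X35 X34) (nat_lit 0) (nat_lit 552) = true := by
  apply allR_of_forall
  intro i hi
  have hi : i < 552 := hi
  rcases Nat.lt_or_ge i 276 with h0 | h0
  · exact allR_spec _ (0 : ℕ) (276 : ℕ) pk35_0 i (by omega) (by omega)
  exact allR_spec _ (276 : ℕ) (276 : ℕ) pk35_1 i (by omega) (by omega)
theorem pk36 : allR (ckPerm (nat_lit 552) X36 X37) (nat_lit 0) (nat_lit 552) = true := by
  apply allR_of_forall
  intro i hi
  have hi : i < 552 := hi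
  rcases Nat.lt_or_ge i 276 with h0 | h0
  · exact allR_spec _ (0 : ℕ) (276 : ℕ) pk36_0 i (by omega) (by omega)
  exact allR_spec _ (276 : ℕ) (276 : ℕ) pk36_1 i (by omega) (by omega)
theorem pk37 : allR (ckPerm (nat_lit 552) X37 X36) (nat_lit 0) (nat_lit 552) = true := by
  apply allR_of_forall
  intro i hi
  have hi : i < 552 := hi
  rcases Nat.lt_or_ge i 276 with h0 | h0
  · exact allR_spec _ (0 : ℕ) (276 : ℕ) pk37_0 i (by omega) (by omega)
  exact allR_spec _ (276 : ℕ) (276 : ℕ) pk37_1 i (by omega) (by omega)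
theorem pk38 : allR (ckPerm (nat_lit 552) X38 X39) (nat_lit 0) (nat_lit 552) = true := by
  apply allR_of_forall
  intro i hi
  have hi : i < 552 := hi
  rcases Nat.lt_or_ge i 276 with h0 | h0
  · exact allR_spec _ (0 : ℕ) (276 : ℕ) pk38_0 i (by omega) (by omega)
  exact allR_spec _ (276 : ℕ) (276 : ℕ) pk38_1 i (by omega) (by omega)
theorem pk39 : allR (ckPerm (nat_lit 552) X39 X38) (nat_lit 0) (nat_lit 552) = true := by
  apply allR_of_forall
  intro i hi
  have hi : i < 552 := hi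
  rcases Nat.lt_or_ge i 276 with h0 | h0
  · exact allR_spec _ (0 : ℕ) (276 : ℕ) pk39_0 i (by omega) (by omega)
  exact allR_spec _ (276 : ℕ) (276 : ℕ) pk39_1 i (by omega) (by omega)
theorem pk40 : allR (ckPerm (nat_lit 552) X40 X41) (nat_lit 0) (nat_lit 552) = true := by
  apply allR_of_forall
  intro i hi
  have hi : i < 552 := hi
  rcases Nat.lt_or_ge i 276 with h0 | h0
  · exact allR_spec _ (0 : ℕ) (276 : ℕ) pk40_0 i (by omega) (by omega)
  exact allR_spec _ (276 : ℕ) (276 : ℕ) pk40_1 i (by omega) (by omega)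
theorem pk41 : allR (ckPerm (nat_lit 552) X41 X40) (nat_lit 0) (nat_lit 552) = true := by
  apply allR_of_forall
  intro i hi
  have hi : i < 552 := hi
  rcases Nat.lt_or_ge i 276 with h0 | h0
  · exact allR_spec _ (0 : ℕ) (276 : ℕ) pk41_0 i (by omega) (by omega)
  exact allR_spec _ (276 : ℕ) (276 : ℕ) pk41_1 i (by omega) (by omega)
theorem pk42 : allR (ckPerm (nat_lit 552) X42 X43) (nat_lit 0) (nat_lit 552) = true := by
  apply allR_of_forall
  intro i hi
  have hi : i < 552 := hi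
  rcases Nat.lt_or_ge i 276 with h0 | h0
  · exact allR_spec _ (0 : ℕ) (276 : ℕ) pk42_0 i (by omega) (by omega)
  exact allR_spec _ (276 : ℕ) (276 : ℕ) pk42_1 i (by omega) (by omega)
theorem pk43 : allR (ckPerm (nat_lit 552) X43 X42) (nat_lit 0) (nat_lit 552) = true := by
  apply allR_of_forall
  intro i hi
  have hi : i < 552 := hi
  rcases Nat.lt_or_ge i 276 with h0 | h0
  · exact allR_spec _ (0 : ℕ) (276 : ℕ) pk43_0 i (by omega) (by omega)
  exact allR_spec _ (276 : ℕ) (276 : ℕ) pk43_1 i (by omega) (by omega)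
theorem pk44 : allR (ckPerm (nat_lit 552) X44 X45) (nat_lit 0) (nat_lit 552) = true := by
  apply allR_of_forall
  intro i hi
  have hi : i < 552 := hi
  rcases Nat.lt_or_ge i 276 with h0 | h0
  · exact allR_spec _ (0 : ℕ) (276 : ℕ) pk44_0 i (by omega) (by omega)
  exact allR_spec _ (276 : ℕ) (276 : ℕ) pk44_1 i (by omega) (by omega)
theorem pk45 : allR (ckPerm (nat_lit 552) X45 X44) (nat_lit 0) (nat_lit 552) = true := by
  apply allR_of_forall
  intro i hi
  have hi : i < 552 := hi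
  rcases Nat.lt_or_ge i 276 with h0 | h0
  · exact allR_spec _ (0 : ℕ) (276 : ℕ) pk45_0 i (by omega) (by omega)
  exact allR_spec _ (276 : ℕ) (276 : ℕ) pk45_1 i (by omega) (by omega)
theorem pk46 : allR (ckPerm (nat_lit 552) X46 X47) (nat_lit 0) (nat_lit 552) = true := by
  apply allR_of_forall
  intro i hi
  have hi : i < 552 := hi
  rcases Nat.lt_or_ge i 276 with h0 | h0
  · exact allR_spec _ (0 : ℕ) (276 : ℕ) pk46_0 i (by omega) (by omega)
  exact allR_spec _ (276 : ℕ) (276 : ℕ) pk46_1 i (by omega) (by omega)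
theorem pk47 : allR (ckPerm (nat_lit 552) X47 X46) (nat_lit 0) (nat_lit 552) = true := by
  apply allR_of_forall
  intro i hi
  have hi : i < 552 := hi
  rcases Nat.lt_or_ge i 276 with h0 | h0
  · exact allR_spec _ (0 : ℕ) (276 : ℕ) pk47_0 i (by omega) (by omega)
  exact allR_spec _ (276 : ℕ) (276 : ℕ) pk47_1 i (by omega) (by omega)
theorem pk48 : allR (ckPerm (nat_lit 552) X48 X49) (nat_lit 0) (nat_lit 552) = true := by
  apply allR_of_forall
  intro i hi
  have hi : i < 552 := hi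
  rcases Nat.lt_or_ge i 276 with h0 | h0
  · exact allR_spec _ (0 : ℕ) (276 : ℕ) pk48_0 i (by omega) (by omega)
  exact allR_spec _ (276 : ℕ) (276 : ℕ) pk48_1 i (by omega) (by omega)
theorem pk49 : allR (ckPerm (nat_lit 552) X49 X48) (nat_lit 0) (nat_lit 552) = true := by
  apply allR_of_forall
  intro i hi
  have hi : i < 552 := hi
  rcases Nat.lt_or_ge i 276 with h0 | h0
  · exact allR_spec _ (0 : ℕ) (276 : ℕ) pk49_0 i (by omega) (by omega)
  exact allR_spec _ (276 : ℕ) (276 : ℕ) pk49_1 i (by omega) (by omega)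
theorem pk50 : allR (ckPerm (nat_lit 552) X50 X51) (nat_lit 0) (nat_lit 552) = true := by
  apply allR_of_forall
  intro i hi
  have hi : i < 552 := hi
  rcases Nat.lt_or_ge i 276 with h0 | h0
  · exact allR_spec _ (0 : ℕ) (276 : ℕ) pk50_0 i (by omega) (by omega)
  exact allR_spec _ (276 : ℕ) (276 : ℕ) pk50_1 i (by omega) (by omega)
theorem pk51 : allR (ckPerm (nat_lit 552) X51 X50) (nat_lit 0) (nat_lit 552) = true := by
  apply allR_of_forall
  intro i hi
  have hi : i < 552 := hi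
  rcases Nat.lt_or_ge i 276 with h0 | h0
  · exact allR_spec _ (0 : ℕ) (276 : ℕ) pk51_0 i (by omega) (by omega)
  exact allR_spec _ (276 : ℕ) (276 : ℕ) pk51_1 i (by omega) (by omega)
theorem pk52 : allR (ckPerm (nat_lit 552) X52 X53) (nat_lit 0) (nat_lit 552) = true := by
  apply allR_of_forall
  intro i hi
  have hi : i < 552 := hi
  rcases Nat.lt_or_ge i 276 with h0 | h0
  · exact allR_spec _ (0 : ℕ) (276 : ℕ) pk52_0 i (by omega) (by omega)
  exact allR_spec _ (276 : ℕ) (276 : ℕ) pk52_1 i (by omega) (by omega)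
theorem pk53 : allR (ckPerm (nat_lit 552) X53 X52) (nat_lit 0) (nat_lit 552) = true := by
  apply allR_of_forall
  intro i hi
  have hi : i < 552 := hi
  rcases Nat.lt_or_ge i 276 with h0 | h0
  · exact allR_spec _ (0 : ℕ) (276 : ℕ) pk53_0 i (by omega) (by omega)
  exact allR_spec _ (276 : ℕ) (276 : ℕ) pk53_1 i (by omega) (by omega)
theorem pk54 : allR (ckPerm (nat_lit 552) X54 X55) (nat_lit 0) (nat_lit 552) = true := by
  apply allR_of_forall
  intro i hi
  have hi : i < 552 := hi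
  rcases Nat.lt_or_ge i 276 with h0 | h0
  · exact allR_spec _ (0 : ℕ) (276 : ℕ) pk54_0 i (by omega) (by omega)
  exact allR_spec _ (276 : ℕ) (276 : ℕ) pk54_1 i (by omega) (by omega)
theorem pk55 : allR (ckPerm (nat_lit 552) X55 X54) (nat_lit 0) (nat_lit 552) = true := by
  apply allR_of_forall
  intro i hi
  have hi : i < 552 := hi
  rcases Nat.lt_or_ge i 276 with h0 | h0
  · exact allR_spec _ (0 : ℕ) (276 : ℕ) pk55_0 i (by omega) (by omega)
  exact allR_spec _ (276 : ℕ) (276 : ℕ) pk55_1 i (by omega) (by omega)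
theorem pk56 : allR (ckPerm (nat_lit 552) X56 X57) (nat_lit 0) (nat_lit 552) = true := by
  apply allR_of_forall
  intro i hi
  have hi : i < 552 := hi
  rcases Nat.lt_or_ge i 276 with h0 | h0
  · exact allR_spec _ (0 : ℕ) (276 : ℕ) pk56_0 i (by omega) (by omega)
  exact allR_spec _ (276 : ℕ) (276 : ℕ) pk56_1 i (by omega) (by omega)
theorem pk57 : allR (ckPerm (nat_lit 552) X57 X56) (nat_lit 0) (nat_lit 552) = true := by
  apply allR_of_forall
  intro i hi
  have hi : i < 552 := hi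
  rcases Nat.lt_or_ge i 276 with h0 | h0
  · exact allR_spec _ (0 : ℕ) (276 : ℕ) pk57_0 i (by omega) (by omega)
  exact allR_spec _ (276 : ℕ) (276 : ℕ) pk57_1 i (by omega) (by omega)
theorem pk58 : allR (ckPerm (nat_lit 552) X58 X59) (nat_lit 0) (nat_lit 552) = true := by
  apply allR_of_forall
  intro i hi
  have hi : i < 552 := hi
  rcases Nat.lt_or_ge i 276 with h0 | h0
  · exact allR_spec _ (0 : ℕ) (276 : ℕ) pk58_0 i (by omega) (by omega)
  exact allR_spec _ (276 : ℕ) (276 : ℕ) pk58_1 i (by omega) (by omega)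
theorem pk59 : allR (ckPerm (nat_lit 552) X59 X58) (nat_lit 0) (nat_lit 552) = true := by
  apply allR_of_forall
  intro i hi
  have hi : i < 552 := hi
  rcases Nat.lt_or_ge i 276 with h0 | h0
  · exact allR_spec _ (0 : ℕ) (276 : ℕ) pk59_0 i (by omega) (by omega)
  exact allR_spec _ (276 : ℕ) (276 : ℕ) pk59_1 i (by omega) (by omega)
theorem pk60 : allR (ckPerm (nat_lit 552) X60 X61) (nat_lit 0) (nat_lit 552) = true := by
  apply allR_of_forall
  intro i hi
  have hi : i < 552 := hi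
  rcases Nat.lt_or_ge i 276 with h0 | h0
  · exact allR_spec _ (0 : ℕ) (276 : ℕ) pk60_0 i (by omega) (by omega)
  exact allR_spec _ (276 : ℕ) (276 : ℕ) pk60_1 i (by omega) (by omega)
theorem pk61 : allR (ckPerm (nat_lit 552) X61 X60) (nat_lit 0) (nat_lit 552) = true := by
  apply allR_of_forall
  intro i hi
  have hi : i < 552 := hi
  rcases Nat.lt_or_ge i 276 with h0 | h0
  · exact allR_spec _ (0 : ℕ) (276 : ℕ) pk61_0 i (by omega) (by omega)
  exact allR_spec _ (276 : ℕ) (276 : ℕ) pk61_1 i (by omega) (by omega)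
theorem pk62 : allR (ckPerm (nat_lit 552) X62 X63) (nat_lit 0) (nat_lit 552) = true := by
  apply allR_of_forall
  intro i hi
  have hi : i < 552 := hi
  rcases Nat.lt_or_ge i 276 with h0 | h0
  · exact allR_spec _ (0 : ℕ) (276 : ℕ) pk62_0 i (by omega) (by omega)
  exact allR_spec _ (276 : ℕ) (276 : ℕ) pk62_1 i (by omega) (by omega)
theorem pk63 : allR (ckPerm (nat_lit 552) X63 X62) (nat_lit 0) (nat_lit 552) = true := by
  apply allR_of_forall
  intro i hi
  have hi : i < 552 := hi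
  rcases Nat.lt_or_ge i 276 with h0 | h0
  · exact allR_spec _ (0 : ℕ) (276 : ℕ) pk63_0 i (by omega) (by omega)
  exact allR_spec _ (276 : ℕ) (276 : ℕ) pk63_1 i (by omega) (by omega)
theorem pk64 : allR (ckPerm (nat_lit 552) X64 X65) (nat_lit 0) (nat_lit 552) = true := by
  apply allR_of_forall
  intro i hi
  have hi : i < 552 := hi
  rcases Nat.lt_or_ge i 276 with h0 | h0
  · exact allR_spec _ (0 : ℕ) (276 : ℕ) pk64_0 i (by omega) (by omega)
  exact allR_spec _ (276 : ℕ) (276 : ℕ) pk64_1 i (by omega) (by omega)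
theorem pk65 : allR (ckPerm (nat_lit 552) X65 X64) (nat_lit 0) (nat_lit 552) = true := by
  apply allR_of_forall
  intro i hi
  have hi : i < 552 := hi
  rcases Nat.lt_or_ge i 276 with h0 | h0
  · exact allR_spec _ (0 : ℕ) (276 : ℕ) pk65_0 i (by omega) (by omega)
  exact allR_spec _ (276 : ℕ) (276 : ℕ) pk65_1 i (by omega) (by omega)
theorem pk66 : allR (ckPerm (nat_lit 552) X66 X67) (nat_lit 0) (nat_lit 552) = true := by
  apply allR_of_forall
  intro i hi
  have hi : i < 552 := hi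
  rcases Nat.lt_or_ge i 276 with h0 | h0
  · exact allR_spec _ (0 : ℕ) (276 : ℕ) pk66_0 i (by omega) (by omega)
  exact allR_spec _ (276 : ℕ) (276 : ℕ) pk66_1 i (by omega) (by omega)
theorem pk67 : allR (ckPerm (nat_lit 552) X67 X66) (nat_lit 0) (nat_lit 552) = true := by
  apply allR_of_forall
  intro i hi
  have hi : i < 552 := hi
  rcases Nat.lt_or_ge i 276 with h0 | h0
  · exact allR_spec _ (0 : ℕ) (276 : ℕ) pk67_0 i (by omega) (by omega)
  exact allR_spec _ (276 : ℕ) (276 : ℕ) pk67_1 i (by omega) (by omega)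
theorem wk0 : allR (OT.ckEqW [T0, T1, T2, T0, T1] [X0]) (nat_lit 0) (nat_lit 552) = true := by
  apply allR_of_forall
  intro i hi
  have hi : i < 552 := hi
  rcases Nat.lt_or_ge i 92 with h0 | h0
  · exact allR_spec _ (0 : ℕ) (92 : ℕ) wk0_0 i (by omega) (by omega)
  rcases Nat.lt_or_ge i 184 with h1 | h1
  · exact allR_spec _ (92 : ℕ) (92 : ℕ) wk0_1 i (by omega) (by omega)
  rcases Nat.lt_or_ge i 276 with h2 | h2
  · exact allR_spec _ (184 : ℕ) (92 : ℕ) wk0_2 i (by omega) (by omega)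
  rcases Nat.lt_or_ge i 368 with h3 | h3
  · exact allR_spec _ (276 : ℕ) (92 : ℕ) wk0_3 i (by omega) (by omega)
  rcases Nat.lt_or_ge i 460 with h4 | h4
  · exact allR_spec _ (368 : ℕ) (92 : ℕ) wk0_4 i (by omega) (by omega)
  exact allR_spec _ (460 : ℕ) (92 : ℕ) wk0_5 i (by omega) (by omega)
theorem wk1 : allR (OT.ckEqW [X1, T0, T2, T1, T0, X1, T2, X0, X0, X0, T0, X0, T2, X1, X1] [X2]) (nat_lit 0) (nat_lit 552) = true := by
  apply allR_of_forall
  intro i hi
  have hi : i < 552 := hi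
  rcases Nat.lt_or_ge i 34 with h0 | h0
  · exact allR_spec _ (0 : ℕ) (34 : ℕ) wk1_0 i (by omega) (by omega)
  rcases Nat.lt_or_ge i 68 with h1 | h1
  · exact allR_spec _ (34 : ℕ) (34 : ℕ) wk1_1 i (by omega) (by omega)
  rcases Nat.lt_or_ge i 102 with h2 | h2
  · exact allR_spec _ (68 : ℕ) (34 : ℕ) wk1_2 i (by omega) (by omega)
  rcases Nat.lt_or_ge i 136 with h3 | h3
  · exact allR_spec _ (102 : ℕ) (34 : ℕ) wk1_3 i (by omega) (by omega)
  rcases Nat.lt_or_ge i 170 with h4 | h4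
  · exact allR_spec _ (136 : ℕ) (34 : ℕ) wk1_4 i (by omega) (by omega)
  rcases Nat.lt_or_ge i 204 with h5 | h5
  · exact allR_spec _ (170 : ℕ) (34 : ℕ) wk1_5 i (by omega) (by omega)
  rcases Nat.lt_or_ge i 238 with h6 | h6
  · exact allR_spec _ (204 : ℕ) (34 : ℕ) wk1_6 i (by omega) (by omega)
  rcases Nat.lt_or_ge i 272 with h7 | h7
  · exact allR_spec _ (238 : ℕ) (34 : ℕ) wk1_7 i (by omega) (by omega)
  rcases Nat.lt_or_ge i 306 with h8 | h8
  · exact allR_spec _ (272 : ℕ) (34 : ℕ) wk1_8 i (by omega) (by omega)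
  rcases Nat.lt_or_ge i 340 with h9 | h9
  · exact allR_spec _ (306 : ℕ) (34 : ℕ) wk1_9 i (by omega) (by omega)
  rcases Nat.lt_or_ge i 374 with h10 | h10
  · exact allR_spec _ (340 : ℕ) (34 : ℕ) wk1_10 i (by omega) (by omega)
  rcases Nat.lt_or_ge i 408 with h11 | h11
  · exact allR_spec _ (374 : ℕ) (34 : ℕ) wk1_11 i (by omega) (by omega)
  rcases Nat.lt_or_ge i 442 with h12 | h12
  · exact allR_spec _ (408 : ℕ) (34 : ℕ) wk1_12 i (by omega) (by omega)
  rcases Nat.lt_or_ge i 476 with h13 | h13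
  · exact allR_spec _ (442 : ℕ) (34 : ℕ) wk1_13 i (by omega) (by omega)
  rcases Nat.lt_or_ge i 510 with h14 | h14
  · exact allR_spec _ (476 : ℕ) (34 : ℕ) wk1_14 i (by omega) (by omega)
  rcases Nat.lt_or_ge i 544 with h15 | h15
  · exact allR_spec _ (510 : ℕ) (34 : ℕ) wk1_15 i (by omega) (by omega)
  exact allR_spec _ (544 : ℕ) (8 : ℕ) wk1_16 i (by omega) (by omega)
theorem wk2 : allR (OT.ckEqW [X1, T2, X0, T2, X0, T1, X0, X0, T1, X1, T0, X0, T2] [X4]) (nat_lit 0) (nat_lit 552) = true := by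
  apply allR_of_forall
  intro i hi
  have hi : i < 552 := hi
  rcases Nat.lt_or_ge i 39 with h0 | h0
  · exact allR_spec _ (0 : ℕ) (39 : ℕ) wk2_0 i (by omega) (by omega)
  rcases Nat.lt_or_ge i 78 with h1 | h1
  · exact allR_spec _ (39 : ℕ) (39 : ℕ) wk2_1 i (by omega) (by omega)
  rcases Nat.lt_or_ge i 117 with h2 | h2
  · exact allR_spec _ (78 : ℕ) (39 : ℕ) wk2_2 i (by omega) (by omega)
  rcases Nat.lt_or_ge i 156 with h3 | h3
  · exact allR_spec _ (117 : ℕ) (39 : ℕ) wk2_3 i (by omega) (by omega)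
  rcases Nat.lt_or_ge i 195 with h4 | h4
  · exact allR_spec _ (156 : ℕ) (39 : ℕ) wk2_4 i (by omega) (by omega)
  rcases Nat.lt_or_ge i 234 with h5 | h5
  · exact allR_spec _ (195 : ℕ) (39 : ℕ) wk2_5 i (by omega) (by omega)
  rcases Nat.lt_or_ge i 273 with h6 | h6
  · exact allR_spec _ (234 : ℕ) (39 : ℕ) wk2_6 i (by omega) (by omega)
  rcases Nat.lt_or_ge i 312 with h7 | h7
  · exact allR_spec _ (273 : ℕ) (39 : ℕ) wk2_7 i (by omega) (by omega)
  rcases Nat.lt_or_ge i 351 with h8 | h8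
  · exact allR_spec _ (312 : ℕ) (39 : ℕ) wk2_8 i (by omega) (by omega)
  rcases Nat.lt_or_ge i 390 with h9 | h9
  · exact allR_spec _ (351 : ℕ) (39 : ℕ) wk2_9 i (by omega) (by omega)
  rcases Nat.lt_or_ge i 429 with h10 | h10
  · exact allR_spec _ (390 : ℕ) (39 : ℕ) wk2_10 i (by omega) (by omega)
  rcases Nat.lt_or_ge i 468 with h11 | h11
  · exact allR_spec _ (429 : ℕ) (39 : ℕ) wk2_11 i (by omega) (by omega)
  rcases Nat.lt_or_ge i 507 with h12 | h12
  · exact allR_spec _ (468 : ℕ) (39 : ℕ) wk2_12 i (by omega) (by omega)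
  rcases Nat.lt_or_ge i 546 with h13 | h13
  · exact allR_spec _ (507 : ℕ) (39 : ℕ) wk2_13 i (by omega) (by omega)
  exact allR_spec _ (546 : ℕ) (6 : ℕ) wk2_14 i (by omega) (by omega)
theorem wk3 : allR (OT.ckEqW [X4, X2, X5, X2, X5, X5, X2, X4, X4] [X6]) (nat_lit 0) (nat_lit 552) = true := by
  apply allR_of_forall
  intro i hi
  have hi : i < 552 := hi
  rcases Nat.lt_or_ge i 55 with h0 | h0
  · exact allR_spec _ (0 : ℕ) (55 : ℕ) wk3_0 i (by omega) (by omega)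
  rcases Nat.lt_or_ge i 110 with h1 | h1
  · exact allR_spec _ (55 : ℕ) (55 : ℕ) wk3_1 i (by omega) (by omega)
  rcases Nat.lt_or_ge i 165 with h2 | h2
  · exact allR_spec _ (110 : ℕ) (55 : ℕ) wk3_2 i (by omega) (by omega)
  rcases Nat.lt_or_ge i 220 with h3 | h3
  · exact allR_spec _ (165 : ℕ) (55 : ℕ) wk3_3 i (by omega) (by omega)
  rcases Nat.lt_or_ge i 275 with h4 | h4
  · exact allR_spec _ (220 : ℕ) (55 : ℕ) wk3_4 i (by omega) (by omega)
  rcases Nat.lt_or_ge i 330 with h5 | h5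
  · exact allR_spec _ (275 : ℕ) (55 : ℕ) wk3_5 i (by omega) (by omega)
  rcases Nat.lt_or_ge i 385 with h6 | h6
  · exact allR_spec _ (330 : ℕ) (55 : ℕ) wk3_6 i (by omega) (by omega)
  rcases Nat.lt_or_ge i 440 with h7 | h7
  · exact allR_spec _ (385 : ℕ) (55 : ℕ) wk3_7 i (by omega) (by omega)
  rcases Nat.lt_or_ge i 495 with h8 | h8
  · exact allR_spec _ (440 : ℕ) (55 : ℕ) wk3_8 i (by omega) (by omega)
  rcases Nat.lt_or_ge i 550 with h9 | h9
  · exact allR_spec _ (495 : ℕ) (55 : ℕ) wk3_9 i (by omega) (by omega)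
  exact allR_spec _ (550 : ℕ) (2 : ℕ) wk3_10 i (by omega) (by omega)
theorem wk4 : allR (OT.ckEqW [X4, X3, X3, X5, X3, X4, X3, X4, X4, X3, X3] [X8]) (nat_lit 0) (nat_lit 552) = true := by
  apply allR_of_forall
  intro i hi
  have hi : i < 552 := hi
  rcases Nat.lt_or_ge i 46 with h0 | h0
  · exact allR_spec _ (0 : ℕ) (46 : ℕ) wk4_0 i (by omega) (by omega)
  rcases Nat.lt_or_ge i 92 with h1 | h1
  · exact allR_spec _ (46 : ℕ) (46 : ℕ) wk4_1 i (by omega) (by omega)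
  rcases Nat.lt_or_ge i 138 with h2 | h2
  · exact allR_spec _ (92 : ℕ) (46 : ℕ) wk4_2 i (by omega) (by omega)
  rcases Nat.lt_or_ge i 184 with h3 | h3
  · exact allR_spec _ (138 : ℕ) (46 : ℕ) wk4_3 i (by omega) (by omega)
  rcases Nat.lt_or_ge i 230 with h4 | h4
  · exact allR_spec _ (184 : ℕ) (46 : ℕ) wk4_4 i (by omega) (by omega)
  rcases Nat.lt_or_ge i 276 with h5 | h5
  · exact allR_spec _ (230 : ℕ) (46 : ℕ) wk4_5 i (by omega) (by omega)
  rcases Nat.lt_or_ge i 322 with h6 | h6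
  · exact allR_spec _ (276 : ℕ) (46 : ℕ) wk4_6 i (by omega) (by omega)
  rcases Nat.lt_or_ge i 368 with h7 | h7
  · exact allR_spec _ (322 : ℕ) (46 : ℕ) wk4_7 i (by omega) (by omega)
  rcases Nat.lt_or_ge i 414 with h8 | h8
  · exact allR_spec _ (368 : ℕ) (46 : ℕ) wk4_8 i (by omega) (by omega)
  rcases Nat.lt_or_ge i 460 with h9 | h9
  · exact allR_spec _ (414 : ℕ) (46 : ℕ) wk4_9 i (by omega) (by omega)
  rcases Nat.lt_or_ge i 506 with h10 | h10
  · exact allR_spec _ (460 : ℕ) (46 : ℕ) wk4_10 i (by omega) (by omega)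
  exact allR_spec _ (506 : ℕ) (46 : ℕ) wk4_11 i (by omega) (by omega)
theorem wk5 : allR (OT.ckEqW [X6, X6, X8, X7, X8, X6] [X10]) (nat_lit 0) (nat_lit 552) = true := by
  apply allR_of_forall
  intro i hi
  have hi : i < 552 := hi
  rcases Nat.lt_or_ge i 78 with h0 | h0
  · exact allR_spec _ (0 : ℕ) (78 : ℕ) wk5_0 i (by omega) (by omega)
  rcases Nat.lt_or_ge i 156 with h1 | h1
  · exact allR_spec _ (78 : ℕ) (78 : ℕ) wk5_1 i (by omega) (by omega)
  rcases Nat.lt_or_ge i 234 with h2 | h2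
  · exact allR_spec _ (156 : ℕ) (78 : ℕ) wk5_2 i (by omega) (by omega)
  rcases Nat.lt_or_ge i 312 with h3 | h3
  · exact allR_spec _ (234 : ℕ) (78 : ℕ) wk5_3 i (by omega) (by omega)
  rcases Nat.lt_or_ge i 390 with h4 | h4
  · exact allR_spec _ (312 : ℕ) (78 : ℕ) wk5_4 i (by omega) (by omega)
  rcases Nat.lt_or_ge i 468 with h5 | h5
  · exact allR_spec _ (390 : ℕ) (78 : ℕ) wk5_5 i (by omega) (by omega)
  rcases Nat.lt_or_ge i 546 with h6 | h6
  · exact allR_spec _ (468 : ℕ) (78 : ℕ) wk5_6 i (by omega) (by omega)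
  exact allR_spec _ (546 : ℕ) (6 : ℕ) wk5_7 i (by omega) (by omega)
theorem wk6 : allR (OT.ckEqW [X9, X6, X8, X6, X6, X8, X6, X6] [X12]) (nat_lit 0) (nat_lit 552) = true := by
  apply allR_of_forall
  intro i hi
  have hi : i < 552 := hi
  rcases Nat.lt_or_ge i 61 with h0 | h0
  · exact allR_spec _ (0 : ℕ) (61 : ℕ) wk6_0 i (by omega) (by omega)
  rcases Nat.lt_or_ge i 122 with h1 | h1
  · exact allR_spec _ (61 : ℕ) (61 : ℕ) wk6_1 i (by omega) (by omega)
  rcases Nat.lt_or_ge i 183 with h2 | h2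
  · exact allR_spec _ (122 : ℕ) (61 : ℕ) wk6_2 i (by omega) (by omega)
  rcases Nat.lt_or_ge i 244 with h3 | h3
  · exact allR_spec _ (183 : ℕ) (61 : ℕ) wk6_3 i (by omega) (by omega)
  rcases Nat.lt_or_ge i 305 with h4 | h4
  · exact allR_spec _ (244 : ℕ) (61 : ℕ) wk6_4 i (by omega) (by omega)
  rcases Nat.lt_or_ge i 366 with h5 | h5
  · exact allR_spec _ (305 : ℕ) (61 : ℕ) wk6_5 i (by omega) (by omega)
  rcases Nat.lt_or_ge i 427 with h6 | h6
  · exact allR_spec _ (366 : ℕ) (61 : ℕ) wk6_6 i (by omega) (by omega)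
  rcases Nat.lt_or_ge i 488 with h7 | h7
  · exact allR_spec _ (427 : ℕ) (61 : ℕ) wk6_7 i (by omega) (by omega)
  rcases Nat.lt_or_ge i 549 with h8 | h8
  · exact allR_spec _ (488 : ℕ) (61 : ℕ) wk6_8 i (by omega) (by omega)
  exact allR_spec _ (549 : ℕ) (3 : ℕ) wk6_9 i (by omega) (by omega)
theorem wk7 : allR (OT.ckEqW [X11, X13, X13, X13, X13, X11] [X14]) (nat_lit 0) (nat_lit 552) = true := by
  apply allR_of_forall
  intro i hi
  have hi : i < 552 := hi
  rcases Nat.lt_or_ge i 78 with h0 | h0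
  · exact allR_spec _ (0 : ℕ) (78 : ℕ) wk7_0 i (by omega) (by omega)
  rcases Nat.lt_or_ge i 156 with h1 | h1
  · exact allR_spec _ (78 : ℕ) (78 : ℕ) wk7_1 i (by omega) (by omega)
  rcases Nat.lt_or_ge i 234 with h2 | h2
  · exact allR_spec _ (156 : ℕ) (78 : ℕ) wk7_2 i (by omega) (by omega)
  rcases Nat.lt_or_ge i 312 with h3 | h3
  · exact allR_spec _ (234 : ℕ) (78 : ℕ) wk7_3 i (by omega) (by omega)
  rcases Nat.lt_or_ge i 390 with h4 | h4
  · exact allR_spec _ (312 : ℕ) (78 : ℕ) wk7_4 i (by omega) (by omega)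
  rcases Nat.lt_or_ge i 468 with h5 | h5
  · exact allR_spec _ (390 : ℕ) (78 : ℕ) wk7_5 i (by omega) (by omega)
  rcases Nat.lt_or_ge i 546 with h6 | h6
  · exact allR_spec _ (468 : ℕ) (78 : ℕ) wk7_6 i (by omega) (by omega)
  exact allR_spec _ (546 : ℕ) (6 : ℕ) wk7_7 i (by omega) (by omega)
theorem wk8 : allR (OT.ckEqW [X10, X10, X13, X11, X11, X13, X13] [X16]) (nat_lit 0) (nat_lit 552) = true := by
  apply allR_of_forall
  intro i hi
  have hi : i < 552 := hi
  rcases Nat.lt_or_ge i 69 with h0 | h0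
  · exact allR_spec _ (0 : ℕ) (69 : ℕ) wk8_0 i (by omega) (by omega)
  rcases Nat.lt_or_ge i 138 with h1 | h1
  · exact allR_spec _ (69 : ℕ) (69 : ℕ) wk8_1 i (by omega) (by omega)
  rcases Nat.lt_or_ge i 207 with h2 | h2
  · exact allR_spec _ (138 : ℕ) (69 : ℕ) wk8_2 i (by omega) (by omega)
  rcases Nat.lt_or_ge i 276 with h3 | h3
  · exact allR_spec _ (207 : ℕ) (69 : ℕ) wk8_3 i (by omega) (by omega)
  rcases Nat.lt_or_ge i 345 with h4 | h4
  · exact allR_spec _ (276 : ℕ) (69 : ℕ) wk8_4 i (by omega) (by omega)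
  rcases Nat.lt_or_ge i 414 with h5 | h5
  · exact allR_spec _ (345 : ℕ) (69 : ℕ) wk8_5 i (by omega) (by omega)
  rcases Nat.lt_or_ge i 483 with h6 | h6
  · exact allR_spec _ (414 : ℕ) (69 : ℕ) wk8_6 i (by omega) (by omega)
  exact allR_spec _ (483 : ℕ) (69 : ℕ) wk8_7 i (by omega) (by omega)
theorem wk9 : allR (OT.ckEqW [X12, X12, X11, X11, X12, X10, X13, X13, X11, X12, X11] [X18]) (nat_lit 0) (nat_lit 552) = true := by
  apply allR_of_forall
  intro i hi
  have hi : i < 552 := hi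
  rcases Nat.lt_or_ge i 46 with h0 | h0
  · exact allR_spec _ (0 : ℕ) (46 : ℕ) wk9_0 i (by omega) (by omega)
  rcases Nat.lt_or_ge i 92 with h1 | h1
  · exact allR_spec _ (46 : ℕ) (46 : ℕ) wk9_1 i (by omega) (by omega)
  rcases Nat.lt_or_ge i 138 with h2 | h2
  · exact allR_spec _ (92 : ℕ) (46 : ℕ) wk9_2 i (by omega) (by omega)
  rcases Nat.lt_or_ge i 184 with h3 | h3
  · exact allR_spec _ (138 : ℕ) (46 : ℕ) wk9_3 i (by omega) (by omega)
  rcases Nat.lt_or_ge i 230 with h4 | h4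
  · exact allR_spec _ (184 : ℕ) (46 : ℕ) wk9_4 i (by omega) (by omega)
  rcases Nat.lt_or_ge i 276 with h5 | h5
  · exact allR_spec _ (230 : ℕ) (46 : ℕ) wk9_5 i (by omega) (by omega)
  rcases Nat.lt_or_ge i 322 with h6 | h6
  · exact allR_spec _ (276 : ℕ) (46 : ℕ) wk9_6 i (by omega) (by omega)
  rcases Nat.lt_or_ge i 368 with h7 | h7
  · exact allR_spec _ (322 : ℕ) (46 : ℕ) wk9_7 i (by omega) (by omega)
  rcases Nat.lt_or_ge i 414 with h8 | h8
  · exact allR_spec _ (368 : ℕ) (46 : ℕ) wk9_8 i (by omega) (by omega)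
  rcases Nat.lt_or_ge i 460 with h9 | h9
  · exact allR_spec _ (414 : ℕ) (46 : ℕ) wk9_9 i (by omega) (by omega)
  rcases Nat.lt_or_ge i 506 with h10 | h10
  · exact allR_spec _ (460 : ℕ) (46 : ℕ) wk9_10 i (by omega) (by omega)
  exact allR_spec _ (506 : ℕ) (46 : ℕ) wk9_11 i (by omega) (by omega)
theorem wk10 : allR (OT.ckEqW [X19, X17, X14, X19, X14, X17] [X20]) (nat_lit 0) (nat_lit 552) = true := by
  apply allR_of_forall
  intro i hi
  have hi : i < 552 := hi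
  rcases Nat.lt_or_ge i 78 with h0 | h0
  · exact allR_spec _ (0 : ℕ) (78 : ℕ) wk10_0 i (by omega) (by omega)
  rcases Nat.lt_or_ge i 156 with h1 | h1
  · exact allR_spec _ (78 : ℕ) (78 : ℕ) wk10_1 i (by omega) (by omega)
  rcases Nat.lt_or_ge i 234 with h2 | h2
  · exact allR_spec _ (156 : ℕ) (78 : ℕ) wk10_2 i (by omega) (by omega)
  rcases Nat.lt_or_ge i 312 with h3 | h3
  · exact allR_spec _ (234 : ℕ) (78 : ℕ) wk10_3 i (by omega) (by omega)
  rcases Nat.lt_or_ge i 390 with h4 | h4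
  · exact allR_spec _ (312 : ℕ) (78 : ℕ) wk10_4 i (by omega) (by omega)
  rcases Nat.lt_or_ge i 468 with h5 | h5
  · exact allR_spec _ (390 : ℕ) (78 : ℕ) wk10_5 i (by omega) (by omega)
  rcases Nat.lt_or_ge i 546 with h6 | h6
  · exact allR_spec _ (468 : ℕ) (78 : ℕ) wk10_6 i (by omega) (by omega)
  exact allR_spec _ (546 : ℕ) (6 : ℕ) wk10_7 i (by omega) (by omega)
theorem wk11 : allR (OT.ckEqW [X21, X18, X14, X16, X15, X18, X11, X13, X11, X12, X8, X7, X9, X9, X7, X4, X3, X5, X2, X0, T2, X1, T0, X0, X0] [X22]) (nat_lit 0) (nat_lit 552) = true := by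
  apply allR_of_forall
  intro i hi
  have hi : i < 552 := hi
  rcases Nat.lt_or_ge i 21 with h0 | h0
  · exact allR_spec _ (0 : ℕ) (21 : ℕ) wk11_0 i (by omega) (by omega)
  rcases Nat.lt_or_ge i 42 with h1 | h1
  · exact allR_spec _ (21 : ℕ) (21 : ℕ) wk11_1 i (by omega) (by omega)
  rcases Nat.lt_or_ge i 63 with h2 | h2
  · exact allR_spec _ (42 : ℕ) (21 : ℕ) wk11_2 i (by omega) (by omega)
  rcases Nat.lt_or_ge i 84 with h3 | h3
  · exact allR_spec _ (63 : ℕ) (21 : ℕ) wk11_3 i (by omega) (by omega)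
  rcases Nat.lt_or_ge i 105 with h4 | h4
  · exact allR_spec _ (84 : ℕ) (21 : ℕ) wk11_4 i (by omega) (by omega)
  rcases Nat.lt_or_ge i 126 with h5 | h5
  · exact allR_spec _ (105 : ℕ) (21 : ℕ) wk11_5 i (by omega) (by omega)
  rcases Nat.lt_or_ge i 147 with h6 | h6
  · exact allR_spec _ (126 : ℕ) (21 : ℕ) wk11_6 i (by omega) (by omega)
  rcases Nat.lt_or_ge i 168 with h7 | h7
  · exact allR_spec _ (147 : ℕ) (21 : ℕ) wk11_7 i (by omega) (by omega)
  rcases Nat.lt_or_ge i 189 with h8 | h8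
  · exact allR_spec _ (168 : ℕ) (21 : ℕ) wk11_8 i (by omega) (by omega)
  rcases Nat.lt_or_ge i 210 with h9 | h9
  · exact allR_spec _ (189 : ℕ) (21 : ℕ) wk11_9 i (by omega) (by omega)
  rcases Nat.lt_or_ge i 231 with h10 | h10
  · exact allR_spec _ (210 : ℕ) (21 : ℕ) wk11_10 i (by omega) (by omega)
  rcases Nat.lt_or_ge i 252 with h11 | h11
  · exact allR_spec _ (231 : ℕ) (21 : ℕ) wk11_11 i (by omega) (by omega)
  rcases Nat.lt_or_ge i 273 with h12 | h12
  · exact allR_spec _ (252 : ℕ) (21 : ℕ) wk11_12 i (by omega) (by omega)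
  rcases Nat.lt_or_ge i 294 with h13 | h13
  · exact allR_spec _ (273 : ℕ) (21 : ℕ) wk11_13 i (by omega) (by omega)
  rcases Nat.lt_or_ge i 315 with h14 | h14
  · exact allR_spec _ (294 : ℕ) (21 : ℕ) wk11_14 i (by omega) (by omega)
  rcases Nat.lt_or_ge i 336 with h15 | h15
  · exact allR_spec _ (315 : ℕ) (21 : ℕ) wk11_15 i (by omega) (by omega)
  rcases Nat.lt_or_ge i 357 with h16 | h16
  · exact allR_spec _ (336 : ℕ) (21 : ℕ) wk11_16 i (by omega) (by omega)
  rcases Nat.lt_or_ge i 378 with h17 | h17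
  · exact allR_spec _ (357 : ℕ) (21 : ℕ) wk11_17 i (by omega) (by omega)
  rcases Nat.lt_or_ge i 399 with h18 | h18
  · exact allR_spec _ (378 : ℕ) (21 : ℕ) wk11_18 i (by omega) (by omega)
  rcases Nat.lt_or_ge i 420 with h19 | h19
  · exact allR_spec _ (399 : ℕ) (21 : ℕ) wk11_19 i (by omega) (by omega)
  rcases Nat.lt_or_ge i 441 with h20 | h20
  · exact allR_spec _ (420 : ℕ) (21 : ℕ) wk11_20 i (by omega) (by omega)
  rcases Nat.lt_or_ge i 462 with h21 | h21
  · exact allR_spec _ (441 : ℕ) (21 : ℕ) wk11_21 i (by omega) (by omega)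
  rcases Nat.lt_or_ge i 483 with h22 | h22
  · exact allR_spec _ (462 : ℕ) (21 : ℕ) wk11_22 i (by omega) (by omega)
  rcases Nat.lt_or_ge i 504 with h23 | h23
  · exact allR_spec _ (483 : ℕ) (21 : ℕ) wk11_23 i (by omega) (by omega)
  rcases Nat.lt_or_ge i 525 with h24 | h24
  · exact allR_spec _ (504 : ℕ) (21 : ℕ) wk11_24 i (by omega) (by omega)
  rcases Nat.lt_or_ge i 546 with h25 | h25
  · exact allR_spec _ (525 : ℕ) (21 : ℕ) wk11_25 i (by omega) (by omega)
  exact allR_spec _ (546 : ℕ) (6 : ℕ) wk11_26 i (by omega) (by omega)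
theorem wk12 : allR (OT.ckEqW [X21, X15, X16, X14, X18, X13, X10, X10, X8, X8, X6, X2, X5, X3, X5, X2, X1, T1, X0, T2, T1] [X24]) (nat_lit 0) (nat_lit 552) = true := by
  apply allR_of_forall
  intro i hi
  have hi : i < 552 := hi
  rcases Nat.lt_or_ge i 25 with h0 | h0
  · exact allR_spec _ (0 : ℕ) (25 : ℕ) wk12_0 i (by omega) (by omega)
  rcases Nat.lt_or_ge i 50 with h1 | h1
  · exact allR_spec _ (25 : ℕ) (25 : ℕ) wk12_1 i (by omega) (by omega)
  rcases Nat.lt_or_ge i 75 with h2 | h2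
  · exact allR_spec _ (50 : ℕ) (25 : ℕ) wk12_2 i (by omega) (by omega)
  rcases Nat.lt_or_ge i 100 with h3 | h3
  · exact allR_spec _ (75 : ℕ) (25 : ℕ) wk12_3 i (by omega) (by omega)
  rcases Nat.lt_or_ge i 125 with h4 | h4
  · exact allR_spec _ (100 : ℕ) (25 : ℕ) wk12_4 i (by omega) (by omega)
  rcases Nat.lt_or_ge i 150 with h5 | h5
  · exact allR_spec _ (125 : ℕ) (25 : ℕ) wk12_5 i (by omega) (by omega)
  rcases Nat.lt_or_ge i 175 with h6 | h6
  · exact allR_spec _ (150 : ℕ) (25 : ℕ) wk12_6 i (by omega) (by omega)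
  rcases Nat.lt_or_ge i 200 with h7 | h7
  · exact allR_spec _ (175 : ℕ) (25 : ℕ) wk12_7 i (by omega) (by omega)
  rcases Nat.lt_or_ge i 225 with h8 | h8
  · exact allR_spec _ (200 : ℕ) (25 : ℕ) wk12_8 i (by omega) (by omega)
  rcases Nat.lt_or_ge i 250 with h9 | h9
  · exact allR_spec _ (225 : ℕ) (25 : ℕ) wk12_9 i (by omega) (by omega)
  rcases Nat.lt_or_ge i 275 with h10 | h10
  · exact allR_spec _ (250 : ℕ) (25 : ℕ) wk12_10 i (by omega) (by omega)
  rcases Nat.lt_or_ge i 300 with h11 | h11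
  · exact allR_spec _ (275 : ℕ) (25 : ℕ) wk12_11 i (by omega) (by omega)
  rcases Nat.lt_or_ge i 325 with h12 | h12
  · exact allR_spec _ (300 : ℕ) (25 : ℕ) wk12_12 i (by omega) (by omega)
  rcases Nat.lt_or_ge i 350 with h13 | h13
  · exact allR_spec _ (325 : ℕ) (25 : ℕ) wk12_13 i (by omega) (by omega)
  rcases Nat.lt_or_ge i 375 with h14 | h14
  · exact allR_spec _ (350 : ℕ) (25 : ℕ) wk12_14 i (by omega) (by omega)
  rcases Nat.lt_or_ge i 400 with h15 | h15
  · exact allR_spec _ (375 : ℕ) (25 : ℕ) wk12_15 i (by omega) (by omega)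
  rcases Nat.lt_or_ge i 425 with h16 | h16
  · exact allR_spec _ (400 : ℕ) (25 : ℕ) wk12_16 i (by omega) (by omega)
  rcases Nat.lt_or_ge i 450 with h17 | h17
  · exact allR_spec _ (425 : ℕ) (25 : ℕ) wk12_17 i (by omega) (by omega)
  rcases Nat.lt_or_ge i 475 with h18 | h18
  · exact allR_spec _ (450 : ℕ) (25 : ℕ) wk12_18 i (by omega) (by omega)
  rcases Nat.lt_or_ge i 500 with h19 | h19
  · exact allR_spec _ (475 : ℕ) (25 : ℕ) wk12_19 i (by omega) (by omega)
  rcases Nat.lt_or_ge i 525 with h20 | h20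
  · exact allR_spec _ (500 : ℕ) (25 : ℕ) wk12_20 i (by omega) (by omega)
  rcases Nat.lt_or_ge i 550 with h21 | h21
  · exact allR_spec _ (525 : ℕ) (25 : ℕ) wk12_21 i (by omega) (by omega)
  exact allR_spec _ (550 : ℕ) (2 : ℕ) wk12_22 i (by omega) (by omega)
theorem wk13 : allR (OT.ckEqW [X22] [X26]) (nat_lit 0) (nat_lit 552) = true := by
  apply allR_of_forall
  intro i hi
  have hi : i < 552 := hi
  rcases Nat.lt_or_ge i 276 with h0 | h0
  · exact allR_spec _ (0 : ℕ) (276 : ℕ) wk13_0 i (by omega) (by omega)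
  exact allR_spec _ (276 : ℕ) (276 : ℕ) wk13_1 i (by omega) (by omega)
theorem wk14 : allR (OT.ckEqW [X22, X22, X1, X23, X0, X25, X22, X1] [X28]) (nat_lit 0) (nat_lit 552) = true := by
  apply allR_of_forall
  intro i hi
  have hi : i < 552 := hi
  rcases Nat.lt_or_ge i 61 with h0 | h0
  · exact allR_spec _ (0 : ℕ) (61 : ℕ) wk14_0 i (by omega) (by omega)
  rcases Nat.lt_or_ge i 122 with h1 | h1
  · exact allR_spec _ (61 : ℕ) (61 : ℕ) wk14_1 i (by omega) (by omega)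
  rcases Nat.lt_or_ge i 183 with h2 | h2
  · exact allR_spec _ (122 : ℕ) (61 : ℕ) wk14_2 i (by omega) (by omega)
  rcases Nat.lt_or_ge i 244 with h3 | h3
  · exact allR_spec _ (183 : ℕ) (61 : ℕ) wk14_3 i (by omega) (by omega)
  rcases Nat.lt_or_ge i 305 with h4 | h4
  · exact allR_spec _ (244 : ℕ) (61 : ℕ) wk14_4 i (by omega) (by omega)
  rcases Nat.lt_or_ge i 366 with h5 | h5
  · exact allR_spec _ (305 : ℕ) (61 : ℕ) wk14_5 i (by omega) (by omega)
  rcases Nat.lt_or_ge i 427 with h6 | h6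
  · exact allR_spec _ (366 : ℕ) (61 : ℕ) wk14_6 i (by omega) (by omega)
  rcases Nat.lt_or_ge i 488 with h7 | h7
  · exact allR_spec _ (427 : ℕ) (61 : ℕ) wk14_7 i (by omega) (by omega)
  rcases Nat.lt_or_ge i 549 with h8 | h8
  · exact allR_spec _ (488 : ℕ) (61 : ℕ) wk14_8 i (by omega) (by omega)
  exact allR_spec _ (549 : ℕ) (3 : ℕ) wk14_9 i (by omega) (by omega)
theorem wk15 : allR (OT.ckEqW [X0, X23, X25, X22, X22, X25, X1, X1, X25, X1, X25] [X30]) (nat_lit 0) (nat_lit 552) = true := by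
  apply allR_of_forall
  intro i hi
  have hi : i < 552 := hi
  rcases Nat.lt_or_ge i 46 with h0 | h0
  · exact allR_spec _ (0 : ℕ) (46 : ℕ) wk15_0 i (by omega) (by omega)
  rcases Nat.lt_or_ge i 92 with h1 | h1
  · exact allR_spec _ (46 : ℕ) (46 : ℕ) wk15_1 i (by omega) (by omega)
  rcases Nat.lt_or_ge i 138 with h2 | h2
  · exact allR_spec _ (92 : ℕ) (46 : ℕ) wk15_2 i (by omega) (by omega)
  rcases Nat.lt_or_ge i 184 with h3 | h3
  · exact allR_spec _ (138 : ℕ) (46 : ℕ) wk15_3 i (by omega) (by omega)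
  rcases Nat.lt_or_ge i 230 with h4 | h4
  · exact allR_spec _ (184 : ℕ) (46 : ℕ) wk15_4 i (by omega) (by omega)
  rcases Nat.lt_or_ge i 276 with h5 | h5
  · exact allR_spec _ (230 : ℕ) (46 : ℕ) wk15_5 i (by omega) (by omega)
  rcases Nat.lt_or_ge i 322 with h6 | h6
  · exact allR_spec _ (276 : ℕ) (46 : ℕ) wk15_6 i (by omega) (by omega)
  rcases Nat.lt_or_ge i 368 with h7 | h7
  · exact allR_spec _ (322 : ℕ) (46 : ℕ) wk15_7 i (by omega) (by omega)
  rcases Nat.lt_or_ge i 414 with h8 | h8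
  · exact allR_spec _ (368 : ℕ) (46 : ℕ) wk15_8 i (by omega) (by omega)
  rcases Nat.lt_or_ge i 460 with h9 | h9
  · exact allR_spec _ (414 : ℕ) (46 : ℕ) wk15_9 i (by omega) (by omega)
  rcases Nat.lt_or_ge i 506 with h10 | h10
  · exact allR_spec _ (460 : ℕ) (46 : ℕ) wk15_10 i (by omega) (by omega)
  exact allR_spec _ (506 : ℕ) (46 : ℕ) wk15_11 i (by omega) (by omega)
theorem wk16 : allR (OT.ckEqW [X30, X30, X29, X29, X30, X28, X28, X31, X31, X29] [X32]) (nat_lit 0) (nat_lit 552) = true := by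
  apply allR_of_forall
  intro i hi
  have hi : i < 552 := hi
  rcases Nat.lt_or_ge i 50 with h0 | h0
  · exact allR_spec _ (0 : ℕ) (50 : ℕ) wk16_0 i (by omega) (by omega)
  rcases Nat.lt_or_ge i 100 with h1 | h1
  · exact allR_spec _ (50 : ℕ) (50 : ℕ) wk16_1 i (by omega) (by omega)
  rcases Nat.lt_or_ge i 150 with h2 | h2
  · exact allR_spec _ (100 : ℕ) (50 : ℕ) wk16_2 i (by omega) (by omega)
  rcases Nat.lt_or_ge i 200 with h3 | h3
  · exact allR_spec _ (150 : ℕ) (50 : ℕ) wk16_3 i (by omega) (by omega)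
  rcases Nat.lt_or_ge i 250 with h4 | h4
  · exact allR_spec _ (200 : ℕ) (50 : ℕ) wk16_4 i (by omega) (by omega)
  rcases Nat.lt_or_ge i 300 with h5 | h5
  · exact allR_spec _ (250 : ℕ) (50 : ℕ) wk16_5 i (by omega) (by omega)
  rcases Nat.lt_or_ge i 350 with h6 | h6
  · exact allR_spec _ (300 : ℕ) (50 : ℕ) wk16_6 i (by omega) (by omega)
  rcases Nat.lt_or_ge i 400 with h7 | h7
  · exact allR_spec _ (350 : ℕ) (50 : ℕ) wk16_7 i (by omega) (by omega)
  rcases Nat.lt_or_ge i 450 with h8 | h8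
  · exact allR_spec _ (400 : ℕ) (50 : ℕ) wk16_8 i (by omega) (by omega)
  rcases Nat.lt_or_ge i 500 with h9 | h9
  · exact allR_spec _ (450 : ℕ) (50 : ℕ) wk16_9 i (by omega) (by omega)
  rcases Nat.lt_or_ge i 550 with h10 | h10
  · exact allR_spec _ (500 : ℕ) (50 : ℕ) wk16_10 i (by omega) (by omega)
  exact allR_spec _ (550 : ℕ) (2 : ℕ) wk16_11 i (by omega) (by omega)
theorem wk17 : allR (OT.ckEqW [X30, X30, X29, X31, X31, X28, X31, X31, X31, X31, X28, X28, X31, X29] [X34]) (nat_lit 0) (nat_lit 552) = true := by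
  apply allR_of_forall
  intro i hi
  have hi : i < 552 := hi
  rcases Nat.lt_or_ge i 36 with h0 | h0
  · exact allR_spec _ (0 : ℕ) (36 : ℕ) wk17_0 i (by omega) (by omega)
  rcases Nat.lt_or_ge i 72 with h1 | h1
  · exact allR_spec _ (36 : ℕ) (36 : ℕ) wk17_1 i (by omega) (by omega)
  rcases Nat.lt_or_ge i 108 with h2 | h2
  · exact allR_spec _ (72 : ℕ) (36 : ℕ) wk17_2 i (by omega) (by omega)
  rcases Nat.lt_or_ge i 144 with h3 | h3
  · exact allR_spec _ (108 : ℕ) (36 : ℕ) wk17_3 i (by omega) (by omega)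
  rcases Nat.lt_or_ge i 180 with h4 | h4
  · exact allR_spec _ (144 : ℕ) (36 : ℕ) wk17_4 i (by omega) (by omega)
  rcases Nat.lt_or_ge i 216 with h5 | h5
  · exact allR_spec _ (180 : ℕ) (36 : ℕ) wk17_5 i (by omega) (by omega)
  rcases Nat.lt_or_ge i 252 with h6 | h6
  · exact allR_spec _ (216 : ℕ) (36 : ℕ) wk17_6 i (by omega) (by omega)
  rcases Nat.lt_or_ge i 288 with h7 | h7
  · exact allR_spec _ (252 : ℕ) (36 : ℕ) wk17_7 i (by omega) (by omega)
  rcases Nat.lt_or_ge i 324 with h8 | h8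
  · exact allR_spec _ (288 : ℕ) (36 : ℕ) wk17_8 i (by omega) (by omega)
  rcases Nat.lt_or_ge i 360 with h9 | h9
  · exact allR_spec _ (324 : ℕ) (36 : ℕ) wk17_9 i (by omega) (by omega)
  rcases Nat.lt_or_ge i 396 with h10 | h10
  · exact allR_spec _ (360 : ℕ) (36 : ℕ) wk17_10 i (by omega) (by omega)
  rcases Nat.lt_or_ge i 432 with h11 | h11
  · exact allR_spec _ (396 : ℕ) (36 : ℕ) wk17_11 i (by omega) (by omega)
  rcases Nat.lt_or_ge i 468 with h12 | h12
  · exact allR_spec _ (432 : ℕ) (36 : ℕ) wk17_12 i (by omega) (by omega)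
  rcases Nat.lt_or_ge i 504 with h13 | h13
  · exact allR_spec _ (468 : ℕ) (36 : ℕ) wk17_13 i (by omega) (by omega)
  rcases Nat.lt_or_ge i 540 with h14 | h14
  · exact allR_spec _ (504 : ℕ) (36 : ℕ) wk17_14 i (by omega) (by omega)
  exact allR_spec _ (540 : ℕ) (12 : ℕ) wk17_15 i (by omega) (by omega)
theorem wk18 : allR (OT.ckEqW [X32, X35, X32, X32, X32] [X36]) (nat_lit 0) (nat_lit 552) = true := by
  apply allR_of_forall
  intro i hi
  have hi : i < 552 := hi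
  rcases Nat.lt_or_ge i 92 with h0 | h0
  · exact allR_spec _ (0 : ℕ) (92 : ℕ) wk18_0 i (by omega) (by omega)
  rcases Nat.lt_or_ge i 184 with h1 | h1
  · exact allR_spec _ (92 : ℕ) (92 : ℕ) wk18_1 i (by omega) (by omega)
  rcases Nat.lt_or_ge i 276 with h2 | h2
  · exact allR_spec _ (184 : ℕ) (92 : ℕ) wk18_2 i (by omega) (by omega)
  rcases Nat.lt_or_ge i 368 with h3 | h3
  · exact allR_spec _ (276 : ℕ) (92 : ℕ) wk18_3 i (by omega) (by omega)
  rcases Nat.lt_or_ge i 460 with h4 | h4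
  · exact allR_spec _ (368 : ℕ) (92 : ℕ) wk18_4 i (by omega) (by omega)
  exact allR_spec _ (460 : ℕ) (92 : ℕ) wk18_5 i (by omega) (by omega)
theorem wk19 : allR (OT.ckEqW [X35, X32, X32, X32, X34, X34, X32] [X38]) (nat_lit 0) (nat_lit 552) = true := by
  apply allR_of_forall
  intro i hi
  have hi : i < 552 := hi
  rcases Nat.lt_or_ge i 69 with h0 | h0
  · exact allR_spec _ (0 : ℕ) (69 : ℕ) wk19_0 i (by omega) (by omega)
  rcases Nat.lt_or_ge i 138 with h1 | h1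
  · exact allR_spec _ (69 : ℕ) (69 : ℕ) wk19_1 i (by omega) (by omega)
  rcases Nat.lt_or_ge i 207 with h2 | h2
  · exact allR_spec _ (138 : ℕ) (69 : ℕ) wk19_2 i (by omega) (by omega)
  rcases Nat.lt_or_ge i 276 with h3 | h3
  · exact allR_spec _ (207 : ℕ) (69 : ℕ) wk19_3 i (by omega) (by omega)
  rcases Nat.lt_or_ge i 345 with h4 | h4
  · exact allR_spec _ (276 : ℕ) (69 : ℕ) wk19_4 i (by omega) (by omega)
  rcases Nat.lt_or_ge i 414 with h5 | h5
  · exact allR_spec _ (345 : ℕ) (69 : ℕ) wk19_5 i (by omega) (by omega)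
  rcases Nat.lt_or_ge i 483 with h6 | h6
  · exact allR_spec _ (414 : ℕ) (69 : ℕ) wk19_6 i (by omega) (by omega)
  exact allR_spec _ (483 : ℕ) (69 : ℕ) wk19_7 i (by omega) (by omega)
theorem wk20 : allR (OT.ckEqW [X37, X39, X37, X37, X37, X37] [X40]) (nat_lit 0) (nat_lit 552) = true := by
  apply allR_of_forall
  intro i hi
  have hi : i < 552 := hi
  rcases Nat.lt_or_ge i 78 with h0 | h0
  · exact allR_spec _ (0 : ℕ) (78 : ℕ) wk20_0 i (by omega) (by omega)
  rcases Nat.lt_or_ge i 156 with h1 | h1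
  · exact allR_spec _ (78 : ℕ) (78 : ℕ) wk20_1 i (by omega) (by omega)
  rcases Nat.lt_or_ge i 234 with h2 | h2
  · exact allR_spec _ (156 : ℕ) (78 : ℕ) wk20_2 i (by omega) (by omega)
  rcases Nat.lt_or_ge i 312 with h3 | h3
  · exact allR_spec _ (234 : ℕ) (78 : ℕ) wk20_3 i (by omega) (by omega)
  rcases Nat.lt_or_ge i 390 with h4 | h4
  · exact allR_spec _ (312 : ℕ) (78 : ℕ) wk20_4 i (by omega) (by omega)
  rcases Nat.lt_or_ge i 468 with h5 | h5
  · exact allR_spec _ (390 : ℕ) (78 : ℕ) wk20_5 i (by omega) (by omega)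
  rcases Nat.lt_or_ge i 546 with h6 | h6
  · exact allR_spec _ (468 : ℕ) (78 : ℕ) wk20_6 i (by omega) (by omega)
  exact allR_spec _ (546 : ℕ) (6 : ℕ) wk20_7 i (by omega) (by omega)
theorem wk21 : allR (OT.ckEqW [X37, X38, X37, X37] [X42]) (nat_lit 0) (nat_lit 552) = true := by
  apply allR_of_forall
  intro i hi
  have hi : i < 552 := hi
  rcases Nat.lt_or_ge i 110 with h0 | h0
  · exact allR_spec _ (0 : ℕ) (110 : ℕ) wk21_0 i (by omega) (by omega)
  rcases Nat.lt_or_ge i 220 with h1 | h1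
  · exact allR_spec _ (110 : ℕ) (110 : ℕ) wk21_1 i (by omega) (by omega)
  rcases Nat.lt_or_ge i 330 with h2 | h2
  · exact allR_spec _ (220 : ℕ) (110 : ℕ) wk21_2 i (by omega) (by omega)
  rcases Nat.lt_or_ge i 440 with h3 | h3
  · exact allR_spec _ (330 : ℕ) (110 : ℕ) wk21_3 i (by omega) (by omega)
  rcases Nat.lt_or_ge i 550 with h4 | h4
  · exact allR_spec _ (440 : ℕ) (110 : ℕ) wk21_4 i (by omega) (by omega)
  exact allR_spec _ (550 : ℕ) (2 : ℕ) wk21_5 i (by omega) (by omega)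
theorem wk22 : allR (OT.ckEqW [X40, X43, X43, X41] [X44]) (nat_lit 0) (nat_lit 552) = true := by
  apply allR_of_forall
  intro i hi
  have hi : i < 552 := hi
  rcases Nat.lt_or_ge i 110 with h0 | h0
  · exact allR_spec _ (0 : ℕ) (110 : ℕ) wk22_0 i (by omega) (by omega)
  rcases Nat.lt_or_ge i 220 with h1 | h1
  · exact allR_spec _ (110 : ℕ) (110 : ℕ) wk22_1 i (by omega) (by omega)
  rcases Nat.lt_or_ge i 330 with h2 | h2
  · exact allR_spec _ (220 : ℕ) (110 : ℕ) wk22_2 i (by omega) (by omega)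
  rcases Nat.lt_or_ge i 440 with h3 | h3
  · exact allR_spec _ (330 : ℕ) (110 : ℕ) wk22_3 i (by omega) (by omega)
  rcases Nat.lt_or_ge i 550 with h4 | h4
  · exact allR_spec _ (440 : ℕ) (110 : ℕ) wk22_4 i (by omega) (by omega)
  exact allR_spec _ (550 : ℕ) (2 : ℕ) wk22_5 i (by omega) (by omega)
theorem wk23 : allR (OT.ckEqW [X43, X40, X43, X43, X41, X41] [X46]) (nat_lit 0) (nat_lit 552) = true := by
  apply allR_of_forall
  intro i hi
  have hi : i < 552 := hi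
  rcases Nat.lt_or_ge i 78 with h0 | h0
  · exact allR_spec _ (0 : ℕ) (78 : ℕ) wk23_0 i (by omega) (by omega)
  rcases Nat.lt_or_ge i 156 with h1 | h1
  · exact allR_spec _ (78 : ℕ) (78 : ℕ) wk23_1 i (by omega) (by omega)
  rcases Nat.lt_or_ge i 234 with h2 | h2
  · exact allR_spec _ (156 : ℕ) (78 : ℕ) wk23_2 i (by omega) (by omega)
  rcases Nat.lt_or_ge i 312 with h3 | h3
  · exact allR_spec _ (234 : ℕ) (78 : ℕ) wk23_3 i (by omega) (by omega)
  rcases Nat.lt_or_ge i 390 with h4 | h4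
  · exact allR_spec _ (312 : ℕ) (78 : ℕ) wk23_4 i (by omega) (by omega)
  rcases Nat.lt_or_ge i 468 with h5 | h5
  · exact allR_spec _ (390 : ℕ) (78 : ℕ) wk23_5 i (by omega) (by omega)
  rcases Nat.lt_or_ge i 546 with h6 | h6
  · exact allR_spec _ (468 : ℕ) (78 : ℕ) wk23_6 i (by omega) (by omega)
  exact allR_spec _ (546 : ℕ) (6 : ℕ) wk23_7 i (by omega) (by omega)
theorem wk24 : allR (OT.ckEqW [X24, X22, X22, X1, X23, X25, X25, X25, X1] [X48]) (nat_lit 0) (nat_lit 552) = true := by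
  apply allR_of_forall
  intro i hi
  have hi : i < 552 := hi
  rcases Nat.lt_or_ge i 55 with h0 | h0
  · exact allR_spec _ (0 : ℕ) (55 : ℕ) wk24_0 i (by omega) (by omega)
  rcases Nat.lt_or_ge i 110 with h1 | h1
  · exact allR_spec _ (55 : ℕ) (55 : ℕ) wk24_1 i (by omega) (by omega)
  rcases Nat.lt_or_ge i 165 with h2 | h2
  · exact allR_spec _ (110 : ℕ) (55 : ℕ) wk24_2 i (by omega) (by omega)
  rcases Nat.lt_or_ge i 220 with h3 | h3
  · exact allR_spec _ (165 : ℕ) (55 : ℕ) wk24_3 i (by omega) (by omega)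
  rcases Nat.lt_or_ge i 275 with h4 | h4
  · exact allR_spec _ (220 : ℕ) (55 : ℕ) wk24_4 i (by omega) (by omega)
  rcases Nat.lt_or_ge i 330 with h5 | h5
  · exact allR_spec _ (275 : ℕ) (55 : ℕ) wk24_5 i (by omega) (by omega)
  rcases Nat.lt_or_ge i 385 with h6 | h6
  · exact allR_spec _ (330 : ℕ) (55 : ℕ) wk24_6 i (by omega) (by omega)
  rcases Nat.lt_or_ge i 440 with h7 | h7
  · exact allR_spec _ (385 : ℕ) (55 : ℕ) wk24_7 i (by omega) (by omega)
  rcases Nat.lt_or_ge i 495 with h8 | h8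
  · exact allR_spec _ (440 : ℕ) (55 : ℕ) wk24_8 i (by omega) (by omega)
  rcases Nat.lt_or_ge i 550 with h9 | h9
  · exact allR_spec _ (495 : ℕ) (55 : ℕ) wk24_9 i (by omega) (by omega)
  exact allR_spec _ (550 : ℕ) (2 : ℕ) wk24_10 i (by omega) (by omega)
theorem wk25 : allR (OT.ckEqW [X0, X0, X22, X22, X25, X0] [X50]) (nat_lit 0) (nat_lit 552) = true := by
  apply allR_of_forall
  intro i hi
  have hi : i < 552 := hi
  rcases Nat.lt_or_ge i 78 with h0 | h0
  · exact allR_spec _ (0 : ℕ) (78 : ℕ) wk25_0 i (by omega) (by omega)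
  rcases Nat.lt_or_ge i 156 with h1 | h1
  · exact allR_spec _ (78 : ℕ) (78 : ℕ) wk25_1 i (by omega) (by omega)
  rcases Nat.lt_or_ge i 234 with h2 | h2
  · exact allR_spec _ (156 : ℕ) (78 : ℕ) wk25_2 i (by omega) (by omega)
  rcases Nat.lt_or_ge i 312 with h3 | h3
  · exact allR_spec _ (234 : ℕ) (78 : ℕ) wk25_3 i (by omega) (by omega)
  rcases Nat.lt_or_ge i 390 with h4 | h4
  · exact allR_spec _ (312 : ℕ) (78 : ℕ) wk25_4 i (by omega) (by omega)
  rcases Nat.lt_or_ge i 468 with h5 | h5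
  · exact allR_spec _ (390 : ℕ) (78 : ℕ) wk25_5 i (by omega) (by omega)
  rcases Nat.lt_or_ge i 546 with h6 | h6
  · exact allR_spec _ (468 : ℕ) (78 : ℕ) wk25_6 i (by omega) (by omega)
  exact allR_spec _ (546 : ℕ) (6 : ℕ) wk25_7 i (by omega) (by omega)
theorem wk26 : allR (OT.ckEqW [X49, X49, X51, X51, X51] [X52]) (nat_lit 0) (nat_lit 552) = true := by
  apply allR_of_forall
  intro i hi
  have hi : i < 552 := hi
  rcases Nat.lt_or_ge i 92 with h0 | h0
  · exact allR_spec _ (0 : ℕ) (92 : ℕ) wk26_0 i (by omega) (by omega)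
  rcases Nat.lt_or_ge i 184 with h1 | h1
  · exact allR_spec _ (92 : ℕ) (92 : ℕ) wk26_1 i (by omega) (by omega)
  rcases Nat.lt_or_ge i 276 with h2 | h2
  · exact allR_spec _ (184 : ℕ) (92 : ℕ) wk26_2 i (by omega) (by omega)
  rcases Nat.lt_or_ge i 368 with h3 | h3
  · exact allR_spec _ (276 : ℕ) (92 : ℕ) wk26_3 i (by omega) (by omega)
  rcases Nat.lt_or_ge i 460 with h4 | h4
  · exact allR_spec _ (368 : ℕ) (92 : ℕ) wk26_4 i (by omega) (by omega)
  exact allR_spec _ (460 : ℕ) (92 : ℕ) wk26_5 i (by omega) (by omega)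
theorem wk27 : allR (OT.ckEqW [X48, X50, X49, X50, X48, X50, X49, X50, X49] [X54]) (nat_lit 0) (nat_lit 552) = true := by
  apply allR_of_forall
  intro i hi
  have hi : i < 552 := hi
  rcases Nat.lt_or_ge i 55 with h0 | h0
  · exact allR_spec _ (0 : ℕ) (55 : ℕ) wk27_0 i (by omega) (by omega)
  rcases Nat.lt_or_ge i 110 with h1 | h1
  · exact allR_spec _ (55 : ℕ) (55 : ℕ) wk27_1 i (by omega) (by omega)
  rcases Nat.lt_or_ge i 165 with h2 | h2
  · exact allR_spec _ (110 : ℕ) (55 : ℕ) wk27_2 i (by omega) (by omega)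
  rcases Nat.lt_or_ge i 220 with h3 | h3
  · exact allR_spec _ (165 : ℕ) (55 : ℕ) wk27_3 i (by omega) (by omega)
  rcases Nat.lt_or_ge i 275 with h4 | h4
  · exact allR_spec _ (220 : ℕ) (55 : ℕ) wk27_4 i (by omega) (by omega)
  rcases Nat.lt_or_ge i 330 with h5 | h5
  · exact allR_spec _ (275 : ℕ) (55 : ℕ) wk27_5 i (by omega) (by omega)
  rcases Nat.lt_or_ge i 385 with h6 | h6
  · exact allR_spec _ (330 : ℕ) (55 : ℕ) wk27_6 i (by omega) (by omega)
  rcases Nat.lt_or_ge i 440 with h7 | h7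
  · exact allR_spec _ (385 : ℕ) (55 : ℕ) wk27_7 i (by omega) (by omega)
  rcases Nat.lt_or_ge i 495 with h8 | h8
  · exact allR_spec _ (440 : ℕ) (55 : ℕ) wk27_8 i (by omega) (by omega)
  rcases Nat.lt_or_ge i 550 with h9 | h9
  · exact allR_spec _ (495 : ℕ) (55 : ℕ) wk27_9 i (by omega) (by omega)
  exact allR_spec _ (550 : ℕ) (2 : ℕ) wk27_10 i (by omega) (by omega)
theorem wk28 : allR (OT.ckEqW [X55, X55, X53, X54, X52, X52, X52] [X56]) (nat_lit 0) (nat_lit 552) = true := by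
  apply allR_of_forall
  intro i hi
  have hi : i < 552 := hi
  rcases Nat.lt_or_ge i 69 with h0 | h0
  · exact allR_spec _ (0 : ℕ) (69 : ℕ) wk28_0 i (by omega) (by omega)
  rcases Nat.lt_or_ge i 138 with h1 | h1
  · exact allR_spec _ (69 : ℕ) (69 : ℕ) wk28_1 i (by omega) (by omega)
  rcases Nat.lt_or_ge i 207 with h2 | h2
  · exact allR_spec _ (138 : ℕ) (69 : ℕ) wk28_2 i (by omega) (by omega)
  rcases Nat.lt_or_ge i 276 with h3 | h3
  · exact allR_spec _ (207 : ℕ) (69 : ℕ) wk28_3 i (by omega) (by omega)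
  rcases Nat.lt_or_ge i 345 with h4 | h4
  · exact allR_spec _ (276 : ℕ) (69 : ℕ) wk28_4 i (by omega) (by omega)
  rcases Nat.lt_or_ge i 414 with h5 | h5
  · exact allR_spec _ (345 : ℕ) (69 : ℕ) wk28_5 i (by omega) (by omega)
  rcases Nat.lt_or_ge i 483 with h6 | h6
  · exact allR_spec _ (414 : ℕ) (69 : ℕ) wk28_6 i (by omega) (by omega)
  exact allR_spec _ (483 : ℕ) (69 : ℕ) wk28_7 i (by omega) (by omega)
theorem wk29 : allR (OT.ckEqW [X54, X54, X52, X52, X52, X54] [X58]) (nat_lit 0) (nat_lit 552) = true := by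
  apply allR_of_forall
  intro i hi
  have hi : i < 552 := hi
  rcases Nat.lt_or_ge i 78 with h0 | h0
  · exact allR_spec _ (0 : ℕ) (78 : ℕ) wk29_0 i (by omega) (by omega)
  rcases Nat.lt_or_ge i 156 with h1 | h1
  · exact allR_spec _ (78 : ℕ) (78 : ℕ) wk29_1 i (by omega) (by omega)
  rcases Nat.lt_or_ge i 234 with h2 | h2
  · exact allR_spec _ (156 : ℕ) (78 : ℕ) wk29_2 i (by omega) (by omega)
  rcases Nat.lt_or_ge i 312 with h3 | h3
  · exact allR_spec _ (234 : ℕ) (78 : ℕ) wk29_3 i (by omega) (by omega)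
  rcases Nat.lt_or_ge i 390 with h4 | h4
  · exact allR_spec _ (312 : ℕ) (78 : ℕ) wk29_4 i (by omega) (by omega)
  rcases Nat.lt_or_ge i 468 with h5 | h5
  · exact allR_spec _ (390 : ℕ) (78 : ℕ) wk29_5 i (by omega) (by omega)
  rcases Nat.lt_or_ge i 546 with h6 | h6
  · exact allR_spec _ (468 : ℕ) (78 : ℕ) wk29_6 i (by omega) (by omega)
  exact allR_spec _ (546 : ℕ) (6 : ℕ) wk29_7 i (by omega) (by omega)
theorem wk30 : allR (OT.ckEqW [X58, X56, X59, X56, X56, X59] [X60]) (nat_lit 0) (nat_lit 552) = true := by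
  apply allR_of_forall
  intro i hi
  have hi : i < 552 := hi
  rcases Nat.lt_or_ge i 78 with h0 | h0
  · exact allR_spec _ (0 : ℕ) (78 : ℕ) wk30_0 i (by omega) (by omega)
  rcases Nat.lt_or_ge i 156 with h1 | h1
  · exact allR_spec _ (78 : ℕ) (78 : ℕ) wk30_1 i (by omega) (by omega)
  rcases Nat.lt_or_ge i 234 with h2 | h2
  · exact allR_spec _ (156 : ℕ) (78 : ℕ) wk30_2 i (by omega) (by omega)
  rcases Nat.lt_or_ge i 312 with h3 | h3
  · exact allR_spec _ (234 : ℕ) (78 : ℕ) wk30_3 i (by omega) (by omega)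
  rcases Nat.lt_or_ge i 390 with h4 | h4
  · exact allR_spec _ (312 : ℕ) (78 : ℕ) wk30_4 i (by omega) (by omega)
  rcases Nat.lt_or_ge i 468 with h5 | h5
  · exact allR_spec _ (390 : ℕ) (78 : ℕ) wk30_5 i (by omega) (by omega)
  rcases Nat.lt_or_ge i 546 with h6 | h6
  · exact allR_spec _ (468 : ℕ) (78 : ℕ) wk30_6 i (by omega) (by omega)
  exact allR_spec _ (546 : ℕ) (6 : ℕ) wk30_7 i (by omega) (by omega)
theorem wk31 : allR (OT.ckEqW [X58, X58, X56, X56, X58, X57] [X62]) (nat_lit 0) (nat_lit 552) = true := by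
  apply allR_of_forall
  intro i hi
  have hi : i < 552 := hi
  rcases Nat.lt_or_ge i 78 with h0 | h0
  · exact allR_spec _ (0 : ℕ) (78 : ℕ) wk31_0 i (by omega) (by omega)
  rcases Nat.lt_or_ge i 156 with h1 | h1
  · exact allR_spec _ (78 : ℕ) (78 : ℕ) wk31_1 i (by omega) (by omega)
  rcases Nat.lt_or_ge i 234 with h2 | h2
  · exact allR_spec _ (156 : ℕ) (78 : ℕ) wk31_2 i (by omega) (by omega)
  rcases Nat.lt_or_ge i 312 with h3 | h3
  · exact allR_spec _ (234 : ℕ) (78 : ℕ) wk31_3 i (by omega) (by omega)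
  rcases Nat.lt_or_ge i 390 with h4 | h4
  · exact allR_spec _ (312 : ℕ) (78 : ℕ) wk31_4 i (by omega) (by omega)
  rcases Nat.lt_or_ge i 468 with h5 | h5
  · exact allR_spec _ (390 : ℕ) (78 : ℕ) wk31_5 i (by omega) (by omega)
  rcases Nat.lt_or_ge i 546 with h6 | h6
  · exact allR_spec _ (468 : ℕ) (78 : ℕ) wk31_6 i (by omega) (by omega)
  exact allR_spec _ (546 : ℕ) (6 : ℕ) wk31_7 i (by omega) (by omega)
theorem wk32 : allR (OT.ckEqW [X62] [X64]) (nat_lit 0) (nat_lit 552) = true := by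
  apply allR_of_forall
  intro i hi
  have hi : i < 552 := hi
  rcases Nat.lt_or_ge i 276 with h0 | h0
  · exact allR_spec _ (0 : ℕ) (276 : ℕ) wk32_0 i (by omega) (by omega)
  exact allR_spec _ (276 : ℕ) (276 : ℕ) wk32_1 i (by omega) (by omega)
theorem wk33 : allR (OT.ckEqW [X62, X61, X62, X60, X60, X60, X63, X63, X61, X62, X61] [X66]) (nat_lit 0) (nat_lit 552) = true := by
  apply allR_of_forall
  intro i hi
  have hi : i < 552 := hi
  rcases Nat.lt_or_ge i 46 with h0 | h0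
  · exact allR_spec _ (0 : ℕ) (46 : ℕ) wk33_0 i (by omega) (by omega)
  rcases Nat.lt_or_ge i 92 with h1 | h1
  · exact allR_spec _ (46 : ℕ) (46 : ℕ) wk33_1 i (by omega) (by omega)
  rcases Nat.lt_or_ge i 138 with h2 | h2
  · exact allR_spec _ (92 : ℕ) (46 : ℕ) wk33_2 i (by omega) (by omega)
  rcases Nat.lt_or_ge i 184 with h3 | h3
  · exact allR_spec _ (138 : ℕ) (46 : ℕ) wk33_3 i (by omega) (by omega)
  rcases Nat.lt_or_ge i 230 with h4 | h4
  · exact allR_spec _ (184 : ℕ) (46 : ℕ) wk33_4 i (by omega) (by omega)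
  rcases Nat.lt_or_ge i 276 with h5 | h5
  · exact allR_spec _ (230 : ℕ) (46 : ℕ) wk33_5 i (by omega) (by omega)
  rcases Nat.lt_or_ge i 322 with h6 | h6
  · exact allR_spec _ (276 : ℕ) (46 : ℕ) wk33_6 i (by omega) (by omega)
  rcases Nat.lt_or_ge i 368 with h7 | h7
  · exact allR_spec _ (322 : ℕ) (46 : ℕ) wk33_7 i (by omega) (by omega)
  rcases Nat.lt_or_ge i 414 with h8 | h8
  · exact allR_spec _ (368 : ℕ) (46 : ℕ) wk33_8 i (by omega) (by omega)
  rcases Nat.lt_or_ge i 460 with h9 | h9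
  · exact allR_spec _ (414 : ℕ) (46 : ℕ) wk33_9 i (by omega) (by omega)
  rcases Nat.lt_or_ge i 506 with h10 | h10
  · exact allR_spec _ (460 : ℕ) (46 : ℕ) wk33_10 i (by omega) (by omega)
  exact allR_spec _ (506 : ℕ) (46 : ℕ) wk33_11 i (by omega) (by omega)
def bws : List (List Nat) := [[0, 1, 2, 0, 1], [4, 0, 2, 1, 0, 4, 2, 3, 3, 3, 0, 3, 2, 4, 4], [4, 2, 3, 2, 3, 1, 3, 3, 1, 4, 0, 3, 2], [7, 5, 8, 5, 8, 8, 5, 7, 7], [7, 6, 6, 8, 6, 7, 6, 7, 7, 6, 6], [9, 9, 11, 10, 11, 9], [12, 9, 11, 9, 9, 11, 9, 9], [14, 16, 16, 16, 16, 14], [13, 13, 16, 14, 14, 16, 16], [15, 15, 14, 14, 15, 13, 16, 16, 14, 15, 14], [22, 20, 17, 22, 17, 20], [24, 21, 17, 19, 18, 21, 14, 16, 14, 15, 11, 10, 12, 12, 10, 7, 6, 8, 5, 3, 2, 4, 0, 3, 3], [24, 18, 19, 17, 21, 16, 13, 13, 11, 11, 9, 5, 8, 6, 8, 5, 4, 1, 3, 2, 1], [25], [25, 25, 4, 26, 3, 28, 25, 4], [3, 26, 28, 25, 25, 28, 4, 4, 28, 4, 28], [33, 33, 32, 32, 33, 31, 31, 34, 34, 32], [33,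 33, 32, 34, 34, 31, 34, 34, 34, 34, 31, 31, 34, 32], [35, 38, 35, 35, 35], [38, 35, 35, 35, 37, 37, 35], [40, 42, 40, 40, 40, 40], [40, 41, 40, 40], [43, 46, 46, 44], [46, 43, 46, 46, 44, 44], [27, 25, 25, 4, 26, 28, 28, 28, 4], [3, 3, 25, 25, 28, 3], [52, 52, 54, 54, 54], [51, 53, 52, 53, 51, 53, 52, 53, 52], [58, 58, 56, 57, 55, 55, 55], [57, 57, 55, 55, 55, 57], [61, 59, 62, 59, 59, 62], [61, 61, 59, 59, 61, 60], [65], [65, 64, 65, 63, 63, 63, 66, 66, 64, 65, 64]]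
noncomputable def T' : Nat → Nat → Nat := fun l => (@Nat.rec (fun _ => Nat → Nat) T0 (fun l _ => (@Nat.rec (fun _ => Nat → Nat) T1 (fun l _ => (@Nat.rec (fun _ => Nat → Nat) T2 (fun l _ => (@Nat.rec (fun _ => Nat → Nat) X0 (fun l _ => (@Nat.rec (fun _ => Nat → Nat) X1 (fun l _ => (@Nat.rec (fun _ => Nat → Nat) X2 (fun l _ => (@Nat.rec (fun _ => Nat → Nat) X3 (fun l _ => (@Nat.rec (fun _ => Nat → Nat) X4 (fun l _ => (@Nat.rec (fun _ => Nat → Nat) X5 (fun l _ => (@Nat.rec (fun _ => Nat → Nat) X6 (fun l _ => (@Nat.rec (fun _ => Nat → Nat) X7 (fun l _ => (@Nat.rec (fun _ => Nat → Nat) X8 (fun l _ => (@Nat.rec (fun _ => Nat → Nat) X9 (fun l _ => (@Nat.rec (fun _ => Nat → Nat) X10 (fun l _ => (@Nat.rec (fun _ => Nat → Nat) X11 (fun l _ => (@Nat.rec (fun _ => Nat → Nat) X12 (fun l _ => (@Nat.rec (fun _ => Nat → Nat) X13 (fun l _ => (@Nat.rec (fun _ => Nat → Nat) X14 (fun l _ => (@Nat.rec (fun _ => Nat → Nat) X15 (fun l _ =>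 (@Nat.rec (fun _ => Nat → Nat) X16 (fun l _ => (@Nat.rec (fun _ => Nat → Nat) X17 (fun l _ => (@Nat.rec (fun _ => Nat → Nat) X18 (fun l _ => (@Nat.rec (fun _ => Nat → Nat) X19 (fun l _ => (@Nat.rec (fun _ => Nat → Nat) X20 (fun l _ => (@Nat.rec (fun _ => Nat → Nat) X21 (fun l _ => (@Nat.rec (fun _ => Nat → Nat) X22 (fun l _ => (@Nat.rec (fun _ => Nat → Nat) X23 (fun l _ => (@Nat.rec (fun _ => Nat → Nat) X24 (fun l _ => (@Nat.rec (fun _ => Nat → Nat) X25 (fun l _ => (@Nat.rec (fun _ => Nat → Nat) X26 (fun l _ => (@Nat.rec (fun _ => Nat → Nat) X27 (fun l _ => (@Nat.rec (fun _ => Nat → Nat) X28 (fun l _ => (@Nat.rec (fun _ => Nat → Nat) X29 (fun l _ => (@Nat.rec (fun _ => Nat → Nat) X30 (fun l _ => (@Nat.rec (fun _ => Nat → Nat) X31 (fun l _ => (@Nat.rec (fun _ => Nat → Nat) X32 (fun l _ => (@Nat.rec (fun _ => Nat → Nat) X33 (fun l _ => (@Nat.rec (fun _ => Nat → Nat) X34 (fun l _ => (@Nat.rec (fun _ => Nat → Nat) X35 (fun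 l _ => (@Nat.rec (fun _ => Nat → Nat) X36 (fun l _ => (@Nat.rec (fun _ => Nat → Nat) X37 (fun l _ => (@Nat.rec (fun _ => Nat → Nat) X38 (fun l _ => (@Nat.rec (fun _ => Nat → Nat) X39 (fun l _ => (@Nat.rec (fun _ => Nat → Nat) X40 (fun l _ => (@Nat.rec (fun _ => Nat → Nat) X41 (fun l _ => (@Nat.rec (fun _ => Nat → Nat) X42 (fun l _ => (@Nat.rec (fun _ => Nat → Nat) X43 (fun l _ => (@Nat.rec (fun _ => Nat → Nat) X44 (fun l _ => (@Nat.rec (fun _ => Nat → Nat) X45 (fun l _ => (@Nat.rec (fun _ => Nat → Nat) X46 (fun l _ => (@Nat.rec (fun _ => Nat → Nat) X47 (fun l _ => (@Nat.rec (fun _ => Nat → Nat) X48 (fun l _ => (@Nat.rec (fun _ => Nat → Nat) X49 (fun l _ => (@Nat.rec (fun _ => Nat → Nat) X50 (fun l _ => (@Nat.rec (fun _ => Nat → Nat) X51 (fun l _ => (@Nat.rec (fun _ => Nat → Nat) X52 (fun l _ => (@Nat.rec (fun _ => Nat → Nat) X53 (fun l _ => (@Nat.rec (fun _ => Nat → Nat) X54 (fun l _ => (@Nat.rec (fun _ => Nat → Nat)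 X55 (fun l _ => (@Nat.rec (fun _ => Nat → Nat) X56 (fun l _ => (@Nat.rec (fun _ => Nat → Nat) X57 (fun l _ => (@Nat.rec (fun _ => Nat → Nat) X58 (fun l _ => (@Nat.rec (fun _ => Nat → Nat) X59 (fun l _ => (@Nat.rec (fun _ => Nat → Nat) X60 (fun l _ => (@Nat.rec (fun _ => Nat → Nat) X61 (fun l _ => (@Nat.rec (fun _ => Nat → Nat) X62 (fun l _ => (@Nat.rec (fun _ => Nat → Nat) X63 (fun l _ => (@Nat.rec (fun _ => Nat → Nat) X64 (fun l _ => (@Nat.rec (fun _ => Nat → Nat) X65 (fun l _ => (@Nat.rec (fun _ => Nat → Nat) X66 (fun l _ => X67) l)) l)) l)) l)) l)) l)) l)) l)) l)) l)) l)) l)) l)) l)) l)) l)) l)) l)) l)) l)) l)) l)) l)) l)) l)) l)) l)) l)) l)) l)) l)) l)) l)) l)) l)) l)) l)) l)) l)) l)) l)) l)) l)) l)) l)) l)) l)) l)) l)) l)) l)) l)) l)) l)) l)) l)) l)) l)) l)) l)) l)) l)) l)) l)) l)) l)) l)) l)) l)) l)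
def inv' : Nat → Nat := fun l => [0, 1, 2, 4, 3, 6, 5, 8, 7, 10, 9, 12, 11, 14, 13, 16, 15, 18, 17, 20, 19, 22, 21, 24, 23, 26, 25, 28, 27, 30, 29, 32, 31, 34, 33, 36, 35, 38, 37, 40, 39, 42, 41, 44, 43, 46, 45, 48, 47, 50, 49, 52, 51, 54, 53, 56, 55, 58, 57, 60, 59, 62, 61, 64, 63, 66, 65, 68, 67, 70, 69].getD l 0

theorem hTT : ∀ l < 3, T' l = Cfsg.Agent.H8.LtC3.T l := by
  intro l hl
  interval_cases l <;> rfl

theorem hii : ∀ l < 3, inv' l = Cfsg.Agent.H8.LtC3.inv l := by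
  intro l hl
  interval_cases l <;> rfl

theorem h1 : ∀ l, 3 ≤ l → l < 71 → inv' l < 71 ∧ inv' (inv' l) = l := by
  intro l h1 h2
  interval_cases l <;> decide

theorem h2 : ∀ l, 3 ≤ l → l < 71 → ∀ i < 552, T' l i < 552 ∧ T' (inv' l) (T' l i) = i := by
  intro l h1 h2 i hi
  interval_cases l
  · exact ckPerm_sound _ _ _ _ (allR_zero _ _ pk0 i hi)
  · exact ckPerm_sound _ _ _ _ (allR_zero _ _ pk1 i hi)
  · exact ckPerm_sound _ _ _ _ (allR_zero _ _ pk2 i hi)
  · exact ckPerm_sound _ _ _ _ (allR_zero _ _ pk3 i hi)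
  · exact ckPerm_sound _ _ _ _ (allR_zero _ _ pk4 i hi)
  · exact ckPerm_sound _ _ _ _ (allR_zero _ _ pk5 i hi)
  · exact ckPerm_sound _ _ _ _ (allR_zero _ _ pk6 i hi)
  · exact ckPerm_sound _ _ _ _ (allR_zero _ _ pk7 i hi)
  · exact ckPerm_sound _ _ _ _ (allR_zero _ _ pk8 i hi)
  · exact ckPerm_sound _ _ _ _ (allR_zero _ _ pk9 i hi)
  · exact ckPerm_sound _ _ _ _ (allR_zero _ _ pk10 i hi)
  · exact ckPerm_sound _ _ _ _ (allR_zero _ _ pk11 i hi)
  · exact ckPerm_sound _ _ _ _ (allR_zero _ _ pk12 i hi)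
  · exact ckPerm_sound _ _ _ _ (allR_zero _ _ pk13 i hi)
  · exact ckPerm_sound _ _ _ _ (allR_zero _ _ pk14 i hi)
  · exact ckPerm_sound _ _ _ _ (allR_zero _ _ pk15 i hi)
  · exact ckPerm_sound _ _ _ _ (allR_zero _ _ pk16 i hi)
  · exact ckPerm_sound _ _ _ _ (allR_zero _ _ pk17 i hi)
  · exact ckPerm_sound _ _ _ _ (allR_zero _ _ pk18 i hi)
  · exact ckPerm_sound _ _ _ _ (allR_zero _ _ pk19 i hi)
  · exact ckPerm_sound _ _ _ _ (allR_zero _ _ pk20 i hi)
  · exact ckPerm_sound _ _ _ _ (allR_zero _ _ pk21 i hi)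
  · exact ckPerm_sound _ _ _ _ (allR_zero _ _ pk22 i hi)
  · exact ckPerm_sound _ _ _ _ (allR_zero _ _ pk23 i hi)
  · exact ckPerm_sound _ _ _ _ (allR_zero _ _ pk24 i hi)
  · exact ckPerm_sound _ _ _ _ (allR_zero _ _ pk25 i hi)
  · exact ckPerm_sound _ _ _ _ (allR_zero _ _ pk26 i hi)
  · exact ckPerm_sound _ _ _ _ (allR_zero _ _ pk27 i hi)
  · exact ckPerm_sound _ _ _ _ (allR_zero _ _ pk28 i hi)
  · exact ckPerm_sound _ _ _ _ (allR_zero _ _ pk29 i hi)
  · exact ckPerm_sound _ _ _ _ (allR_zero _ _ pk30 i hi)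
  · exact ckPerm_sound _ _ _ _ (allR_zero _ _ pk31 i hi)
  · exact ckPerm_sound _ _ _ _ (allR_zero _ _ pk32 i hi)
  · exact ckPerm_sound _ _ _ _ (allR_zero _ _ pk33 i hi)
  · exact ckPerm_sound _ _ _ _ (allR_zero _ _ pk34 i hi)
  · exact ckPerm_sound _ _ _ _ (allR_zero _ _ pk35 i hi)
  · exact ckPerm_sound _ _ _ _ (allR_zero _ _ pk36 i hi)
  · exact ckPerm_sound _ _ _ _ (allR_zero _ _ pk37 i hi)
  · exact ckPerm_sound _ _ _ _ (allR_zero _ _ pk38 i hi)
  · exact ckPerm_sound _ _ _ _ (allR_zero _ _ pk39 i hi)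
  · exact ckPerm_sound _ _ _ _ (allR_zero _ _ pk40 i hi)
  · exact ckPerm_sound _ _ _ _ (allR_zero _ _ pk41 i hi)
  · exact ckPerm_sound _ _ _ _ (allR_zero _ _ pk42 i hi)
  · exact ckPerm_sound _ _ _ _ (allR_zero _ _ pk43 i hi)
  · exact ckPerm_sound _ _ _ _ (allR_zero _ _ pk44 i hi)
  · exact ckPerm_sound _ _ _ _ (allR_zero _ _ pk45 i hi)
  · exact ckPerm_sound _ _ _ _ (allR_zero _ _ pk46 i hi)
  · exact ckPerm_sound _ _ _ _ (allR_zero _ _ pk47 i hi)
  · exact ckPerm_sound _ _ _ _ (allR_zero _ _ pk48 i hi)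
  · exact ckPerm_sound _ _ _ _ (allR_zero _ _ pk49 i hi)
  · exact ckPerm_sound _ _ _ _ (allR_zero _ _ pk50 i hi)
  · exact ckPerm_sound _ _ _ _ (allR_zero _ _ pk51 i hi)
  · exact ckPerm_sound _ _ _ _ (allR_zero _ _ pk52 i hi)
  · exact ckPerm_sound _ _ _ _ (allR_zero _ _ pk53 i hi)
  · exact ckPerm_sound _ _ _ _ (allR_zero _ _ pk54 i hi)
  · exact ckPerm_sound _ _ _ _ (allR_zero _ _ pk55 i hi)
  · exact ckPerm_sound _ _ _ _ (allR_zero _ _ pk56 i hi)
  · exact ckPerm_sound _ _ _ _ (allR_zero _ _ pk57 i hi)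
  · exact ckPerm_sound _ _ _ _ (allR_zero _ _ pk58 i hi)
  · exact ckPerm_sound _ _ _ _ (allR_zero _ _ pk59 i hi)
  · exact ckPerm_sound _ _ _ _ (allR_zero _ _ pk60 i hi)
  · exact ckPerm_sound _ _ _ _ (allR_zero _ _ pk61 i hi)
  · exact ckPerm_sound _ _ _ _ (allR_zero _ _ pk62 i hi)
  · exact ckPerm_sound _ _ _ _ (allR_zero _ _ pk63 i hi)
  · exact ckPerm_sound _ _ _ _ (allR_zero _ _ pk64 i hi)
  · exact ckPerm_sound _ _ _ _ (allR_zero _ _ pk65 i hi)
  · exact ckPerm_sound _ _ _ _ (allR_zero _ _ pk66 i hi)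
  · exact ckPerm_sound _ _ _ _ (allR_zero _ _ pk67 i hi)

theorem tok : TableOK 552 71 T' inv' :=
  OT.tableOK_ext Cfsg.Agent.H8.LtC3.tok (by decide) hTT hii h1 h2

theorem hwb : ∀ i < bws.length, (∀ l ∈ bws.getD i [], l < 3 + 2 * i) ∧ inv' (3 + 2 * i) = 3 + 2 * i + 1 ∧
    ∀ j < 552, trN T' (bws.getD i []) j = T' (3 + 2 * i) j := by
  intro i hi
  have hl : bws.length = 34 := by decide
  rw [hl] at hi
  interval_cases i
  · exact ⟨by decide, by decide, fun j hj => OT.ckEqW_sound (T := T') [0, 1, 2, 0, 1] [3] j (allR_zero _ _ wk0 j hj)⟩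
  · exact ⟨by decide, by decide, fun j hj => OT.ckEqW_sound (T := T') [4, 0, 2, 1, 0, 4, 2, 3, 3, 3, 0, 3, 2, 4, 4] [5] j (allR_zero _ _ wk1 j hj)⟩
  · exact ⟨by decide, by decide, fun j hj => OT.ckEqW_sound (T := T') [4, 2, 3, 2, 3, 1, 3, 3, 1, 4, 0, 3, 2] [7] j (allR_zero _ _ wk2 j hj)⟩
  · exact ⟨by decide, by decide, fun j hj => OT.ckEqW_sound (T := T') [7, 5, 8, 5, 8, 8, 5, 7, 7] [9] j (allR_zero _ _ wk3 j hj)⟩
  · exact ⟨by decide, by decide, fun j hj => OT.ckEqW_sound (T := T') [7, 6, 6, 8, 6, 7, 6, 7, 7, 6, 6] [11] j (allR_zero _ _ wk4 j hj)⟩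
  · exact ⟨by decide, by decide, fun j hj => OT.ckEqW_sound (T := T') [9, 9, 11, 10, 11, 9] [13] j (allR_zero _ _ wk5 j hj)⟩
  · exact ⟨by decide, by decide, fun j hj => OT.ckEqW_sound (T := T') [12, 9, 11, 9, 9, 11, 9, 9] [15] j (allR_zero _ _ wk6 j hj)⟩
  · exact ⟨by decide, by decide, fun j hj => OT.ckEqW_sound (T := T') [14, 16, 16, 16, 16, 14] [17] j (allR_zero _ _ wk7 j hj)⟩
  · exact ⟨by decide, by decide, fun j hj => OT.ckEqW_sound (T := T') [13, 13, 16, 14, 14, 16, 16] [19] j (allR_zero _ _ wk8 j hj)⟩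
  · exact ⟨by decide, by decide, fun j hj => OT.ckEqW_sound (T := T') [15, 15, 14, 14, 15, 13, 16, 16, 14, 15, 14] [21] j (allR_zero _ _ wk9 j hj)⟩
  · exact ⟨by decide, by decide, fun j hj => OT.ckEqW_sound (T := T') [22, 20, 17, 22, 17, 20] [23] j (allR_zero _ _ wk10 j hj)⟩
  · exact ⟨by decide, by decide, fun j hj => OT.ckEqW_sound (T := T') [24, 21, 17, 19, 18, 21, 14, 16, 14, 15, 11, 10, 12, 12, 10, 7, 6, 8, 5, 3, 2, 4, 0, 3, 3] [25] j (allR_zero _ _ wk11 j hj)⟩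
  · exact ⟨by decide, by decide, fun j hj => OT.ckEqW_sound (T := T') [24, 18, 19, 17, 21, 16, 13, 13, 11, 11, 9, 5, 8, 6, 8, 5, 4, 1, 3, 2, 1] [27] j (allR_zero _ _ wk12 j hj)⟩
  · exact ⟨by decide, by decide, fun j hj => OT.ckEqW_sound (T := T') [25] [29] j (allR_zero _ _ wk13 j hj)⟩
  · exact ⟨by decide, by decide, fun j hj => OT.ckEqW_sound (T := T') [25, 25, 4, 26, 3, 28, 25, 4] [31] j (allR_zero _ _ wk14 j hj)⟩
  · exact ⟨by decide, by decide, fun j hj => OT.ckEqW_sound (T := T') [3, 26, 28, 25, 25, 28, 4, 4, 28, 4, 28] [33] j (allR_zero _ _ wk15 j hj)⟩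
  · exact ⟨by decide, by decide, fun j hj => OT.ckEqW_sound (T := T') [33, 33, 32, 32, 33, 31, 31, 34, 34, 32] [35] j (allR_zero _ _ wk16 j hj)⟩
  · exact ⟨by decide, by decide, fun j hj => OT.ckEqW_sound (T := T') [33, 33, 32, 34, 34, 31, 34, 34, 34, 34, 31, 31, 34, 32] [37] j (allR_zero _ _ wk17 j hj)⟩
  · exact ⟨by decide, by decide, fun j hj => OT.ckEqW_sound (T := T') [35, 38, 35, 35, 35] [39] j (allR_zero _ _ wk18 j hj)⟩
  · exact ⟨by decide, by decide, fun j hj => OT.ckEqW_sound (T := T') [38, 35, 35, 35, 37, 37, 35] [41] j (allR_zero _ _ wk19 j hj)⟩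
  · exact ⟨by decide, by decide, fun j hj => OT.ckEqW_sound (T := T') [40, 42, 40, 40, 40, 40] [43] j (allR_zero _ _ wk20 j hj)⟩
  · exact ⟨by decide, by decide, fun j hj => OT.ckEqW_sound (T := T') [40, 41, 40, 40] [45] j (allR_zero _ _ wk21 j hj)⟩
  · exact ⟨by decide, by decide, fun j hj => OT.ckEqW_sound (T := T') [43, 46, 46, 44] [47] j (allR_zero _ _ wk22 j hj)⟩
  · exact ⟨by decide, by decide, fun j hj => OT.ckEqW_sound (T := T') [46, 43, 46, 46, 44, 44] [49] j (allR_zero _ _ wk23 j hj)⟩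
  · exact ⟨by decide, by decide, fun j hj => OT.ckEqW_sound (T := T') [27, 25, 25, 4, 26, 28, 28, 28, 4] [51] j (allR_zero _ _ wk24 j hj)⟩
  · exact ⟨by decide, by decide, fun j hj => OT.ckEqW_sound (T := T') [3, 3, 25, 25, 28, 3] [53] j (allR_zero _ _ wk25 j hj)⟩
  · exact ⟨by decide, by decide, fun j hj => OT.ckEqW_sound (T := T') [52, 52, 54, 54, 54] [55] j (allR_zero _ _ wk26 j hj)⟩
  · exact ⟨by decide, by decide, fun j hj => OT.ckEqW_sound (T := T') [51, 53, 52, 53, 51, 53, 52, 53, 52] [57] j (allR_zero _ _ wk27 j hj)⟩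
  · exact ⟨by decide, by decide, fun j hj => OT.ckEqW_sound (T := T') [58, 58, 56, 57, 55, 55, 55] [59] j (allR_zero _ _ wk28 j hj)⟩
  · exact ⟨by decide, by decide, fun j hj => OT.ckEqW_sound (T := T') [57, 57, 55, 55, 55, 57] [61] j (allR_zero _ _ wk29 j hj)⟩
  · exact ⟨by decide, by decide, fun j hj => OT.ckEqW_sound (T := T') [61, 59, 62, 59, 59, 62] [63] j (allR_zero _ _ wk30 j hj)⟩
  · exact ⟨by decide, by decide, fun j hj => OT.ckEqW_sound (T := T') [61, 61, 59, 59, 61, 60] [65] j (allR_zero _ _ wk31 j hj)⟩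
  · exact ⟨by decide, by decide, fun j hj => OT.ckEqW_sound (T := T') [65] [67] j (allR_zero _ _ wk32 j hj)⟩
  · exact ⟨by decide, by decide, fun j hj => OT.ckEqW_sound (T := T') [65, 64, 65, 63, 63, 63, 66, 66, 64, 65, 64] [69] j (allR_zero _ _ wk33 j hj)⟩

end Cfsg.Agent.H8.Co3O
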