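import Cfsg.Agent.H8.CosetPres

set_option autoImplicit false
set_option linter.all false
set_option maxRecDepth 100000

namespace Cfsg.Agent.H8.A3t
noncomputable def E0c0 : Nat := nat_lit 0x41e6a8
noncomputable def E0 : Nat → Nat := (fun i => Nat.land (Nat.shiftRight E0c0 (Nat.mul (nat_lit 7) (Nat.land i (nat_lit 255)))) (nat_lit 127))
noncomputable def E1c0 : Nat := nat_lit 0xde04328
noncomputable def E1 : Nat → Nat := (fun i => Nat.land (Nat.shiftRight E1c0 (Nat.mul (nat_lit 7) (Nat.land i (nat_lit 255)))) (nat_lit 127))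
noncomputable def E2c0 : Nat := nat_lit 0xe738005
noncomputable def E2 : Nat → Nat := (fun i => Nat.land (Nat.shiftRight E2c0 (Nat.mul (nat_lit 7) (Nat.land i (nat_lit 255)))) (nat_lit 127))
noncomputable def Dc0 : Nat := nat_lit 0x8084100
noncomputable def D : Nat → Nat := (fun i => Nat.land (Nat.shiftRight Dc0 (Nat.mul (nat_lit 7) (Nat.land i (nat_lit 255)))) (nat_lit 127))
noncomputable def T0 : Nat → Nat := fun i => Nat.land (E0 i) (nat_lit 3)
noncomputable def T1 : Nat → Nat := fun i => Nat.land (E1 i) (nat_lit 3)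
noncomputable def T2 : Nat → Nat := fun i => Nat.land (E2 i) (nat_lit 3)
noncomputable def E : Nat → Nat → Nat := fun l => (@Nat.rec (fun _ => Nat → Nat) E0 (fun l _ => (@Nat.rec (fun _ => Nat → Nat) E1 (fun l _ => E2) l)) l)
noncomputable def T : Nat → Nat → Nat := fun l => (@Nat.rec (fun _ => Nat → Nat) T0 (fun l _ => (@Nat.rec (fun _ => Nat → Nat) T1 (fun l _ => T2) l)) l)
noncomputable def inv : Nat → Nat := fun l => l
def rels2 : List (List Nat × Nat) := [([0, 1], 3), ([0, 2], 2), ([1, 2], 3)]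
def rels : List (List Nat) := rels2.map (fun p => wpow p.1 p.2)
def relsP : List (List Nat × Nat) := [([0, 1], 3), ([0, 2], 2), ([1, 2], 3)]
def subw : List (List Nat) := [[0], [1]]
def RW0 : List (List Nat) := [[2, 0, 2]]
noncomputable def RF0 : List (List (Nat → Nat)) := [[E2, E0, E2]]
def RC0 : List Nat := [512]
def RW1 : List (List Nat) := [[0, 1, 0, 1, 0]]
noncomputable def RF1 : List (List (Nat → Nat)) := [[E0, E1, E0, E1, E0]]
def RC1 : List Nat := [2]
def RW2 : List (List Nat) := [[1, 2, 1, 2, 1], [0, 2, 0]]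
noncomputable def RF2 : List (List (Nat → Nat)) := [[E1, E2, E1, E2, E1], [E0, E2, E0]]
def RC2 : List Nat := [1026, 514]
def RW : Nat → List (List Nat) := fun l => (@Nat.rec (fun _ => List (List Nat)) RW0 (fun l _ => (@Nat.rec (fun _ => List (List Nat)) RW1 (fun l _ => RW2) l)) l)
def sp : List Nat := [0, 1]
theorem ck0 : allR (ckE (nat_lit 4) (nat_lit 3) (nat_lit 2) (nat_lit 7) (nat_lit 5) (nat_lit 0) D E0 E0 RF0 sp) (nat_lit 0) (nat_lit 4) = true := by decide +kernel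
theorem rf0 : RF0 = (RW0).map (·.map E) := rfl
theorem rc0 : ckRels 3 inv rels 0 RW0 RC0 = true := by decide +kernel
theorem ck1 : allR (ckE (nat_lit 4) (nat_lit 3) (nat_lit 2) (nat_lit 7) (nat_lit 5) (nat_lit 1) D E1 E1 RF1 sp) (nat_lit 0) (nat_lit 4) = true := by decide +kernel
theorem rf1 : RF1 = (RW1).map (·.map E) := rfl
theorem rc1 : ckRels 3 inv rels 1 RW1 RC1 = true := by decide +kernel
theorem ck2 : allR (ckE (nat_lit 4) (nat_lit 3) (nat_lit 2) (nat_lit 7) (nat_lit 5) (nat_lit 2) D E2 E2 RF2 sp) (nat_lit 0) (nat_lit 4) = true := by decide +kernel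
theorem rf2 : RF2 = (RW2).map (·.map E) := rfl
theorem rc2 : ckRels 3 inv rels 2 RW2 RC2 = true := by decide +kernel

theorem edgeOK : ∀ l < 3, ∀ i < 4, EdgeOK E 3 4 5 2 7 inv D RW sp l i := by
  intro l hl i hi
  interval_cases l

  · exact ckE_sound 4 3 2 7 5 0 inv D E RW sp i (by
      have := allR_zero _ _ ck0 i hi
      rw [rf0] at this
      exact this)
  · exact ckE_sound 4 3 2 7 5 1 inv D E RW sp i (by
      have := allR_zero _ _ ck1 i hi
      rw [rf1] at this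
      exact this)
  · exact ckE_sound 4 3 2 7 5 2 inv D E RW sp i (by
      have := allR_zero _ _ ck2 i hi
      rw [rf2] at this
      exact this)
theorem sp0k : ckSub (nat_lit 3) (nat_lit 5) E0 [] [] (nat_lit 0) = true := by decide +kernel
theorem sp0 {G : Type*} [Group G] (H : Subgroup G) (s : Nat → G) (hinv : ∀ l, s l = (s l)⁻¹) (h31 : s 31 = 1)
    (hrels : ∀ W ∈ rels, (W.map s).prod = 1) (hsub : ∀ w ∈ subw, (w.map s).prod ∈ H)
    (htgt : ∀ l < 3, ∀ i < 4, Nat.land (E l i) 3 < 4)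
    (hlow : ∀ l' < 3, ∀ i' < 4, E l' i' < Nat.shiftLeft (Nat.shiftRight (E 0 0) 5) 5 →
      EdgeP H s (repOf s D) E 3 l' i') : EdgeP H s (repOf s D) E 3 0 0 := by
  have h1 := ckSub_sound E 3 5 0 0 [] [] sp0k
  exact special_sub H s (repOf s D) E 3 4 3 _ htgt hlow (repOf_zero s D) [] [] 0 0 (by decide) (by decide)
    (by decide) (by decide) (hsub _ (by decide)) h1.1 h1.2
theorem sp1k : ckSub (nat_lit 3) (nat_lit 5) E1 [] [] (nat_lit 0) = true := by decide +kernel
theorem sp1 {G : Type*} [Group G] (H : Subgroup G) (s : Nat → G) (hinv : ∀ l, s l = (s l)⁻¹) (h31 : s 31 = 1)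
    (hrels : ∀ W ∈ rels, (W.map s).prod = 1) (hsub : ∀ w ∈ subw, (w.map s).prod ∈ H)
    (htgt : ∀ l < 3, ∀ i < 4, Nat.land (E l i) 3 < 4)
    (hlow : ∀ l' < 3, ∀ i' < 4, E l' i' < Nat.shiftLeft (Nat.shiftRight (E 1 0) 5) 5 →
      EdgeP H s (repOf s D) E 3 l' i') : EdgeP H s (repOf s D) E 3 1 0 := by
  have h1 := ckSub_sound E 3 5 1 0 [] [] sp1k
  exact special_sub H s (repOf s D) E 3 4 3 _ htgt hlow (repOf_zero s D) [] [] 1 0 (by decide) (by decide)
    (by decide) (by decide) (hsub _ (by decide)) h1.1 h1.2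

theorem htgt : ∀ l < 3, ∀ i < 4, Nat.land (E l i) 3 < 4 := fun l hl i hi => (edgeOK l hl i hi).1

theorem edges {G : Type*} [Group G] (H : Subgroup G) (s : Nat → G) (hinv : ∀ l, s l = (s l)⁻¹) (h31 : s 31 = 1)
    (hrels : ∀ W ∈ rels, (W.map s).prod = 1) (hsub : ∀ w ∈ subw, (w.map s).prod ∈ H) :
    ∀ l < 3, ∀ i < 4, EdgeP H s (repOf s D) E 3 l i := by
  refine edges_correct H s E 3 4 3 5 2 7 inv D RW sp (by decide) (fun l hl => hl) (fun l _ => hinv l)
    ?_ ?_ ?_ edgeOK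
  · intro l hl w hw
    interval_cases l
    · exact (ckRels_sound 3 inv rels 0 RW0 RC0 rc0 w hw).1
    · exact (ckRels_sound 3 inv rels 1 RW1 RC1 rc1 w hw).1
    · exact (ckRels_sound 3 inv rels 2 RW2 RC2 rc2 w hw).1
  · intro l hl w hw
    interval_cases l
    · obtain ⟨_, c, hc⟩ := ckRels_sound 3 inv rels 0 RW0 RC0 rc0 w hw
      exact ckRel_sound s inv rels hrels 0 w c (fun l' _ => hinv l') hc
    · obtain ⟨_, c, hc⟩ := ckRels_sound 3 inv rels 1 RW1 RC1 rc1 w hw
      exact ckRel_sound s inv rels hrels 1 w c (fun l' _ => hinv l') hc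
    · obtain ⟨_, c, hc⟩ := ckRels_sound 3 inv rels 2 RW2 RC2 rc2 w hw
      exact ckRel_sound s inv rels hrels 2 w c (fun l' _ => hinv l') hc
  · refine hsp_of H s (repOf s D) E 3 4 3 5 sp (by decide) ?_
    refine List.forall_mem_cons.2 ⟨fun _ _ h => sp0 H s hinv h31 hrels hsub htgt h, ?_⟩
    refine List.forall_mem_cons.2 ⟨fun _ _ h => sp1 H s hinv h31 hrels hsub htgt h, ?_⟩
    intro c hc
    exact absurd hc List.not_mem_nil

theorem covers {G : Type*} [Group G] (s : Nat → G) (hinv : ∀ l, s l = (s l)⁻¹) (h31 : s 31 = 1)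
    (hrels2 : ∀ p ∈ rels2, ((p.1.map s).prod) ^ p.2 = 1) (H : Subgroup G) (hsub : ∀ w ∈ subw, (w.map s).prod ∈ H) :
    ∀ g ∈ letterGroup s 3, ∀ i < 4, ∃ j < 4, repOf s D i * g * (repOf s D j)⁻¹ ∈ H :=
  cover H s (repOf s D) E 3 4 3 inv (fun l hl => hl) (fun l _ => hinv l) htgt
    (edges H s hinv h31 (hrels_of s rels2 hrels2) hsub)

theorem upper {G : Type*} [Group G] (s : Nat → G) (hinv : ∀ l, s l = (s l)⁻¹) (h31 : s 31 = 1)
    (hrels2 : ∀ p ∈ rels2, ((p.1.map s).prod) ^ p.2 = 1) (H : Subgroup G) (hsub : ∀ w ∈ subw, (w.map s).prod ∈ H)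
    (hH : Finite H) : Finite (letterGroup s 3) ∧ Nat.card (letterGroup s 3) ≤ 4 * Nat.card H :=
  card_le_of_cover H (repOf s D) 4 (by decide) (repOf_zero s D) _
    (covers s hinv h31 hrels2 H hsub) hH

theorem upperIndex {G : Type*} [Group G] (s : Nat → G) (hinv : ∀ l, s l = (s l)⁻¹) (h31 : s 31 = 1)
    (hrels2 : ∀ p ∈ rels2, ((p.1.map s).prod) ^ p.2 = 1) (H : Subgroup G) (hsub : ∀ w ∈ subw, (w.map s).prod ∈ H)
    (htop : letterGroup s 3 = ⊤) : H.FiniteIndex ∧ H.index ≤ 4 :=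
  index_le_of_cover H (repOf s D) 4 (by decide) (repOf_zero s D)
    (fun g => covers s hinv h31 hrels2 H hsub g (by rw [htop]; exact Subgroup.mem_top g))


end Cfsg.Agent.H8.A3t
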