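import Cfsg.Agent.H8.CosetPres

set_option autoImplicit false
set_option linter.all false
set_option maxRecDepth 100000

namespace Cfsg.Agent.H8.D5t
noncomputable def E0c0 : Nat := nat_lit 0x89eef9b698a5d67708413918c21c01a4402a6c8a88a0
noncomputable def E0 : Nat → Nat := (fun i => Nat.land (Nat.shiftRight E0c0 (Nat.mul (nat_lit 11) (Nat.land i (nat_lit 255)))) (nat_lit 0x7ff))
noncomputable def E1c0 : Nat := nat_lit 0x8befb85e08d012ae80da6858e3512288600404c988a0
noncomputable def E1 : Nat → Nat := (fun i => Nat.land (Nat.shiftRight E1c0 (Nat.mul (nat_lit 11) (Nat.land i (nat_lit 255)))) (nat_lit 0x7ff))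
noncomputable def E2c0 : Nat := nat_lit 0x89e0340f35c676b6803806032061329c4366004090a0
noncomputable def E2 : Nat → Nat := (fun i => Nat.land (Nat.shiftRight E2c0 (Nat.mul (nat_lit 11) (Nat.land i (nat_lit 255)))) (nat_lit 0x7ff))
noncomputable def E3c0 : Nat := nat_lit 0x1c07ddeb3c6b6ae964a4800a00c0b80202c050988a0
noncomputable def E3 : Nat → Nat := (fun i => Nat.land (Nat.shiftRight E3c0 (Nat.mul (nat_lit 11) (Nat.land i (nat_lit 255)))) (nat_lit 0x7ff))
noncomputable def E4c0 : Nat := nat_lit 0x87ef380580903a0200e01a56e8d9329b43a650800011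
noncomputable def E4 : Nat → Nat := (fun i => Nat.land (Nat.shiftRight E4c0 (Nat.mul (nat_lit 11) (Nat.land i (nat_lit 255)))) (nat_lit 0x7ff))
noncomputable def Dc0 : Nat := nat_lit 0xe1e8ac92490c11c4c25198cc043208880800
noncomputable def D : Nat → Nat := (fun i => Nat.land (Nat.shiftRight Dc0 (Nat.mul (nat_lit 9) (Nat.land i (nat_lit 255)))) (nat_lit 511))
noncomputable def T0 : Nat → Nat := fun i => Nat.land (E0 i) (nat_lit 15)
noncomputable def T1 : Nat → Nat := fun i => Nat.land (E1 i) (nat_lit 15)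
noncomputable def T2 : Nat → Nat := fun i => Nat.land (E2 i) (nat_lit 15)
noncomputable def T3 : Nat → Nat := fun i => Nat.land (E3 i) (nat_lit 15)
noncomputable def T4 : Nat → Nat := fun i => Nat.land (E4 i) (nat_lit 15)
noncomputable def E : Nat → Nat → Nat := fun l => (@Nat.rec (fun _ => Nat → Nat) E0 (fun l _ => (@Nat.rec (fun _ => Nat → Nat) E1 (fun l _ => (@Nat.rec (fun _ => Nat → Nat) E2 (fun l _ => (@Nat.rec (fun _ => Nat → Nat) E3 (fun l _ => E4) l)) l)) l)) l)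
noncomputable def T : Nat → Nat → Nat := fun l => (@Nat.rec (fun _ => Nat → Nat) T0 (fun l _ => (@Nat.rec (fun _ => Nat → Nat) T1 (fun l _ => (@Nat.rec (fun _ => Nat → Nat) T2 (fun l _ => (@Nat.rec (fun _ => Nat → Nat) T3 (fun l _ => T4) l)) l)) l)) l)
noncomputable def inv : Nat → Nat := fun l => l
def rels2 : List (List Nat × Nat) := [([0, 1], 3), ([0, 2], 2), ([0, 3], 2), ([0, 4], 2), ([1, 2], 3), ([1, 3], 2), ([1, 4], 2), ([2, 3], 3), ([2, 4], 3), ([3, 4], 2)]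
def rels : List (List Nat) := rels2.map (fun p => wpow p.1 p.2)
def relsP : List (List Nat × Nat) := [([0, 1], 3), ([0, 2], 2), ([0, 3], 2), ([0, 4], 2), ([1, 2], 3), ([1, 3], 2), ([1, 4], 2), ([2, 3], 3), ([2, 4], 3), ([3, 4], 2)]
def subw : List (List Nat) := [[0], [1], [2], [3]]
def RW0 : List (List Nat) := [[2, 0, 2], [3, 0, 3], [4, 0, 4], [1, 0, 1, 0, 1]]
noncomputable def RF0 : List (List (Nat → Nat)) := [[E2, E0, E2], [E3, E0, E3], [E4, E0, E4], [E1, E0, E1, E0, E1]]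
def RC0 : List Nat := [512, 1024, 1536, 0]
def RW1 : List (List Nat) := [[4, 1, 4], [0, 1, 0, 1, 0], [3, 1, 3], [2, 1, 2, 1, 2]]
noncomputable def RF1 : List (List (Nat → Nat)) := [[E4, E1, E4], [E0, E1, E0, E1, E0], [E3, E1, E3], [E2, E1, E2, E1, E2]]
def RC1 : List Nat := [3072, 2, 2560, 2048]
def RW2 : List (List Nat) := [[1, 2, 1, 2, 1], [3, 2, 3, 2, 3], [4, 2, 4, 2, 4], [0, 2, 0]]
noncomputable def RF2 : List (List (Nat → Nat)) := [[E1, E2, E1, E2, E1], [E3, E2, E3, E2, E3], [E4, E2, E4, E2, E4], [E0, E2, E0]]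
def RC2 : List Nat := [2050, 3584, 4096, 514]
def RW3 : List (List Nat) := [[4, 3, 4], [2, 3, 2, 3, 2], [1, 3, 1]]
noncomputable def RF3 : List (List (Nat → Nat)) := [[E4, E3, E4], [E2, E3, E2, E3, E2], [E1, E3, E1]]
def RC3 : List Nat := [4608, 3586, 2562]
def RW4 : List (List Nat) := [[3, 4, 3], [2, 4, 2, 4, 2], [1, 4, 1], [0, 4, 0]]
noncomputable def RF4 : List (List (Nat → Nat)) := [[E3, E4, E3], [E2, E4, E2, E4, E2], [E1, E4, E1], [E0, E4, E0]]
def RC4 : List Nat := [4610, 4098, 3074, 1538]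
def RW : Nat → List (List Nat) := fun l => (@Nat.rec (fun _ => List (List Nat)) RW0 (fun l _ => (@Nat.rec (fun _ => List (List Nat)) RW1 (fun l _ => (@Nat.rec (fun _ => List (List Nat)) RW2 (fun l _ => (@Nat.rec (fun _ => List (List Nat)) RW3 (fun l _ => RW4) l)) l)) l)) l)
def sp : List Nat := [0, 1, 2, 3]
theorem ck0 : allR (ckE (nat_lit 16) (nat_lit 15) (nat_lit 4) (nat_lit 7) (nat_lit 7) (nat_lit 0) D E0 E0 RF0 sp) (nat_lit 0) (nat_lit 16) = true := by decide +kernel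
theorem rf0 : RF0 = (RW0).map (·.map E) := rfl
theorem rc0 : ckRels 5 inv rels 0 RW0 RC0 = true := by decide +kernel
theorem ck1 : allR (ckE (nat_lit 16) (nat_lit 15) (nat_lit 4) (nat_lit 7) (nat_lit 7) (nat_lit 1) D E1 E1 RF1 sp) (nat_lit 0) (nat_lit 16) = true := by decide +kernel
theorem rf1 : RF1 = (RW1).map (·.map E) := rfl
theorem rc1 : ckRels 5 inv rels 1 RW1 RC1 = true := by decide +kernel
theorem ck2 : allR (ckE (nat_lit 16) (nat_lit 15) (nat_lit 4) (nat_lit 7) (nat_lit 7) (nat_lit 2) D E2 E2 RF2 sp) (nat_lit 0) (nat_lit 16) = true := by decide +kernel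
theorem rf2 : RF2 = (RW2).map (·.map E) := rfl
theorem rc2 : ckRels 5 inv rels 2 RW2 RC2 = true := by decide +kernel
theorem ck3 : allR (ckE (nat_lit 16) (nat_lit 15) (nat_lit 4) (nat_lit 7) (nat_lit 7) (nat_lit 3) D E3 E3 RF3 sp) (nat_lit 0) (nat_lit 16) = true := by decide +kernel
theorem rf3 : RF3 = (RW3).map (·.map E) := rfl
theorem rc3 : ckRels 5 inv rels 3 RW3 RC3 = true := by decide +kernel
theorem ck4 : allR (ckE (nat_lit 16) (nat_lit 15) (nat_lit 4) (nat_lit 7) (nat_lit 7) (nat_lit 4) D E4 E4 RF4 sp) (nat_lit 0) (nat_lit 16) = true := by decide +kernel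
theorem rf4 : RF4 = (RW4).map (·.map E) := rfl
theorem rc4 : ckRels 5 inv rels 4 RW4 RC4 = true := by decide +kernel

theorem edgeOK : ∀ l < 5, ∀ i < 16, EdgeOK E 15 16 7 4 7 inv D RW sp l i := by
  intro l hl i hi
  interval_cases l

  · exact ckE_sound 16 15 4 7 7 0 inv D E RW sp i (by
      have := allR_zero _ _ ck0 i hi
      rw [rf0] at this
      exact this)
  · exact ckE_sound 16 15 4 7 7 1 inv D E RW sp i (by
      have := allR_zero _ _ ck1 i hi
      rw [rf1] at this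
      exact this)
  · exact ckE_sound 16 15 4 7 7 2 inv D E RW sp i (by
      have := allR_zero _ _ ck2 i hi
      rw [rf2] at this
      exact this)
  · exact ckE_sound 16 15 4 7 7 3 inv D E RW sp i (by
      have := allR_zero _ _ ck3 i hi
      rw [rf3] at this
      exact this)
  · exact ckE_sound 16 15 4 7 7 4 inv D E RW sp i (by
      have := allR_zero _ _ ck4 i hi
      rw [rf4] at this
      exact this)
theorem sp0k : ckSub (nat_lit 15) (nat_lit 7) E0 [] [] (nat_lit 0) = true := by decide +kernel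
theorem sp0 {G : Type*} [Group G] (H : Subgroup G) (s : Nat → G) (hinv : ∀ l, s l = (s l)⁻¹) (h31 : s 31 = 1)
    (hrels : ∀ W ∈ rels, (W.map s).prod = 1) (hsub : ∀ w ∈ subw, (w.map s).prod ∈ H)
    (htgt : ∀ l < 5, ∀ i < 16, Nat.land (E l i) 15 < 16)
    (hlow : ∀ l' < 5, ∀ i' < 16, E l' i' < Nat.shiftLeft (Nat.shiftRight (E 0 0) 7) 7 →
      EdgeP H s (repOf s D) E 15 l' i') : EdgeP H s (repOf s D) E 15 0 0 := by
  have h1 := ckSub_sound E 15 7 0 0 [] [] sp0k
  exact special_sub H s (repOf s D) E 15 16 5 _ htgt hlow (repOf_zero s D) [] [] 0 0 (by decide) (by decide)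
    (by decide) (by decide) (hsub _ (by decide)) h1.1 h1.2
theorem sp1k : ckSub (nat_lit 15) (nat_lit 7) E1 [] [] (nat_lit 0) = true := by decide +kernel
theorem sp1 {G : Type*} [Group G] (H : Subgroup G) (s : Nat → G) (hinv : ∀ l, s l = (s l)⁻¹) (h31 : s 31 = 1)
    (hrels : ∀ W ∈ rels, (W.map s).prod = 1) (hsub : ∀ w ∈ subw, (w.map s).prod ∈ H)
    (htgt : ∀ l < 5, ∀ i < 16, Nat.land (E l i) 15 < 16)
    (hlow : ∀ l' < 5, ∀ i' < 16, E l' i' < Nat.shiftLeft (Nat.shiftRight (E 1 0) 7) 7 →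
      EdgeP H s (repOf s D) E 15 l' i') : EdgeP H s (repOf s D) E 15 1 0 := by
  have h1 := ckSub_sound E 15 7 1 0 [] [] sp1k
  exact special_sub H s (repOf s D) E 15 16 5 _ htgt hlow (repOf_zero s D) [] [] 1 0 (by decide) (by decide)
    (by decide) (by decide) (hsub _ (by decide)) h1.1 h1.2
theorem sp2k : ckSub (nat_lit 15) (nat_lit 7) E2 [] [] (nat_lit 0) = true := by decide +kernel
theorem sp2 {G : Type*} [Group G] (H : Subgroup G) (s : Nat → G) (hinv : ∀ l, s l = (s l)⁻¹) (h31 : s 31 = 1)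
    (hrels : ∀ W ∈ rels, (W.map s).prod = 1) (hsub : ∀ w ∈ subw, (w.map s).prod ∈ H)
    (htgt : ∀ l < 5, ∀ i < 16, Nat.land (E l i) 15 < 16)
    (hlow : ∀ l' < 5, ∀ i' < 16, E l' i' < Nat.shiftLeft (Nat.shiftRight (E 2 0) 7) 7 →
      EdgeP H s (repOf s D) E 15 l' i') : EdgeP H s (repOf s D) E 15 2 0 := by
  have h1 := ckSub_sound E 15 7 2 0 [] [] sp2k
  exact special_sub H s (repOf s D) E 15 16 5 _ htgt hlow (repOf_zero s D) [] [] 2 0 (by decide) (by decide)
    (by decide) (by decide) (hsub _ (by decide)) h1.1 h1.2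
theorem sp3k : ckSub (nat_lit 15) (nat_lit 7) E3 [] [] (nat_lit 0) = true := by decide +kernel
theorem sp3 {G : Type*} [Group G] (H : Subgroup G) (s : Nat → G) (hinv : ∀ l, s l = (s l)⁻¹) (h31 : s 31 = 1)
    (hrels : ∀ W ∈ rels, (W.map s).prod = 1) (hsub : ∀ w ∈ subw, (w.map s).prod ∈ H)
    (htgt : ∀ l < 5, ∀ i < 16, Nat.land (E l i) 15 < 16)
    (hlow : ∀ l' < 5, ∀ i' < 16, E l' i' < Nat.shiftLeft (Nat.shiftRight (E 3 0) 7) 7 →
      EdgeP H s (repOf s D) E 15 l' i') : EdgeP H s (repOf s D) E 15 3 0 := by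
  have h1 := ckSub_sound E 15 7 3 0 [] [] sp3k
  exact special_sub H s (repOf s D) E 15 16 5 _ htgt hlow (repOf_zero s D) [] [] 3 0 (by decide) (by decide)
    (by decide) (by decide) (hsub _ (by decide)) h1.1 h1.2

theorem htgt : ∀ l < 5, ∀ i < 16, Nat.land (E l i) 15 < 16 := fun l hl i hi => (edgeOK l hl i hi).1

theorem edges {G : Type*} [Group G] (H : Subgroup G) (s : Nat → G) (hinv : ∀ l, s l = (s l)⁻¹) (h31 : s 31 = 1)
    (hrels : ∀ W ∈ rels, (W.map s).prod = 1) (hsub : ∀ w ∈ subw, (w.map s).prod ∈ H) :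
    ∀ l < 5, ∀ i < 16, EdgeP H s (repOf s D) E 15 l i := by
  refine edges_correct H s E 15 16 5 7 4 7 inv D RW sp (by decide) (fun l hl => hl) (fun l _ => hinv l)
    ?_ ?_ ?_ edgeOK
  · intro l hl w hw
    interval_cases l
    · exact (ckRels_sound 5 inv rels 0 RW0 RC0 rc0 w hw).1
    · exact (ckRels_sound 5 inv rels 1 RW1 RC1 rc1 w hw).1
    · exact (ckRels_sound 5 inv rels 2 RW2 RC2 rc2 w hw).1
    · exact (ckRels_sound 5 inv rels 3 RW3 RC3 rc3 w hw).1
    · exact (ckRels_sound 5 inv rels 4 RW4 RC4 rc4 w hw).1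
  · intro l hl w hw
    interval_cases l
    · obtain ⟨_, c, hc⟩ := ckRels_sound 5 inv rels 0 RW0 RC0 rc0 w hw
      exact ckRel_sound s inv rels hrels 0 w c (fun l' _ => hinv l') hc
    · obtain ⟨_, c, hc⟩ := ckRels_sound 5 inv rels 1 RW1 RC1 rc1 w hw
      exact ckRel_sound s inv rels hrels 1 w c (fun l' _ => hinv l') hc
    · obtain ⟨_, c, hc⟩ := ckRels_sound 5 inv rels 2 RW2 RC2 rc2 w hw
      exact ckRel_sound s inv rels hrels 2 w c (fun l' _ => hinv l') hc
    · obtain ⟨_, c, hc⟩ := ckRels_sound 5 inv rels 3 RW3 RC3 rc3 w hw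
      exact ckRel_sound s inv rels hrels 3 w c (fun l' _ => hinv l') hc
    · obtain ⟨_, c, hc⟩ := ckRels_sound 5 inv rels 4 RW4 RC4 rc4 w hw
      exact ckRel_sound s inv rels hrels 4 w c (fun l' _ => hinv l') hc
  · refine hsp_of H s (repOf s D) E 15 16 5 7 sp (by decide) ?_
    refine List.forall_mem_cons.2 ⟨fun _ _ h => sp0 H s hinv h31 hrels hsub htgt h, ?_⟩
    refine List.forall_mem_cons.2 ⟨fun _ _ h => sp1 H s hinv h31 hrels hsub htgt h, ?_⟩
    refine List.forall_mem_cons.2 ⟨fun _ _ h => sp2 H s hinv h31 hrels hsub htgt h, ?_⟩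
    refine List.forall_mem_cons.2 ⟨fun _ _ h => sp3 H s hinv h31 hrels hsub htgt h, ?_⟩
    intro c hc
    exact absurd hc List.not_mem_nil

theorem covers {G : Type*} [Group G] (s : Nat → G) (hinv : ∀ l, s l = (s l)⁻¹) (h31 : s 31 = 1)
    (hrels2 : ∀ p ∈ rels2, ((p.1.map s).prod) ^ p.2 = 1) (H : Subgroup G) (hsub : ∀ w ∈ subw, (w.map s).prod ∈ H) :
    ∀ g ∈ letterGroup s 5, ∀ i < 16, ∃ j < 16, repOf s D i * g * (repOf s D j)⁻¹ ∈ H :=
  cover H s (repOf s D) E 15 16 5 inv (fun l hl => hl) (fun l _ => hinv l) htgt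
    (edges H s hinv h31 (hrels_of s rels2 hrels2) hsub)

theorem upper {G : Type*} [Group G] (s : Nat → G) (hinv : ∀ l, s l = (s l)⁻¹) (h31 : s 31 = 1)
    (hrels2 : ∀ p ∈ rels2, ((p.1.map s).prod) ^ p.2 = 1) (H : Subgroup G) (hsub : ∀ w ∈ subw, (w.map s).prod ∈ H)
    (hH : Finite H) : Finite (letterGroup s 5) ∧ Nat.card (letterGroup s 5) ≤ 16 * Nat.card H :=
  card_le_of_cover H (repOf s D) 16 (by decide) (repOf_zero s D) _
    (covers s hinv h31 hrels2 H hsub) hH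

theorem upperIndex {G : Type*} [Group G] (s : Nat → G) (hinv : ∀ l, s l = (s l)⁻¹) (h31 : s 31 = 1)
    (hrels2 : ∀ p ∈ rels2, ((p.1.map s).prod) ^ p.2 = 1) (H : Subgroup G) (hsub : ∀ w ∈ subw, (w.map s).prod ∈ H)
    (htop : letterGroup s 5 = ⊤) : H.FiniteIndex ∧ H.index ≤ 16 :=
  index_le_of_cover H (repOf s D) 16 (by decide) (repOf_zero s D)
    (fun g => covers s hinv h31 hrels2 H hsub g (by rw [htop]; exact Subgroup.mem_top g))


end Cfsg.Agent.H8.D5t
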