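import Cfsg.Agent.H8.CosetPres

set_option autoImplicit false
set_option linter.all false
set_option maxRecDepth 100000

namespace Cfsg.Agent.H8.E6t
noncomputable def E0c0 : Nat := nat_lit 0x1903ac78b97a96ab59949738d287140e7cf4f030b6cc3ad20926a1871080045850264633a22e1140
noncomputable def E0 : Nat → Nat := (fun i => Nat.land (Nat.shiftRight E0c0 (Nat.mul (nat_lit 12) (Nat.land i (nat_lit 255)))) (nat_lit 0xfff))
noncomputable def E1c0 : Nat := nat_lit 0xdda018039b97a96a759949f32108f12b216d7ae10f00a66b02c5e96c81855c61070030243622a1140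
noncomputable def E1 : Nat → Nat := (fun i => Nat.land (Nat.shiftRight E1c0 (Nat.mul (nat_lit 12) (Nat.land i (nat_lit 255)))) (nat_lit 0xfff))
noncomputable def E2c0 : Nat := nat_lit 0xdfac99017038ab6ad59b417211300f87003176e7cd78c6cb00800702a0295e64a5484002023261140
noncomputable def E2 : Nat → Nat := (fun i => Nat.land (Nat.shiftRight E2c0 (Nat.mul (nat_lit 12) (Nat.land i (nat_lit 255)))) (nat_lit 0xfff))
noncomputable def E3c0 : Nat := nat_lit 0xdfacd9b981761170139740359b28918b000c7ae00a02f00902d02b6685675e64654c4383001022140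
noncomputable def E3 : Nat → Nat := (fun i => Nat.land (Nat.shiftRight E3c0 (Nat.mul (nat_lit 12) (Nat.land i (nat_lit 255)))) (nat_lit 0xfff))
noncomputable def E4c0 : Nat := nat_lit 0xdfacd9b78ab71949b511601100f03300d03200b0308cc02e76a6696885875e64854c43632a2000021
noncomputable def E4 : Nat → Nat := (fun i => Nat.land (Nat.shiftRight E4c0 (Nat.mul (nat_lit 12) (Nat.land i (nat_lit 255)))) (nat_lit 0xfff))
noncomputable def E5c0 : Nat := nat_lit 0xdfacd9bb801501303701103697203487088f76e78d7cc68b6aa5a9006004028003027025382261140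
noncomputable def E5 : Nat → Nat := (fun i => Nat.land (Nat.shiftRight E5c0 (Nat.mul (nat_lit 12) (Nat.land i (nat_lit 255)))) (nat_lit 0xfff))
noncomputable def Dc0 : Nat := nat_lit 0x320c06e2a966598e25891e4789a460d6450d4148d02388c521480194611082301000
noncomputable def D : Nat → Nat := (fun i => Nat.land (Nat.shiftRight Dc0 (Nat.mul (nat_lit 10) (Nat.land i (nat_lit 255)))) (nat_lit 0x3ff))
noncomputable def T0 : Nat → Nat := fun i => Nat.land (E0 i) (nat_lit 31)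
noncomputable def T1 : Nat → Nat := fun i => Nat.land (E1 i) (nat_lit 31)
noncomputable def T2 : Nat → Nat := fun i => Nat.land (E2 i) (nat_lit 31)
noncomputable def T3 : Nat → Nat := fun i => Nat.land (E3 i) (nat_lit 31)
noncomputable def T4 : Nat → Nat := fun i => Nat.land (E4 i) (nat_lit 31)
noncomputable def T5 : Nat → Nat := fun i => Nat.land (E5 i) (nat_lit 31)
noncomputable def E : Nat → Nat → Nat := fun l => (@Nat.rec (fun _ => Nat → Nat) E0 (fun l _ => (@Nat.rec (fun _ => Nat → Nat) E1 (fun l _ => (@Nat.rec (fun _ => Nat → Nat) E2 (fun l _ => (@Nat.rec (fun _ => Nat → Nat) E3 (fun l _ => (@Nat.rec (fun _ => Nat → Nat) E4 (fun l _ => E5) l)) l)) l)) l)) l)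
noncomputable def T : Nat → Nat → Nat := fun l => (@Nat.rec (fun _ => Nat → Nat) T0 (fun l _ => (@Nat.rec (fun _ => Nat → Nat) T1 (fun l _ => (@Nat.rec (fun _ => Nat → Nat) T2 (fun l _ => (@Nat.rec (fun _ => Nat → Nat) T3 (fun l _ => (@Nat.rec (fun _ => Nat → Nat) T4 (fun l _ => T5) l)) l)) l)) l)) l)
noncomputable def inv : Nat → Nat := fun l => l
def rels2 : List (List Nat × Nat) := [([0, 1], 3), ([0, 2], 2), ([0, 3], 2), ([0, 4], 2), ([0, 5], 2), ([1, 2], 3), ([1, 3], 2), ([1, 4], 2), ([1, 5], 2), ([2, 3], 3), ([2, 4], 2), ([2, 5], 3), ([3, 4], 3), ([3, 5], 2), ([4, 5], 2)]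
def rels : List (List Nat) := rels2.map (fun p => wpow p.1 p.2)
def relsP : List (List Nat × Nat) := [([0, 1], 3), ([0, 2], 2), ([0, 3], 2), ([0, 4], 2), ([0, 5], 2), ([1, 2], 3), ([1, 3], 2), ([1, 4], 2), ([1, 5], 2), ([2, 3], 3), ([2, 4], 2), ([2, 5], 3), ([3, 4], 3), ([3, 5], 2), ([4, 5], 2)]
def subw : List (List Nat) := [[0], [1], [2], [3], [5]]
def RW0 : List (List Nat) := [[2, 0, 2], [5, 0, 5], [3, 0, 3], [1, 0, 1, 0, 1], [4, 0, 4]]
noncomputable def RF0 : List (List (Nat → Nat)) := [[E2, E0, E2], [E5, E0, E5], [E3, E0, E3], [E1, E0, E1, E0, E1], [E4, E0, E4]]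
def RC0 : List Nat := [512, 2048, 1024, 0, 1536]
def RW1 : List (List Nat) := [[3, 1, 3], [5, 1, 5], [4, 1, 4], [0, 1, 0, 1, 0], [2, 1, 2, 1, 2]]
noncomputable def RF1 : List (List (Nat → Nat)) := [[E3, E1, E3], [E5, E1, E5], [E4, E1, E4], [E0, E1, E0, E1, E0], [E2, E1, E2, E1, E2]]
def RC1 : List Nat := [3072, 4096, 3584, 2, 2560]
def RW2 : List (List Nat) := [[4, 2, 4], [1, 2, 1, 2, 1], [5, 2, 5, 2, 5], [3, 2, 3, 2, 3], [0, 2, 0]]
noncomputable def RF2 : List (List (Nat → Nat)) := [[E4, E2, E4], [E1, E2, E1, E2, E1], [E5, E2, E5, E2, E5], [E3, E2, E3, E2, E3], [E0, E2, E0]]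
def RC2 : List Nat := [5120, 2562, 5632, 4608, 514]
def RW3 : List (List Nat) := [[5, 3, 5], [2, 3, 2, 3, 2], [4, 3, 4, 3, 4], [1, 3, 1], [0, 3, 0]]
noncomputable def RF3 : List (List (Nat → Nat)) := [[E5, E3, E5], [E2, E3, E2, E3, E2], [E4, E3, E4, E3, E4], [E1, E3, E1], [E0, E3, E0]]
def RC3 : List Nat := [6656, 4610, 6144, 3074, 1026]
def RW4 : List (List Nat) := [[2, 4, 2], [5, 4, 5], [3, 4, 3, 4, 3], [1, 4, 1], [0, 4, 0]]
noncomputable def RF4 : List (List (Nat → Nat)) := [[E2, E4, E2], [E5, E4, E5], [E3, E4, E3, E4, E3], [E1, E4, E1], [E0, E4, E0]]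
def RC4 : List Nat := [5122, 7168, 6146, 3586, 1538]
def RW5 : List (List Nat) := [[4, 5, 4], [3, 5, 3], [2, 5, 2, 5, 2], [1, 5, 1], [0, 5, 0]]
noncomputable def RF5 : List (List (Nat → Nat)) := [[E4, E5, E4], [E3, E5, E3], [E2, E5, E2, E5, E2], [E1, E5, E1], [E0, E5, E0]]
def RC5 : List Nat := [7170, 6658, 5634, 4098, 2050]
def RW : Nat → List (List Nat) := fun l => (@Nat.rec (fun _ => List (List Nat)) RW0 (fun l _ => (@Nat.rec (fun _ => List (List Nat)) RW1 (fun l _ => (@Nat.rec (fun _ => List (List Nat)) RW2 (fun l _ => (@Nat.rec (fun _ => List (List Nat)) RW3 (fun l _ => (@Nat.rec (fun _ => List (List Nat)) RW4 (fun l _ => RW5) l)) l)) l)) l)) l)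
def sp : List Nat := [0, 1, 2, 3, 5]
theorem ck0 : allR (ckE (nat_lit 27) (nat_lit 31) (nat_lit 5) (nat_lit 7) (nat_lit 8) (nat_lit 0) D E0 E0 RF0 sp) (nat_lit 0) (nat_lit 27) = true := by decide +kernel
theorem rf0 : RF0 = (RW0).map (·.map E) := rfl
theorem rc0 : ckRels 6 inv rels 0 RW0 RC0 = true := by decide +kernel
theorem ck1 : allR (ckE (nat_lit 27) (nat_lit 31) (nat_lit 5) (nat_lit 7) (nat_lit 8) (nat_lit 1) D E1 E1 RF1 sp) (nat_lit 0) (nat_lit 27) = true := by decide +kernel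
theorem rf1 : RF1 = (RW1).map (·.map E) := rfl
theorem rc1 : ckRels 6 inv rels 1 RW1 RC1 = true := by decide +kernel
theorem ck2 : allR (ckE (nat_lit 27) (nat_lit 31) (nat_lit 5) (nat_lit 7) (nat_lit 8) (nat_lit 2) D E2 E2 RF2 sp) (nat_lit 0) (nat_lit 27) = true := by decide +kernel
theorem rf2 : RF2 = (RW2).map (·.map E) := rfl
theorem rc2 : ckRels 6 inv rels 2 RW2 RC2 = true := by decide +kernel
theorem ck3 : allR (ckE (nat_lit 27) (nat_lit 31) (nat_lit 5) (nat_lit 7) (nat_lit 8) (nat_lit 3) D E3 E3 RF3 sp) (nat_lit 0) (nat_lit 27) = true := by decide +kernel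
theorem rf3 : RF3 = (RW3).map (·.map E) := rfl
theorem rc3 : ckRels 6 inv rels 3 RW3 RC3 = true := by decide +kernel
theorem ck4 : allR (ckE (nat_lit 27) (nat_lit 31) (nat_lit 5) (nat_lit 7) (nat_lit 8) (nat_lit 4) D E4 E4 RF4 sp) (nat_lit 0) (nat_lit 27) = true := by decide +kernel
theorem rf4 : RF4 = (RW4).map (·.map E) := rfl
theorem rc4 : ckRels 6 inv rels 4 RW4 RC4 = true := by decide +kernel
theorem ck5 : allR (ckE (nat_lit 27) (nat_lit 31) (nat_lit 5) (nat_lit 7) (nat_lit 8) (nat_lit 5) D E5 E5 RF5 sp) (nat_lit 0) (nat_lit 27) = true := by decide +kernel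
theorem rf5 : RF5 = (RW5).map (·.map E) := rfl
theorem rc5 : ckRels 6 inv rels 5 RW5 RC5 = true := by decide +kernel

theorem edgeOK : ∀ l < 6, ∀ i < 27, EdgeOK E 31 27 8 5 7 inv D RW sp l i := by
  intro l hl i hi
  interval_cases l

  · exact ckE_sound 27 31 5 7 8 0 inv D E RW sp i (by
      have := allR_zero _ _ ck0 i hi
      rw [rf0] at this
      exact this)
  · exact ckE_sound 27 31 5 7 8 1 inv D E RW sp i (by
      have := allR_zero _ _ ck1 i hi
      rw [rf1] at this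
      exact this)
  · exact ckE_sound 27 31 5 7 8 2 inv D E RW sp i (by
      have := allR_zero _ _ ck2 i hi
      rw [rf2] at this
      exact this)
  · exact ckE_sound 27 31 5 7 8 3 inv D E RW sp i (by
      have := allR_zero _ _ ck3 i hi
      rw [rf3] at this
      exact this)
  · exact ckE_sound 27 31 5 7 8 4 inv D E RW sp i (by
      have := allR_zero _ _ ck4 i hi
      rw [rf4] at this
      exact this)
  · exact ckE_sound 27 31 5 7 8 5 inv D E RW sp i (by
      have := allR_zero _ _ ck5 i hi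
      rw [rf5] at this
      exact this)
theorem sp0k : ckSub (nat_lit 31) (nat_lit 8) E0 [] [] (nat_lit 0) = true := by decide +kernel
theorem sp0 {G : Type*} [Group G] (H : Subgroup G) (s : Nat → G) (hinv : ∀ l, s l = (s l)⁻¹) (h31 : s 31 = 1)
    (hrels : ∀ W ∈ rels, (W.map s).prod = 1) (hsub : ∀ w ∈ subw, (w.map s).prod ∈ H)
    (htgt : ∀ l < 6, ∀ i < 27, Nat.land (E l i) 31 < 27)
    (hlow : ∀ l' < 6, ∀ i' < 27, E l' i' < Nat.shiftLeft (Nat.shiftRight (E 0 0) 8) 8 →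
      EdgeP H s (repOf s D) E 31 l' i') : EdgeP H s (repOf s D) E 31 0 0 := by
  have h1 := ckSub_sound E 31 8 0 0 [] [] sp0k
  exact special_sub H s (repOf s D) E 31 27 6 _ htgt hlow (repOf_zero s D) [] [] 0 0 (by decide) (by decide)
    (by decide) (by decide) (hsub _ (by decide)) h1.1 h1.2
theorem sp1k : ckSub (nat_lit 31) (nat_lit 8) E1 [] [] (nat_lit 0) = true := by decide +kernel
theorem sp1 {G : Type*} [Group G] (H : Subgroup G) (s : Nat → G) (hinv : ∀ l, s l = (s l)⁻¹) (h31 : s 31 = 1)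
    (hrels : ∀ W ∈ rels, (W.map s).prod = 1) (hsub : ∀ w ∈ subw, (w.map s).prod ∈ H)
    (htgt : ∀ l < 6, ∀ i < 27, Nat.land (E l i) 31 < 27)
    (hlow : ∀ l' < 6, ∀ i' < 27, E l' i' < Nat.shiftLeft (Nat.shiftRight (E 1 0) 8) 8 →
      EdgeP H s (repOf s D) E 31 l' i') : EdgeP H s (repOf s D) E 31 1 0 := by
  have h1 := ckSub_sound E 31 8 1 0 [] [] sp1k
  exact special_sub H s (repOf s D) E 31 27 6 _ htgt hlow (repOf_zero s D) [] [] 1 0 (by decide) (by decide)
    (by decide) (by decide) (hsub _ (by decide)) h1.1 h1.2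
theorem sp2k : ckSub (nat_lit 31) (nat_lit 8) E2 [] [] (nat_lit 0) = true := by decide +kernel
theorem sp2 {G : Type*} [Group G] (H : Subgroup G) (s : Nat → G) (hinv : ∀ l, s l = (s l)⁻¹) (h31 : s 31 = 1)
    (hrels : ∀ W ∈ rels, (W.map s).prod = 1) (hsub : ∀ w ∈ subw, (w.map s).prod ∈ H)
    (htgt : ∀ l < 6, ∀ i < 27, Nat.land (E l i) 31 < 27)
    (hlow : ∀ l' < 6, ∀ i' < 27, E l' i' < Nat.shiftLeft (Nat.shiftRight (E 2 0) 8) 8 →
      EdgeP H s (repOf s D) E 31 l' i') : EdgeP H s (repOf s D) E 31 2 0 := by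
  have h1 := ckSub_sound E 31 8 2 0 [] [] sp2k
  exact special_sub H s (repOf s D) E 31 27 6 _ htgt hlow (repOf_zero s D) [] [] 2 0 (by decide) (by decide)
    (by decide) (by decide) (hsub _ (by decide)) h1.1 h1.2
theorem sp3k : ckSub (nat_lit 31) (nat_lit 8) E3 [] [] (nat_lit 0) = true := by decide +kernel
theorem sp3 {G : Type*} [Group G] (H : Subgroup G) (s : Nat → G) (hinv : ∀ l, s l = (s l)⁻¹) (h31 : s 31 = 1)
    (hrels : ∀ W ∈ rels, (W.map s).prod = 1) (hsub : ∀ w ∈ subw, (w.map s).prod ∈ H)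
    (htgt : ∀ l < 6, ∀ i < 27, Nat.land (E l i) 31 < 27)
    (hlow : ∀ l' < 6, ∀ i' < 27, E l' i' < Nat.shiftLeft (Nat.shiftRight (E 3 0) 8) 8 →
      EdgeP H s (repOf s D) E 31 l' i') : EdgeP H s (repOf s D) E 31 3 0 := by
  have h1 := ckSub_sound E 31 8 3 0 [] [] sp3k
  exact special_sub H s (repOf s D) E 31 27 6 _ htgt hlow (repOf_zero s D) [] [] 3 0 (by decide) (by decide)
    (by decide) (by decide) (hsub _ (by decide)) h1.1 h1.2
theorem sp5k : ckSub (nat_lit 31) (nat_lit 8) E5 [] [] (nat_lit 0) = true := by decide +kernel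
theorem sp5 {G : Type*} [Group G] (H : Subgroup G) (s : Nat → G) (hinv : ∀ l, s l = (s l)⁻¹) (h31 : s 31 = 1)
    (hrels : ∀ W ∈ rels, (W.map s).prod = 1) (hsub : ∀ w ∈ subw, (w.map s).prod ∈ H)
    (htgt : ∀ l < 6, ∀ i < 27, Nat.land (E l i) 31 < 27)
    (hlow : ∀ l' < 6, ∀ i' < 27, E l' i' < Nat.shiftLeft (Nat.shiftRight (E 5 0) 8) 8 →
      EdgeP H s (repOf s D) E 31 l' i') : EdgeP H s (repOf s D) E 31 5 0 := by
  have h1 := ckSub_sound E 31 8 5 0 [] [] sp5k
  exact special_sub H s (repOf s D) E 31 27 6 _ htgt hlow (repOf_zero s D) [] [] 5 0 (by decide) (by decide)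
    (by decide) (by decide) (hsub _ (by decide)) h1.1 h1.2

theorem htgt : ∀ l < 6, ∀ i < 27, Nat.land (E l i) 31 < 27 := fun l hl i hi => (edgeOK l hl i hi).1

theorem edges {G : Type*} [Group G] (H : Subgroup G) (s : Nat → G) (hinv : ∀ l, s l = (s l)⁻¹) (h31 : s 31 = 1)
    (hrels : ∀ W ∈ rels, (W.map s).prod = 1) (hsub : ∀ w ∈ subw, (w.map s).prod ∈ H) :
    ∀ l < 6, ∀ i < 27, EdgeP H s (repOf s D) E 31 l i := by
  refine edges_correct H s E 31 27 6 8 5 7 inv D RW sp (by decide) (fun l hl => hl) (fun l _ => hinv l)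
    ?_ ?_ ?_ edgeOK
  · intro l hl w hw
    interval_cases l
    · exact (ckRels_sound 6 inv rels 0 RW0 RC0 rc0 w hw).1
    · exact (ckRels_sound 6 inv rels 1 RW1 RC1 rc1 w hw).1
    · exact (ckRels_sound 6 inv rels 2 RW2 RC2 rc2 w hw).1
    · exact (ckRels_sound 6 inv rels 3 RW3 RC3 rc3 w hw).1
    · exact (ckRels_sound 6 inv rels 4 RW4 RC4 rc4 w hw).1
    · exact (ckRels_sound 6 inv rels 5 RW5 RC5 rc5 w hw).1
  · intro l hl w hw
    interval_cases l
    · obtain ⟨_, c, hc⟩ := ckRels_sound 6 inv rels 0 RW0 RC0 rc0 w hw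
      exact ckRel_sound s inv rels hrels 0 w c (fun l' _ => hinv l') hc
    · obtain ⟨_, c, hc⟩ := ckRels_sound 6 inv rels 1 RW1 RC1 rc1 w hw
      exact ckRel_sound s inv rels hrels 1 w c (fun l' _ => hinv l') hc
    · obtain ⟨_, c, hc⟩ := ckRels_sound 6 inv rels 2 RW2 RC2 rc2 w hw
      exact ckRel_sound s inv rels hrels 2 w c (fun l' _ => hinv l') hc
    · obtain ⟨_, c, hc⟩ := ckRels_sound 6 inv rels 3 RW3 RC3 rc3 w hw
      exact ckRel_sound s inv rels hrels 3 w c (fun l' _ => hinv l') hc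
    · obtain ⟨_, c, hc⟩ := ckRels_sound 6 inv rels 4 RW4 RC4 rc4 w hw
      exact ckRel_sound s inv rels hrels 4 w c (fun l' _ => hinv l') hc
    · obtain ⟨_, c, hc⟩ := ckRels_sound 6 inv rels 5 RW5 RC5 rc5 w hw
      exact ckRel_sound s inv rels hrels 5 w c (fun l' _ => hinv l') hc
  · refine hsp_of H s (repOf s D) E 31 27 6 8 sp (by decide) ?_
    refine List.forall_mem_cons.2 ⟨fun _ _ h => sp0 H s hinv h31 hrels hsub htgt h, ?_⟩
    refine List.forall_mem_cons.2 ⟨fun _ _ h => sp1 H s hinv h31 hrels hsub htgt h, ?_⟩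
    refine List.forall_mem_cons.2 ⟨fun _ _ h => sp2 H s hinv h31 hrels hsub htgt h, ?_⟩
    refine List.forall_mem_cons.2 ⟨fun _ _ h => sp3 H s hinv h31 hrels hsub htgt h, ?_⟩
    refine List.forall_mem_cons.2 ⟨fun _ _ h => sp5 H s hinv h31 hrels hsub htgt h, ?_⟩
    intro c hc
    exact absurd hc List.not_mem_nil

theorem covers {G : Type*} [Group G] (s : Nat → G) (hinv : ∀ l, s l = (s l)⁻¹) (h31 : s 31 = 1)
    (hrels2 : ∀ p ∈ rels2, ((p.1.map s).prod) ^ p.2 = 1) (H : Subgroup G) (hsub : ∀ w ∈ subw, (w.map s).prod ∈ H) :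
    ∀ g ∈ letterGroup s 6, ∀ i < 27, ∃ j < 27, repOf s D i * g * (repOf s D j)⁻¹ ∈ H :=
  cover H s (repOf s D) E 31 27 6 inv (fun l hl => hl) (fun l _ => hinv l) htgt
    (edges H s hinv h31 (hrels_of s rels2 hrels2) hsub)

theorem upper {G : Type*} [Group G] (s : Nat → G) (hinv : ∀ l, s l = (s l)⁻¹) (h31 : s 31 = 1)
    (hrels2 : ∀ p ∈ rels2, ((p.1.map s).prod) ^ p.2 = 1) (H : Subgroup G) (hsub : ∀ w ∈ subw, (w.map s).prod ∈ H)
    (hH : Finite H) : Finite (letterGroup s 6) ∧ Nat.card (letterGroup s 6) ≤ 27 * Nat.card H :=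
  card_le_of_cover H (repOf s D) 27 (by decide) (repOf_zero s D) _
    (covers s hinv h31 hrels2 H hsub) hH

theorem upperIndex {G : Type*} [Group G] (s : Nat → G) (hinv : ∀ l, s l = (s l)⁻¹) (h31 : s 31 = 1)
    (hrels2 : ∀ p ∈ rels2, ((p.1.map s).prod) ^ p.2 = 1) (H : Subgroup G) (hsub : ∀ w ∈ subw, (w.map s).prod ∈ H)
    (htop : letterGroup s 6 = ⊤) : H.FiniteIndex ∧ H.index ≤ 27 :=
  index_le_of_cover H (repOf s D) 27 (by decide) (repOf_zero s D)
    (fun g => covers s hinv h31 hrels2 H hsub g (by rw [htop]; exact Subgroup.mem_top g))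


end Cfsg.Agent.H8.E6t
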