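import Cfsg.Agent.H8.T.Fi22atC0
import Cfsg.Agent.H8.T.Fi22atC1
import Cfsg.Agent.H8.T.Fi22atC2
import Cfsg.Agent.H8.T.Fi22atC3
import Cfsg.Agent.H8.T.Fi22atC4
import Cfsg.Agent.H8.T.Fi22atC5
import Cfsg.Agent.H8.T.Fi22atC6
import Cfsg.Agent.H8.T.Fi22atC7
import Cfsg.Agent.H8.T.Fi22atC8

set_option autoImplicit false
set_option linter.all false
set_option maxRecDepth 100000

namespace Cfsg.Agent.H8.Fi22at

theorem edgeOK : ∀ l < 9, ∀ i < 14080, EdgeOK E 16383 14080 19 14 31 inv D RW sp l i := by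
  intro l hl i hi
  interval_cases l

  · exact ckE_sound 14080 16383 14 31 19 0 inv D E RW sp i (by
      have := allR_zero _ _ ck0 i hi
      rw [rf0] at this
      exact this)
  · exact ckE_sound 14080 16383 14 31 19 1 inv D E RW sp i (by
      have := allR_zero _ _ ck1 i hi
      rw [rf1] at this
      exact this)
  · exact ckE_sound 14080 16383 14 31 19 2 inv D E RW sp i (by
      have := allR_zero _ _ ck2 i hi
      rw [rf2] at this
      exact this)
  · exact ckE_sound 14080 16383 14 31 19 3 inv D E RW sp i (by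
      have := allR_zero _ _ ck3 i hi
      rw [rf3] at this
      exact this)
  · exact ckE_sound 14080 16383 14 31 19 4 inv D E RW sp i (by
      have := allR_zero _ _ ck4 i hi
      rw [rf4] at this
      exact this)
  · exact ckE_sound 14080 16383 14 31 19 5 inv D E RW sp i (by
      have := allR_zero _ _ ck5 i hi
      rw [rf5] at this
      exact this)
  · exact ckE_sound 14080 16383 14 31 19 6 inv D E RW sp i (by
      have := allR_zero _ _ ck6 i hi
      rw [rf6] at this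
      exact this)
  · exact ckE_sound 14080 16383 14 31 19 7 inv D E RW sp i (by
      have := allR_zero _ _ ck7 i hi
      rw [rf7] at this
      exact this)
  · exact ckE_sound 14080 16383 14 31 19 8 inv D E RW sp i (by
      have := allR_zero _ _ ck8 i hi
      rw [rf8] at this
      exact this)
def RB : List (List Nat) := [[6, 8, 6, 8], [3, 1, 3, 1], [8, 0, 8, 0], [3, 0, 3, 0], [6, 4, 6, 4], [7, 8, 7, 8, 7, 8], [0, 5, 0, 5], [0, 7, 0, 7], [1, 7, 1, 7], [1, 0, 1, 0, 1, 0], [4, 6, 4, 6], [4, 1, 4, 1], [6, 1, 6, 1], [4, 8, 4, 8], [4, 0, 4, 0], [8, 2, 8, 2], [3, 8, 3, 8], [8, 1, 8, 1], [8, 4, 8, 4], [7, 6, 7, 6], [8, 3, 8, 3], [6, 3, 6, 3], [7, 3, 7, 3, 7, 3], [7, 4, 7, 4], [4, 7, 4, 7], [6, 7, 6, 7], [3, 4, 3, 4, 3, 4], [3, 6, 3, 6], [1, 3, 1, 3], [1, 4, 1, 4], [5, 4, 3, 1, 2, 3, 8, 7, 3, 5, 4, 3, 1, 2, 3, 8, 7, 3, 5, 4, 3, 1, 2, 3, 8, 7, 3, 5, 4, 3, 1, 2, 3, 8, 7, 3, 5, 4, 3, 1, 2, 3, 8, 7, 3, 5, 4, 3, 1, 2, 3, 8, 7, 3, 5, 4, 3,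 1, 2, 3, 8, 7, 3, 5, 4, 3, 1, 2, 3, 8, 7, 3, 5, 4, 3, 1, 2, 3, 8, 7, 3, 5, 4, 3, 1, 2, 3, 8, 7, 3], [1, 5, 1, 5]]
def RBC : List Nat := [69632, 18440, 14344, 4104, 55304, 71680, 8192, 12288, 26624, 8, 55296, 20488, 24584, 59392, 6152, 40968, 51200, 28680, 59400, 67592, 51208, 47112, 49160, 57352, 57344, 67584, 43008, 47104, 18432, 20480, 73769, 22528]
theorem rbc : ckRB 9 inv rels RB RBC = true := by decide +kernel
theorem sp1k : ckSub (nat_lit 0x3fff) (nat_lit 19) E1 [] [] (nat_lit 0) = true := by decide +kernel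
theorem sp1 {G : Type*} [Group G] (H : Subgroup G) (s : Nat → G) (hinv : ∀ l, s l = (s l)⁻¹) (h31 : s 31 = 1)
    (hrels : ∀ W ∈ rels, (W.map s).prod = 1) (hsub : ∀ w ∈ subw, (w.map s).prod ∈ H)
    (htgt : ∀ l < 9, ∀ i < 14080, Nat.land (E l i) 16383 < 14080)
    (hlow : ∀ l' < 9, ∀ i' < 14080, E l' i' < Nat.shiftLeft (Nat.shiftRight (E 1 0) 19) 19 →
      EdgeP H s (repOf s D) E 16383 l' i') : EdgeP H s (repOf s D) E 16383 1 0 := by
  have h1 := ckSub_sound E 16383 19 1 0 [] [] sp1k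
  exact special_sub H s (repOf s D) E 16383 14080 9 _ htgt hlow (repOf_zero s D) [] [] 1 0 (by decide) (by decide)
    (by decide) (by decide) (hsub _ (by decide)) h1.1 h1.2
theorem sp2k : ckSub (nat_lit 0x3fff) (nat_lit 19) E2 [] [] (nat_lit 0) = true := by decide +kernel
theorem sp2 {G : Type*} [Group G] (H : Subgroup G) (s : Nat → G) (hinv : ∀ l, s l = (s l)⁻¹) (h31 : s 31 = 1)
    (hrels : ∀ W ∈ rels, (W.map s).prod = 1) (hsub : ∀ w ∈ subw, (w.map s).prod ∈ H)
    (htgt : ∀ l < 9, ∀ i < 14080, Nat.land (E l i) 16383 < 14080)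
    (hlow : ∀ l' < 9, ∀ i' < 14080, E l' i' < Nat.shiftLeft (Nat.shiftRight (E 2 0) 19) 19 →
      EdgeP H s (repOf s D) E 16383 l' i') : EdgeP H s (repOf s D) E 16383 2 0 := by
  have h1 := ckSub_sound E 16383 19 2 0 [] [] sp2k
  exact special_sub H s (repOf s D) E 16383 14080 9 _ htgt hlow (repOf_zero s D) [] [] 2 0 (by decide) (by decide)
    (by decide) (by decide) (hsub _ (by decide)) h1.1 h1.2
theorem sp3k : ckSub (nat_lit 0x3fff) (nat_lit 19) E3 [] [] (nat_lit 0) = true := by decide +kernel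
theorem sp3 {G : Type*} [Group G] (H : Subgroup G) (s : Nat → G) (hinv : ∀ l, s l = (s l)⁻¹) (h31 : s 31 = 1)
    (hrels : ∀ W ∈ rels, (W.map s).prod = 1) (hsub : ∀ w ∈ subw, (w.map s).prod ∈ H)
    (htgt : ∀ l < 9, ∀ i < 14080, Nat.land (E l i) 16383 < 14080)
    (hlow : ∀ l' < 9, ∀ i' < 14080, E l' i' < Nat.shiftLeft (Nat.shiftRight (E 3 0) 19) 19 →
      EdgeP H s (repOf s D) E 16383 l' i') : EdgeP H s (repOf s D) E 16383 3 0 := by
  have h1 := ckSub_sound E 16383 19 3 0 [] [] sp3k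
  exact special_sub H s (repOf s D) E 16383 14080 9 _ htgt hlow (repOf_zero s D) [] [] 3 0 (by decide) (by decide)
    (by decide) (by decide) (hsub _ (by decide)) h1.1 h1.2
theorem sp4k : ckSub (nat_lit 0x3fff) (nat_lit 19) E4 [] [] (nat_lit 0) = true := by decide +kernel
theorem sp4 {G : Type*} [Group G] (H : Subgroup G) (s : Nat → G) (hinv : ∀ l, s l = (s l)⁻¹) (h31 : s 31 = 1)
    (hrels : ∀ W ∈ rels, (W.map s).prod = 1) (hsub : ∀ w ∈ subw, (w.map s).prod ∈ H)
    (htgt : ∀ l < 9, ∀ i < 14080, Nat.land (E l i) 16383 < 14080)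
    (hlow : ∀ l' < 9, ∀ i' < 14080, E l' i' < Nat.shiftLeft (Nat.shiftRight (E 4 0) 19) 19 →
      EdgeP H s (repOf s D) E 16383 l' i') : EdgeP H s (repOf s D) E 16383 4 0 := by
  have h1 := ckSub_sound E 16383 19 4 0 [] [] sp4k
  exact special_sub H s (repOf s D) E 16383 14080 9 _ htgt hlow (repOf_zero s D) [] [] 4 0 (by decide) (by decide)
    (by decide) (by decide) (hsub _ (by decide)) h1.1 h1.2
theorem sp5k : ckSub (nat_lit 0x3fff) (nat_lit 19) E5 [] [] (nat_lit 0) = true := by decide +kernel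
theorem sp5 {G : Type*} [Group G] (H : Subgroup G) (s : Nat → G) (hinv : ∀ l, s l = (s l)⁻¹) (h31 : s 31 = 1)
    (hrels : ∀ W ∈ rels, (W.map s).prod = 1) (hsub : ∀ w ∈ subw, (w.map s).prod ∈ H)
    (htgt : ∀ l < 9, ∀ i < 14080, Nat.land (E l i) 16383 < 14080)
    (hlow : ∀ l' < 9, ∀ i' < 14080, E l' i' < Nat.shiftLeft (Nat.shiftRight (E 5 0) 19) 19 →
      EdgeP H s (repOf s D) E 16383 l' i') : EdgeP H s (repOf s D) E 16383 5 0 := by
  have h1 := ckSub_sound E 16383 19 5 0 [] [] sp5k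
  exact special_sub H s (repOf s D) E 16383 14080 9 _ htgt hlow (repOf_zero s D) [] [] 5 0 (by decide) (by decide)
    (by decide) (by decide) (hsub _ (by decide)) h1.1 h1.2
theorem sp6k : ckSub (nat_lit 0x3fff) (nat_lit 19) E6 [] [] (nat_lit 0) = true := by decide +kernel
theorem sp6 {G : Type*} [Group G] (H : Subgroup G) (s : Nat → G) (hinv : ∀ l, s l = (s l)⁻¹) (h31 : s 31 = 1)
    (hrels : ∀ W ∈ rels, (W.map s).prod = 1) (hsub : ∀ w ∈ subw, (w.map s).prod ∈ H)
    (htgt : ∀ l < 9, ∀ i < 14080, Nat.land (E l i) 16383 < 14080)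
    (hlow : ∀ l' < 9, ∀ i' < 14080, E l' i' < Nat.shiftLeft (Nat.shiftRight (E 6 0) 19) 19 →
      EdgeP H s (repOf s D) E 16383 l' i') : EdgeP H s (repOf s D) E 16383 6 0 := by
  have h1 := ckSub_sound E 16383 19 6 0 [] [] sp6k
  exact special_sub H s (repOf s D) E 16383 14080 9 _ htgt hlow (repOf_zero s D) [] [] 6 0 (by decide) (by decide)
    (by decide) (by decide) (hsub _ (by decide)) h1.1 h1.2
theorem sp7k : ckSub (nat_lit 0x3fff) (nat_lit 19) E7 [] [] (nat_lit 0) = true := by decide +kernel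
theorem sp7 {G : Type*} [Group G] (H : Subgroup G) (s : Nat → G) (hinv : ∀ l, s l = (s l)⁻¹) (h31 : s 31 = 1)
    (hrels : ∀ W ∈ rels, (W.map s).prod = 1) (hsub : ∀ w ∈ subw, (w.map s).prod ∈ H)
    (htgt : ∀ l < 9, ∀ i < 14080, Nat.land (E l i) 16383 < 14080)
    (hlow : ∀ l' < 9, ∀ i' < 14080, E l' i' < Nat.shiftLeft (Nat.shiftRight (E 7 0) 19) 19 →
      EdgeP H s (repOf s D) E 16383 l' i') : EdgeP H s (repOf s D) E 16383 7 0 := by
  have h1 := ckSub_sound E 16383 19 7 0 [] [] sp7k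
  exact special_sub H s (repOf s D) E 16383 14080 9 _ htgt hlow (repOf_zero s D) [] [] 7 0 (by decide) (by decide)
    (by decide) (by decide) (hsub _ (by decide)) h1.1 h1.2
theorem sp8k : ckSub (nat_lit 0x3fff) (nat_lit 19) E8 [] [] (nat_lit 0) = true := by decide +kernel
theorem sp8 {G : Type*} [Group G] (H : Subgroup G) (s : Nat → G) (hinv : ∀ l, s l = (s l)⁻¹) (h31 : s 31 = 1)
    (hrels : ∀ W ∈ rels, (W.map s).prod = 1) (hsub : ∀ w ∈ subw, (w.map s).prod ∈ H)
    (htgt : ∀ l < 9, ∀ i < 14080, Nat.land (E l i) 16383 < 14080)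
    (hlow : ∀ l' < 9, ∀ i' < 14080, E l' i' < Nat.shiftLeft (Nat.shiftRight (E 8 0) 19) 19 →
      EdgeP H s (repOf s D) E 16383 l' i') : EdgeP H s (repOf s D) E 16383 8 0 := by
  have h1 := ckSub_sound E 16383 19 8 0 [] [] sp8k
  exact special_sub H s (repOf s D) E 16383 14080 9 _ htgt hlow (repOf_zero s D) [] [] 8 0 (by decide) (by decide)
    (by decide) (by decide) (hsub _ (by decide)) h1.1 h1.2
noncomputable def sp275649F : Nat → Nat := fun g => Nat.land (Nat.shiftRight (nat_lit 0x101e45021a6280f2281b8e840790c0dc74806e3a06e0a10371c00c6c18061d01b8e000dc700dc6c601de606e3660371b0371a181b8c81b8d100dc680dc24c01de606e324014a203719381b8c81b8b9c03bcc0dc60c06e2e06e3040371801467201b8b81b8b1c052880dc58c028ce06e2c80371603715381b8981b8a980436c0dc54606e2a06e2870146803714300a3301b8a200dc500dc49001be606e2630371300dcd381b8881b89180dc480614d00386c06e22601c3303711201b8881b88180dc2c0dc41006e2006e108021a40370f1810d181b87800dc3c0dc3900493e06e1c30249b0370e081b8701b868c0dc3409d25004e9c06e1a20370d0370c401b86014d0a0070e80dc2c80386606e1600370b0370a200c3101b85200dc28061a0606e1206e0c601c3a03708200e1b01b84040dc200dc1c803f8206e0e60370701fc7201b8300c4d8c0dc100dc14206e0a0350e10169e03704001b8201b81840dc080dc0ce06e0606e02001e3603702381b8101b80040dc040dc000034ee06e0050370001fcc)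 (Nat.mul (nat_lit 45) g)) (nat_lit 0x1fffffffffff)
noncomputable def sp275649T : Nat → Nat := fun g => Nat.land (Nat.shiftRight (nat_lit 0xdc14806e3600371a301b84900dc5ce028ce403716201b8aa00dc50606e24800dcd180c29980dc40806e1080370e001b86840dc3040534280370a000c34200dc18606e0e101fc7300c4d9006a1c206e06003701381b801c0dc00203f985) (Nat.mul (nat_lit 25) g)) (nat_lit 0x1ffffff)
noncomputable def sp275649L : List Nat := [nat_lit 0x0, nat_lit 0x203007, nat_lit 0x0, nat_lit 0x0, nat_lit 0x3000803008, nat_lit 0x0, nat_lit 0x70006000c03009, nat_lit 0x0, nat_lit 0x9000d00100500a, nat_lit 0x0, nat_lit 0x120000001403002, nat_lit 0x0, nat_lit 0x0, nat_lit 0x1a0300b, nat_lit 0x0, nat_lit 0x1b001e0300c, nat_lit 0x1a001e0300d, nat_lit 0x0, nat_lit 0x0, nat_lit 0x260300e, nat_lit 0x0, nat_lit 0x27002a0300f, nat_lit 0x26002a03003, nat_lit 0x0, nat_lit 0x0, nat_lit 0x30003203010, nat_lit 0x340000000003011, nat_lit 0x0, nat_lit 0x36003803002, nat_lit 0x33003803012,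 nat_lit 0x0, nat_lit 0x39003e03004, nat_lit 0x3b003e03003, nat_lit 0x0, nat_lit 0x2e0021004403001, nat_lit 0x0, nat_lit 0x2b0045004803005, nat_lit 0x1f0044004803013, nat_lit 0x0, nat_lit 0x4a0000004e03014, nat_lit 0x0, nat_lit 0x5203015, nat_lit 0x0, nat_lit 0x4e005603001, nat_lit 0x4b004f005605006, nat_lit 0x0, nat_lit 0x57005c03016, nat_lit 0x51000000000059005c05017, nat_lit 0x0, nat_lit 0x5d006203001, nat_lit 0x53005f006205006, nat_lit 0x0, nat_lit 0x0, nat_lit 0x670064006a03005, nat_lit 0x6a03018, nat_lit 0x0, nat_lit 0x650068007003019, nat_lit 0x6d006c00700301a, nat_lit 0x0, nat_lit 0x7200000018002400760501b, nat_lit 0x0, nat_lit 0x730077007a0301c, nat_lit 0x0, nat_lit 0x7b007e03004, nat_lit 0x80000000000301d, nat_lit 0x0, nat_lit 0x1400840301e, nat_lit 0x41004000000000000000000000000000000000000000000000000000000000000000000000000000000000000000000000000000000000000000000000000000000000000000000000000000000000000000000000000000000000000000000000000000000000000000000000000000000000000000000000000000000000000000000000000000000000000000000000000000000082008000000000000000000000000000000011001500845901f,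 nat_lit 0x870086000003020]
theorem sp275649k : ckBlock (nat_lit 0x3700) (nat_lit 0x3fff) (nat_lit 0xf00000) E inv sp275649T sp275649F RB sp275649L (nat_lit 0) = true := by decide +kernel
theorem sp275649r : Nat.shiftLeft (Nat.shiftRight (E 1 8614) 19) 19 = 15728640 := by decide +kernel
theorem sp275649t : Nat.land (E 1 8614) 16383 = 7749 := by decide +kernel
theorem sp275649l : 68 < sp275649L.length ∧ sp275649F 68 = 8614 + 2 ^ 20 * 7749 + 2 ^ 40 * 1 := by decide +kernel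
theorem sp275649 {G : Type*} [Group G] (H : Subgroup G) (s : Nat → G) (hinv : ∀ l, s l = (s l)⁻¹) (h31 : s 31 = 1)
    (hrels : ∀ W ∈ rels, (W.map s).prod = 1) (hsub : ∀ w ∈ subw, (w.map s).prod ∈ H)
    (htgt : ∀ l < 9, ∀ i < 14080, Nat.land (E l i) 16383 < 14080)
    (hlow : ∀ l' < 9, ∀ i' < 14080, E l' i' < Nat.shiftLeft (Nat.shiftRight (E 1 8614) 19) 19 →
      EdgeP H s (repOf s D) E 16383 l' i') : EdgeP H s (repOf s D) E 16383 1 8614 := by
  rw [sp275649r] at hlow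
  exact special_block H s 14080 9 16383 15728640 E inv D sp275649T sp275649F RB hinv h31 htgt hlow
    (ckRB_sound s 9 inv rels hrels hinv h31 RB RBC rbc) sp275649L sp275649k 1 8614 7749 (by decide) (by decide) sp275649t
    ⟨_, sp275649l⟩ (by decide)

theorem htgt : ∀ l < 9, ∀ i < 14080, Nat.land (E l i) 16383 < 14080 := fun l hl i hi => (edgeOK l hl i hi).1

theorem edges {G : Type*} [Group G] (H : Subgroup G) (s : Nat → G) (hinv : ∀ l, s l = (s l)⁻¹) (h31 : s 31 = 1)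
    (hrels : ∀ W ∈ rels, (W.map s).prod = 1) (hsub : ∀ w ∈ subw, (w.map s).prod ∈ H) :
    ∀ l < 9, ∀ i < 14080, EdgeP H s (repOf s D) E 16383 l i := by
  refine edges_correct H s E 16383 14080 9 19 14 31 inv D RW sp (by decide) (fun l hl => hl) (fun l _ => hinv l)
    ?_ ?_ ?_ edgeOK
  · intro l hl w hw
    interval_cases l
    · exact (ckRels_sound 9 inv rels 0 RW0 RC0 rc0 w hw).1
    · exact (ckRels_sound 9 inv rels 1 RW1 RC1 rc1 w hw).1
    · exact (ckRels_sound 9 inv rels 2 RW2 RC2 rc2 w hw).1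
    · exact (ckRels_sound 9 inv rels 3 RW3 RC3 rc3 w hw).1
    · exact (ckRels_sound 9 inv rels 4 RW4 RC4 rc4 w hw).1
    · exact (ckRels_sound 9 inv rels 5 RW5 RC5 rc5 w hw).1
    · exact (ckRels_sound 9 inv rels 6 RW6 RC6 rc6 w hw).1
    · exact (ckRels_sound 9 inv rels 7 RW7 RC7 rc7 w hw).1
    · exact (ckRels_sound 9 inv rels 8 RW8 RC8 rc8 w hw).1
  · intro l hl w hw
    interval_cases l
    · obtain ⟨_, c, hc⟩ := ckRels_sound 9 inv rels 0 RW0 RC0 rc0 w hw
      exact ckRel_sound s inv rels hrels 0 w c (fun l' _ => hinv l') hc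
    · obtain ⟨_, c, hc⟩ := ckRels_sound 9 inv rels 1 RW1 RC1 rc1 w hw
      exact ckRel_sound s inv rels hrels 1 w c (fun l' _ => hinv l') hc
    · obtain ⟨_, c, hc⟩ := ckRels_sound 9 inv rels 2 RW2 RC2 rc2 w hw
      exact ckRel_sound s inv rels hrels 2 w c (fun l' _ => hinv l') hc
    · obtain ⟨_, c, hc⟩ := ckRels_sound 9 inv rels 3 RW3 RC3 rc3 w hw
      exact ckRel_sound s inv rels hrels 3 w c (fun l' _ => hinv l') hc
    · obtain ⟨_, c, hc⟩ := ckRels_sound 9 inv rels 4 RW4 RC4 rc4 w hw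
      exact ckRel_sound s inv rels hrels 4 w c (fun l' _ => hinv l') hc
    · obtain ⟨_, c, hc⟩ := ckRels_sound 9 inv rels 5 RW5 RC5 rc5 w hw
      exact ckRel_sound s inv rels hrels 5 w c (fun l' _ => hinv l') hc
    · obtain ⟨_, c, hc⟩ := ckRels_sound 9 inv rels 6 RW6 RC6 rc6 w hw
      exact ckRel_sound s inv rels hrels 6 w c (fun l' _ => hinv l') hc
    · obtain ⟨_, c, hc⟩ := ckRels_sound 9 inv rels 7 RW7 RC7 rc7 w hw
      exact ckRel_sound s inv rels hrels 7 w c (fun l' _ => hinv l') hc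
    · obtain ⟨_, c, hc⟩ := ckRels_sound 9 inv rels 8 RW8 RC8 rc8 w hw
      exact ckRel_sound s inv rels hrels 8 w c (fun l' _ => hinv l') hc
  · refine hsp_of H s (repOf s D) E 16383 14080 9 19 sp (by decide) ?_
    refine List.forall_mem_cons.2 ⟨fun _ _ h => sp1 H s hinv h31 hrels hsub htgt h, ?_⟩
    refine List.forall_mem_cons.2 ⟨fun _ _ h => sp2 H s hinv h31 hrels hsub htgt h, ?_⟩
    refine List.forall_mem_cons.2 ⟨fun _ _ h => sp3 H s hinv h31 hrels hsub htgt h, ?_⟩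
    refine List.forall_mem_cons.2 ⟨fun _ _ h => sp4 H s hinv h31 hrels hsub htgt h, ?_⟩
    refine List.forall_mem_cons.2 ⟨fun _ _ h => sp5 H s hinv h31 hrels hsub htgt h, ?_⟩
    refine List.forall_mem_cons.2 ⟨fun _ _ h => sp6 H s hinv h31 hrels hsub htgt h, ?_⟩
    refine List.forall_mem_cons.2 ⟨fun _ _ h => sp7 H s hinv h31 hrels hsub htgt h, ?_⟩
    refine List.forall_mem_cons.2 ⟨fun _ _ h => sp8 H s hinv h31 hrels hsub htgt h, ?_⟩
    refine List.forall_mem_cons.2 ⟨fun _ _ h => sp275649 H s hinv h31 hrels hsub htgt h, ?_⟩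
    intro c hc
    exact absurd hc List.not_mem_nil

theorem covers {G : Type*} [Group G] (s : Nat → G) (hinv : ∀ l, s l = (s l)⁻¹) (h31 : s 31 = 1)
    (hrels2 : ∀ p ∈ rels2, ((p.1.map s).prod) ^ p.2 = 1) (H : Subgroup G) (hsub : ∀ w ∈ subw, (w.map s).prod ∈ H) :
    ∀ g ∈ letterGroup s 9, ∀ i < 14080, ∃ j < 14080, repOf s D i * g * (repOf s D j)⁻¹ ∈ H :=
  cover H s (repOf s D) E 16383 14080 9 inv (fun l hl => hl) (fun l _ => hinv l) htgt
    (edges H s hinv h31 (hrels_of s rels2 hrels2) hsub)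

theorem upper {G : Type*} [Group G] (s : Nat → G) (hinv : ∀ l, s l = (s l)⁻¹) (h31 : s 31 = 1)
    (hrels2 : ∀ p ∈ rels2, ((p.1.map s).prod) ^ p.2 = 1) (H : Subgroup G) (hsub : ∀ w ∈ subw, (w.map s).prod ∈ H)
    (hH : Finite H) : Finite (letterGroup s 9) ∧ Nat.card (letterGroup s 9) ≤ 14080 * Nat.card H :=
  card_le_of_cover H (repOf s D) 14080 (by decide) (repOf_zero s D) _
    (covers s hinv h31 hrels2 H hsub) hH

theorem upperIndex {G : Type*} [Group G] (s : Nat → G) (hinv : ∀ l, s l = (s l)⁻¹) (h31 : s 31 = 1)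
    (hrels2 : ∀ p ∈ rels2, ((p.1.map s).prod) ^ p.2 = 1) (H : Subgroup G) (hsub : ∀ w ∈ subw, (w.map s).prod ∈ H)
    (htop : letterGroup s 9 = ⊤) : H.FiniteIndex ∧ H.index ≤ 14080 :=
  index_le_of_cover H (repOf s D) 14080 (by decide) (repOf_zero s D)
    (fun g => covers s hinv h31 hrels2 H hsub g (by rw [htop]; exact Subgroup.mem_top g))


end Cfsg.Agent.H8.Fi22at
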