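import Cfsg.Agent.H8.CosetPres

set_option autoImplicit false
set_option linter.all false
set_option maxRecDepth 100000

namespace Cfsg.Agent.H8.O73ct
noncomputable def E0c0 : Nat := nat_lit 0x101c482bf9057ebacf2761e22c458406e080db78212244484688860d80c1ace83f1d07d8890c12216234283068860d00c19ee835dc0698b107101902031cf5728890112200233fc3061860c20c1827ab79d769090f9119f0182f8305e070f4755d41bbcc205c040b771dd2e83743876868ec0ddd6102c42058380b474192182b5da65890e7119cc1829c30531cac40e1c21a380376f840a2081421c369c05986ed90813c10275195c84ed508da80b269145ab8ecc70d7a89ac82767046cd0592a18248386536c97751501023d0854ba0ab0e18c1bb142044840884254613b00235f82c854113e13aec235d02c8242536082d8003fa08986c15881a5810578007b680fa1c2b8203c1f09009d54e022c163a9ee8c7111c7a2282752846a4058e07ca1810500006d3d1060827000359f280005327a1f9a8499e67c00528da1c8e83c84e91058c4739d810468005f398e6d81e8e43882087000b8749b801421c86c00502749a8e4349c668700ca0014dc3339b06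435cc6081dc00279ac60004e869978d42e8026f364b66a168d92c9a858350ae00110002110045004cc4010cc72898c50004c261938c5269884c3249662128c924986483188e000d4862a0025620ca400954701a0e0332d87e598f8b51e96a3c2d0765c8e8b31c968382cc6e5b0d801230e6411d080300a060138c02628c5e528b8a51694a2c28c56520a8a3148c63219062348c0500f0a01d140384a888951092a2024c3e2a09459120b0231002c20054400a10a182142e2206c490d08e190c0201803c7508872130d8241003020058520e08c1a0a02079048200a0000a3201801038a604118061b808280082400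
noncomputable def E0c1 : Nat := nat_lit 0x70ed648591fab2b6b68242c0ab599f0b492d6a202b4f056d46b092d67696be4054d45aea875c7b2c441d8c70a48e148782970053133aab6b5420ebc384fc709f267504d69e9ad3933a6c17567aaae304c073ac8e9581825a304b06095be1318026492d0923a0b8b401cea43a54460910c12118240934e9239ca4b384966e92cd9239ab792e1822f05d0df5a20cf4a14226d84d063a38c94619e8a2843c50870a10d7962af0450608422b2444e4631cf4649e0cf3b142082840c50812271c456368ac69158cb811019e66283e9e093bcb261625e203d8407ab8f18152542a4a45894080f0101de203b9ea7b8cf25141d082c1905828a91f1523c2c4744072080e3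
noncomputable def E0 : Nat → Nat := (fun h => @Nat.rec (fun _ => Nat → Nat)
 (fun i => Nat.land (Nat.shiftRight E0c0 (Nat.mul (nat_lit 19) (Nat.land i (nat_lit 255)))) (nat_lit 0x7ffff))
 (fun _ _ => (fun i => Nat.land (Nat.shiftRight E0c1 (Nat.mul (nat_lit 19) (Nat.land i (nat_lit 255)))) (nat_lit 0x7ffff))) (Nat.land h (nat_lit 256)) h)
noncomputable def E1c0 : Nat := nat_lit 0x9a320ab80176f8eb0f1d61c3c435d08abb714781b291bc92678a48f47c218903d9207a8c0dd181b83036d2476ba8d404212003351574a0ce80a20c134141762a0ae440dc6833891470820fe041fa002fc65780d0ef199dc8a369e87b860b97017488349146aba0ec0c16a89b5830590a0bd141788a338017520acc40d968232830549e6c83d98e823181072800a40c1467ab08f360a08c0005bc1827c55680aecf41176e435c386c0409b40d66822d83869840984016e1c344204b0809d4115e7a2b830481eaac3cd567a2a838648408c0c11471a98f452802c40e18610218e3509e8a00e17c1020c43581e89c09d700b200f44c84eb4058fc13ac4163e1e89439526181e4e448870ad080ec71a38e44684ea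8058e61c29c20389a6883910e13a8816371c88409d3c0b1b0e4408209a000d40825c003482095000d0699e8384904063350ee13a3c16301a8740411600178274482c5d350de08214002d82082000b4009fc013e8027b058a84015800291b06409cf00b140c430820750009c009c810380004c004da009acd92c9aa58354ae421987023020670008200994c728820620007c0097c50200025c3249662928c924986483188e3a155c021800347308a000c801298aa4d2d87e0093c4018880302d4765c8e8b31c96a382cc6e5b0d80014002442d46600908451e8923c28c5e1809430120602328c56528a8a314802352944e5409835170722d0e0581006c200d0401924c3e4a878970e9301c09444148842710032130582442858860a90e14040300805c00068e6101d81e4203801088400918c163a028290602a061900e08020000200205118061b808280082400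
noncomputable def E1c1 : Nat := nat_lit 0x5ced6f059956b482d6069acef35aa0ab0a8d6474eb8a1d8a00b282168002a6c9d7850a8ba163782aa99d69e0a6b814a1028a99d59e3ad8013f006bed1d4855aea675010278204ede3acbe74175a66e256123a4921347f66aea4bc47ab8612848e8620495f0a600122006a89acf9b39e88b4f11e9c934e9239c8611f0c23c18475f0a392b4874296f1c8de08b28f2e7428ca04c11396901182022ef0449e08887144082161042847a1061077826400d012590a4f200d6701acdc389b2271c0820210400207f90b2c21e56f5cc5da7cba0f84c220f24a9e494a6d131c1f8383ec707d3f4f30a24e134981775a2f080e2481039c207322b04456068b408258d8511a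
noncomputable def E1 : Nat → Nat := (fun h => @Nat.rec (fun _ => Nat → Nat)
 (fun i => Nat.land (Nat.shiftRight E1c0 (Nat.mul (nat_lit 19) (Nat.land i (nat_lit 255)))) (nat_lit 0x7ffff))
 (fun _ _ => (fun i => Nat.land (Nat.shiftRight E1c1 (Nat.mul (nat_lit 19) (Nat.land i (nat_lit 255)))) (nat_lit 0x7ffff))) (Nat.land h (nat_lit 256)) h)
noncomputable def E2c0 : Nat := nat_lit 0x2162200c71137e900e9415f6383a0206d0e0e645dee10360707104d12051aa1034d2578a26f0081a281bb82685a30ec0519c89ba8877e0ecfa0818c3abe10372a0ee4081863abd4268020ee00518081b787066040be1818e133e4145d84cf641dae0a2e01079800b6099e40a2d02677a06d005162083ac00578eedd0815aedb25d065040a7195b61339c14529e6c4099c67bb081451020df001401337060560289e041b200271105a820d60013400b51165c820d20012e2827c1067800950059a7c2b826658cebd0511eed2a10454ba0aa099900a2241062800873d946083040042802bf15964082f00041002ba4113000adcf84ca009b005662020c01581f09439d2671a48e8489ea9004156001d5c6459e8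8c7011a73228105300070005487221801509d0841112c00a74e8409e07e38cfe7aa00e33e8606c38cf60019c50321a678360ee729d801470c066394e630194d43880288360de6a9b8d33686a7c34cd600164002c00057004f4341d063390ac79100a261988502a9aa60140a600134c52e9865c0009600128013500269004d064158583098a5414cbe0010044318603f10084000f4012f0003b004b600968c9248603c3148e5c118b52296644000662193c0018802520d4a0000b8012707248004985c8e8201696e38080585a8d8a31a800270048600094012096c3000044008f8291c84c3706442538a814100001e004685309801191482429846008bc1015820290002e008a0940e92c1c25c364a868940c926180043e43858850a908140641c4284883088320c1d41e0804c000502010000100083469048020b1a00e2b818530280003004081a008260082400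
noncomputable def E2c1 : Nat := nat_lit 0x2d0f05a5e5b50036b5d6cebad9950b22ab65002b01055d65b0acb6050ebe0054587ae8414e002960052000a300363092c40b51020a1267540027c004f001af0013865e9e12570169b00131006b6504ec00960035a0025200d6538a2821560024c125541692247400024200d4c008f003522929492ce8008d8035069e6e08534008ca49342424a0045001a6121202423aa24b800870034948e569c4a801a3a51284ce4e00d0c9499821410020a0040c019f9293049e3e00cf49697800fe0067291c68019aa2b18202104041d278a8033220204103d0807fa6b1048e1e00cb51386a510c081da8c42923849091721a2c89c180191a2f04006444344d1780840e1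
noncomputable def E2 : Nat → Nat := (fun h => @Nat.rec (fun _ => Nat → Nat)
 (fun i => Nat.land (Nat.shiftRight E2c0 (Nat.mul (nat_lit 19) (Nat.land i (nat_lit 255)))) (nat_lit 0x7ffff))
 (fun _ _ => (fun i => Nat.land (Nat.shiftRight E2c1 (Nat.mul (nat_lit 19) (Nat.land i (nat_lit 255)))) (nat_lit 0x7ffff))) (Nat.land h (nat_lit 256)) h)
noncomputable def E3c0 : Nat := nat_lit 0x1be8b3f8018c84d18059ba0a370108b000d9042280844c006b100e1006220844000690210e0421a0033d1976a2cec006148bba90674828c80420e003140182821030420400304847a20ce0005fe83b78107d820fa0017838318017c0e0c3419ae00bd47060206d4491a600bc50768a0cd0005dc84b3903669eccc3cd96382b91564820e80014c3a36801731eec41d1b07b30801710ead53cd7e3029cf65e802db1814a79ae860518c0a23cd6e00265145aa2ab43cd6679ac8f7589e6b0001283a32860490e09338d56302450554a0aa81917c00b1c655d9c6a41917232ae0e350800841411428224e34e800811410c001fc015b20a98000fa71a58003d802af1d958322b465550a079140f0301e8003a1ea8c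000e42a27c554f1a688000de2aa6c0036802a0100e2001ac014e0006a00534001a4014b800680052a31a3854480aa8f000c22018c002f8028d000bc00a2c45418005c0050e0016c01428005a0050400a00013f0027c000a6e2195c0331c864114ec0013c013b8004e004ea009cc002600270004dc009b0e62c1c05908094e8148c92a80041004ceea158d5288003e004c400980d4268025d320961315cd0241b049060725c918001a3ae43740885b908012a188400005e00940c51e9883c2d8765c0e810239883730070000a4a71a802452d066518c8b518968300047e10088b5169682c28c56530a8011b126282944e52098200d94a2429046130b8180c14a2024c3e10058950e9281c0984a0c04c950c820210002213078180810a140403400034010b82015000164403801090f00c0041e3b02868048cc081a40e2b018570288604000040080c240082400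
noncomputable def E3c1 : Nat := nat_lit 0x54ed60058c00b10015f002bc0057000ad8015a006d400da400aa80153006d000d9d75ae80366006ca00d9143acbaf57742b0a1d5801b0a6f54006c099d4965a8b475008270b2d3933a6a674c51690a2d1533a4a814b4ce8e104a940a5029274ce86aad0923a0a4f4048e7eaacf9239e8411f5567600471b39c84d4f05a360a469239ab81337266891cc8208aa612b052244045d23968410f4d6601351816860290b042880042545928290644e4689c88208228b2009a780b40414800033a0426e084d8007e840fc2165c0a3e4269882cf7051ec084bc0079828f209a580b3c014778212904250003ac019326b08051ce08490007284d21059c80a38c108f0211d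
noncomputable def E3 : Nat → Nat := (fun h => @Nat.rec (fun _ => Nat → Nat)
 (fun i => Nat.land (Nat.shiftRight E3c0 (Nat.mul (nat_lit 19) (Nat.land i (nat_lit 255)))) (nat_lit 0x7ffff))
 (fun _ _ => (fun i => Nat.land (Nat.shiftRight E3c1 (Nat.mul (nat_lit 19) (Nat.land i (nat_lit 255)))) (nat_lit 0x7ffff))) (Nat.land h (nat_lit 256)) h)
noncomputable def E4c0 : Nat := nat_lit 0x411fe0846c006f380f9411f600c5dc37e208f8055ae91bbd047aa46ed001a838371047882ad0481ec823b9207a0210c0019a00c25b36d003084cdce7a398006202ac24cdc67a3893370821010017e00bf4155e8e6f23d1b6d83a4005d220d1041ee002dc005b002f31817c002cd136c020f000160002bc017582aac70194e1b2c6056a46c83918e91b180052002e548d86083900050800a0005be31b4c106e8009d0013800b6503590009a005ac00b54504f80097005a4802e4004a802cf0059c89ab86364820cc0011c0023450480008b44d4e002200043802c544d46002140160802c014d6a00208015e002bb0010000ae060420007e00568001f001589f2943952681a48003b8a6a9000ea00aac0155000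730055081a280038002a60054a001b801510d299000d800a7850378029b140da00a61073e802963a0f66b1e8f33c80062005220018001478a06100518799c8002e802891650200a18583f80283100b82016cf7349ac68310ce28154e3329c664000a0009e0593a002761009e7197801388906b118d41813030259ce58310ae281185933168541008469948001f80263120be180f8d32686c5a0d4b2100ec201d1a6482d08e2c958a4228803530c862414c301918640004a21b13820171863c0949413924171582a2a30c6e520d84822060282cc661b1042012966303185e128f417109662c04072080e0000f86c340803c51898251882e1a28c465a888101680017004521289c170a9261c2943608090000914e18004404a858100e8000f25c2600864980890e10004284383886068ee0c1d8163a82867048ca081a40e2a818580288c040d00600004010102400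
noncomputable def E4c1 : Nat := nat_lit 0x55ad6aa5a954b4a8968512cea259944b2a8964082b20055934b0a69600c2a81054815a78014d082981052426b182b460028800d8800a08715f0827e13578159e2e750042ba004d801ae04d5b05662004bc26ad02b2c4da8e085600094003574da860049001aaa514009aa60ac85269e821510023ae24e8208e2c7384926e00d39269a82b180022c934c810a58011300694004412696821480021af049d249480345792549249800838034245a468b488109f0010254e3e8a478019d84d39055fca9c69148c82134001f400ccd3087a2914006609842d14888032e4ce2a8a438019582aec4ce248a4280075000e80064aa1c190482a87044120600c80157028700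
noncomputable def E4 : Nat → Nat := (fun h => @Nat.rec (fun _ => Nat → Nat)
 (fun i => Nat.land (Nat.shiftRight E4c0 (Nat.mul (nat_lit 19) (Nat.land i (nat_lit 255)))) (nat_lit 0x7ffff))
 (fun _ _ => (fun i => Nat.land (Nat.shiftRight E4c1 (Nat.mul (nat_lit 19) (Nat.land i (nat_lit 255)))) (nat_lit 0x7ffff))) (Nat.land h (nat_lit 256)) h)
noncomputable def E5c0 : Nat := nat_lit 0x63aa9bf8018d026dd042300036c006c803160422a003580189800d5006240034801880210f0019e00c3400673c0ea00616f3bb01366000c70018a00c1c0183021040018200c080060286e000600a3b78107e000bc005f4002ec017c800b848da000bd8017a252cd0016800bc80058a40d7005de00bb5206a020e900156002a80054000a6005d0002940173a6ec40014499b080171802e14d97e00279b65d002dc005b4d82f4004d802d844160882bc004c002d31813a002580168a2eb74556c002440047b409c0059600b280046002c90011200b20016324ca40010c00b0d2650a4aa00010600af86659b4aac0057282a55094a002b51410400ac9004d2009966902001e00157000760055ad9a35b047002a9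140ea001c40153a2c884550e00a8d1542a32840053e2aa5d90499e07c3c0f6201b040359ea803dcfed01d0003180292414ee00a405545b467a100c02017c014520a70424de829b9073688a7e11cfa731a0302d1c06a6d8ccd819c402980051004f27a988f93088a7311ce418138f52e9ee5c3d8b61b1a4d02b8404a34cb2e3950e92ab805611cca1810401321ca5039c9e1b178201e9cc4c38c9611960c82383039300926c919d7223a0450c0686b9083629040313547e6b0f823268302d34c766c0e8102416036000525d0e0c71a86c430804e630c82320030243185e618b8101e0002032056620a8011b96c2808c660c074b312820300003259888b8108022c2d83e5187810130001428c36540680111950182942e49858980a8021c260264a8489708910102141e4403886068f00c1d8163982868048c6081a40e29818570288c040d40612008000000201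
noncomputable def E5c1 : Nat := nat_lit 0x55ad6aada955b4a8b68516cea2d9945b2a8b64512c6a258935b0a6b604d2be9a57934aea695c4d2b69a56820a3a69584d2ae0050d24aa86140492a6104f524a88413904e6e92538009a8413249296925282096a494809ab209ca524a280126006ac8a508009186f54082448a4f826a90271e45276bace826a80271b0429e0046401a6a29344526613530138a22930002228a4b826a48270e4525609c3010a30010a0021200d1104928010500682134fc1381a092004e02084f0007facd1c04270003f4019b026fb4122e003e0137b82131001ea003cc0197800f104de0084b000770212a001d600ca001939e908001cc003940192026e40424200388108f800df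
noncomputable def E5 : Nat → Nat := (fun h => @Nat.rec (fun _ => Nat → Nat)
 (fun i => Nat.land (Nat.shiftRight E5c0 (Nat.mul (nat_lit 19) (Nat.land i (nat_lit 255)))) (nat_lit 0x7ffff))
 (fun _ _ => (fun i => Nat.land (Nat.shiftRight E5c1 (Nat.mul (nat_lit 19) (Nat.land i (nat_lit 255)))) (nat_lit 0x7ffff))) (Nat.land h (nat_lit 256)) h)
noncomputable def E6c0 : Nat := nat_lit 0x63c00378018d800dc001b600c61e6793c0f1001ac00c54018a24ef478212f03e5e67c000cf0061e00c392876800cd00618f03500065a08e840dce823990672800c10060800c0d1770800bf0060200bf8005e002fc005f640329d06922ed80016e00bdd156abccea20192eab651668800b0005e08c3380176000ab005d243b6887699e6c83d18e382b8f3629ecc441d8600284017220ac0005c0382b4004e802dd1c154e3acd075ca0ab8005ae822d870548e0a87017481ac90658802d04215e3bb18775f0008e005983aaec775a8eab41812471a9860489c6a43dd467aa8801611e8a0181203023c015e8c08d3d5367a268f84c8c08c1811679a58f64a9f094000f433a9c65528ce9f1953c00ab0644e0ca98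1912e281e4503c1a688140ee72a18e4429d084140ec281d4503a1c880398fe281cc50391c67c398f600a4c57450aa891510e2aa0c54410b081150fc2b1f4403188062100c26a1b8d63688060100be699a8402f1a668350ce6c198d6329ae64114e2221c048378886c118d6219a430280604f30cb6181380024800480008e64158c82a98854318a661948c5288685d0d8b819968001e0403e00074000e4012c80258004ae5c118b42296c442cc865b108b320800302d07e1193000168024d000560092c01250002931c6c600dca61a946340004c518c800120024028c5e00084011e96e2c004760007c011c126280003a008cc000d0023129c4600060011714a200045400054011392e1c0002600894950c802222502e00040010f10a1400436420488608802161d01e4483873068f20c18c160001c6904800050041400010010400206110061a808270082400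
noncomputable def E6c1 : Nat := nat_lit 0x58ad6aa5aa20b3bf5618aad2b1598b0b02896450ec6f0579f0b4169657c2aaf1d8800a72e95c282a699d6933ac8014575a950dd49fcafc014128eb708558009da67500026c00d7585a69213f00260e855d23a48012b48e8e004a001ac3c12f7ce7a9ad0a0daa3e12324e9800481f0a18011d006a2924e9239c8011a0023200d3d979a801177025c4048800898034b79a88e44cd13968010d006900042c0085003467c224f04452592a49247da8041cc800810033e00200003fc019e2271c001fa00ce0019b800fa00668ec440007b000f500662fe49deb933a116001de003b80196000eb0065400ca5ea79a2b084520e8b4191482800e3001c400c84006f8031f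
noncomputable def E6 : Nat → Nat := (fun h => @Nat.rec (fun _ => Nat → Nat)
 (fun i => Nat.land (Nat.shiftRight E6c0 (Nat.mul (nat_lit 19) (Nat.land i (nat_lit 255)))) (nat_lit 0x7ffff))
 (fun _ _ => (fun i => Nat.land (Nat.shiftRight E6c1 (Nat.mul (nat_lit 19) (Nat.land i (nat_lit 255)))) (nat_lit 0x7ffff))) (Nat.land h (nat_lit 256)) h)
noncomputable def E7c0 : Nat := nat_lit 0x201cc81bf88072bab0b782144244c848910f118221838370706d8e0da1c1b29c3bd38773f5094c1e4983c5c574bc0d7741bae8341c076909022120043bfc857e9e6e41c1903831c70631e6e01c18a38311d5758e8f61ddea3a3d075798c0be7a1d8302f0605d8c0ba491a29033d2069bb0ea4a1a4e2b31c45eb80ce451968a32914648e8e31ddc43a384756f8f0de1814e71b0860530c0a51814832361c0668cad6195aa33350504f8a09e1413a282711059220b1461608a2d5155a220b36c158822b90456b68af4155682aa90454a0aa81918632b0465600ccbf141142822450440a087151722aae0565b8aeb610106202084040a0a9641d2a80261004bb4893681287a248f5489e8903d51e7b238f7469ea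8c3dd162a28c55510aca115d40201c440380806f1153623a68494c8606c0c0d6781f0f03d9ee7e3e0fa731e8e43c9ca7839cee729d8e73a9d27439ce6741c8454308e851250818174302e06e800e0fe10168e6341c06935cce6c998d8329a864354c66b988d9309ae60360be6b17837370706d08098131a813251a05734cb064958c92a98e54320a663148c52898e503209e63138c32684c5b04c7608164001c000370006c5c918b722970442d8865c108b620966402dc7e5b0f8b31e8002c04096000a8001480249004900091ca81a94c3428c66530c8a318800232985e518b800100023c0003e008e8011c92c2824c4e000709312800190046049888000b8022d0045641878000a0022620c3600048011200011004423985800078021d0001a00868010c0000b0042a00028010980008004200083800030020c1e40e0082468028ac0411c061a808240082400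
noncomputable def E7c1 : Nat := nat_lit 0x59ad6f85961ab22af6855ece68585f7b54216979ab6f3568d7b328f60522bea357943ae98155782c6f0589f0a63a14b74290f8524c5ae271544daa69b54933a8a6d504ce9e58508b0a0be95974eb0504cdf6ab3b1577ae64f1cc5c99a3d12c82a5a5ad38b4a6a514049a7e91cf9269ea473c2824a93ce9269ca473848e6e50490a091b814529694f051de0a3121172422ca3cae00a1bc1445025d08456098a3a1188021efdc38a59d9493629a6a8b48913909210844e3e89c789083a2d1c44e36484189082bb328256604a4be199540129201f4403e4807c2810d80e4ef84994888400f7741f8f4bedf07812b202523a4a468978ca070440e06403a10380900e7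
noncomputable def E7 : Nat → Nat := (fun h => @Nat.rec (fun _ => Nat → Nat)
 (fun i => Nat.land (Nat.shiftRight E7c0 (Nat.mul (nat_lit 19) (Nat.land i (nat_lit 255)))) (nat_lit 0x7ffff))
 (fun _ _ => (fun i => Nat.land (Nat.shiftRight E7c1 (Nat.mul (nat_lit 19) (Nat.land i (nat_lit 255)))) (nat_lit 0x7ffff))) (Nat.land h (nat_lit 256)) h)
noncomputable def Dc0 : Nat := nat_lit 0x6f8dbc66f11b866d99b656c95b236b19ac56b0daa56a11a45690d9e667959e367159a666919a165998e562958a36211826609582360157e65f917e15e197855e0d7655d117055b996e45b116c25a15664589560658115e45789566559554554154c5530d4a552114815115426509140450093c54e993a44e113824d953444d093234c152e44b892c54a912a24a0d22547951c647111a44615164449510443910e243150a44289083419504441090234010fe33f80fc43e8cf843d8cf603d18f053b90ec53a90ea23a0ce64390ce253810e02378cdc4368cda03610d633580d433504d233484d033404ce23194c44308cc042f8cbe02f0cbc12e90b832e00b632d84b432d04b222c08ae2298ca602904a2528109e327809c327049a2260c981258894224989062398880210082320848021f907c31f047a21e187621d187261c1c6e71b1c6a01a0c68119886411888606178c5c216985871598547149c526149452314044e213184a212184671108426101c4050f9c3e60f903c20e983870d183270c943060b9c2e40b882a60a1c28509982470910227088c206079c1e4069c1a30684167058c147050810704080e6031c0a602800860204062010c0240014000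
noncomputable def Dc1 : Nat := nat_lit 0xb40ac63b10ebe3af0eb83ad8eb43ac0aac4aa8ea63a986a22a71a9a4a58a902a30a8a6a212865a0927e19f0a7829d9a7029b1a6c49a96622981a5e4960a566948a50694124c5930a4849196441908a4068f0a3a68e923838d8a3468c9a3258c8a2e68b12282899a2648896204870a1a68692166851a145849612383920a5828a062811a0448019fe67f95fc27e99fa57e8df467d11f057b19ea67a95e65798de257799dc67715d667595d637511d047315ca5728dc667119c456f99be5
noncomputable def D : Nat → Nat := (fun h => @Nat.rec (fun _ => Nat → Nat)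
 (fun i => Nat.land (Nat.shiftRight Dc0 (Nat.mul (nat_lit 14) (Nat.land i (nat_lit 255)))) (nat_lit 0x3fff))
 (fun _ _ => (fun i => Nat.land (Nat.shiftRight Dc1 (Nat.mul (nat_lit 14) (Nat.land i (nat_lit 255)))) (nat_lit 0x3fff))) (Nat.land h (nat_lit 256)) h)
noncomputable def T0 : Nat → Nat := fun i => Nat.land (E0 i) (nat_lit 511)
noncomputable def T1 : Nat → Nat := fun i => Nat.land (E1 i) (nat_lit 511)
noncomputable def T2 : Nat → Nat := fun i => Nat.land (E2 i) (nat_lit 511)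
noncomputable def T3 : Nat → Nat := fun i => Nat.land (E3 i) (nat_lit 511)
noncomputable def T4 : Nat → Nat := fun i => Nat.land (E4 i) (nat_lit 511)
noncomputable def T5 : Nat → Nat := fun i => Nat.land (E5 i) (nat_lit 511)
noncomputable def T6 : Nat → Nat := fun i => Nat.land (E6 i) (nat_lit 511)
noncomputable def T7 : Nat → Nat := fun i => Nat.land (E7 i) (nat_lit 511)
noncomputable def E : Nat → Nat → Nat := fun l => (@Nat.rec (fun _ => Nat → Nat) E0 (fun l _ => (@Nat.rec (fun _ => Nat → Nat) E1 (fun l _ => (@Nat.rec (fun _ => Nat → Nat) E2 (fun l _ => (@Nat.rec (fun _ => Nat → Nat) E3 (fun l _ => (@Nat.rec (fun _ => Nat → Nat) E4 (fun l _ => (@Nat.rec (fun _ => Nat → Nat) E5 (fun l _ => (@Nat.rec (fun _ => Nat → Nat) E6 (fun l _ => E7) l)) l)) l)) l)) l)) l)) l)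
noncomputable def T : Nat → Nat → Nat := fun l => (@Nat.rec (fun _ => Nat → Nat) T0 (fun l _ => (@Nat.rec (fun _ => Nat → Nat) T1 (fun l _ => (@Nat.rec (fun _ => Nat → Nat) T2 (fun l _ => (@Nat.rec (fun _ => Nat → Nat) T3 (fun l _ => (@Nat.rec (fun _ => Nat → Nat) T4 (fun l _ => (@Nat.rec (fun _ => Nat → Nat) T5 (fun l _ => (@Nat.rec (fun _ => Nat → Nat) T6 (fun l _ => T7) l)) l)) l)) l)) l)) l)) l)
noncomputable def inv : Nat → Nat := fun l => l
def rels2 : List (List Nat × Nat) := [([0, 1], 3), ([0, 2], 2), ([0, 3], 2), ([0, 4], 2), ([0, 5], 2), ([0, 6], 2), ([0, 7], 2), ([1, 2], 3), ([1, 3], 2), ([1, 4], 2), ([1, 5], 2), ([1, 6], 2), ([1, 7], 2), ([2, 3], 3), ([2, 4], 2), ([2, 5], 2), ([2, 6], 3), ([2, 7], 2), ([3, 4], 3), ([3, 5], 2), ([3, 6], 2), ([3, 7], 2), ([4, 5], 3), ([4, 6], 2), ([4, 7], 2), ([5, 6], 2), ([5, 7], 2), ([6, 7], 3), ([2, 1, 0, 2, 3, 4, 2, 6, 7], 10), ([0, 1, 2, 3, 4, 5, 6], 9)]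
def rels : List (List Nat) := rels2.map (fun p => wpow p.1 p.2)
def relsP : List (List Nat × Nat) := [([0, 1], 3), ([0, 2], 2), ([0, 3], 2), ([0, 4], 2), ([0, 5], 2), ([0, 6], 2), ([0, 7], 2), ([1, 2], 3), ([1, 3], 2), ([1, 4], 2), ([1, 5], 2), ([1, 6], 2), ([1, 7], 2), ([2, 3], 3), ([2, 4], 2), ([2, 5], 2), ([2, 6], 3), ([2, 7], 2), ([3, 4], 3), ([3, 5], 2), ([3, 6], 2), ([3, 7], 2), ([4, 5], 3), ([4, 6], 2), ([4, 7], 2), ([5, 6], 2), ([5, 7], 2), ([6, 7], 3), ([2, 1, 0, 2, 3, 4, 2, 6, 7], 10), ([0, 1, 2, 3, 4, 5, 6], 9)]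
def subw : List (List Nat) := [[0], [1], [2], [3], [4], [6], [7]]
def RW0 : List (List Nat) := [[2, 0, 2], [6, 0, 6], [1, 0, 1, 0, 1], [3, 0, 3], [4, 0, 4], [5, 0, 5], [7, 0, 7], [1, 2, 3, 4, 5, 6, 0, 1, 2, 3, 4, 5, 6, 0, 1, 2, 3, 4, 5, 6, 0, 1, 2, 3, 4, 5, 6, 0, 1, 2, 3, 4, 5, 6, 0, 1, 2, 3, 4, 5, 6, 0, 1, 2, 3, 4, 5, 6, 0, 1, 2, 3, 4, 5, 6, 0, 1, 2, 3, 4, 5, 6], [2, 3, 4, 2, 6, 7, 2, 1, 0, 2, 3, 4, 2, 6, 7, 2, 1, 0, 2, 3, 4, 2, 6, 7, 2, 1, 0, 2, 3, 4, 2, 6, 7, 2, 1, 0, 2, 3, 4, 2, 6, 7, 2, 1, 0, 2, 3, 4, 2, 6, 7, 2, 1, 0, 2, 3, 4, 2, 6, 7, 2, 1, 0, 2, 3, 4, 2, 6, 7, 2, 1, 0, 2, 3, 4, 2, 6, 7, 2, 1, 0, 2, 3, 4, 2, 6, 7, 2, 1], [6, 5, 4, 3, 2, 1, 0, 6, 5, 4, 3, 2, 1, 0, 6, 5, 4, 3, 2, 1, 0, 6, 5, 4, 3, 2, 1, 0, 6, 5, 4, 3, 2, 1, 0, 6, 5, 4, 3, 2, 1, 0, 6, 5, 4, 3, 2, 1, 0, 6, 5, 4, 3, 2, 1, 0, 6, 5, 4, 3, 2, 1]]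
noncomputable def RF0 : List (List (Nat → Nat)) := [[E2, E0, E2], [E6, E0, E6], [E1, E0, E1, E0, E1], [E3, E0, E3], [E4, E0, E4], [E5, E0, E5], [E7, E0, E7], [E1, E2, E3, E4, E5, E6, E0, E1, E2, E3, E4, E5, E6, E0, E1, E2, E3, E4, E5, E6, E0, E1, E2, E3, E4, E5, E6, E0, E1, E2, E3, E4, E5, E6, E0, E1, E2, E3, E4, E5, E6, E0, E1, E2, E3, E4, E5, E6, E0, E1, E2, E3, E4, E5, E6, E0, E1, E2, E3, E4, E5, E6], [E2, E3, E4, E2, E6, E7, E2, E1, E0, E2, E3, E4, E2, E6, E7, E2, E1, E0, E2, E3, E4, E2, E6, E7, E2, E1, E0, E2, E3, E4, E2, E6, E7, E2, E1, E0, E2, E3, E4, E2, E6, E7, E2, E1, E0, E2, E3, E4, E2, E6, E7, E2, E1, E0, E2, E3, E4, E2, E6, E7, E2, E1, E0, E2, E3, E4, E2, E6, E7, E2, E1, E0, E2, E3, E4, E2, E6, E7, E2, E1, E0, E2, E3, E4, E2, E6, E7, E2, E1], [E6, E5, E4, E3, E2, E1, E0, E6, E5, E4, E3, E2, E1, E0, E6, E5, E4, E3, E2, E1, E0, E6, E5, E4, E3, E2, E1, E0, E6, E5, E4, E3, E2, E1, E0, E6, E5, E4, E3, E2, E1, E0,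 E6, E5, E4, E3, E2, E1, E0, E6, E5, E4, E3, E2, E1, E0, E6, E5, E4, E3, E2, E1]]
def RC0 : List Nat := [512, 2560, 0, 1024, 1536, 2048, 3072, 14848, 14340, 14849]
def RW1 : List (List Nat) := [[2, 1, 2, 1, 2], [0, 1, 0, 1, 0], [6, 1, 6], [3, 1, 3], [4, 1, 4], [5, 1, 5], [7, 1, 7], [2, 3, 4, 5, 6, 0, 1, 2, 3, 4, 5, 6, 0, 1, 2, 3, 4, 5, 6, 0, 1, 2, 3, 4, 5, 6, 0, 1, 2, 3, 4, 5, 6, 0, 1, 2, 3, 4, 5, 6, 0, 1, 2, 3, 4, 5, 6, 0, 1, 2, 3, 4, 5, 6, 0, 1, 2, 3, 4, 5, 6, 0], [0, 6, 5, 4, 3, 2, 1, 0, 6, 5, 4, 3, 2, 1, 0, 6, 5, 4, 3, 2, 1, 0, 6, 5, 4, 3, 2, 1, 0, 6, 5, 4, 3, 2, 1, 0, 6, 5, 4, 3, 2, 1, 0, 6, 5, 4, 3, 2, 1, 0, 6, 5, 4, 3, 2, 1, 0, 6, 5, 4, 3, 2], [2, 7, 6, 2, 4, 3, 2, 0, 1, 2, 7, 6, 2, 4, 3, 2, 0, 1, 2, 7, 6, 2, 4, 3, 2, 0, 1, 2, 7, 6, 2, 4, 3, 2, 0, 1, 2, 7, 6, 2, 4, 3, 2, 0, 1, 2, 7, 6, 2, 4, 3, 2, 0, 1, 2, 7, 6, 2, 4, 3, 2, 0, 1, 2, 7, 6, 2, 4, 3, 2, 0, 1, 2, 7, 6, 2, 4, 3, 2, 0, 1, 2, 7, 6, 2, 4, 3, 2, 0], [0, 2,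 3, 4, 2, 6, 7, 2, 1, 0, 2, 3, 4, 2, 6, 7, 2, 1, 0, 2, 3, 4, 2, 6, 7, 2, 1, 0, 2, 3, 4, 2, 6, 7, 2, 1, 0, 2, 3, 4, 2, 6, 7, 2, 1, 0, 2, 3, 4, 2, 6, 7, 2, 1, 0, 2, 3, 4, 2, 6, 7, 2, 1, 0, 2, 3, 4, 2, 6, 7, 2, 1, 0, 2, 3, 4, 2, 6, 7, 2, 1, 0, 2, 3, 4, 2, 6, 7, 2]]
noncomputable def RF1 : List (List (Nat → Nat)) := [[E2, E1, E2, E1, E2], [E0, E1, E0, E1, E0], [E6, E1, E6], [E3, E1, E3], [E4, E1, E4], [E5, E1, E5], [E7, E1, E7], [E2, E3, E4, E5, E6, E0, E1, E2, E3, E4, E5, E6, E0, E1, E2, E3, E4, E5, E6, E0, E1, E2, E3, E4, E5, E6, E0, E1, E2, E3, E4, E5, E6, E0, E1, E2, E3, E4, E5, E6, E0, E1, E2, E3, E4, E5, E6, E0, E1, E2, E3, E4, E5, E6, E0, E1, E2, E3, E4, E5, E6, E0], [E0, E6, E5, E4, E3, E2, E1, E0, E6, E5, E4, E3, E2, E1, E0, E6, E5, E4, E3, E2, E1, E0, E6, E5, E4, E3, E2, E1, E0, E6, E5, E4, E3, E2, E1, E0, E6, E5, E4, E3, E2, E1, E0, E6, E5, E4, E3, E2, E1, E0, E6, E5, E4, E3, E2, E1, E0, E6, E5, E4, E3, E2], [E2,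 E7, E6, E2, E4, E3, E2, E0, E1, E2, E7, E6, E2, E4, E3, E2, E0, E1, E2, E7, E6, E2, E4, E3, E2, E0, E1, E2, E7, E6, E2, E4, E3, E2, E0, E1, E2, E7, E6, E2, E4, E3, E2, E0, E1, E2, E7, E6, E2, E4, E3, E2, E0, E1, E2, E7, E6, E2, E4, E3, E2, E0, E1, E2, E7, E6, E2, E4, E3, E2, E0, E1, E2, E7, E6, E2, E4, E3, E2, E0, E1, E2, E7, E6, E2, E4, E3, E2, E0], [E0, E2, E3, E4, E2, E6, E7, E2, E1, E0, E2, E3, E4, E2, E6, E7, E2, E1, E0, E2, E3, E4, E2, E6, E7, E2, E1, E0, E2, E3, E4, E2, E6, E7, E2, E1, E0, E2, E3, E4, E2, E6, E7, E2, E1, E0, E2, E3, E4, E2, E6, E7, E2, E1, E0, E2, E3, E4, E2, E6, E7, E2, E1, E0, E2, E3, E4, E2, E6, E7, E2, E1, E0, E2, E3, E4, E2, E6, E7, E2, E1, E0, E2, E3, E4, E2, E6, E7, E2]]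
def RC1 : List Nat := [3584, 2, 5632, 4096, 4608, 5120, 6144, 14850, 14851, 14339, 14338]
def RW2 : List (List Nat) := [[1, 2, 1, 2, 1], [4, 2, 4], [3, 2, 3, 2, 3], [5, 2, 5], [6, 2, 6, 2, 6], [0, 2, 0], [7, 2, 7], [4, 3, 2, 0, 1, 2, 7, 6, 2, 4, 3, 2, 0, 1, 2, 7, 6, 2, 4, 3, 2, 0, 1, 2, 7, 6, 2, 4, 3, 2, 0, 1, 2, 7, 6, 2, 4, 3, 2, 0, 1, 2, 7, 6, 2, 4, 3, 2, 0, 1, 2, 7, 6, 2, 4, 3, 2, 0, 1, 2, 7, 6, 2, 4, 3, 2, 0, 1, 2, 7, 6, 2, 4, 3, 2, 0, 1, 2, 7, 6, 2, 4, 3, 2, 0, 1, 2, 7, 6], [3, 4, 5, 6, 0, 1, 2, 3, 4, 5, 6, 0, 1, 2, 3, 4, 5, 6, 0, 1, 2, 3, 4, 5, 6, 0, 1, 2, 3, 4, 5, 6, 0, 1, 2, 3, 4, 5, 6, 0, 1, 2, 3, 4, 5, 6, 0, 1, 2, 3, 4, 5, 6, 0, 1, 2, 3, 4, 5, 6, 0, 1]]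
noncomputable def RF2 : List (List (Nat → Nat)) := [[E1, E2, E1, E2, E1], [E4, E2, E4], [E3, E2, E3, E2, E3], [E5, E2, E5], [E6, E2, E6, E2, E6], [E0, E2, E0], [E7, E2, E7], [E4, E3, E2, E0, E1, E2, E7, E6, E2, E4, E3, E2, E0, E1, E2, E7, E6, E2, E4, E3, E2, E0, E1, E2, E7, E6, E2, E4, E3, E2, E0, E1, E2, E7, E6, E2, E4, E3, E2, E0, E1, E2, E7, E6, E2, E4, E3, E2, E0, E1, E2, E7, E6, E2, E4, E3, E2, E0, E1, E2, E7, E6, E2, E4, E3, E2, E0, E1, E2, E7, E6, E2, E4, E3, E2, E0, E1, E2, E7, E6, E2, E4, E3, E2, E0, E1, E2, E7, E6], [E3, E4, E5, E6, E0, E1, E2, E3, E4, E5, E6, E0, E1, E2, E3, E4, E5, E6, E0, E1, E2, E3, E4, E5, E6, E0, E1, E2, E3, E4, E5, E6, E0, E1, E2, E3, E4, E5, E6, E0, E1, E2, E3, E4, E5, E6, E0, E1, E2, E3, E4, E5, E6, E0, E1, E2, E3, E4, E5, E6, E0, E1]]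
def RC2 : List Nat := [3586, 7168, 6656, 7680, 8192, 514, 8704, 14349, 14852]
def RW3 : List (List Nat) := [[2, 3, 2, 3, 2], [5, 3, 5], [4, 3, 4, 3, 4], [6, 3, 6], [1, 3, 1], [7, 3, 7], [0, 3, 0]]
noncomputable def RF3 : List (List (Nat → Nat)) := [[E2, E3, E2, E3, E2], [E5, E3, E5], [E4, E3, E4, E3, E4], [E6, E3, E6], [E1, E3, E1], [E7, E3, E7], [E0, E3, E0]]
def RC3 : List Nat := [6658, 9728, 9216, 10240, 4098, 10752, 1026]
def RW4 : List (List Nat) := [[5, 4, 5, 4, 5], [3, 4, 3, 4, 3], [6, 4, 6], [2, 4, 2], [7, 4, 7], [1, 4, 1], [0, 4, 0]]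
noncomputable def RF4 : List (List (Nat → Nat)) := [[E5, E4, E5, E4, E5], [E3, E4, E3, E4, E3], [E6, E4, E6], [E2, E4, E2], [E7, E4, E7], [E1, E4, E1], [E0, E4, E0]]
def RC4 : List Nat := [11264, 9218, 11776, 7170, 12288, 4610, 1538]
def RW5 : List (List Nat) := [[6, 5, 6], [4, 5, 4, 5, 4], [3, 5, 3], [2, 5, 2], [1, 5, 1], [7, 5, 7], [0, 5, 0], [4, 3, 2, 1, 0, 6, 5, 4, 3, 2, 1, 0, 6, 5, 4, 3, 2, 1, 0, 6, 5, 4, 3, 2, 1, 0, 6, 5, 4, 3, 2, 1, 0, 6, 5, 4, 3, 2, 1, 0, 6, 5, 4, 3, 2, 1, 0, 6, 5, 4, 3, 2, 1, 0, 6, 5, 4, 3, 2, 1, 0, 6]]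
noncomputable def RF5 : List (List (Nat → Nat)) := [[E6, E5, E6], [E4, E5, E4, E5, E4], [E3, E5, E3], [E2, E5, E2], [E1, E5, E1], [E7, E5, E7], [E0, E5, E0], [E4, E3, E2, E1, E0, E6, E5, E4, E3, E2, E1, E0, E6, E5, E4, E3, E2, E1, E0, E6, E5, E4, E3, E2, E1, E0, E6, E5, E4, E3, E2, E1, E0, E6, E5, E4, E3, E2, E1, E0, E6, E5, E4, E3, E2, E1, E0, E6, E5, E4, E3, E2, E1, E0, E6, E5, E4, E3, E2, E1, E0, E6]]
def RC5 : List Nat := [12800, 11266, 9730, 7682, 5122, 13312, 2050, 14859]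
def RW6 : List (List Nat) := [[2, 6, 2, 6, 2], [3, 6, 3], [4, 6, 4], [1, 6, 1], [5, 6, 5], [0, 6, 0], [7, 6, 7, 6, 7], [2, 4, 3, 2, 0, 1, 2, 7, 6, 2, 4, 3, 2, 0, 1, 2, 7, 6, 2, 4, 3, 2, 0, 1, 2, 7, 6, 2, 4, 3, 2, 0, 1, 2, 7, 6, 2, 4, 3, 2, 0, 1, 2, 7, 6, 2, 4, 3, 2, 0, 1, 2, 7, 6, 2, 4, 3, 2, 0, 1, 2, 7, 6, 2, 4, 3, 2, 0, 1, 2, 7, 6, 2, 4, 3, 2, 0, 1, 2, 7, 6, 2, 4, 3, 2, 0, 1, 2, 7], [0, 1, 2, 3, 4, 5, 6, 0, 1, 2, 3, 4, 5, 6, 0, 1, 2, 3, 4, 5, 6, 0, 1, 2, 3, 4, 5, 6, 0, 1, 2, 3, 4, 5, 6, 0, 1, 2, 3, 4, 5, 6, 0, 1, 2, 3, 4, 5, 6, 0, 1, 2, 3, 4, 5, 6, 0, 1, 2, 3, 4, 5], [5, 4, 3, 2, 1, 0, 6, 5, 4, 3, 2, 1, 0, 6, 5, 4, 3, 2, 1, 0, 6, 5, 4, 3, 2, 1, 0, 6, 5, 4, 3, 2, 1, 0, 6, 5, 4, 3, 2, 1, 0, 6, 5, 4, 3, 2, 1, 0, 6, 5, 4, 3, 2, 1, 0, 6, 5, 4, 3, 2, 1, 0], [7, 2, 1, 0, 2, 3, 4, 2, 6, 7, 2, 1, 0, 2, 3, 4, 2, 6, 7, 2, 1, 0, 2, 3, 4, 2, 6, 7, 2, 1, 0, 2, 3, 4, 2, 6, 7, 2, 1, 0, 2, 3, 4, 2, 6, 7, 2, 1, 0, 2, 3, 4, 2, 6, 7, 2,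 1, 0, 2, 3, 4, 2, 6, 7, 2, 1, 0, 2, 3, 4, 2, 6, 7, 2, 1, 0, 2, 3, 4, 2, 6, 7, 2, 1, 0, 2, 3, 4, 2]]
noncomputable def RF6 : List (List (Nat → Nat)) := [[E2, E6, E2, E6, E2], [E3, E6, E3], [E4, E6, E4], [E1, E6, E1], [E5, E6, E5], [E0, E6, E0], [E7, E6, E7, E6, E7], [E2, E4, E3, E2, E0, E1, E2, E7, E6, E2, E4, E3, E2, E0, E1, E2, E7, E6, E2, E4, E3, E2, E0, E1, E2, E7, E6, E2, E4, E3, E2, E0, E1, E2, E7, E6, E2, E4, E3, E2, E0, E1, E2, E7, E6, E2, E4, E3, E2, E0, E1, E2, E7, E6, E2, E4, E3, E2, E0, E1, E2, E7, E6, E2, E4, E3, E2, E0, E1, E2, E7, E6, E2, E4, E3, E2, E0, E1, E2, E7, E6, E2, E4, E3, E2, E0, E1, E2, E7], [E0, E1, E2, E3, E4, E5, E6, E0, E1, E2, E3, E4, E5, E6, E0, E1, E2, E3, E4, E5, E6, E0, E1, E2, E3, E4, E5, E6, E0, E1, E2, E3, E4, E5, E6, E0, E1, E2, E3, E4, E5, E6, E0, E1, E2, E3, E4, E5, E6, E0, E1, E2, E3, E4, E5, E6, E0, E1, E2, E3, E4, E5], [E5, E4, E3, E2, E1, E0, E6, E5, E4, E3, E2, E1, E0, E6, E5,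 E4, E3, E2, E1, E0, E6, E5, E4, E3, E2, E1, E0, E6, E5, E4, E3, E2, E1, E0, E6, E5, E4, E3, E2, E1, E0, E6, E5, E4, E3, E2, E1, E0, E6, E5, E4, E3, E2, E1, E0, E6, E5, E4, E3, E2, E1, E0], [E7, E2, E1, E0, E2, E3, E4, E2, E6, E7, E2, E1, E0, E2, E3, E4, E2, E6, E7, E2, E1, E0, E2, E3, E4, E2, E6, E7, E2, E1, E0, E2, E3, E4, E2, E6, E7, E2, E1, E0, E2, E3, E4, E2, E6, E7, E2, E1, E0, E2, E3, E4, E2, E6, E7, E2, E1, E0, E2, E3, E4, E2, E6, E7, E2, E1, E0, E2, E3, E4, E2, E6, E7, E2, E1, E0, E2, E3, E4, E2, E6, E7, E2, E1, E0, E2, E3, E4, E2]]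
def RC6 : List Nat := [8194, 10242, 11778, 5634, 12802, 2562, 13824, 14351, 14860, 14861, 14350]
def RW7 : List (List Nat) := [[6, 7, 6, 7, 6], [5, 7, 5], [4, 7, 4], [2, 7, 2], [3, 7, 3], [1, 7, 1], [0, 7, 0], [2, 1, 0, 2, 3, 4, 2, 6, 7, 2, 1, 0, 2, 3, 4, 2, 6, 7, 2, 1, 0, 2, 3, 4, 2, 6, 7, 2, 1, 0, 2, 3, 4, 2, 6, 7, 2, 1, 0, 2, 3, 4, 2, 6, 7, 2, 1, 0, 2, 3, 4, 2, 6, 7, 2, 1, 0, 2, 3, 4, 2, 6, 7, 2, 1, 0, 2, 3, 4, 2, 6, 7, 2, 1, 0, 2, 3, 4, 2, 6, 7, 2, 1, 0, 2, 3, 4, 2, 6], [6, 2, 4, 3, 2, 0, 1, 2, 7, 6, 2, 4, 3, 2, 0, 1, 2, 7, 6, 2, 4, 3, 2, 0, 1, 2, 7, 6, 2, 4, 3, 2, 0, 1, 2, 7, 6, 2, 4, 3, 2, 0, 1, 2, 7, 6, 2, 4, 3, 2, 0, 1, 2, 7, 6, 2, 4, 3, 2, 0, 1, 2, 7, 6, 2, 4, 3, 2, 0, 1, 2, 7, 6, 2, 4, 3, 2, 0, 1, 2, 7, 6, 2, 4, 3, 2, 0, 1, 2]]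
noncomputable def RF7 : List (List (Nat → Nat)) := [[E6, E7, E6, E7, E6], [E5, E7, E5], [E4, E7, E4], [E2, E7, E2], [E3, E7, E3], [E1, E7, E1], [E0, E7, E0], [E2, E1, E0, E2, E3, E4, E2, E6, E7, E2, E1, E0, E2, E3, E4, E2, E6, E7, E2, E1, E0, E2, E3, E4, E2, E6, E7, E2, E1, E0, E2, E3, E4, E2, E6, E7, E2, E1, E0, E2, E3, E4, E2, E6, E7, E2, E1, E0, E2, E3, E4, E2, E6, E7, E2, E1, E0, E2, E3, E4, E2, E6, E7, E2, E1, E0, E2, E3, E4, E2, E6, E7, E2, E1, E0, E2, E3, E4, E2, E6, E7, E2, E1, E0, E2, E3, E4, E2, E6], [E6, E2, E4, E3, E2, E0, E1, E2, E7, E6, E2, E4, E3, E2, E0, E1, E2, E7, E6, E2, E4, E3, E2, E0, E1, E2, E7, E6, E2, E4, E3, E2, E0, E1, E2, E7, E6, E2, E4, E3, E2, E0, E1, E2, E7, E6, E2, E4, E3, E2, E0, E1, E2, E7, E6, E2, E4, E3, E2, E0, E1, E2, E7, E6, E2, E4, E3, E2, E0, E1, E2, E7, E6, E2, E4, E3, E2, E0, E1, E2, E7, E6, E2, E4, E3, E2, E0, E1, E2]]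
def RC7 : List Nat := [13826, 13314, 12290, 8706, 10754, 6146, 3074, 14352, 14353]
def RW : Nat → List (List Nat) := fun l => (@Nat.rec (fun _ => List (List Nat)) RW0 (fun l _ => (@Nat.rec (fun _ => List (List Nat)) RW1 (fun l _ => (@Nat.rec (fun _ => List (List Nat)) RW2 (fun l _ => (@Nat.rec (fun _ => List (List Nat)) RW3 (fun l _ => (@Nat.rec (fun _ => List (List Nat)) RW4 (fun l _ => (@Nat.rec (fun _ => List (List Nat)) RW5 (fun l _ => (@Nat.rec (fun _ => List (List Nat)) RW6 (fun l _ => RW7) l)) l)) l)) l)) l)) l)) l)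
def sp : List Nat := [0, 1, 2, 3, 4, 6, 7, 11462, 11622]
theorem ck0 : allR (ckE (nat_lit 364) (nat_lit 511) (nat_lit 9) (nat_lit 15) (nat_lit 13) (nat_lit 0) D E0 E0 RF0 sp) (nat_lit 0) (nat_lit 364) = true := by decide +kernel
theorem rf0 : RF0 = (RW0).map (·.map E) := rfl
theorem rc0 : ckRels 8 inv rels 0 RW0 RC0 = true := by decide +kernel
theorem ck1 : allR (ckE (nat_lit 364) (nat_lit 511) (nat_lit 9) (nat_lit 15) (nat_lit 13) (nat_lit 1) D E1 E1 RF1 sp) (nat_lit 0) (nat_lit 364) = true := by decide +kernel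
theorem rf1 : RF1 = (RW1).map (·.map E) := rfl
theorem rc1 : ckRels 8 inv rels 1 RW1 RC1 = true := by decide +kernel
theorem ck2 : allR (ckE (nat_lit 364) (nat_lit 511) (nat_lit 9) (nat_lit 15) (nat_lit 13) (nat_lit 2) D E2 E2 RF2 sp) (nat_lit 0) (nat_lit 364) = true := by decide +kernel
theorem rf2 : RF2 = (RW2).map (·.map E) := rfl
theorem rc2 : ckRels 8 inv rels 2 RW2 RC2 = true := by decide +kernel
theorem ck3 : allR (ckE (nat_lit 364) (nat_lit 511) (nat_lit 9) (nat_lit 15) (nat_lit 13) (nat_lit 3) D E3 E3 RF3 sp) (nat_lit 0) (nat_lit 364) = true := by decide +kernel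
theorem rf3 : RF3 = (RW3).map (·.map E) := rfl
theorem rc3 : ckRels 8 inv rels 3 RW3 RC3 = true := by decide +kernel
theorem ck4 : allR (ckE (nat_lit 364) (nat_lit 511) (nat_lit 9) (nat_lit 15) (nat_lit 13) (nat_lit 4) D E4 E4 RF4 sp) (nat_lit 0) (nat_lit 364) = true := by decide +kernel
theorem rf4 : RF4 = (RW4).map (·.map E) := rfl
theorem rc4 : ckRels 8 inv rels 4 RW4 RC4 = true := by decide +kernel
theorem ck5 : allR (ckE (nat_lit 364) (nat_lit 511) (nat_lit 9) (nat_lit 15) (nat_lit 13) (nat_lit 5) D E5 E5 RF5 sp) (nat_lit 0) (nat_lit 364) = true := by decide +kernel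
theorem rf5 : RF5 = (RW5).map (·.map E) := rfl
theorem rc5 : ckRels 8 inv rels 5 RW5 RC5 = true := by decide +kernel
theorem ck6 : allR (ckE (nat_lit 364) (nat_lit 511) (nat_lit 9) (nat_lit 15) (nat_lit 13) (nat_lit 6) D E6 E6 RF6 sp) (nat_lit 0) (nat_lit 364) = true := by decide +kernel
theorem rf6 : RF6 = (RW6).map (·.map E) := rfl
theorem rc6 : ckRels 8 inv rels 6 RW6 RC6 = true := by decide +kernel
theorem ck7 : allR (ckE (nat_lit 364) (nat_lit 511) (nat_lit 9) (nat_lit 15) (nat_lit 13) (nat_lit 7) D E7 E7 RF7 sp) (nat_lit 0) (nat_lit 364) = true := by decide +kernel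
theorem rf7 : RF7 = (RW7).map (·.map E) := rfl
theorem rc7 : ckRels 8 inv rels 7 RW7 RC7 = true := by decide +kernel

theorem edgeOK : ∀ l < 8, ∀ i < 364, EdgeOK E 511 364 13 9 15 inv D RW sp l i := by
  intro l hl i hi
  interval_cases l

  · exact ckE_sound 364 511 9 15 13 0 inv D E RW sp i (by
      have := allR_zero _ _ ck0 i hi
      rw [rf0] at this
      exact this)
  · exact ckE_sound 364 511 9 15 13 1 inv D E RW sp i (by
      have := allR_zero _ _ ck1 i hi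
      rw [rf1] at this
      exact this)
  · exact ckE_sound 364 511 9 15 13 2 inv D E RW sp i (by
      have := allR_zero _ _ ck2 i hi
      rw [rf2] at this
      exact this)
  · exact ckE_sound 364 511 9 15 13 3 inv D E RW sp i (by
      have := allR_zero _ _ ck3 i hi
      rw [rf3] at this
      exact this)
  · exact ckE_sound 364 511 9 15 13 4 inv D E RW sp i (by
      have := allR_zero _ _ ck4 i hi
      rw [rf4] at this
      exact this)
  · exact ckE_sound 364 511 9 15 13 5 inv D E RW sp i (by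
      have := allR_zero _ _ ck5 i hi
      rw [rf5] at this
      exact this)
  · exact ckE_sound 364 511 9 15 13 6 inv D E RW sp i (by
      have := allR_zero _ _ ck6 i hi
      rw [rf6] at this
      exact this)
  · exact ckE_sound 364 511 9 15 13 7 inv D E RW sp i (by
      have := allR_zero _ _ ck7 i hi
      rw [rf7] at this
      exact this)
def RB : List (List Nat) := [[1, 6, 1, 6], [0, 6, 0, 6], [6, 0, 6, 0], [3, 1, 3, 1], [5, 6, 5, 6], [0, 3, 0, 3], [0, 4, 0, 4], [5, 0, 5, 0], [2, 0, 2, 0], [1, 0, 1, 0, 1, 0], [1, 2, 1, 2, 1, 2], [1, 3, 1, 3], [1, 4, 1, 4], [0, 7, 0, 7], [3, 7, 3, 7], [4, 1, 4, 1], [1, 7, 1, 7], [2, 1, 2, 1, 2, 1], [6, 2, 6, 2, 6, 2], [6, 3, 6, 3], [6, 4, 6, 4], [3, 0, 3, 0], [4, 0, 4, 0], [1, 5, 1, 5], [4, 2, 4, 2], [7, 1, 7, 1], [4, 7, 4, 7], [3, 4, 3, 4, 3, 4], [2, 4, 2, 4], [0, 5, 0, 5], [5, 3, 5, 3], [7, 0, 7, 0], [7, 3, 7, 3], [6, 1, 6, 1], [2, 7, 2, 7], [0, 2, 0, 2], [1, 2, 3, 4, 5, 6, 0,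 1, 2, 3, 4, 5, 6, 0, 1, 2, 3, 4, 5, 6, 0, 1, 2, 3, 4, 5, 6, 0, 1, 2, 3, 4, 5, 6, 0, 1, 2, 3, 4, 5, 6, 0, 1, 2, 3, 4, 5, 6, 0, 1, 2, 3, 4, 5, 6, 0, 1, 2, 3, 4, 5, 6, 0], [31, 1, 7, 1, 7], [31, 0, 0], [31, 2, 2], [31, 1, 1], [6, 6], [7, 7], [6, 7, 6, 7, 6, 7]]
def RBC : List Nat := [22528, 10240, 10248, 16392, 51200, 4096, 6144, 8200, 2056, 8, 14336, 16384, 18432, 12288, 43008, 18440, 24576, 14344, 32776, 40968, 47112, 4104, 6152, 20480, 28680, 24584, 49152, 36864, 28672, 8192, 38920, 12296, 43016, 22536, 34816, 2048, 59400, 24578, 6, 6, 6, 4, 4, 55296]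
theorem rbc : ckRB 8 inv rels RB RBC = true := by decide +kernel
theorem sp0k : ckSub (nat_lit 511) (nat_lit 13) E0 [] [] (nat_lit 0) = true := by decide +kernel
theorem sp0 {G : Type*} [Group G] (H : Subgroup G) (s : Nat → G) (hinv : ∀ l, s l = (s l)⁻¹) (h31 : s 31 = 1)
    (hrels : ∀ W ∈ rels, (W.map s).prod = 1) (hsub : ∀ w ∈ subw, (w.map s).prod ∈ H)
    (htgt : ∀ l < 8, ∀ i < 364, Nat.land (E l i) 511 < 364)
    (hlow : ∀ l' < 8, ∀ i' < 364, E l' i' < Nat.shiftLeft (Nat.shiftRight (E 0 0) 13) 13 →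
      EdgeP H s (repOf s D) E 511 l' i') : EdgeP H s (repOf s D) E 511 0 0 := by
  have h1 := ckSub_sound E 511 13 0 0 [] [] sp0k
  exact special_sub H s (repOf s D) E 511 364 8 _ htgt hlow (repOf_zero s D) [] [] 0 0 (by decide) (by decide)
    (by decide) (by decide) (hsub _ (by decide)) h1.1 h1.2
theorem sp1k : ckSub (nat_lit 511) (nat_lit 13) E1 [] [] (nat_lit 0) = true := by decide +kernel
theorem sp1 {G : Type*} [Group G] (H : Subgroup G) (s : Nat → G) (hinv : ∀ l, s l = (s l)⁻¹) (h31 : s 31 = 1)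
    (hrels : ∀ W ∈ rels, (W.map s).prod = 1) (hsub : ∀ w ∈ subw, (w.map s).prod ∈ H)
    (htgt : ∀ l < 8, ∀ i < 364, Nat.land (E l i) 511 < 364)
    (hlow : ∀ l' < 8, ∀ i' < 364, E l' i' < Nat.shiftLeft (Nat.shiftRight (E 1 0) 13) 13 →
      EdgeP H s (repOf s D) E 511 l' i') : EdgeP H s (repOf s D) E 511 1 0 := by
  have h1 := ckSub_sound E 511 13 1 0 [] [] sp1k
  exact special_sub H s (repOf s D) E 511 364 8 _ htgt hlow (repOf_zero s D) [] [] 1 0 (by decide) (by decide)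
    (by decide) (by decide) (hsub _ (by decide)) h1.1 h1.2
theorem sp2k : ckSub (nat_lit 511) (nat_lit 13) E2 [] [] (nat_lit 0) = true := by decide +kernel
theorem sp2 {G : Type*} [Group G] (H : Subgroup G) (s : Nat → G) (hinv : ∀ l, s l = (s l)⁻¹) (h31 : s 31 = 1)
    (hrels : ∀ W ∈ rels, (W.map s).prod = 1) (hsub : ∀ w ∈ subw, (w.map s).prod ∈ H)
    (htgt : ∀ l < 8, ∀ i < 364, Nat.land (E l i) 511 < 364)
    (hlow : ∀ l' < 8, ∀ i' < 364, E l' i' < Nat.shiftLeft (Nat.shiftRight (E 2 0) 13) 13 →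
      EdgeP H s (repOf s D) E 511 l' i') : EdgeP H s (repOf s D) E 511 2 0 := by
  have h1 := ckSub_sound E 511 13 2 0 [] [] sp2k
  exact special_sub H s (repOf s D) E 511 364 8 _ htgt hlow (repOf_zero s D) [] [] 2 0 (by decide) (by decide)
    (by decide) (by decide) (hsub _ (by decide)) h1.1 h1.2
theorem sp3k : ckSub (nat_lit 511) (nat_lit 13) E3 [] [] (nat_lit 0) = true := by decide +kernel
theorem sp3 {G : Type*} [Group G] (H : Subgroup G) (s : Nat → G) (hinv : ∀ l, s l = (s l)⁻¹) (h31 : s 31 = 1)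
    (hrels : ∀ W ∈ rels, (W.map s).prod = 1) (hsub : ∀ w ∈ subw, (w.map s).prod ∈ H)
    (htgt : ∀ l < 8, ∀ i < 364, Nat.land (E l i) 511 < 364)
    (hlow : ∀ l' < 8, ∀ i' < 364, E l' i' < Nat.shiftLeft (Nat.shiftRight (E 3 0) 13) 13 →
      EdgeP H s (repOf s D) E 511 l' i') : EdgeP H s (repOf s D) E 511 3 0 := by
  have h1 := ckSub_sound E 511 13 3 0 [] [] sp3k
  exact special_sub H s (repOf s D) E 511 364 8 _ htgt hlow (repOf_zero s D) [] [] 3 0 (by decide) (by decide)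
    (by decide) (by decide) (hsub _ (by decide)) h1.1 h1.2
theorem sp4k : ckSub (nat_lit 511) (nat_lit 13) E4 [] [] (nat_lit 0) = true := by decide +kernel
theorem sp4 {G : Type*} [Group G] (H : Subgroup G) (s : Nat → G) (hinv : ∀ l, s l = (s l)⁻¹) (h31 : s 31 = 1)
    (hrels : ∀ W ∈ rels, (W.map s).prod = 1) (hsub : ∀ w ∈ subw, (w.map s).prod ∈ H)
    (htgt : ∀ l < 8, ∀ i < 364, Nat.land (E l i) 511 < 364)
    (hlow : ∀ l' < 8, ∀ i' < 364, E l' i' < Nat.shiftLeft (Nat.shiftRight (E 4 0) 13) 13 →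
      EdgeP H s (repOf s D) E 511 l' i') : EdgeP H s (repOf s D) E 511 4 0 := by
  have h1 := ckSub_sound E 511 13 4 0 [] [] sp4k
  exact special_sub H s (repOf s D) E 511 364 8 _ htgt hlow (repOf_zero s D) [] [] 4 0 (by decide) (by decide)
    (by decide) (by decide) (hsub _ (by decide)) h1.1 h1.2
theorem sp6k : ckSub (nat_lit 511) (nat_lit 13) E6 [] [] (nat_lit 0) = true := by decide +kernel
theorem sp6 {G : Type*} [Group G] (H : Subgroup G) (s : Nat → G) (hinv : ∀ l, s l = (s l)⁻¹) (h31 : s 31 = 1)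
    (hrels : ∀ W ∈ rels, (W.map s).prod = 1) (hsub : ∀ w ∈ subw, (w.map s).prod ∈ H)
    (htgt : ∀ l < 8, ∀ i < 364, Nat.land (E l i) 511 < 364)
    (hlow : ∀ l' < 8, ∀ i' < 364, E l' i' < Nat.shiftLeft (Nat.shiftRight (E 6 0) 13) 13 →
      EdgeP H s (repOf s D) E 511 l' i') : EdgeP H s (repOf s D) E 511 6 0 := by
  have h1 := ckSub_sound E 511 13 6 0 [] [] sp6k
  exact special_sub H s (repOf s D) E 511 364 8 _ htgt hlow (repOf_zero s D) [] [] 6 0 (by decide) (by decide)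
    (by decide) (by decide) (hsub _ (by decide)) h1.1 h1.2
theorem sp7k : ckSub (nat_lit 511) (nat_lit 13) E7 [] [] (nat_lit 0) = true := by decide +kernel
theorem sp7 {G : Type*} [Group G] (H : Subgroup G) (s : Nat → G) (hinv : ∀ l, s l = (s l)⁻¹) (h31 : s 31 = 1)
    (hrels : ∀ W ∈ rels, (W.map s).prod = 1) (hsub : ∀ w ∈ subw, (w.map s).prod ∈ H)
    (htgt : ∀ l < 8, ∀ i < 364, Nat.land (E l i) 511 < 364)
    (hlow : ∀ l' < 8, ∀ i' < 364, E l' i' < Nat.shiftLeft (Nat.shiftRight (E 7 0) 13) 13 →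
      EdgeP H s (repOf s D) E 511 l' i') : EdgeP H s (repOf s D) E 511 7 0 := by
  have h1 := ckSub_sound E 511 13 7 0 [] [] sp7k
  exact special_sub H s (repOf s D) E 511 364 8 _ htgt hlow (repOf_zero s D) [] [] 7 0 (by decide) (by decide)
    (by decide) (by decide) (hsub _ (by decide)) h1.1 h1.2
noncomputable def sp11462F : Nat → Nat := fun g => Nat.land (Nat.shiftRight (nat_lit 0xc002cc002cc70018c0018c3000b0800c67c0063000637e00316002e3f001910018ff800c8000c7040059c0063820029600326000192001933000c9800971800648005fc000320003222001910018b1000c4800c81c00640006384002e20031e00018f0018e1000c7000b69800634005842002e20031a70018d0018c0800c5800c60c0063000628600310003160001890018b3800c5800b8840062000628e00314002f670016d001891800c4800c39c005c0006200003100030e7001870016c3000c2800c30000618001c8a001020030a00007d001851800c2800c2000025c00610a0030800138200182001830800c1800c1800034c0060c800306001b44000f9001821800c0800c10400608006008002f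e003021001810017e1800bf000c01000600005f02002fa002fe50017f0017f0000bf8009710005f4005f8e002fc002883001770017d0000bd000be9c005f40055c6002f2002f810017c000f90800b8000bd98005ec00554e002ee002f43001570017a0800bd000a50400458005e48002ee002f2200179001760800bc0009194005d8005e0000286002f0600178001750800bb000a084005d0005842002aa002e6100133001771000b9800bb80005dc0055cc002e4002ec400173001760000bb000ab14005c8005d40002ea002de600171001741800b9800ba00005d0005a40002c4002e6600173001700000b7000b910005c8005c00002da002e2300171001700000b8000b614005b8005bcc002de002866001560016e2000b7000b618005a4005b46002da002d860016c00162) (Nat.mul (nat_lit 45) g)) (nat_lit 0x1fffffffffff)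
noncomputable def sp11462T : Nat → Nat := fun g => Nat.land (Nat.shiftRight (nat_lit 0x12e3000bf980062c40031c70018e0000b68800630e003143001713800bd9c0061c60030e00016c38003900006106001385000da2000c004005f82002f840012e0000a21c0055ce001f21001553000a504005d84002ea6001570000ab00005bc0002d20001703000b810005c06002d80001433000b610005b06002c46) (Nat.mul (nat_lit 25) g)) (nat_lit 0x1ffffff)
noncomputable def sp11462L : List Nat := [nat_lit 0x0, nat_lit 0x0, nat_lit 0x2000403014, nat_lit 0x0, nat_lit 0x2000803015, nat_lit 0x0, nat_lit 0xa0000000c03005, nat_lit 0x0, nat_lit 0x0, nat_lit 0x30010001203006, nat_lit 0x0, nat_lit 0x70010001603007, nat_lit 0x0, nat_lit 0x20010001a03002, nat_lit 0x0, nat_lit 0x1c0000001e03016, nat_lit 0x140006001e03003, nat_lit 0x0, nat_lit 0x18000d002403008, nat_lit 0x0, nat_lit 0x1c0000002803017, nat_lit 0x18000a002803003, nat_lit 0x0, nat_lit 0x1c0000002e03009, nat_lit 0x2e0500a, nat_lit 0x3100300500b,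 nat_lit 0x20003400000300c, nat_lit 0x2a003400000300d, nat_lit 0x0, nat_lit 0xc0024003a03002, nat_lit 0x2c0025003a03005, nat_lit 0x3e0037000003018, nat_lit 0x0, nat_lit 0x300029004203019, nat_lit 0x3800420500b, nat_lit 0x0, nat_lit 0x4803004, nat_lit 0x32000000480301a, nat_lit 0x0, nat_lit 0x1a0034004e03001, nat_lit 0x0, nat_lit 0x460000005203004, nat_lit 0x0, nat_lit 0x4c002d00560300e, nat_lit 0x4b004a00560300f, nat_lit 0x0, nat_lit 0x550000005c0301b, nat_lit 0x0, nat_lit 0x5f0000006003008, nat_lit 0x5800470000000000600500a, nat_lit 0x0, nat_lit 0x5e005a0043005300660501c, nat_lit 0x0, nat_lit 0x64005d006a03010, nat_lit 0x0, nat_lit 0x690067006e03004, nat_lit 0x520066006e03010, nat_lit 0x0, nat_lit 0x7403007, nat_lit 0x73000000740300d, nat_lit 0x72000000740301d, nat_lit 0x0, nat_lit 0x7c0301e, nat_lit 0x0, nat_lit 0x7d008003006, nat_lit 0x7c00800301f, nat_lit 0x0, nat_lit 0x820000008603003, nat_lit 0x0, nat_lit 0x0, nat_lit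 0xf008a008c03020, nat_lit 0x0, nat_lit 0x3008a009003021, nat_lit 0x0, nat_lit 0x8e004f009403011, nat_lit 0x0, nat_lit 0x92001300980300e, nat_lit 0x8e001200980300f, nat_lit 0x0, nat_lit 0x9c0095009e0300c, nat_lit 0x0, nat_lit 0x98009f00a203011, nat_lit 0xa40021003503022, nat_lit 0x0, nat_lit 0x0, nat_lit 0x1400a800aa03009, nat_lit 0x0, nat_lit 0x9200a800ae03023, nat_lit 0x0, nat_lit 0xb0009900b203024, nat_lit 0x0, nat_lit 0x0, nat_lit 0xb5005f00b803002, nat_lit 0xb803001, nat_lit 0xbb00ba00b50062006b006f00790078007600000000000000000000000000000000000000000000000000000000000000000000000000000000000000000000000000000000000000860088008400000000000000000000000000000000000000000040003c000c000e0007000400a83e025, nat_lit 0xad00be000000bd04026, nat_lit 0xb400bf00aa03027, nat_lit 0xb200c100ac03028, nat_lit 0xa000c300a303029, nat_lit 0xa600c60202a, nat_lit 0xa200c60202b, nat_lit 0xc700c900c800000502c]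
theorem sp11462k : ckBlock (nat_lit 364) (nat_lit 511) (nat_lit 0x2c000) E inv sp11462T sp11462F RB sp11462L (nat_lit 0) = true := by decide +kernel
theorem sp11462r : Nat.shiftLeft (Nat.shiftRight (E 6 358) 13) 13 = 180224 := by decide +kernel
theorem sp11462t : Nat.land (E 6 358) 511 = 358 := by decide +kernel
theorem sp11462l : 101 < sp11462L.length ∧ sp11462F 101 = 358 + 2 ^ 20 * 358 + 2 ^ 40 * 6 := by decide +kernel
theorem sp11462 {G : Type*} [Group G] (H : Subgroup G) (s : Nat → G) (hinv : ∀ l, s l = (s l)⁻¹) (h31 : s 31 = 1)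
    (hrels : ∀ W ∈ rels, (W.map s).prod = 1) (hsub : ∀ w ∈ subw, (w.map s).prod ∈ H)
    (htgt : ∀ l < 8, ∀ i < 364, Nat.land (E l i) 511 < 364)
    (hlow : ∀ l' < 8, ∀ i' < 364, E l' i' < Nat.shiftLeft (Nat.shiftRight (E 6 358) 13) 13 →
      EdgeP H s (repOf s D) E 511 l' i') : EdgeP H s (repOf s D) E 511 6 358 := by
  rw [sp11462r] at hlow
  exact special_block H s 364 8 511 180224 E inv D sp11462T sp11462F RB hinv h31 htgt hlow
    (ckRB_sound s 8 inv rels hrels hinv h31 RB RBC rbc) sp11462L sp11462k 6 358 358 (by decide) (by decide) sp11462t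
    ⟨_, sp11462l⟩ (by decide)
noncomputable def sp11622F : Nat → Nat := fun g => Nat.land (Nat.shiftRight (nat_lit 0x3000b5800b588005b0005b02002ca002d860016c00168) (Nat.mul (nat_lit 45) g)) (nat_lit 0x1fffffffffff)
noncomputable def sp11622T : Nat → Nat := fun g => Nat.land (Nat.shiftRight (nat_lit 0x2d06) (Nat.mul (nat_lit 25) g)) (nat_lit 0x1ffffff)
noncomputable def sp11622L : List Nat := [nat_lit 0x0, nat_lit 0x203001, nat_lit 0x4000000000000000305012, nat_lit 0x200060001000005013]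
theorem sp11622k : ckBlock (nat_lit 364) (nat_lit 511) (nat_lit 0x2c000) E inv sp11622T sp11622F RB sp11622L (nat_lit 0) = true := by decide +kernel
theorem sp11622r : Nat.shiftLeft (Nat.shiftRight (E 6 363) 13) 13 = 180224 := by decide +kernel
theorem sp11622t : Nat.land (E 6 363) 511 = 363 := by decide +kernel
theorem sp11622l : 3 < sp11622L.length ∧ sp11622F 3 = 363 + 2 ^ 20 * 363 + 2 ^ 40 * 6 := by decide +kernel
theorem sp11622 {G : Type*} [Group G] (H : Subgroup G) (s : Nat → G) (hinv : ∀ l, s l = (s l)⁻¹) (h31 : s 31 = 1)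
    (hrels : ∀ W ∈ rels, (W.map s).prod = 1) (hsub : ∀ w ∈ subw, (w.map s).prod ∈ H)
    (htgt : ∀ l < 8, ∀ i < 364, Nat.land (E l i) 511 < 364)
    (hlow : ∀ l' < 8, ∀ i' < 364, E l' i' < Nat.shiftLeft (Nat.shiftRight (E 6 363) 13) 13 →
      EdgeP H s (repOf s D) E 511 l' i') : EdgeP H s (repOf s D) E 511 6 363 := by
  rw [sp11622r] at hlow
  exact special_block H s 364 8 511 180224 E inv D sp11622T sp11622F RB hinv h31 htgt hlow
    (ckRB_sound s 8 inv rels hrels hinv h31 RB RBC rbc) sp11622L sp11622k 6 363 363 (by decide) (by decide) sp11622t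
    ⟨_, sp11622l⟩ (by decide)

theorem htgt : ∀ l < 8, ∀ i < 364, Nat.land (E l i) 511 < 364 := fun l hl i hi => (edgeOK l hl i hi).1

theorem edges {G : Type*} [Group G] (H : Subgroup G) (s : Nat → G) (hinv : ∀ l, s l = (s l)⁻¹) (h31 : s 31 = 1)
    (hrels : ∀ W ∈ rels, (W.map s).prod = 1) (hsub : ∀ w ∈ subw, (w.map s).prod ∈ H) :
    ∀ l < 8, ∀ i < 364, EdgeP H s (repOf s D) E 511 l i := by
  refine edges_correct H s E 511 364 8 13 9 15 inv D RW sp (by decide) (fun l hl => hl) (fun l _ => hinv l)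
    ?_ ?_ ?_ edgeOK
  · intro l hl w hw
    interval_cases l
    · exact (ckRels_sound 8 inv rels 0 RW0 RC0 rc0 w hw).1
    · exact (ckRels_sound 8 inv rels 1 RW1 RC1 rc1 w hw).1
    · exact (ckRels_sound 8 inv rels 2 RW2 RC2 rc2 w hw).1
    · exact (ckRels_sound 8 inv rels 3 RW3 RC3 rc3 w hw).1
    · exact (ckRels_sound 8 inv rels 4 RW4 RC4 rc4 w hw).1
    · exact (ckRels_sound 8 inv rels 5 RW5 RC5 rc5 w hw).1
    · exact (ckRels_sound 8 inv rels 6 RW6 RC6 rc6 w hw).1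
    · exact (ckRels_sound 8 inv rels 7 RW7 RC7 rc7 w hw).1
  · intro l hl w hw
    interval_cases l
    · obtain ⟨_, c, hc⟩ := ckRels_sound 8 inv rels 0 RW0 RC0 rc0 w hw
      exact ckRel_sound s inv rels hrels 0 w c (fun l' _ => hinv l') hc
    · obtain ⟨_, c, hc⟩ := ckRels_sound 8 inv rels 1 RW1 RC1 rc1 w hw
      exact ckRel_sound s inv rels hrels 1 w c (fun l' _ => hinv l') hc
    · obtain ⟨_, c, hc⟩ := ckRels_sound 8 inv rels 2 RW2 RC2 rc2 w hw
      exact ckRel_sound s inv rels hrels 2 w c (fun l' _ => hinv l') hc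
    · obtain ⟨_, c, hc⟩ := ckRels_sound 8 inv rels 3 RW3 RC3 rc3 w hw
      exact ckRel_sound s inv rels hrels 3 w c (fun l' _ => hinv l') hc
    · obtain ⟨_, c, hc⟩ := ckRels_sound 8 inv rels 4 RW4 RC4 rc4 w hw
      exact ckRel_sound s inv rels hrels 4 w c (fun l' _ => hinv l') hc
    · obtain ⟨_, c, hc⟩ := ckRels_sound 8 inv rels 5 RW5 RC5 rc5 w hw
      exact ckRel_sound s inv rels hrels 5 w c (fun l' _ => hinv l') hc
    · obtain ⟨_, c, hc⟩ := ckRels_sound 8 inv rels 6 RW6 RC6 rc6 w hw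
      exact ckRel_sound s inv rels hrels 6 w c (fun l' _ => hinv l') hc
    · obtain ⟨_, c, hc⟩ := ckRels_sound 8 inv rels 7 RW7 RC7 rc7 w hw
      exact ckRel_sound s inv rels hrels 7 w c (fun l' _ => hinv l') hc
  · refine hsp_of H s (repOf s D) E 511 364 8 13 sp (by decide) ?_
    refine List.forall_mem_cons.2 ⟨fun _ _ h => sp0 H s hinv h31 hrels hsub htgt h, ?_⟩
    refine List.forall_mem_cons.2 ⟨fun _ _ h => sp1 H s hinv h31 hrels hsub htgt h, ?_⟩
    refine List.forall_mem_cons.2 ⟨fun _ _ h => sp2 H s hinv h31 hrels hsub htgt h, ?_⟩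
    refine List.forall_mem_cons.2 ⟨fun _ _ h => sp3 H s hinv h31 hrels hsub htgt h, ?_⟩
    refine List.forall_mem_cons.2 ⟨fun _ _ h => sp4 H s hinv h31 hrels hsub htgt h, ?_⟩
    refine List.forall_mem_cons.2 ⟨fun _ _ h => sp6 H s hinv h31 hrels hsub htgt h, ?_⟩
    refine List.forall_mem_cons.2 ⟨fun _ _ h => sp7 H s hinv h31 hrels hsub htgt h, ?_⟩
    refine List.forall_mem_cons.2 ⟨fun _ _ h => sp11462 H s hinv h31 hrels hsub htgt h, ?_⟩
    refine List.forall_mem_cons.2 ⟨fun _ _ h => sp11622 H s hinv h31 hrels hsub htgt h, ?_⟩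
    intro c hc
    exact absurd hc List.not_mem_nil

theorem covers {G : Type*} [Group G] (s : Nat → G) (hinv : ∀ l, s l = (s l)⁻¹) (h31 : s 31 = 1)
    (hrels2 : ∀ p ∈ rels2, ((p.1.map s).prod) ^ p.2 = 1) (H : Subgroup G) (hsub : ∀ w ∈ subw, (w.map s).prod ∈ H) :
    ∀ g ∈ letterGroup s 8, ∀ i < 364, ∃ j < 364, repOf s D i * g * (repOf s D j)⁻¹ ∈ H :=
  cover H s (repOf s D) E 511 364 8 inv (fun l hl => hl) (fun l _ => hinv l) htgt
    (edges H s hinv h31 (hrels_of s rels2 hrels2) hsub)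

theorem upper {G : Type*} [Group G] (s : Nat → G) (hinv : ∀ l, s l = (s l)⁻¹) (h31 : s 31 = 1)
    (hrels2 : ∀ p ∈ rels2, ((p.1.map s).prod) ^ p.2 = 1) (H : Subgroup G) (hsub : ∀ w ∈ subw, (w.map s).prod ∈ H)
    (hH : Finite H) : Finite (letterGroup s 8) ∧ Nat.card (letterGroup s 8) ≤ 364 * Nat.card H :=
  card_le_of_cover H (repOf s D) 364 (by decide) (repOf_zero s D) _
    (covers s hinv h31 hrels2 H hsub) hH

theorem upperIndex {G : Type*} [Group G] (s : Nat → G) (hinv : ∀ l, s l = (s l)⁻¹) (h31 : s 31 = 1)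
    (hrels2 : ∀ p ∈ rels2, ((p.1.map s).prod) ^ p.2 = 1) (H : Subgroup G) (hsub : ∀ w ∈ subw, (w.map s).prod ∈ H)
    (htop : letterGroup s 8 = ⊤) : H.FiniteIndex ∧ H.index ≤ 364 :=
  index_le_of_cover H (repOf s D) 364 (by decide) (repOf_zero s D)
    (fun g => covers s hinv h31 hrels2 H hsub g (by rw [htop]; exact Subgroup.mem_top g))


end Cfsg.Agent.H8.O73ct
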