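import Cfsg.Agent.H8.T.Fi22Oc0
import Cfsg.Agent.H8.CosetGlue
import Cfsg.Agent.H8.T.Fi22btP

set_option Elab.async false
set_option autoImplicit false
set_option linter.all false
set_option maxRecDepth 100000
set_option maxHeartbeats 400000

namespace Cfsg.Agent.H8.Fi22O
open Cfsg.Agent.H8.Fi22bt (T0 T1 T2 T3 T4 T5 T6 T7 T8)

theorem pk0 : allR (ckPerm (nat_lit 3510) X0 X1) (nat_lit 0) (nat_lit 3510) = true := by
  apply allR_of_forall
  intro i hi
  have hi : i < 3510 := hi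
  rcases Nat.lt_or_ge i 1755 with h0 | h0
  · exact allR_spec _ (0 : ℕ) (1755 : ℕ) pk0_0 i (by omega) (by omega)
  exact allR_spec _ (1755 : ℕ) (1755 : ℕ) pk0_1 i (by omega) (by omega)
theorem pk1 : allR (ckPerm (nat_lit 3510) X1 X0) (nat_lit 0) (nat_lit 3510) = true := by
  apply allR_of_forall
  intro i hi
  have hi : i < 3510 := hi
  rcases Nat.lt_or_ge i 1755 with h0 | h0
  · exact allR_spec _ (0 : ℕ) (1755 : ℕ) pk1_0 i (by omega) (by omega)
  exact allR_spec _ (1755 : ℕ) (1755 : ℕ) pk1_1 i (by omega) (by omega)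
theorem pk2 : allR (ckPerm (nat_lit 3510) X2 X3) (nat_lit 0) (nat_lit 3510) = true := by
  apply allR_of_forall
  intro i hi
  have hi : i < 3510 := hi
  rcases Nat.lt_or_ge i 1755 with h0 | h0
  · exact allR_spec _ (0 : ℕ) (1755 : ℕ) pk2_0 i (by omega) (by omega)
  exact allR_spec _ (1755 : ℕ) (1755 : ℕ) pk2_1 i (by omega) (by omega)
theorem pk3 : allR (ckPerm (nat_lit 3510) X3 X2) (nat_lit 0) (nat_lit 3510) = true := by
  apply allR_of_forall
  intro i hi
  have hi : i < 3510 := hi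
  rcases Nat.lt_or_ge i 1755 with h0 | h0
  · exact allR_spec _ (0 : ℕ) (1755 : ℕ) pk3_0 i (by omega) (by omega)
  exact allR_spec _ (1755 : ℕ) (1755 : ℕ) pk3_1 i (by omega) (by omega)
theorem pk4 : allR (ckPerm (nat_lit 3510) X4 X5) (nat_lit 0) (nat_lit 3510) = true := by
  apply allR_of_forall
  intro i hi
  have hi : i < 3510 := hi
  rcases Nat.lt_or_ge i 1755 with h0 | h0
  · exact allR_spec _ (0 : ℕ) (1755 : ℕ) pk4_0 i (by omega) (by omega)
  exact allR_spec _ (1755 : ℕ) (1755 : ℕ) pk4_1 i (by omega) (by omega)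
theorem pk5 : allR (ckPerm (nat_lit 3510) X5 X4) (nat_lit 0) (nat_lit 3510) = true := by
  apply allR_of_forall
  intro i hi
  have hi : i < 3510 := hi
  rcases Nat.lt_or_ge i 1755 with h0 | h0
  · exact allR_spec _ (0 : ℕ) (1755 : ℕ) pk5_0 i (by omega) (by omega)
  exact allR_spec _ (1755 : ℕ) (1755 : ℕ) pk5_1 i (by omega) (by omega)
theorem pk6 : allR (ckPerm (nat_lit 3510) X6 X7) (nat_lit 0) (nat_lit 3510) = true := by
  apply allR_of_forall
  intro i hi
  have hi : i < 3510 := hi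
  rcases Nat.lt_or_ge i 1755 with h0 | h0
  · exact allR_spec _ (0 : ℕ) (1755 : ℕ) pk6_0 i (by omega) (by omega)
  exact allR_spec _ (1755 : ℕ) (1755 : ℕ) pk6_1 i (by omega) (by omega)
theorem pk7 : allR (ckPerm (nat_lit 3510) X7 X6) (nat_lit 0) (nat_lit 3510) = true := by
  apply allR_of_forall
  intro i hi
  have hi : i < 3510 := hi
  rcases Nat.lt_or_ge i 1755 with h0 | h0
  · exact allR_spec _ (0 : ℕ) (1755 : ℕ) pk7_0 i (by omega) (by omega)
  exact allR_spec _ (1755 : ℕ) (1755 : ℕ) pk7_1 i (by omega) (by omega)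
theorem pk8 : allR (ckPerm (nat_lit 3510) X8 X9) (nat_lit 0) (nat_lit 3510) = true := by
  apply allR_of_forall
  intro i hi
  have hi : i < 3510 := hi
  rcases Nat.lt_or_ge i 1755 with h0 | h0
  · exact allR_spec _ (0 : ℕ) (1755 : ℕ) pk8_0 i (by omega) (by omega)
  exact allR_spec _ (1755 : ℕ) (1755 : ℕ) pk8_1 i (by omega) (by omega)
theorem pk9 : allR (ckPerm (nat_lit 3510) X9 X8) (nat_lit 0) (nat_lit 3510) = true := by
  apply allR_of_forall
  intro i hi
  have hi : i < 3510 := hi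
  rcases Nat.lt_or_ge i 1755 with h0 | h0
  · exact allR_spec _ (0 : ℕ) (1755 : ℕ) pk9_0 i (by omega) (by omega)
  exact allR_spec _ (1755 : ℕ) (1755 : ℕ) pk9_1 i (by omega) (by omega)
theorem pk10 : allR (ckPerm (nat_lit 3510) X10 X11) (nat_lit 0) (nat_lit 3510) = true := by
  apply allR_of_forall
  intro i hi
  have hi : i < 3510 := hi
  rcases Nat.lt_or_ge i 1755 with h0 | h0
  · exact allR_spec _ (0 : ℕ) (1755 : ℕ) pk10_0 i (by omega) (by omega)
  exact allR_spec _ (1755 : ℕ) (1755 : ℕ) pk10_1 i (by omega) (by omega)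
theorem pk11 : allR (ckPerm (nat_lit 3510) X11 X10) (nat_lit 0) (nat_lit 3510) = true := by
  apply allR_of_forall
  intro i hi
  have hi : i < 3510 := hi
  rcases Nat.lt_or_ge i 1755 with h0 | h0
  · exact allR_spec _ (0 : ℕ) (1755 : ℕ) pk11_0 i (by omega) (by omega)
  exact allR_spec _ (1755 : ℕ) (1755 : ℕ) pk11_1 i (by omega) (by omega)
theorem pk12 : allR (ckPerm (nat_lit 3510) X12 X13) (nat_lit 0) (nat_lit 3510) = true := by
  apply allR_of_forall
  intro i hi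
  have hi : i < 3510 := hi
  rcases Nat.lt_or_ge i 1755 with h0 | h0
  · exact allR_spec _ (0 : ℕ) (1755 : ℕ) pk12_0 i (by omega) (by omega)
  exact allR_spec _ (1755 : ℕ) (1755 : ℕ) pk12_1 i (by omega) (by omega)
theorem pk13 : allR (ckPerm (nat_lit 3510) X13 X12) (nat_lit 0) (nat_lit 3510) = true := by
  apply allR_of_forall
  intro i hi
  have hi : i < 3510 := hi
  rcases Nat.lt_or_ge i 1755 with h0 | h0
  · exact allR_spec _ (0 : ℕ) (1755 : ℕ) pk13_0 i (by omega) (by omega)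
  exact allR_spec _ (1755 : ℕ) (1755 : ℕ) pk13_1 i (by omega) (by omega)
theorem pk14 : allR (ckPerm (nat_lit 3510) X14 X15) (nat_lit 0) (nat_lit 3510) = true := by
  apply allR_of_forall
  intro i hi
  have hi : i < 3510 := hi
  rcases Nat.lt_or_ge i 1755 with h0 | h0
  · exact allR_spec _ (0 : ℕ) (1755 : ℕ) pk14_0 i (by omega) (by omega)
  exact allR_spec _ (1755 : ℕ) (1755 : ℕ) pk14_1 i (by omega) (by omega)
theorem pk15 : allR (ckPerm (nat_lit 3510) X15 X14) (nat_lit 0) (nat_lit 3510) = true := by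
  apply allR_of_forall
  intro i hi
  have hi : i < 3510 := hi
  rcases Nat.lt_or_ge i 1755 with h0 | h0
  · exact allR_spec _ (0 : ℕ) (1755 : ℕ) pk15_0 i (by omega) (by omega)
  exact allR_spec _ (1755 : ℕ) (1755 : ℕ) pk15_1 i (by omega) (by omega)
theorem pk16 : allR (ckPerm (nat_lit 3510) X16 X17) (nat_lit 0) (nat_lit 3510) = true := by
  apply allR_of_forall
  intro i hi
  have hi : i < 3510 := hi
  rcases Nat.lt_or_ge i 1755 with h0 | h0
  · exact allR_spec _ (0 : ℕ) (1755 : ℕ) pk16_0 i (by omega) (by omega)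
  exact allR_spec _ (1755 : ℕ) (1755 : ℕ) pk16_1 i (by omega) (by omega)
theorem pk17 : allR (ckPerm (nat_lit 3510) X17 X16) (nat_lit 0) (nat_lit 3510) = true := by
  apply allR_of_forall
  intro i hi
  have hi : i < 3510 := hi
  rcases Nat.lt_or_ge i 1755 with h0 | h0
  · exact allR_spec _ (0 : ℕ) (1755 : ℕ) pk17_0 i (by omega) (by omega)
  exact allR_spec _ (1755 : ℕ) (1755 : ℕ) pk17_1 i (by omega) (by omega)
theorem pk18 : allR (ckPerm (nat_lit 3510) X18 X19) (nat_lit 0) (nat_lit 3510) = true := by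
  apply allR_of_forall
  intro i hi
  have hi : i < 3510 := hi
  rcases Nat.lt_or_ge i 1755 with h0 | h0
  · exact allR_spec _ (0 : ℕ) (1755 : ℕ) pk18_0 i (by omega) (by omega)
  exact allR_spec _ (1755 : ℕ) (1755 : ℕ) pk18_1 i (by omega) (by omega)
theorem pk19 : allR (ckPerm (nat_lit 3510) X19 X18) (nat_lit 0) (nat_lit 3510) = true := by
  apply allR_of_forall
  intro i hi
  have hi : i < 3510 := hi
  rcases Nat.lt_or_ge i 1755 with h0 | h0
  · exact allR_spec _ (0 : ℕ) (1755 : ℕ) pk19_0 i (by omega) (by omega)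
  exact allR_spec _ (1755 : ℕ) (1755 : ℕ) pk19_1 i (by omega) (by omega)
theorem pk20 : allR (ckPerm (nat_lit 3510) X20 X21) (nat_lit 0) (nat_lit 3510) = true := by
  apply allR_of_forall
  intro i hi
  have hi : i < 3510 := hi
  rcases Nat.lt_or_ge i 1755 with h0 | h0
  · exact allR_spec _ (0 : ℕ) (1755 : ℕ) pk20_0 i (by omega) (by omega)
  exact allR_spec _ (1755 : ℕ) (1755 : ℕ) pk20_1 i (by omega) (by omega)
theorem pk21 : allR (ckPerm (nat_lit 3510) X21 X20) (nat_lit 0) (nat_lit 3510) = true := by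
  apply allR_of_forall
  intro i hi
  have hi : i < 3510 := hi
  rcases Nat.lt_or_ge i 1755 with h0 | h0
  · exact allR_spec _ (0 : ℕ) (1755 : ℕ) pk21_0 i (by omega) (by omega)
  exact allR_spec _ (1755 : ℕ) (1755 : ℕ) pk21_1 i (by omega) (by omega)
theorem pk22 : allR (ckPerm (nat_lit 3510) X22 X23) (nat_lit 0) (nat_lit 3510) = true := by
  apply allR_of_forall
  intro i hi
  have hi : i < 3510 := hi
  rcases Nat.lt_or_ge i 1755 with h0 | h0
  · exact allR_spec _ (0 : ℕ) (1755 : ℕ) pk22_0 i (by omega) (by omega)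
  exact allR_spec _ (1755 : ℕ) (1755 : ℕ) pk22_1 i (by omega) (by omega)
theorem pk23 : allR (ckPerm (nat_lit 3510) X23 X22) (nat_lit 0) (nat_lit 3510) = true := by
  apply allR_of_forall
  intro i hi
  have hi : i < 3510 := hi
  rcases Nat.lt_or_ge i 1755 with h0 | h0
  · exact allR_spec _ (0 : ℕ) (1755 : ℕ) pk23_0 i (by omega) (by omega)
  exact allR_spec _ (1755 : ℕ) (1755 : ℕ) pk23_1 i (by omega) (by omega)
theorem pk24 : allR (ckPerm (nat_lit 3510) X24 X25) (nat_lit 0) (nat_lit 3510) = true := by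
  apply allR_of_forall
  intro i hi
  have hi : i < 3510 := hi
  rcases Nat.lt_or_ge i 1755 with h0 | h0
  · exact allR_spec _ (0 : ℕ) (1755 : ℕ) pk24_0 i (by omega) (by omega)
  exact allR_spec _ (1755 : ℕ) (1755 : ℕ) pk24_1 i (by omega) (by omega)
theorem pk25 : allR (ckPerm (nat_lit 3510) X25 X24) (nat_lit 0) (nat_lit 3510) = true := by
  apply allR_of_forall
  intro i hi
  have hi : i < 3510 := hi
  rcases Nat.lt_or_ge i 1755 with h0 | h0
  · exact allR_spec _ (0 : ℕ) (1755 : ℕ) pk25_0 i (by omega) (by omega)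
  exact allR_spec _ (1755 : ℕ) (1755 : ℕ) pk25_1 i (by omega) (by omega)
theorem pk26 : allR (ckPerm (nat_lit 3510) X26 X27) (nat_lit 0) (nat_lit 3510) = true := by
  apply allR_of_forall
  intro i hi
  have hi : i < 3510 := hi
  rcases Nat.lt_or_ge i 1755 with h0 | h0
  · exact allR_spec _ (0 : ℕ) (1755 : ℕ) pk26_0 i (by omega) (by omega)
  exact allR_spec _ (1755 : ℕ) (1755 : ℕ) pk26_1 i (by omega) (by omega)
theorem pk27 : allR (ckPerm (nat_lit 3510) X27 X26) (nat_lit 0) (nat_lit 3510) = true := by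
  apply allR_of_forall
  intro i hi
  have hi : i < 3510 := hi
  rcases Nat.lt_or_ge i 1755 with h0 | h0
  · exact allR_spec _ (0 : ℕ) (1755 : ℕ) pk27_0 i (by omega) (by omega)
  exact allR_spec _ (1755 : ℕ) (1755 : ℕ) pk27_1 i (by omega) (by omega)
theorem pk28 : allR (ckPerm (nat_lit 3510) X28 X29) (nat_lit 0) (nat_lit 3510) = true := by
  apply allR_of_forall
  intro i hi
  have hi : i < 3510 := hi
  rcases Nat.lt_or_ge i 1755 with h0 | h0
  · exact allR_spec _ (0 : ℕ) (1755 : ℕ) pk28_0 i (by omega) (by omega)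
  exact allR_spec _ (1755 : ℕ) (1755 : ℕ) pk28_1 i (by omega) (by omega)
theorem pk29 : allR (ckPerm (nat_lit 3510) X29 X28) (nat_lit 0) (nat_lit 3510) = true := by
  apply allR_of_forall
  intro i hi
  have hi : i < 3510 := hi
  rcases Nat.lt_or_ge i 1755 with h0 | h0
  · exact allR_spec _ (0 : ℕ) (1755 : ℕ) pk29_0 i (by omega) (by omega)
  exact allR_spec _ (1755 : ℕ) (1755 : ℕ) pk29_1 i (by omega) (by omega)
theorem pk30 : allR (ckPerm (nat_lit 3510) X30 X31) (nat_lit 0) (nat_lit 3510) = true := by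
  apply allR_of_forall
  intro i hi
  have hi : i < 3510 := hi
  rcases Nat.lt_or_ge i 1755 with h0 | h0
  · exact allR_spec _ (0 : ℕ) (1755 : ℕ) pk30_0 i (by omega) (by omega)
  exact allR_spec _ (1755 : ℕ) (1755 : ℕ) pk30_1 i (by omega) (by omega)
theorem pk31 : allR (ckPerm (nat_lit 3510) X31 X30) (nat_lit 0) (nat_lit 3510) = true := by
  apply allR_of_forall
  intro i hi
  have hi : i < 3510 := hi
  rcases Nat.lt_or_ge i 1755 with h0 | h0
  · exact allR_spec _ (0 : ℕ) (1755 : ℕ) pk31_0 i (by omega) (by omega)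
  exact allR_spec _ (1755 : ℕ) (1755 : ℕ) pk31_1 i (by omega) (by omega)
theorem pk32 : allR (ckPerm (nat_lit 3510) X32 X33) (nat_lit 0) (nat_lit 3510) = true := by
  apply allR_of_forall
  intro i hi
  have hi : i < 3510 := hi
  rcases Nat.lt_or_ge i 1755 with h0 | h0
  · exact allR_spec _ (0 : ℕ) (1755 : ℕ) pk32_0 i (by omega) (by omega)
  exact allR_spec _ (1755 : ℕ) (1755 : ℕ) pk32_1 i (by omega) (by omega)
theorem pk33 : allR (ckPerm (nat_lit 3510) X33 X32) (nat_lit 0) (nat_lit 3510) = true := by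
  apply allR_of_forall
  intro i hi
  have hi : i < 3510 := hi
  rcases Nat.lt_or_ge i 1755 with h0 | h0
  · exact allR_spec _ (0 : ℕ) (1755 : ℕ) pk33_0 i (by omega) (by omega)
  exact allR_spec _ (1755 : ℕ) (1755 : ℕ) pk33_1 i (by omega) (by omega)
theorem pk34 : allR (ckPerm (nat_lit 3510) X34 X35) (nat_lit 0) (nat_lit 3510) = true := by
  apply allR_of_forall
  intro i hi
  have hi : i < 3510 := hi
  rcases Nat.lt_or_ge i 1755 with h0 | h0
  · exact allR_spec _ (0 : ℕ) (1755 : ℕ) pk34_0 i (by omega) (by omega)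
  exact allR_spec _ (1755 : ℕ) (1755 : ℕ) pk34_1 i (by omega) (by omega)
theorem pk35 : allR (ckPerm (nat_lit 3510) X35 X34) (nat_lit 0) (nat_lit 3510) = true := by
  apply allR_of_forall
  intro i hi
  have hi : i < 3510 := hi
  rcases Nat.lt_or_ge i 1755 with h0 | h0
  · exact allR_spec _ (0 : ℕ) (1755 : ℕ) pk35_0 i (by omega) (by omega)
  exact allR_spec _ (1755 : ℕ) (1755 : ℕ) pk35_1 i (by omega) (by omega)
theorem pk36 : allR (ckPerm (nat_lit 3510) X36 X37) (nat_lit 0) (nat_lit 3510) = true := by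
  apply allR_of_forall
  intro i hi
  have hi : i < 3510 := hi
  rcases Nat.lt_or_ge i 1755 with h0 | h0
  · exact allR_spec _ (0 : ℕ) (1755 : ℕ) pk36_0 i (by omega) (by omega)
  exact allR_spec _ (1755 : ℕ) (1755 : ℕ) pk36_1 i (by omega) (by omega)
theorem pk37 : allR (ckPerm (nat_lit 3510) X37 X36) (nat_lit 0) (nat_lit 3510) = true := by
  apply allR_of_forall
  intro i hi
  have hi : i < 3510 := hi
  rcases Nat.lt_or_ge i 1755 with h0 | h0
  · exact allR_spec _ (0 : ℕ) (1755 : ℕ) pk37_0 i (by omega) (by omega)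
  exact allR_spec _ (1755 : ℕ) (1755 : ℕ) pk37_1 i (by omega) (by omega)
theorem pk38 : allR (ckPerm (nat_lit 3510) X38 X39) (nat_lit 0) (nat_lit 3510) = true := by
  apply allR_of_forall
  intro i hi
  have hi : i < 3510 := hi
  rcases Nat.lt_or_ge i 1755 with h0 | h0
  · exact allR_spec _ (0 : ℕ) (1755 : ℕ) pk38_0 i (by omega) (by omega)
  exact allR_spec _ (1755 : ℕ) (1755 : ℕ) pk38_1 i (by omega) (by omega)
theorem pk39 : allR (ckPerm (nat_lit 3510) X39 X38) (nat_lit 0) (nat_lit 3510) = true := by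
  apply allR_of_forall
  intro i hi
  have hi : i < 3510 := hi
  rcases Nat.lt_or_ge i 1755 with h0 | h0
  · exact allR_spec _ (0 : ℕ) (1755 : ℕ) pk39_0 i (by omega) (by omega)
  exact allR_spec _ (1755 : ℕ) (1755 : ℕ) pk39_1 i (by omega) (by omega)
theorem pk40 : allR (ckPerm (nat_lit 3510) X40 X41) (nat_lit 0) (nat_lit 3510) = true := by
  apply allR_of_forall
  intro i hi
  have hi : i < 3510 := hi
  rcases Nat.lt_or_ge i 1755 with h0 | h0
  · exact allR_spec _ (0 : ℕ) (1755 : ℕ) pk40_0 i (by omega) (by omega)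
  exact allR_spec _ (1755 : ℕ) (1755 : ℕ) pk40_1 i (by omega) (by omega)
theorem pk41 : allR (ckPerm (nat_lit 3510) X41 X40) (nat_lit 0) (nat_lit 3510) = true := by
  apply allR_of_forall
  intro i hi
  have hi : i < 3510 := hi
  rcases Nat.lt_or_ge i 1755 with h0 | h0
  · exact allR_spec _ (0 : ℕ) (1755 : ℕ) pk41_0 i (by omega) (by omega)
  exact allR_spec _ (1755 : ℕ) (1755 : ℕ) pk41_1 i (by omega) (by omega)
theorem pk42 : allR (ckPerm (nat_lit 3510) X42 X43) (nat_lit 0) (nat_lit 3510) = true := by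
  apply allR_of_forall
  intro i hi
  have hi : i < 3510 := hi
  rcases Nat.lt_or_ge i 1755 with h0 | h0
  · exact allR_spec _ (0 : ℕ) (1755 : ℕ) pk42_0 i (by omega) (by omega)
  exact allR_spec _ (1755 : ℕ) (1755 : ℕ) pk42_1 i (by omega) (by omega)
theorem pk43 : allR (ckPerm (nat_lit 3510) X43 X42) (nat_lit 0) (nat_lit 3510) = true := by
  apply allR_of_forall
  intro i hi
  have hi : i < 3510 := hi
  rcases Nat.lt_or_ge i 1755 with h0 | h0
  · exact allR_spec _ (0 : ℕ) (1755 : ℕ) pk43_0 i (by omega) (by omega)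
  exact allR_spec _ (1755 : ℕ) (1755 : ℕ) pk43_1 i (by omega) (by omega)
theorem pk44 : allR (ckPerm (nat_lit 3510) X44 X45) (nat_lit 0) (nat_lit 3510) = true := by
  apply allR_of_forall
  intro i hi
  have hi : i < 3510 := hi
  rcases Nat.lt_or_ge i 1755 with h0 | h0
  · exact allR_spec _ (0 : ℕ) (1755 : ℕ) pk44_0 i (by omega) (by omega)
  exact allR_spec _ (1755 : ℕ) (1755 : ℕ) pk44_1 i (by omega) (by omega)
theorem pk45 : allR (ckPerm (nat_lit 3510) X45 X44) (nat_lit 0) (nat_lit 3510) = true := by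
  apply allR_of_forall
  intro i hi
  have hi : i < 3510 := hi
  rcases Nat.lt_or_ge i 1755 with h0 | h0
  · exact allR_spec _ (0 : ℕ) (1755 : ℕ) pk45_0 i (by omega) (by omega)
  exact allR_spec _ (1755 : ℕ) (1755 : ℕ) pk45_1 i (by omega) (by omega)
theorem pk46 : allR (ckPerm (nat_lit 3510) X46 X47) (nat_lit 0) (nat_lit 3510) = true := by
  apply allR_of_forall
  intro i hi
  have hi : i < 3510 := hi
  rcases Nat.lt_or_ge i 1755 with h0 | h0
  · exact allR_spec _ (0 : ℕ) (1755 : ℕ) pk46_0 i (by omega) (by omega)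
  exact allR_spec _ (1755 : ℕ) (1755 : ℕ) pk46_1 i (by omega) (by omega)
theorem pk47 : allR (ckPerm (nat_lit 3510) X47 X46) (nat_lit 0) (nat_lit 3510) = true := by
  apply allR_of_forall
  intro i hi
  have hi : i < 3510 := hi
  rcases Nat.lt_or_ge i 1755 with h0 | h0
  · exact allR_spec _ (0 : ℕ) (1755 : ℕ) pk47_0 i (by omega) (by omega)
  exact allR_spec _ (1755 : ℕ) (1755 : ℕ) pk47_1 i (by omega) (by omega)
theorem pk48 : allR (ckPerm (nat_lit 3510) X48 X49) (nat_lit 0) (nat_lit 3510) = true := by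
  apply allR_of_forall
  intro i hi
  have hi : i < 3510 := hi
  rcases Nat.lt_or_ge i 1755 with h0 | h0
  · exact allR_spec _ (0 : ℕ) (1755 : ℕ) pk48_0 i (by omega) (by omega)
  exact allR_spec _ (1755 : ℕ) (1755 : ℕ) pk48_1 i (by omega) (by omega)
theorem pk49 : allR (ckPerm (nat_lit 3510) X49 X48) (nat_lit 0) (nat_lit 3510) = true := by
  apply allR_of_forall
  intro i hi
  have hi : i < 3510 := hi
  rcases Nat.lt_or_ge i 1755 with h0 | h0
  · exact allR_spec _ (0 : ℕ) (1755 : ℕ) pk49_0 i (by omega) (by omega)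
  exact allR_spec _ (1755 : ℕ) (1755 : ℕ) pk49_1 i (by omega) (by omega)
theorem pk50 : allR (ckPerm (nat_lit 3510) X50 X51) (nat_lit 0) (nat_lit 3510) = true := by
  apply allR_of_forall
  intro i hi
  have hi : i < 3510 := hi
  rcases Nat.lt_or_ge i 1755 with h0 | h0
  · exact allR_spec _ (0 : ℕ) (1755 : ℕ) pk50_0 i (by omega) (by omega)
  exact allR_spec _ (1755 : ℕ) (1755 : ℕ) pk50_1 i (by omega) (by omega)
theorem pk51 : allR (ckPerm (nat_lit 3510) X51 X50) (nat_lit 0) (nat_lit 3510) = true := by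
  apply allR_of_forall
  intro i hi
  have hi : i < 3510 := hi
  rcases Nat.lt_or_ge i 1755 with h0 | h0
  · exact allR_spec _ (0 : ℕ) (1755 : ℕ) pk51_0 i (by omega) (by omega)
  exact allR_spec _ (1755 : ℕ) (1755 : ℕ) pk51_1 i (by omega) (by omega)
theorem pk52 : allR (ckPerm (nat_lit 3510) X52 X53) (nat_lit 0) (nat_lit 3510) = true := by
  apply allR_of_forall
  intro i hi
  have hi : i < 3510 := hi
  rcases Nat.lt_or_ge i 1755 with h0 | h0
  · exact allR_spec _ (0 : ℕ) (1755 : ℕ) pk52_0 i (by omega) (by omega)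
  exact allR_spec _ (1755 : ℕ) (1755 : ℕ) pk52_1 i (by omega) (by omega)
theorem pk53 : allR (ckPerm (nat_lit 3510) X53 X52) (nat_lit 0) (nat_lit 3510) = true := by
  apply allR_of_forall
  intro i hi
  have hi : i < 3510 := hi
  rcases Nat.lt_or_ge i 1755 with h0 | h0
  · exact allR_spec _ (0 : ℕ) (1755 : ℕ) pk53_0 i (by omega) (by omega)
  exact allR_spec _ (1755 : ℕ) (1755 : ℕ) pk53_1 i (by omega) (by omega)
theorem pk54 : allR (ckPerm (nat_lit 3510) X54 X55) (nat_lit 0) (nat_lit 3510) = true := by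
  apply allR_of_forall
  intro i hi
  have hi : i < 3510 := hi
  rcases Nat.lt_or_ge i 1755 with h0 | h0
  · exact allR_spec _ (0 : ℕ) (1755 : ℕ) pk54_0 i (by omega) (by omega)
  exact allR_spec _ (1755 : ℕ) (1755 : ℕ) pk54_1 i (by omega) (by omega)
theorem pk55 : allR (ckPerm (nat_lit 3510) X55 X54) (nat_lit 0) (nat_lit 3510) = true := by
  apply allR_of_forall
  intro i hi
  have hi : i < 3510 := hi
  rcases Nat.lt_or_ge i 1755 with h0 | h0
  · exact allR_spec _ (0 : ℕ) (1755 : ℕ) pk55_0 i (by omega) (by omega)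
  exact allR_spec _ (1755 : ℕ) (1755 : ℕ) pk55_1 i (by omega) (by omega)
theorem pk56 : allR (ckPerm (nat_lit 3510) X56 X57) (nat_lit 0) (nat_lit 3510) = true := by
  apply allR_of_forall
  intro i hi
  have hi : i < 3510 := hi
  rcases Nat.lt_or_ge i 1755 with h0 | h0
  · exact allR_spec _ (0 : ℕ) (1755 : ℕ) pk56_0 i (by omega) (by omega)
  exact allR_spec _ (1755 : ℕ) (1755 : ℕ) pk56_1 i (by omega) (by omega)
theorem pk57 : allR (ckPerm (nat_lit 3510) X57 X56) (nat_lit 0) (nat_lit 3510) = true := by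
  apply allR_of_forall
  intro i hi
  have hi : i < 3510 := hi
  rcases Nat.lt_or_ge i 1755 with h0 | h0
  · exact allR_spec _ (0 : ℕ) (1755 : ℕ) pk57_0 i (by omega) (by omega)
  exact allR_spec _ (1755 : ℕ) (1755 : ℕ) pk57_1 i (by omega) (by omega)
theorem pk58 : allR (ckPerm (nat_lit 3510) X58 X59) (nat_lit 0) (nat_lit 3510) = true := by
  apply allR_of_forall
  intro i hi
  have hi : i < 3510 := hi
  rcases Nat.lt_or_ge i 1755 with h0 | h0
  · exact allR_spec _ (0 : ℕ) (1755 : ℕ) pk58_0 i (by omega) (by omega)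
  exact allR_spec _ (1755 : ℕ) (1755 : ℕ) pk58_1 i (by omega) (by omega)
theorem pk59 : allR (ckPerm (nat_lit 3510) X59 X58) (nat_lit 0) (nat_lit 3510) = true := by
  apply allR_of_forall
  intro i hi
  have hi : i < 3510 := hi
  rcases Nat.lt_or_ge i 1755 with h0 | h0
  · exact allR_spec _ (0 : ℕ) (1755 : ℕ) pk59_0 i (by omega) (by omega)
  exact allR_spec _ (1755 : ℕ) (1755 : ℕ) pk59_1 i (by omega) (by omega)
theorem pk60 : allR (ckPerm (nat_lit 3510) X60 X61) (nat_lit 0) (nat_lit 3510) = true := by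
  apply allR_of_forall
  intro i hi
  have hi : i < 3510 := hi
  rcases Nat.lt_or_ge i 1755 with h0 | h0
  · exact allR_spec _ (0 : ℕ) (1755 : ℕ) pk60_0 i (by omega) (by omega)
  exact allR_spec _ (1755 : ℕ) (1755 : ℕ) pk60_1 i (by omega) (by omega)
theorem pk61 : allR (ckPerm (nat_lit 3510) X61 X60) (nat_lit 0) (nat_lit 3510) = true := by
  apply allR_of_forall
  intro i hi
  have hi : i < 3510 := hi
  rcases Nat.lt_or_ge i 1755 with h0 | h0
  · exact allR_spec _ (0 : ℕ) (1755 : ℕ) pk61_0 i (by omega) (by omega)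
  exact allR_spec _ (1755 : ℕ) (1755 : ℕ) pk61_1 i (by omega) (by omega)
theorem pk62 : allR (ckPerm (nat_lit 3510) X62 X63) (nat_lit 0) (nat_lit 3510) = true := by
  apply allR_of_forall
  intro i hi
  have hi : i < 3510 := hi
  rcases Nat.lt_or_ge i 1755 with h0 | h0
  · exact allR_spec _ (0 : ℕ) (1755 : ℕ) pk62_0 i (by omega) (by omega)
  exact allR_spec _ (1755 : ℕ) (1755 : ℕ) pk62_1 i (by omega) (by omega)
theorem pk63 : allR (ckPerm (nat_lit 3510) X63 X62) (nat_lit 0) (nat_lit 3510) = true := by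
  apply allR_of_forall
  intro i hi
  have hi : i < 3510 := hi
  rcases Nat.lt_or_ge i 1755 with h0 | h0
  · exact allR_spec _ (0 : ℕ) (1755 : ℕ) pk63_0 i (by omega) (by omega)
  exact allR_spec _ (1755 : ℕ) (1755 : ℕ) pk63_1 i (by omega) (by omega)
theorem pk64 : allR (ckPerm (nat_lit 3510) X64 X65) (nat_lit 0) (nat_lit 3510) = true := by
  apply allR_of_forall
  intro i hi
  have hi : i < 3510 := hi
  rcases Nat.lt_or_ge i 1755 with h0 | h0
  · exact allR_spec _ (0 : ℕ) (1755 : ℕ) pk64_0 i (by omega) (by omega)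
  exact allR_spec _ (1755 : ℕ) (1755 : ℕ) pk64_1 i (by omega) (by omega)
theorem pk65 : allR (ckPerm (nat_lit 3510) X65 X64) (nat_lit 0) (nat_lit 3510) = true := by
  apply allR_of_forall
  intro i hi
  have hi : i < 3510 := hi
  rcases Nat.lt_or_ge i 1755 with h0 | h0
  · exact allR_spec _ (0 : ℕ) (1755 : ℕ) pk65_0 i (by omega) (by omega)
  exact allR_spec _ (1755 : ℕ) (1755 : ℕ) pk65_1 i (by omega) (by omega)
theorem pk66 : allR (ckPerm (nat_lit 3510) X66 X67) (nat_lit 0) (nat_lit 3510) = true := by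
  apply allR_of_forall
  intro i hi
  have hi : i < 3510 := hi
  rcases Nat.lt_or_ge i 1755 with h0 | h0
  · exact allR_spec _ (0 : ℕ) (1755 : ℕ) pk66_0 i (by omega) (by omega)
  exact allR_spec _ (1755 : ℕ) (1755 : ℕ) pk66_1 i (by omega) (by omega)
theorem pk67 : allR (ckPerm (nat_lit 3510) X67 X66) (nat_lit 0) (nat_lit 3510) = true := by
  apply allR_of_forall
  intro i hi
  have hi : i < 3510 := hi
  rcases Nat.lt_or_ge i 1755 with h0 | h0
  · exact allR_spec _ (0 : ℕ) (1755 : ℕ) pk67_0 i (by omega) (by omega)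
  exact allR_spec _ (1755 : ℕ) (1755 : ℕ) pk67_1 i (by omega) (by omega)
theorem wk0 : allR (OT.ckEqW [T0, T1, T2, T3, T4, T5, T8, T7] [X0]) (nat_lit 0) (nat_lit 3510) = true := by
  apply allR_of_forall
  intro i hi
  have hi : i < 3510 := hi
  rcases Nat.lt_or_ge i 390 with h0 | h0
  · exact allR_spec _ (0 : ℕ) (390 : ℕ) wk0_0 i (by omega) (by omega)
  rcases Nat.lt_or_ge i 780 with h1 | h1
  · exact allR_spec _ (390 : ℕ) (390 : ℕ) wk0_1 i (by omega) (by omega)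
  rcases Nat.lt_or_ge i 1170 with h2 | h2
  · exact allR_spec _ (780 : ℕ) (390 : ℕ) wk0_2 i (by omega) (by omega)
  rcases Nat.lt_or_ge i 1560 with h3 | h3
  · exact allR_spec _ (1170 : ℕ) (390 : ℕ) wk0_3 i (by omega) (by omega)
  rcases Nat.lt_or_ge i 1950 with h4 | h4
  · exact allR_spec _ (1560 : ℕ) (390 : ℕ) wk0_4 i (by omega) (by omega)
  rcases Nat.lt_or_ge i 2340 with h5 | h5
  · exact allR_spec _ (1950 : ℕ) (390 : ℕ) wk0_5 i (by omega) (by omega)
  rcases Nat.lt_or_ge i 2730 with h6 | h6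
  · exact allR_spec _ (2340 : ℕ) (390 : ℕ) wk0_6 i (by omega) (by omega)
  rcases Nat.lt_or_ge i 3120 with h7 | h7
  · exact allR_spec _ (2730 : ℕ) (390 : ℕ) wk0_7 i (by omega) (by omega)
  exact allR_spec _ (3120 : ℕ) (390 : ℕ) wk0_8 i (by omega) (by omega)
theorem wk1 : allR (OT.ckEqW [T6, T4, T5, T0, T1, T5, X1, T2, T4, T8, X0] [X2]) (nat_lit 0) (nat_lit 3510) = true := by
  apply allR_of_forall
  intro i hi
  have hi : i < 3510 := hi
  rcases Nat.lt_or_ge i 292 with h0 | h0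
  · exact allR_spec _ (0 : ℕ) (292 : ℕ) wk1_0 i (by omega) (by omega)
  rcases Nat.lt_or_ge i 584 with h1 | h1
  · exact allR_spec _ (292 : ℕ) (292 : ℕ) wk1_1 i (by omega) (by omega)
  rcases Nat.lt_or_ge i 876 with h2 | h2
  · exact allR_spec _ (584 : ℕ) (292 : ℕ) wk1_2 i (by omega) (by omega)
  rcases Nat.lt_or_ge i 1168 with h3 | h3
  · exact allR_spec _ (876 : ℕ) (292 : ℕ) wk1_3 i (by omega) (by omega)
  rcases Nat.lt_or_ge i 1460 with h4 | h4
  · exact allR_spec _ (1168 : ℕ) (292 : ℕ) wk1_4 i (by omega) (by omega)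
  rcases Nat.lt_or_ge i 1752 with h5 | h5
  · exact allR_spec _ (1460 : ℕ) (292 : ℕ) wk1_5 i (by omega) (by omega)
  rcases Nat.lt_or_ge i 2044 with h6 | h6
  · exact allR_spec _ (1752 : ℕ) (292 : ℕ) wk1_6 i (by omega) (by omega)
  rcases Nat.lt_or_ge i 2336 with h7 | h7
  · exact allR_spec _ (2044 : ℕ) (292 : ℕ) wk1_7 i (by omega) (by omega)
  rcases Nat.lt_or_ge i 2628 with h8 | h8
  · exact allR_spec _ (2336 : ℕ) (292 : ℕ) wk1_8 i (by omega) (by omega)
  rcases Nat.lt_or_ge i 2920 with h9 | h9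
  · exact allR_spec _ (2628 : ℕ) (292 : ℕ) wk1_9 i (by omega) (by omega)
  rcases Nat.lt_or_ge i 3212 with h10 | h10
  · exact allR_spec _ (2920 : ℕ) (292 : ℕ) wk1_10 i (by omega) (by omega)
  rcases Nat.lt_or_ge i 3504 with h11 | h11
  · exact allR_spec _ (3212 : ℕ) (292 : ℕ) wk1_11 i (by omega) (by omega)
  exact allR_spec _ (3504 : ℕ) (6 : ℕ) wk1_12 i (by omega) (by omega)
theorem wk2 : allR (OT.ckEqW [T8, T0, T3, X1, T1, T2, T3, X1, T8, T5, T2, T3, X1] [X4]) (nat_lit 0) (nat_lit 3510) = true := by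
  apply allR_of_forall
  intro i hi
  have hi : i < 3510 := hi
  rcases Nat.lt_or_ge i 250 with h0 | h0
  · exact allR_spec _ (0 : ℕ) (250 : ℕ) wk2_0 i (by omega) (by omega)
  rcases Nat.lt_or_ge i 500 with h1 | h1
  · exact allR_spec _ (250 : ℕ) (250 : ℕ) wk2_1 i (by omega) (by omega)
  rcases Nat.lt_or_ge i 750 with h2 | h2
  · exact allR_spec _ (500 : ℕ) (250 : ℕ) wk2_2 i (by omega) (by omega)
  rcases Nat.lt_or_ge i 1000 with h3 | h3
  · exact allR_spec _ (750 : ℕ) (250 : ℕ) wk2_3 i (by omega) (by omega)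
  rcases Nat.lt_or_ge i 1250 with h4 | h4
  · exact allR_spec _ (1000 : ℕ) (250 : ℕ) wk2_4 i (by omega) (by omega)
  rcases Nat.lt_or_ge i 1500 with h5 | h5
  · exact allR_spec _ (1250 : ℕ) (250 : ℕ) wk2_5 i (by omega) (by omega)
  rcases Nat.lt_or_ge i 1750 with h6 | h6
  · exact allR_spec _ (1500 : ℕ) (250 : ℕ) wk2_6 i (by omega) (by omega)
  rcases Nat.lt_or_ge i 2000 with h7 | h7
  · exact allR_spec _ (1750 : ℕ) (250 : ℕ) wk2_7 i (by omega) (by omega)
  rcases Nat.lt_or_ge i 2250 with h8 | h8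
  · exact allR_spec _ (2000 : ℕ) (250 : ℕ) wk2_8 i (by omega) (by omega)
  rcases Nat.lt_or_ge i 2500 with h9 | h9
  · exact allR_spec _ (2250 : ℕ) (250 : ℕ) wk2_9 i (by omega) (by omega)
  rcases Nat.lt_or_ge i 2750 with h10 | h10
  · exact allR_spec _ (2500 : ℕ) (250 : ℕ) wk2_10 i (by omega) (by omega)
  rcases Nat.lt_or_ge i 3000 with h11 | h11
  · exact allR_spec _ (2750 : ℕ) (250 : ℕ) wk2_11 i (by omega) (by omega)
  rcases Nat.lt_or_ge i 3250 with h12 | h12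
  · exact allR_spec _ (3000 : ℕ) (250 : ℕ) wk2_12 i (by omega) (by omega)
  rcases Nat.lt_or_ge i 3500 with h13 | h13
  · exact allR_spec _ (3250 : ℕ) (250 : ℕ) wk2_13 i (by omega) (by omega)
  exact allR_spec _ (3500 : ℕ) (10 : ℕ) wk2_14 i (by omega) (by omega)
theorem wk3 : allR (OT.ckEqW [X2, X4, X4, X2, X4, X3, X3] [X6]) (nat_lit 0) (nat_lit 3510) = true := by
  apply allR_of_forall
  intro i hi
  have hi : i < 3510 := hi
  rcases Nat.lt_or_ge i 438 with h0 | h0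
  · exact allR_spec _ (0 : ℕ) (438 : ℕ) wk3_0 i (by omega) (by omega)
  rcases Nat.lt_or_ge i 876 with h1 | h1
  · exact allR_spec _ (438 : ℕ) (438 : ℕ) wk3_1 i (by omega) (by omega)
  rcases Nat.lt_or_ge i 1314 with h2 | h2
  · exact allR_spec _ (876 : ℕ) (438 : ℕ) wk3_2 i (by omega) (by omega)
  rcases Nat.lt_or_ge i 1752 with h3 | h3
  · exact allR_spec _ (1314 : ℕ) (438 : ℕ) wk3_3 i (by omega) (by omega)
  rcases Nat.lt_or_ge i 2190 with h4 | h4
  · exact allR_spec _ (1752 : ℕ) (438 : ℕ) wk3_4 i (by omega) (by omega)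
  rcases Nat.lt_or_ge i 2628 with h5 | h5
  · exact allR_spec _ (2190 : ℕ) (438 : ℕ) wk3_5 i (by omega) (by omega)
  rcases Nat.lt_or_ge i 3066 with h6 | h6
  · exact allR_spec _ (2628 : ℕ) (438 : ℕ) wk3_6 i (by omega) (by omega)
  rcases Nat.lt_or_ge i 3504 with h7 | h7
  · exact allR_spec _ (3066 : ℕ) (438 : ℕ) wk3_7 i (by omega) (by omega)
  exact allR_spec _ (3504 : ℕ) (6 : ℕ) wk3_8 i (by omega) (by omega)
theorem wk4 : allR (OT.ckEqW [X2, X4, X3, X3, X3, X4, X2, X4, X3] [X8]) (nat_lit 0) (nat_lit 3510) = true := by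
  apply allR_of_forall
  intro i hi
  have hi : i < 3510 := hi
  rcases Nat.lt_or_ge i 351 with h0 | h0
  · exact allR_spec _ (0 : ℕ) (351 : ℕ) wk4_0 i (by omega) (by omega)
  rcases Nat.lt_or_ge i 702 with h1 | h1
  · exact allR_spec _ (351 : ℕ) (351 : ℕ) wk4_1 i (by omega) (by omega)
  rcases Nat.lt_or_ge i 1053 with h2 | h2
  · exact allR_spec _ (702 : ℕ) (351 : ℕ) wk4_2 i (by omega) (by omega)
  rcases Nat.lt_or_ge i 1404 with h3 | h3
  · exact allR_spec _ (1053 : ℕ) (351 : ℕ) wk4_3 i (by omega) (by omega)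
  rcases Nat.lt_or_ge i 1755 with h4 | h4
  · exact allR_spec _ (1404 : ℕ) (351 : ℕ) wk4_4 i (by omega) (by omega)
  rcases Nat.lt_or_ge i 2106 with h5 | h5
  · exact allR_spec _ (1755 : ℕ) (351 : ℕ) wk4_5 i (by omega) (by omega)
  rcases Nat.lt_or_ge i 2457 with h6 | h6
  · exact allR_spec _ (2106 : ℕ) (351 : ℕ) wk4_6 i (by omega) (by omega)
  rcases Nat.lt_or_ge i 2808 with h7 | h7
  · exact allR_spec _ (2457 : ℕ) (351 : ℕ) wk4_7 i (by omega) (by omega)
  rcases Nat.lt_or_ge i 3159 with h8 | h8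
  · exact allR_spec _ (2808 : ℕ) (351 : ℕ) wk4_8 i (by omega) (by omega)
  exact allR_spec _ (3159 : ℕ) (351 : ℕ) wk4_9 i (by omega) (by omega)
theorem wk5 : allR (OT.ckEqW [X8, X7, X8, X7, X7, X9, X9, X7, X9, X9, X6, X6, X9, X6, X9, X9, X7, X9] [X10]) (nat_lit 0) (nat_lit 3510) = true := by
  apply allR_of_forall
  intro i hi
  have hi : i < 3510 := hi
  rcases Nat.lt_or_ge i 184 with h0 | h0
  · exact allR_spec _ (0 : ℕ) (184 : ℕ) wk5_0 i (by omega) (by omega)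
  rcases Nat.lt_or_ge i 368 with h1 | h1
  · exact allR_spec _ (184 : ℕ) (184 : ℕ) wk5_1 i (by omega) (by omega)
  rcases Nat.lt_or_ge i 552 with h2 | h2
  · exact allR_spec _ (368 : ℕ) (184 : ℕ) wk5_2 i (by omega) (by omega)
  rcases Nat.lt_or_ge i 736 with h3 | h3
  · exact allR_spec _ (552 : ℕ) (184 : ℕ) wk5_3 i (by omega) (by omega)
  rcases Nat.lt_or_ge i 920 with h4 | h4
  · exact allR_spec _ (736 : ℕ) (184 : ℕ) wk5_4 i (by omega) (by omega)
  rcases Nat.lt_or_ge i 1104 with h5 | h5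
  · exact allR_spec _ (920 : ℕ) (184 : ℕ) wk5_5 i (by omega) (by omega)
  rcases Nat.lt_or_ge i 1288 with h6 | h6
  · exact allR_spec _ (1104 : ℕ) (184 : ℕ) wk5_6 i (by omega) (by omega)
  rcases Nat.lt_or_ge i 1472 with h7 | h7
  · exact allR_spec _ (1288 : ℕ) (184 : ℕ) wk5_7 i (by omega) (by omega)
  rcases Nat.lt_or_ge i 1656 with h8 | h8
  · exact allR_spec _ (1472 : ℕ) (184 : ℕ) wk5_8 i (by omega) (by omega)
  rcases Nat.lt_or_ge i 1840 with h9 | h9
  · exact allR_spec _ (1656 : ℕ) (184 : ℕ) wk5_9 i (by omega) (by omega)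
  rcases Nat.lt_or_ge i 2024 with h10 | h10
  · exact allR_spec _ (1840 : ℕ) (184 : ℕ) wk5_10 i (by omega) (by omega)
  rcases Nat.lt_or_ge i 2208 with h11 | h11
  · exact allR_spec _ (2024 : ℕ) (184 : ℕ) wk5_11 i (by omega) (by omega)
  rcases Nat.lt_or_ge i 2392 with h12 | h12
  · exact allR_spec _ (2208 : ℕ) (184 : ℕ) wk5_12 i (by omega) (by omega)
  rcases Nat.lt_or_ge i 2576 with h13 | h13
  · exact allR_spec _ (2392 : ℕ) (184 : ℕ) wk5_13 i (by omega) (by omega)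
  rcases Nat.lt_or_ge i 2760 with h14 | h14
  · exact allR_spec _ (2576 : ℕ) (184 : ℕ) wk5_14 i (by omega) (by omega)
  rcases Nat.lt_or_ge i 2944 with h15 | h15
  · exact allR_spec _ (2760 : ℕ) (184 : ℕ) wk5_15 i (by omega) (by omega)
  rcases Nat.lt_or_ge i 3128 with h16 | h16
  · exact allR_spec _ (2944 : ℕ) (184 : ℕ) wk5_16 i (by omega) (by omega)
  rcases Nat.lt_or_ge i 3312 with h17 | h17
  · exact allR_spec _ (3128 : ℕ) (184 : ℕ) wk5_17 i (by omega) (by omega)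
  rcases Nat.lt_or_ge i 3496 with h18 | h18
  · exact allR_spec _ (3312 : ℕ) (184 : ℕ) wk5_18 i (by omega) (by omega)
  exact allR_spec _ (3496 : ℕ) (14 : ℕ) wk5_19 i (by omega) (by omega)
theorem wk6 : allR (OT.ckEqW [X9, X7, X8, X7, X8, X6, X6, X8, X6, X9, X7, X8, X6, X8, X8] [X12]) (nat_lit 0) (nat_lit 3510) = true := by
  apply allR_of_forall
  intro i hi
  have hi : i < 3510 := hi
  rcases Nat.lt_or_ge i 219 with h0 | h0
  · exact allR_spec _ (0 : ℕ) (219 : ℕ) wk6_0 i (by omega) (by omega)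
  rcases Nat.lt_or_ge i 438 with h1 | h1
  · exact allR_spec _ (219 : ℕ) (219 : ℕ) wk6_1 i (by omega) (by omega)
  rcases Nat.lt_or_ge i 657 with h2 | h2
  · exact allR_spec _ (438 : ℕ) (219 : ℕ) wk6_2 i (by omega) (by omega)
  rcases Nat.lt_or_ge i 876 with h3 | h3
  · exact allR_spec _ (657 : ℕ) (219 : ℕ) wk6_3 i (by omega) (by omega)
  rcases Nat.lt_or_ge i 1095 with h4 | h4
  · exact allR_spec _ (876 : ℕ) (219 : ℕ) wk6_4 i (by omega) (by omega)
  rcases Nat.lt_or_ge i 1314 with h5 | h5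
  · exact allR_spec _ (1095 : ℕ) (219 : ℕ) wk6_5 i (by omega) (by omega)
  rcases Nat.lt_or_ge i 1533 with h6 | h6
  · exact allR_spec _ (1314 : ℕ) (219 : ℕ) wk6_6 i (by omega) (by omega)
  rcases Nat.lt_or_ge i 1752 with h7 | h7
  · exact allR_spec _ (1533 : ℕ) (219 : ℕ) wk6_7 i (by omega) (by omega)
  rcases Nat.lt_or_ge i 1971 with h8 | h8
  · exact allR_spec _ (1752 : ℕ) (219 : ℕ) wk6_8 i (by omega) (by omega)
  rcases Nat.lt_or_ge i 2190 with h9 | h9
  · exact allR_spec _ (1971 : ℕ) (219 : ℕ) wk6_9 i (by omega) (by omega)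
  rcases Nat.lt_or_ge i 2409 with h10 | h10
  · exact allR_spec _ (2190 : ℕ) (219 : ℕ) wk6_10 i (by omega) (by omega)
  rcases Nat.lt_or_ge i 2628 with h11 | h11
  · exact allR_spec _ (2409 : ℕ) (219 : ℕ) wk6_11 i (by omega) (by omega)
  rcases Nat.lt_or_ge i 2847 with h12 | h12
  · exact allR_spec _ (2628 : ℕ) (219 : ℕ) wk6_12 i (by omega) (by omega)
  rcases Nat.lt_or_ge i 3066 with h13 | h13
  · exact allR_spec _ (2847 : ℕ) (219 : ℕ) wk6_13 i (by omega) (by omega)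
  rcases Nat.lt_or_ge i 3285 with h14 | h14
  · exact allR_spec _ (3066 : ℕ) (219 : ℕ) wk6_14 i (by omega) (by omega)
  rcases Nat.lt_or_ge i 3504 with h15 | h15
  · exact allR_spec _ (3285 : ℕ) (219 : ℕ) wk6_15 i (by omega) (by omega)
  exact allR_spec _ (3504 : ℕ) (6 : ℕ) wk6_16 i (by omega) (by omega)
theorem wk7 : allR (OT.ckEqW [X9, X7, X8, X6, X8, X6, X9, X7, X8, X6, X8] [X14]) (nat_lit 0) (nat_lit 3510) = true := by
  apply allR_of_forall
  intro i hi
  have hi : i < 3510 := hi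
  rcases Nat.lt_or_ge i 292 with h0 | h0
  · exact allR_spec _ (0 : ℕ) (292 : ℕ) wk7_0 i (by omega) (by omega)
  rcases Nat.lt_or_ge i 584 with h1 | h1
  · exact allR_spec _ (292 : ℕ) (292 : ℕ) wk7_1 i (by omega) (by omega)
  rcases Nat.lt_or_ge i 876 with h2 | h2
  · exact allR_spec _ (584 : ℕ) (292 : ℕ) wk7_2 i (by omega) (by omega)
  rcases Nat.lt_or_ge i 1168 with h3 | h3
  · exact allR_spec _ (876 : ℕ) (292 : ℕ) wk7_3 i (by omega) (by omega)
  rcases Nat.lt_or_ge i 1460 with h4 | h4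
  · exact allR_spec _ (1168 : ℕ) (292 : ℕ) wk7_4 i (by omega) (by omega)
  rcases Nat.lt_or_ge i 1752 with h5 | h5
  · exact allR_spec _ (1460 : ℕ) (292 : ℕ) wk7_5 i (by omega) (by omega)
  rcases Nat.lt_or_ge i 2044 with h6 | h6
  · exact allR_spec _ (1752 : ℕ) (292 : ℕ) wk7_6 i (by omega) (by omega)
  rcases Nat.lt_or_ge i 2336 with h7 | h7
  · exact allR_spec _ (2044 : ℕ) (292 : ℕ) wk7_7 i (by omega) (by omega)
  rcases Nat.lt_or_ge i 2628 with h8 | h8
  · exact allR_spec _ (2336 : ℕ) (292 : ℕ) wk7_8 i (by omega) (by omega)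
  rcases Nat.lt_or_ge i 2920 with h9 | h9
  · exact allR_spec _ (2628 : ℕ) (292 : ℕ) wk7_9 i (by omega) (by omega)
  rcases Nat.lt_or_ge i 3212 with h10 | h10
  · exact allR_spec _ (2920 : ℕ) (292 : ℕ) wk7_10 i (by omega) (by omega)
  rcases Nat.lt_or_ge i 3504 with h11 | h11
  · exact allR_spec _ (3212 : ℕ) (292 : ℕ) wk7_11 i (by omega) (by omega)
  exact allR_spec _ (3504 : ℕ) (6 : ℕ) wk7_12 i (by omega) (by omega)
theorem wk8 : allR (OT.ckEqW [X12, X11] [X16]) (nat_lit 0) (nat_lit 3510) = true := by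
  apply allR_of_forall
  intro i hi
  have hi : i < 3510 := hi
  rcases Nat.lt_or_ge i 1170 with h0 | h0
  · exact allR_spec _ (0 : ℕ) (1170 : ℕ) wk8_0 i (by omega) (by omega)
  rcases Nat.lt_or_ge i 2340 with h1 | h1
  · exact allR_spec _ (1170 : ℕ) (1170 : ℕ) wk8_1 i (by omega) (by omega)
  exact allR_spec _ (2340 : ℕ) (1170 : ℕ) wk8_2 i (by omega) (by omega)
theorem wk9 : allR (OT.ckEqW [X15, X13, X14, X11, X11, X14] [X18]) (nat_lit 0) (nat_lit 3510) = true := by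
  apply allR_of_forall
  intro i hi
  have hi : i < 3510 := hi
  rcases Nat.lt_or_ge i 501 with h0 | h0
  · exact allR_spec _ (0 : ℕ) (501 : ℕ) wk9_0 i (by omega) (by omega)
  rcases Nat.lt_or_ge i 1002 with h1 | h1
  · exact allR_spec _ (501 : ℕ) (501 : ℕ) wk9_1 i (by omega) (by omega)
  rcases Nat.lt_or_ge i 1503 with h2 | h2
  · exact allR_spec _ (1002 : ℕ) (501 : ℕ) wk9_2 i (by omega) (by omega)
  rcases Nat.lt_or_ge i 2004 with h3 | h3
  · exact allR_spec _ (1503 : ℕ) (501 : ℕ) wk9_3 i (by omega) (by omega)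
  rcases Nat.lt_or_ge i 2505 with h4 | h4
  · exact allR_spec _ (2004 : ℕ) (501 : ℕ) wk9_4 i (by omega) (by omega)
  rcases Nat.lt_or_ge i 3006 with h5 | h5
  · exact allR_spec _ (2505 : ℕ) (501 : ℕ) wk9_5 i (by omega) (by omega)
  rcases Nat.lt_or_ge i 3507 with h6 | h6
  · exact allR_spec _ (3006 : ℕ) (501 : ℕ) wk9_6 i (by omega) (by omega)
  exact allR_spec _ (3507 : ℕ) (3 : ℕ) wk9_7 i (by omega) (by omega)
theorem wk10 : allR (OT.ckEqW [X15, X15, X11, X15, X11, X13, X11, X15, X11] [X20]) (nat_lit 0) (nat_lit 3510) = true := by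
  apply allR_of_forall
  intro i hi
  have hi : i < 3510 := hi
  rcases Nat.lt_or_ge i 351 with h0 | h0
  · exact allR_spec _ (0 : ℕ) (351 : ℕ) wk10_0 i (by omega) (by omega)
  rcases Nat.lt_or_ge i 702 with h1 | h1
  · exact allR_spec _ (351 : ℕ) (351 : ℕ) wk10_1 i (by omega) (by omega)
  rcases Nat.lt_or_ge i 1053 with h2 | h2
  · exact allR_spec _ (702 : ℕ) (351 : ℕ) wk10_2 i (by omega) (by omega)
  rcases Nat.lt_or_ge i 1404 with h3 | h3
  · exact allR_spec _ (1053 : ℕ) (351 : ℕ) wk10_3 i (by omega) (by omega)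
  rcases Nat.lt_or_ge i 1755 with h4 | h4
  · exact allR_spec _ (1404 : ℕ) (351 : ℕ) wk10_4 i (by omega) (by omega)
  rcases Nat.lt_or_ge i 2106 with h5 | h5
  · exact allR_spec _ (1755 : ℕ) (351 : ℕ) wk10_5 i (by omega) (by omega)
  rcases Nat.lt_or_ge i 2457 with h6 | h6
  · exact allR_spec _ (2106 : ℕ) (351 : ℕ) wk10_6 i (by omega) (by omega)
  rcases Nat.lt_or_ge i 2808 with h7 | h7
  · exact allR_spec _ (2457 : ℕ) (351 : ℕ) wk10_7 i (by omega) (by omega)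
  rcases Nat.lt_or_ge i 3159 with h8 | h8
  · exact allR_spec _ (2808 : ℕ) (351 : ℕ) wk10_8 i (by omega) (by omega)
  exact allR_spec _ (3159 : ℕ) (351 : ℕ) wk10_9 i (by omega) (by omega)
theorem wk11 : allR (OT.ckEqW [X20, X13, X11, X15, X6, X8, X6, X6, X6, X9, X2, X5, X5, X2, X2, X5, X5, T1, X0, X0, X0, X0, X0] [X22]) (nat_lit 0) (nat_lit 3510) = true := by
  apply allR_of_forall
  intro i hi
  have hi : i < 3510 := hi
  rcases Nat.lt_or_ge i 146 with h0 | h0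
  · exact allR_spec _ (0 : ℕ) (146 : ℕ) wk11_0 i (by omega) (by omega)
  rcases Nat.lt_or_ge i 292 with h1 | h1
  · exact allR_spec _ (146 : ℕ) (146 : ℕ) wk11_1 i (by omega) (by omega)
  rcases Nat.lt_or_ge i 438 with h2 | h2
  · exact allR_spec _ (292 : ℕ) (146 : ℕ) wk11_2 i (by omega) (by omega)
  rcases Nat.lt_or_ge i 584 with h3 | h3
  · exact allR_spec _ (438 : ℕ) (146 : ℕ) wk11_3 i (by omega) (by omega)
  rcases Nat.lt_or_ge i 730 with h4 | h4
  · exact allR_spec _ (584 : ℕ) (146 : ℕ) wk11_4 i (by omega) (by omega)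
  rcases Nat.lt_or_ge i 876 with h5 | h5
  · exact allR_spec _ (730 : ℕ) (146 : ℕ) wk11_5 i (by omega) (by omega)
  rcases Nat.lt_or_ge i 1022 with h6 | h6
  · exact allR_spec _ (876 : ℕ) (146 : ℕ) wk11_6 i (by omega) (by omega)
  rcases Nat.lt_or_ge i 1168 with h7 | h7
  · exact allR_spec _ (1022 : ℕ) (146 : ℕ) wk11_7 i (by omega) (by omega)
  rcases Nat.lt_or_ge i 1314 with h8 | h8
  · exact allR_spec _ (1168 : ℕ) (146 : ℕ) wk11_8 i (by omega) (by omega)
  rcases Nat.lt_or_ge i 1460 with h9 | h9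
  · exact allR_spec _ (1314 : ℕ) (146 : ℕ) wk11_9 i (by omega) (by omega)
  rcases Nat.lt_or_ge i 1606 with h10 | h10
  · exact allR_spec _ (1460 : ℕ) (146 : ℕ) wk11_10 i (by omega) (by omega)
  rcases Nat.lt_or_ge i 1752 with h11 | h11
  · exact allR_spec _ (1606 : ℕ) (146 : ℕ) wk11_11 i (by omega) (by omega)
  rcases Nat.lt_or_ge i 1898 with h12 | h12
  · exact allR_spec _ (1752 : ℕ) (146 : ℕ) wk11_12 i (by omega) (by omega)
  rcases Nat.lt_or_ge i 2044 with h13 | h13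
  · exact allR_spec _ (1898 : ℕ) (146 : ℕ) wk11_13 i (by omega) (by omega)
  rcases Nat.lt_or_ge i 2190 with h14 | h14
  · exact allR_spec _ (2044 : ℕ) (146 : ℕ) wk11_14 i (by omega) (by omega)
  rcases Nat.lt_or_ge i 2336 with h15 | h15
  · exact allR_spec _ (2190 : ℕ) (146 : ℕ) wk11_15 i (by omega) (by omega)
  rcases Nat.lt_or_ge i 2482 with h16 | h16
  · exact allR_spec _ (2336 : ℕ) (146 : ℕ) wk11_16 i (by omega) (by omega)
  rcases Nat.lt_or_ge i 2628 with h17 | h17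
  · exact allR_spec _ (2482 : ℕ) (146 : ℕ) wk11_17 i (by omega) (by omega)
  rcases Nat.lt_or_ge i 2774 with h18 | h18
  · exact allR_spec _ (2628 : ℕ) (146 : ℕ) wk11_18 i (by omega) (by omega)
  rcases Nat.lt_or_ge i 2920 with h19 | h19
  · exact allR_spec _ (2774 : ℕ) (146 : ℕ) wk11_19 i (by omega) (by omega)
  rcases Nat.lt_or_ge i 3066 with h20 | h20
  · exact allR_spec _ (2920 : ℕ) (146 : ℕ) wk11_20 i (by omega) (by omega)
  rcases Nat.lt_or_ge i 3212 with h21 | h21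
  · exact allR_spec _ (3066 : ℕ) (146 : ℕ) wk11_21 i (by omega) (by omega)
  rcases Nat.lt_or_ge i 3358 with h22 | h22
  · exact allR_spec _ (3212 : ℕ) (146 : ℕ) wk11_22 i (by omega) (by omega)
  rcases Nat.lt_or_ge i 3504 with h23 | h23
  · exact allR_spec _ (3358 : ℕ) (146 : ℕ) wk11_23 i (by omega) (by omega)
  exact allR_spec _ (3504 : ℕ) (6 : ℕ) wk11_24 i (by omega) (by omega)
theorem wk12 : allR (OT.ckEqW [X20, X13, X15, X12, X7, X8, X7, X8, X6, X8, X7, X5, X3, X4, X3, X4, X3, X4, X4, X3, X3, T1, X0, T3, T4, T6, X0, X0, X0, X0] [X24]) (nat_lit 0) (nat_lit 3510) = true := by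
  apply allR_of_forall
  intro i hi
  have hi : i < 3510 := hi
  rcases Nat.lt_or_ge i 113 with h0 | h0
  · exact allR_spec _ (0 : ℕ) (113 : ℕ) wk12_0 i (by omega) (by omega)
  rcases Nat.lt_or_ge i 226 with h1 | h1
  · exact allR_spec _ (113 : ℕ) (113 : ℕ) wk12_1 i (by omega) (by omega)
  rcases Nat.lt_or_ge i 339 with h2 | h2
  · exact allR_spec _ (226 : ℕ) (113 : ℕ) wk12_2 i (by omega) (by omega)
  rcases Nat.lt_or_ge i 452 with h3 | h3
  · exact allR_spec _ (339 : ℕ) (113 : ℕ) wk12_3 i (by omega) (by omega)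
  rcases Nat.lt_or_ge i 565 with h4 | h4
  · exact allR_spec _ (452 : ℕ) (113 : ℕ) wk12_4 i (by omega) (by omega)
  rcases Nat.lt_or_ge i 678 with h5 | h5
  · exact allR_spec _ (565 : ℕ) (113 : ℕ) wk12_5 i (by omega) (by omega)
  rcases Nat.lt_or_ge i 791 with h6 | h6
  · exact allR_spec _ (678 : ℕ) (113 : ℕ) wk12_6 i (by omega) (by omega)
  rcases Nat.lt_or_ge i 904 with h7 | h7
  · exact allR_spec _ (791 : ℕ) (113 : ℕ) wk12_7 i (by omega) (by omega)
  rcases Nat.lt_or_ge i 1017 with h8 | h8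
  · exact allR_spec _ (904 : ℕ) (113 : ℕ) wk12_8 i (by omega) (by omega)
  rcases Nat.lt_or_ge i 1130 with h9 | h9
  · exact allR_spec _ (1017 : ℕ) (113 : ℕ) wk12_9 i (by omega) (by omega)
  rcases Nat.lt_or_ge i 1243 with h10 | h10
  · exact allR_spec _ (1130 : ℕ) (113 : ℕ) wk12_10 i (by omega) (by omega)
  rcases Nat.lt_or_ge i 1356 with h11 | h11
  · exact allR_spec _ (1243 : ℕ) (113 : ℕ) wk12_11 i (by omega) (by omega)
  rcases Nat.lt_or_ge i 1469 with h12 | h12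
  · exact allR_spec _ (1356 : ℕ) (113 : ℕ) wk12_12 i (by omega) (by omega)
  rcases Nat.lt_or_ge i 1582 with h13 | h13
  · exact allR_spec _ (1469 : ℕ) (113 : ℕ) wk12_13 i (by omega) (by omega)
  rcases Nat.lt_or_ge i 1695 with h14 | h14
  · exact allR_spec _ (1582 : ℕ) (113 : ℕ) wk12_14 i (by omega) (by omega)
  rcases Nat.lt_or_ge i 1808 with h15 | h15
  · exact allR_spec _ (1695 : ℕ) (113 : ℕ) wk12_15 i (by omega) (by omega)
  rcases Nat.lt_or_ge i 1921 with h16 | h16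
  · exact allR_spec _ (1808 : ℕ) (113 : ℕ) wk12_16 i (by omega) (by omega)
  rcases Nat.lt_or_ge i 2034 with h17 | h17
  · exact allR_spec _ (1921 : ℕ) (113 : ℕ) wk12_17 i (by omega) (by omega)
  rcases Nat.lt_or_ge i 2147 with h18 | h18
  · exact allR_spec _ (2034 : ℕ) (113 : ℕ) wk12_18 i (by omega) (by omega)
  rcases Nat.lt_or_ge i 2260 with h19 | h19
  · exact allR_spec _ (2147 : ℕ) (113 : ℕ) wk12_19 i (by omega) (by omega)
  rcases Nat.lt_or_ge i 2373 with h20 | h20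
  · exact allR_spec _ (2260 : ℕ) (113 : ℕ) wk12_20 i (by omega) (by omega)
  rcases Nat.lt_or_ge i 2486 with h21 | h21
  · exact allR_spec _ (2373 : ℕ) (113 : ℕ) wk12_21 i (by omega) (by omega)
  rcases Nat.lt_or_ge i 2599 with h22 | h22
  · exact allR_spec _ (2486 : ℕ) (113 : ℕ) wk12_22 i (by omega) (by omega)
  rcases Nat.lt_or_ge i 2712 with h23 | h23
  · exact allR_spec _ (2599 : ℕ) (113 : ℕ) wk12_23 i (by omega) (by omega)
  rcases Nat.lt_or_ge i 2825 with h24 | h24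
  · exact allR_spec _ (2712 : ℕ) (113 : ℕ) wk12_24 i (by omega) (by omega)
  rcases Nat.lt_or_ge i 2938 with h25 | h25
  · exact allR_spec _ (2825 : ℕ) (113 : ℕ) wk12_25 i (by omega) (by omega)
  rcases Nat.lt_or_ge i 3051 with h26 | h26
  · exact allR_spec _ (2938 : ℕ) (113 : ℕ) wk12_26 i (by omega) (by omega)
  rcases Nat.lt_or_ge i 3164 with h27 | h27
  · exact allR_spec _ (3051 : ℕ) (113 : ℕ) wk12_27 i (by omega) (by omega)
  rcases Nat.lt_or_ge i 3277 with h28 | h28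
  · exact allR_spec _ (3164 : ℕ) (113 : ℕ) wk12_28 i (by omega) (by omega)
  rcases Nat.lt_or_ge i 3390 with h29 | h29
  · exact allR_spec _ (3277 : ℕ) (113 : ℕ) wk12_29 i (by omega) (by omega)
  rcases Nat.lt_or_ge i 3503 with h30 | h30
  · exact allR_spec _ (3390 : ℕ) (113 : ℕ) wk12_30 i (by omega) (by omega)
  exact allR_spec _ (3503 : ℕ) (7 : ℕ) wk12_31 i (by omega) (by omega)
theorem wk13 : allR (OT.ckEqW [X22] [X26]) (nat_lit 0) (nat_lit 3510) = true := by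
  apply allR_of_forall
  intro i hi
  have hi : i < 3510 := hi
  rcases Nat.lt_or_ge i 1755 with h0 | h0
  · exact allR_spec _ (0 : ℕ) (1755 : ℕ) wk13_0 i (by omega) (by omega)
  exact allR_spec _ (1755 : ℕ) (1755 : ℕ) wk13_1 i (by omega) (by omega)
theorem wk14 : allR (OT.ckEqW [X24, X1, X23, X0, X0, X0, X0, X25, X1, X22, X25, X22, X1, X25, X22, X1] [X28]) (nat_lit 0) (nat_lit 3510) = true := by
  apply allR_of_forall
  intro i hi
  have hi : i < 3510 := hi
  rcases Nat.lt_or_ge i 206 with h0 | h0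
  · exact allR_spec _ (0 : ℕ) (206 : ℕ) wk14_0 i (by omega) (by omega)
  rcases Nat.lt_or_ge i 412 with h1 | h1
  · exact allR_spec _ (206 : ℕ) (206 : ℕ) wk14_1 i (by omega) (by omega)
  rcases Nat.lt_or_ge i 618 with h2 | h2
  · exact allR_spec _ (412 : ℕ) (206 : ℕ) wk14_2 i (by omega) (by omega)
  rcases Nat.lt_or_ge i 824 with h3 | h3
  · exact allR_spec _ (618 : ℕ) (206 : ℕ) wk14_3 i (by omega) (by omega)
  rcases Nat.lt_or_ge i 1030 with h4 | h4
  · exact allR_spec _ (824 : ℕ) (206 : ℕ) wk14_4 i (by omega) (by omega)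
  rcases Nat.lt_or_ge i 1236 with h5 | h5
  · exact allR_spec _ (1030 : ℕ) (206 : ℕ) wk14_5 i (by omega) (by omega)
  rcases Nat.lt_or_ge i 1442 with h6 | h6
  · exact allR_spec _ (1236 : ℕ) (206 : ℕ) wk14_6 i (by omega) (by omega)
  rcases Nat.lt_or_ge i 1648 with h7 | h7
  · exact allR_spec _ (1442 : ℕ) (206 : ℕ) wk14_7 i (by omega) (by omega)
  rcases Nat.lt_or_ge i 1854 with h8 | h8
  · exact allR_spec _ (1648 : ℕ) (206 : ℕ) wk14_8 i (by omega) (by omega)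
  rcases Nat.lt_or_ge i 2060 with h9 | h9
  · exact allR_spec _ (1854 : ℕ) (206 : ℕ) wk14_9 i (by omega) (by omega)
  rcases Nat.lt_or_ge i 2266 with h10 | h10
  · exact allR_spec _ (2060 : ℕ) (206 : ℕ) wk14_10 i (by omega) (by omega)
  rcases Nat.lt_or_ge i 2472 with h11 | h11
  · exact allR_spec _ (2266 : ℕ) (206 : ℕ) wk14_11 i (by omega) (by omega)
  rcases Nat.lt_or_ge i 2678 with h12 | h12
  · exact allR_spec _ (2472 : ℕ) (206 : ℕ) wk14_12 i (by omega) (by omega)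
  rcases Nat.lt_or_ge i 2884 with h13 | h13
  · exact allR_spec _ (2678 : ℕ) (206 : ℕ) wk14_13 i (by omega) (by omega)
  rcases Nat.lt_or_ge i 3090 with h14 | h14
  · exact allR_spec _ (2884 : ℕ) (206 : ℕ) wk14_14 i (by omega) (by omega)
  rcases Nat.lt_or_ge i 3296 with h15 | h15
  · exact allR_spec _ (3090 : ℕ) (206 : ℕ) wk14_15 i (by omega) (by omega)
  rcases Nat.lt_or_ge i 3502 with h16 | h16
  · exact allR_spec _ (3296 : ℕ) (206 : ℕ) wk14_16 i (by omega) (by omega)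
  exact allR_spec _ (3502 : ℕ) (8 : ℕ) wk14_17 i (by omega) (by omega)
theorem wk15 : allR (OT.ckEqW [X22, X0, X25, X22, X1, X25, X0, X23, X25, X22, X0] [X30]) (nat_lit 0) (nat_lit 3510) = true := by
  apply allR_of_forall
  intro i hi
  have hi : i < 3510 := hi
  rcases Nat.lt_or_ge i 292 with h0 | h0
  · exact allR_spec _ (0 : ℕ) (292 : ℕ) wk15_0 i (by omega) (by omega)
  rcases Nat.lt_or_ge i 584 with h1 | h1
  · exact allR_spec _ (292 : ℕ) (292 : ℕ) wk15_1 i (by omega) (by omega)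
  rcases Nat.lt_or_ge i 876 with h2 | h2
  · exact allR_spec _ (584 : ℕ) (292 : ℕ) wk15_2 i (by omega) (by omega)
  rcases Nat.lt_or_ge i 1168 with h3 | h3
  · exact allR_spec _ (876 : ℕ) (292 : ℕ) wk15_3 i (by omega) (by omega)
  rcases Nat.lt_or_ge i 1460 with h4 | h4
  · exact allR_spec _ (1168 : ℕ) (292 : ℕ) wk15_4 i (by omega) (by omega)
  rcases Nat.lt_or_ge i 1752 with h5 | h5
  · exact allR_spec _ (1460 : ℕ) (292 : ℕ) wk15_5 i (by omega) (by omega)
  rcases Nat.lt_or_ge i 2044 with h6 | h6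
  · exact allR_spec _ (1752 : ℕ) (292 : ℕ) wk15_6 i (by omega) (by omega)
  rcases Nat.lt_or_ge i 2336 with h7 | h7
  · exact allR_spec _ (2044 : ℕ) (292 : ℕ) wk15_7 i (by omega) (by omega)
  rcases Nat.lt_or_ge i 2628 with h8 | h8
  · exact allR_spec _ (2336 : ℕ) (292 : ℕ) wk15_8 i (by omega) (by omega)
  rcases Nat.lt_or_ge i 2920 with h9 | h9
  · exact allR_spec _ (2628 : ℕ) (292 : ℕ) wk15_9 i (by omega) (by omega)
  rcases Nat.lt_or_ge i 3212 with h10 | h10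
  · exact allR_spec _ (2920 : ℕ) (292 : ℕ) wk15_10 i (by omega) (by omega)
  rcases Nat.lt_or_ge i 3504 with h11 | h11
  · exact allR_spec _ (3212 : ℕ) (292 : ℕ) wk15_11 i (by omega) (by omega)
  exact allR_spec _ (3504 : ℕ) (6 : ℕ) wk15_12 i (by omega) (by omega)
theorem wk16 : allR (OT.ckEqW [X29, X31, X28, X28, X28, X28, X31, X28, X31, X31, X28, X28, X30] [X32]) (nat_lit 0) (nat_lit 3510) = true := by
  apply allR_of_forall
  intro i hi
  have hi : i < 3510 := hi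
  rcases Nat.lt_or_ge i 250 with h0 | h0
  · exact allR_spec _ (0 : ℕ) (250 : ℕ) wk16_0 i (by omega) (by omega)
  rcases Nat.lt_or_ge i 500 with h1 | h1
  · exact allR_spec _ (250 : ℕ) (250 : ℕ) wk16_1 i (by omega) (by omega)
  rcases Nat.lt_or_ge i 750 with h2 | h2
  · exact allR_spec _ (500 : ℕ) (250 : ℕ) wk16_2 i (by omega) (by omega)
  rcases Nat.lt_or_ge i 1000 with h3 | h3
  · exact allR_spec _ (750 : ℕ) (250 : ℕ) wk16_3 i (by omega) (by omega)
  rcases Nat.lt_or_ge i 1250 with h4 | h4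
  · exact allR_spec _ (1000 : ℕ) (250 : ℕ) wk16_4 i (by omega) (by omega)
  rcases Nat.lt_or_ge i 1500 with h5 | h5
  · exact allR_spec _ (1250 : ℕ) (250 : ℕ) wk16_5 i (by omega) (by omega)
  rcases Nat.lt_or_ge i 1750 with h6 | h6
  · exact allR_spec _ (1500 : ℕ) (250 : ℕ) wk16_6 i (by omega) (by omega)
  rcases Nat.lt_or_ge i 2000 with h7 | h7
  · exact allR_spec _ (1750 : ℕ) (250 : ℕ) wk16_7 i (by omega) (by omega)
  rcases Nat.lt_or_ge i 2250 with h8 | h8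
  · exact allR_spec _ (2000 : ℕ) (250 : ℕ) wk16_8 i (by omega) (by omega)
  rcases Nat.lt_or_ge i 2500 with h9 | h9
  · exact allR_spec _ (2250 : ℕ) (250 : ℕ) wk16_9 i (by omega) (by omega)
  rcases Nat.lt_or_ge i 2750 with h10 | h10
  · exact allR_spec _ (2500 : ℕ) (250 : ℕ) wk16_10 i (by omega) (by omega)
  rcases Nat.lt_or_ge i 3000 with h11 | h11
  · exact allR_spec _ (2750 : ℕ) (250 : ℕ) wk16_11 i (by omega) (by omega)
  rcases Nat.lt_or_ge i 3250 with h12 | h12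
  · exact allR_spec _ (3000 : ℕ) (250 : ℕ) wk16_12 i (by omega) (by omega)
  rcases Nat.lt_or_ge i 3500 with h13 | h13
  · exact allR_spec _ (3250 : ℕ) (250 : ℕ) wk16_13 i (by omega) (by omega)
  exact allR_spec _ (3500 : ℕ) (10 : ℕ) wk16_14 i (by omega) (by omega)
theorem wk17 : allR (OT.ckEqW [X31, X31, X28, X28, X28, X28, X28, X30, X29, X31, X28, X31, X28, X30, X30] [X34]) (nat_lit 0) (nat_lit 3510) = true := by
  apply allR_of_forall
  intro i hi
  have hi : i < 3510 := hi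
  rcases Nat.lt_or_ge i 219 with h0 | h0
  · exact allR_spec _ (0 : ℕ) (219 : ℕ) wk17_0 i (by omega) (by omega)
  rcases Nat.lt_or_ge i 438 with h1 | h1
  · exact allR_spec _ (219 : ℕ) (219 : ℕ) wk17_1 i (by omega) (by omega)
  rcases Nat.lt_or_ge i 657 with h2 | h2
  · exact allR_spec _ (438 : ℕ) (219 : ℕ) wk17_2 i (by omega) (by omega)
  rcases Nat.lt_or_ge i 876 with h3 | h3
  · exact allR_spec _ (657 : ℕ) (219 : ℕ) wk17_3 i (by omega) (by omega)
  rcases Nat.lt_or_ge i 1095 with h4 | h4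
  · exact allR_spec _ (876 : ℕ) (219 : ℕ) wk17_4 i (by omega) (by omega)
  rcases Nat.lt_or_ge i 1314 with h5 | h5
  · exact allR_spec _ (1095 : ℕ) (219 : ℕ) wk17_5 i (by omega) (by omega)
  rcases Nat.lt_or_ge i 1533 with h6 | h6
  · exact allR_spec _ (1314 : ℕ) (219 : ℕ) wk17_6 i (by omega) (by omega)
  rcases Nat.lt_or_ge i 1752 with h7 | h7
  · exact allR_spec _ (1533 : ℕ) (219 : ℕ) wk17_7 i (by omega) (by omega)
  rcases Nat.lt_or_ge i 1971 with h8 | h8
  · exact allR_spec _ (1752 : ℕ) (219 : ℕ) wk17_8 i (by omega) (by omega)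
  rcases Nat.lt_or_ge i 2190 with h9 | h9
  · exact allR_spec _ (1971 : ℕ) (219 : ℕ) wk17_9 i (by omega) (by omega)
  rcases Nat.lt_or_ge i 2409 with h10 | h10
  · exact allR_spec _ (2190 : ℕ) (219 : ℕ) wk17_10 i (by omega) (by omega)
  rcases Nat.lt_or_ge i 2628 with h11 | h11
  · exact allR_spec _ (2409 : ℕ) (219 : ℕ) wk17_11 i (by omega) (by omega)
  rcases Nat.lt_or_ge i 2847 with h12 | h12
  · exact allR_spec _ (2628 : ℕ) (219 : ℕ) wk17_12 i (by omega) (by omega)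
  rcases Nat.lt_or_ge i 3066 with h13 | h13
  · exact allR_spec _ (2847 : ℕ) (219 : ℕ) wk17_13 i (by omega) (by omega)
  rcases Nat.lt_or_ge i 3285 with h14 | h14
  · exact allR_spec _ (3066 : ℕ) (219 : ℕ) wk17_14 i (by omega) (by omega)
  rcases Nat.lt_or_ge i 3504 with h15 | h15
  · exact allR_spec _ (3285 : ℕ) (219 : ℕ) wk17_15 i (by omega) (by omega)
  exact allR_spec _ (3504 : ℕ) (6 : ℕ) wk17_16 i (by omega) (by omega)
theorem wk18 : allR (OT.ckEqW [X33, X34, X32, X35, X32, X35, X33, X33, X35, X35, X33, X34, X32] [X36]) (nat_lit 0) (nat_lit 3510) = true := by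
  apply allR_of_forall
  intro i hi
  have hi : i < 3510 := hi
  rcases Nat.lt_or_ge i 250 with h0 | h0
  · exact allR_spec _ (0 : ℕ) (250 : ℕ) wk18_0 i (by omega) (by omega)
  rcases Nat.lt_or_ge i 500 with h1 | h1
  · exact allR_spec _ (250 : ℕ) (250 : ℕ) wk18_1 i (by omega) (by omega)
  rcases Nat.lt_or_ge i 750 with h2 | h2
  · exact allR_spec _ (500 : ℕ) (250 : ℕ) wk18_2 i (by omega) (by omega)
  rcases Nat.lt_or_ge i 1000 with h3 | h3
  · exact allR_spec _ (750 : ℕ) (250 : ℕ) wk18_3 i (by omega) (by omega)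
  rcases Nat.lt_or_ge i 1250 with h4 | h4
  · exact allR_spec _ (1000 : ℕ) (250 : ℕ) wk18_4 i (by omega) (by omega)
  rcases Nat.lt_or_ge i 1500 with h5 | h5
  · exact allR_spec _ (1250 : ℕ) (250 : ℕ) wk18_5 i (by omega) (by omega)
  rcases Nat.lt_or_ge i 1750 with h6 | h6
  · exact allR_spec _ (1500 : ℕ) (250 : ℕ) wk18_6 i (by omega) (by omega)
  rcases Nat.lt_or_ge i 2000 with h7 | h7
  · exact allR_spec _ (1750 : ℕ) (250 : ℕ) wk18_7 i (by omega) (by omega)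
  rcases Nat.lt_or_ge i 2250 with h8 | h8
  · exact allR_spec _ (2000 : ℕ) (250 : ℕ) wk18_8 i (by omega) (by omega)
  rcases Nat.lt_or_ge i 2500 with h9 | h9
  · exact allR_spec _ (2250 : ℕ) (250 : ℕ) wk18_9 i (by omega) (by omega)
  rcases Nat.lt_or_ge i 2750 with h10 | h10
  · exact allR_spec _ (2500 : ℕ) (250 : ℕ) wk18_10 i (by omega) (by omega)
  rcases Nat.lt_or_ge i 3000 with h11 | h11
  · exact allR_spec _ (2750 : ℕ) (250 : ℕ) wk18_11 i (by omega) (by omega)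
  rcases Nat.lt_or_ge i 3250 with h12 | h12
  · exact allR_spec _ (3000 : ℕ) (250 : ℕ) wk18_12 i (by omega) (by omega)
  rcases Nat.lt_or_ge i 3500 with h13 | h13
  · exact allR_spec _ (3250 : ℕ) (250 : ℕ) wk18_13 i (by omega) (by omega)
  exact allR_spec _ (3500 : ℕ) (10 : ℕ) wk18_14 i (by omega) (by omega)
theorem wk19 : allR (OT.ckEqW [X32, X32, X35, X32, X32, X34, X33, X33, X33, X33, X34, X34, X33, X33] [X38]) (nat_lit 0) (nat_lit 3510) = true := by
  apply allR_of_forall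
  intro i hi
  have hi : i < 3510 := hi
  rcases Nat.lt_or_ge i 234 with h0 | h0
  · exact allR_spec _ (0 : ℕ) (234 : ℕ) wk19_0 i (by omega) (by omega)
  rcases Nat.lt_or_ge i 468 with h1 | h1
  · exact allR_spec _ (234 : ℕ) (234 : ℕ) wk19_1 i (by omega) (by omega)
  rcases Nat.lt_or_ge i 702 with h2 | h2
  · exact allR_spec _ (468 : ℕ) (234 : ℕ) wk19_2 i (by omega) (by omega)
  rcases Nat.lt_or_ge i 936 with h3 | h3
  · exact allR_spec _ (702 : ℕ) (234 : ℕ) wk19_3 i (by omega) (by omega)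
  rcases Nat.lt_or_ge i 1170 with h4 | h4
  · exact allR_spec _ (936 : ℕ) (234 : ℕ) wk19_4 i (by omega) (by omega)
  rcases Nat.lt_or_ge i 1404 with h5 | h5
  · exact allR_spec _ (1170 : ℕ) (234 : ℕ) wk19_5 i (by omega) (by omega)
  rcases Nat.lt_or_ge i 1638 with h6 | h6
  · exact allR_spec _ (1404 : ℕ) (234 : ℕ) wk19_6 i (by omega) (by omega)
  rcases Nat.lt_or_ge i 1872 with h7 | h7
  · exact allR_spec _ (1638 : ℕ) (234 : ℕ) wk19_7 i (by omega) (by omega)
  rcases Nat.lt_or_ge i 2106 with h8 | h8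
  · exact allR_spec _ (1872 : ℕ) (234 : ℕ) wk19_8 i (by omega) (by omega)
  rcases Nat.lt_or_ge i 2340 with h9 | h9
  · exact allR_spec _ (2106 : ℕ) (234 : ℕ) wk19_9 i (by omega) (by omega)
  rcases Nat.lt_or_ge i 2574 with h10 | h10
  · exact allR_spec _ (2340 : ℕ) (234 : ℕ) wk19_10 i (by omega) (by omega)
  rcases Nat.lt_or_ge i 2808 with h11 | h11
  · exact allR_spec _ (2574 : ℕ) (234 : ℕ) wk19_11 i (by omega) (by omega)
  rcases Nat.lt_or_ge i 3042 with h12 | h12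
  · exact allR_spec _ (2808 : ℕ) (234 : ℕ) wk19_12 i (by omega) (by omega)
  rcases Nat.lt_or_ge i 3276 with h13 | h13
  · exact allR_spec _ (3042 : ℕ) (234 : ℕ) wk19_13 i (by omega) (by omega)
  exact allR_spec _ (3276 : ℕ) (234 : ℕ) wk19_14 i (by omega) (by omega)
theorem wk20 : allR (OT.ckEqW [X35, X33, X35, X35, X33, X35, X35, X33, X33, X35] [X40]) (nat_lit 0) (nat_lit 3510) = true := by
  apply allR_of_forall
  intro i hi
  have hi : i < 3510 := hi
  rcases Nat.lt_or_ge i 319 with h0 | h0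
  · exact allR_spec _ (0 : ℕ) (319 : ℕ) wk20_0 i (by omega) (by omega)
  rcases Nat.lt_or_ge i 638 with h1 | h1
  · exact allR_spec _ (319 : ℕ) (319 : ℕ) wk20_1 i (by omega) (by omega)
  rcases Nat.lt_or_ge i 957 with h2 | h2
  · exact allR_spec _ (638 : ℕ) (319 : ℕ) wk20_2 i (by omega) (by omega)
  rcases Nat.lt_or_ge i 1276 with h3 | h3
  · exact allR_spec _ (957 : ℕ) (319 : ℕ) wk20_3 i (by omega) (by omega)
  rcases Nat.lt_or_ge i 1595 with h4 | h4
  · exact allR_spec _ (1276 : ℕ) (319 : ℕ) wk20_4 i (by omega) (by omega)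
  rcases Nat.lt_or_ge i 1914 with h5 | h5
  · exact allR_spec _ (1595 : ℕ) (319 : ℕ) wk20_5 i (by omega) (by omega)
  rcases Nat.lt_or_ge i 2233 with h6 | h6
  · exact allR_spec _ (1914 : ℕ) (319 : ℕ) wk20_6 i (by omega) (by omega)
  rcases Nat.lt_or_ge i 2552 with h7 | h7
  · exact allR_spec _ (2233 : ℕ) (319 : ℕ) wk20_7 i (by omega) (by omega)
  rcases Nat.lt_or_ge i 2871 with h8 | h8
  · exact allR_spec _ (2552 : ℕ) (319 : ℕ) wk20_8 i (by omega) (by omega)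
  rcases Nat.lt_or_ge i 3190 with h9 | h9
  · exact allR_spec _ (2871 : ℕ) (319 : ℕ) wk20_9 i (by omega) (by omega)
  rcases Nat.lt_or_ge i 3509 with h10 | h10
  · exact allR_spec _ (3190 : ℕ) (319 : ℕ) wk20_10 i (by omega) (by omega)
  exact allR_spec _ (3509 : ℕ) (1 : ℕ) wk20_11 i (by omega) (by omega)
theorem wk21 : allR (OT.ckEqW [X38, X36, X38, X36, X41, X36] [X42]) (nat_lit 0) (nat_lit 3510) = true := by
  apply allR_of_forall
  intro i hi
  have hi : i < 3510 := hi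
  rcases Nat.lt_or_ge i 501 with h0 | h0
  · exact allR_spec _ (0 : ℕ) (501 : ℕ) wk21_0 i (by omega) (by omega)
  rcases Nat.lt_or_ge i 1002 with h1 | h1
  · exact allR_spec _ (501 : ℕ) (501 : ℕ) wk21_1 i (by omega) (by omega)
  rcases Nat.lt_or_ge i 1503 with h2 | h2
  · exact allR_spec _ (1002 : ℕ) (501 : ℕ) wk21_2 i (by omega) (by omega)
  rcases Nat.lt_or_ge i 2004 with h3 | h3
  · exact allR_spec _ (1503 : ℕ) (501 : ℕ) wk21_3 i (by omega) (by omega)
  rcases Nat.lt_or_ge i 2505 with h4 | h4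
  · exact allR_spec _ (2004 : ℕ) (501 : ℕ) wk21_4 i (by omega) (by omega)
  rcases Nat.lt_or_ge i 3006 with h5 | h5
  · exact allR_spec _ (2505 : ℕ) (501 : ℕ) wk21_5 i (by omega) (by omega)
  rcases Nat.lt_or_ge i 3507 with h6 | h6
  · exact allR_spec _ (3006 : ℕ) (501 : ℕ) wk21_6 i (by omega) (by omega)
  exact allR_spec _ (3507 : ℕ) (3 : ℕ) wk21_7 i (by omega) (by omega)
theorem wk22 : allR (OT.ckEqW [X38, X40, X40, X39, X36, X38, X36, X41, X37, X41] [X44]) (nat_lit 0) (nat_lit 3510) = true := by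
  apply allR_of_forall
  intro i hi
  have hi : i < 3510 := hi
  rcases Nat.lt_or_ge i 319 with h0 | h0
  · exact allR_spec _ (0 : ℕ) (319 : ℕ) wk22_0 i (by omega) (by omega)
  rcases Nat.lt_or_ge i 638 with h1 | h1
  · exact allR_spec _ (319 : ℕ) (319 : ℕ) wk22_1 i (by omega) (by omega)
  rcases Nat.lt_or_ge i 957 with h2 | h2
  · exact allR_spec _ (638 : ℕ) (319 : ℕ) wk22_2 i (by omega) (by omega)
  rcases Nat.lt_or_ge i 1276 with h3 | h3
  · exact allR_spec _ (957 : ℕ) (319 : ℕ) wk22_3 i (by omega) (by omega)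
  rcases Nat.lt_or_ge i 1595 with h4 | h4
  · exact allR_spec _ (1276 : ℕ) (319 : ℕ) wk22_4 i (by omega) (by omega)
  rcases Nat.lt_or_ge i 1914 with h5 | h5
  · exact allR_spec _ (1595 : ℕ) (319 : ℕ) wk22_5 i (by omega) (by omega)
  rcases Nat.lt_or_ge i 2233 with h6 | h6
  · exact allR_spec _ (1914 : ℕ) (319 : ℕ) wk22_6 i (by omega) (by omega)
  rcases Nat.lt_or_ge i 2552 with h7 | h7
  · exact allR_spec _ (2233 : ℕ) (319 : ℕ) wk22_7 i (by omega) (by omega)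
  rcases Nat.lt_or_ge i 2871 with h8 | h8
  · exact allR_spec _ (2552 : ℕ) (319 : ℕ) wk22_8 i (by omega) (by omega)
  rcases Nat.lt_or_ge i 3190 with h9 | h9
  · exact allR_spec _ (2871 : ℕ) (319 : ℕ) wk22_9 i (by omega) (by omega)
  rcases Nat.lt_or_ge i 3509 with h10 | h10
  · exact allR_spec _ (3190 : ℕ) (319 : ℕ) wk22_10 i (by omega) (by omega)
  exact allR_spec _ (3509 : ℕ) (1 : ℕ) wk22_11 i (by omega) (by omega)
theorem wk23 : allR (OT.ckEqW [X39, X41, X39] [X46]) (nat_lit 0) (nat_lit 3510) = true := by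
  apply allR_of_forall
  intro i hi
  have hi : i < 3510 := hi
  rcases Nat.lt_or_ge i 877 with h0 | h0
  · exact allR_spec _ (0 : ℕ) (877 : ℕ) wk23_0 i (by omega) (by omega)
  rcases Nat.lt_or_ge i 1754 with h1 | h1
  · exact allR_spec _ (877 : ℕ) (877 : ℕ) wk23_1 i (by omega) (by omega)
  rcases Nat.lt_or_ge i 2631 with h2 | h2
  · exact allR_spec _ (1754 : ℕ) (877 : ℕ) wk23_2 i (by omega) (by omega)
  rcases Nat.lt_or_ge i 3508 with h3 | h3
  · exact allR_spec _ (2631 : ℕ) (877 : ℕ) wk23_3 i (by omega) (by omega)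
  exact allR_spec _ (3508 : ℕ) (2 : ℕ) wk23_4 i (by omega) (by omega)
theorem wk24 : allR (OT.ckEqW [X25, X0, X22, X22, X0, X23, X25, X22, X1, X25, X1] [X48]) (nat_lit 0) (nat_lit 3510) = true := by
  apply allR_of_forall
  intro i hi
  have hi : i < 3510 := hi
  rcases Nat.lt_or_ge i 292 with h0 | h0
  · exact allR_spec _ (0 : ℕ) (292 : ℕ) wk24_0 i (by omega) (by omega)
  rcases Nat.lt_or_ge i 584 with h1 | h1
  · exact allR_spec _ (292 : ℕ) (292 : ℕ) wk24_1 i (by omega) (by omega)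
  rcases Nat.lt_or_ge i 876 with h2 | h2
  · exact allR_spec _ (584 : ℕ) (292 : ℕ) wk24_2 i (by omega) (by omega)
  rcases Nat.lt_or_ge i 1168 with h3 | h3
  · exact allR_spec _ (876 : ℕ) (292 : ℕ) wk24_3 i (by omega) (by omega)
  rcases Nat.lt_or_ge i 1460 with h4 | h4
  · exact allR_spec _ (1168 : ℕ) (292 : ℕ) wk24_4 i (by omega) (by omega)
  rcases Nat.lt_or_ge i 1752 with h5 | h5
  · exact allR_spec _ (1460 : ℕ) (292 : ℕ) wk24_5 i (by omega) (by omega)
  rcases Nat.lt_or_ge i 2044 with h6 | h6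
  · exact allR_spec _ (1752 : ℕ) (292 : ℕ) wk24_6 i (by omega) (by omega)
  rcases Nat.lt_or_ge i 2336 with h7 | h7
  · exact allR_spec _ (2044 : ℕ) (292 : ℕ) wk24_7 i (by omega) (by omega)
  rcases Nat.lt_or_ge i 2628 with h8 | h8
  · exact allR_spec _ (2336 : ℕ) (292 : ℕ) wk24_8 i (by omega) (by omega)
  rcases Nat.lt_or_ge i 2920 with h9 | h9
  · exact allR_spec _ (2628 : ℕ) (292 : ℕ) wk24_9 i (by omega) (by omega)
  rcases Nat.lt_or_ge i 3212 with h10 | h10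
  · exact allR_spec _ (2920 : ℕ) (292 : ℕ) wk24_10 i (by omega) (by omega)
  rcases Nat.lt_or_ge i 3504 with h11 | h11
  · exact allR_spec _ (3212 : ℕ) (292 : ℕ) wk24_11 i (by omega) (by omega)
  exact allR_spec _ (3504 : ℕ) (6 : ℕ) wk24_12 i (by omega) (by omega)
theorem wk25 : allR (OT.ckEqW [X24, X23, X25, X22, X22, X0, X25, X1, X1, X25, X22, X0, X0, X25, X1, X1] [X50]) (nat_lit 0) (nat_lit 3510) = true := by
  apply allR_of_forall
  intro i hi
  have hi : i < 3510 := hi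
  rcases Nat.lt_or_ge i 206 with h0 | h0
  · exact allR_spec _ (0 : ℕ) (206 : ℕ) wk25_0 i (by omega) (by omega)
  rcases Nat.lt_or_ge i 412 with h1 | h1
  · exact allR_spec _ (206 : ℕ) (206 : ℕ) wk25_1 i (by omega) (by omega)
  rcases Nat.lt_or_ge i 618 with h2 | h2
  · exact allR_spec _ (412 : ℕ) (206 : ℕ) wk25_2 i (by omega) (by omega)
  rcases Nat.lt_or_ge i 824 with h3 | h3
  · exact allR_spec _ (618 : ℕ) (206 : ℕ) wk25_3 i (by omega) (by omega)
  rcases Nat.lt_or_ge i 1030 with h4 | h4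
  · exact allR_spec _ (824 : ℕ) (206 : ℕ) wk25_4 i (by omega) (by omega)
  rcases Nat.lt_or_ge i 1236 with h5 | h5
  · exact allR_spec _ (1030 : ℕ) (206 : ℕ) wk25_5 i (by omega) (by omega)
  rcases Nat.lt_or_ge i 1442 with h6 | h6
  · exact allR_spec _ (1236 : ℕ) (206 : ℕ) wk25_6 i (by omega) (by omega)
  rcases Nat.lt_or_ge i 1648 with h7 | h7
  · exact allR_spec _ (1442 : ℕ) (206 : ℕ) wk25_7 i (by omega) (by omega)
  rcases Nat.lt_or_ge i 1854 with h8 | h8
  · exact allR_spec _ (1648 : ℕ) (206 : ℕ) wk25_8 i (by omega) (by omega)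
  rcases Nat.lt_or_ge i 2060 with h9 | h9
  · exact allR_spec _ (1854 : ℕ) (206 : ℕ) wk25_9 i (by omega) (by omega)
  rcases Nat.lt_or_ge i 2266 with h10 | h10
  · exact allR_spec _ (2060 : ℕ) (206 : ℕ) wk25_10 i (by omega) (by omega)
  rcases Nat.lt_or_ge i 2472 with h11 | h11
  · exact allR_spec _ (2266 : ℕ) (206 : ℕ) wk25_11 i (by omega) (by omega)
  rcases Nat.lt_or_ge i 2678 with h12 | h12
  · exact allR_spec _ (2472 : ℕ) (206 : ℕ) wk25_12 i (by omega) (by omega)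
  rcases Nat.lt_or_ge i 2884 with h13 | h13
  · exact allR_spec _ (2678 : ℕ) (206 : ℕ) wk25_13 i (by omega) (by omega)
  rcases Nat.lt_or_ge i 3090 with h14 | h14
  · exact allR_spec _ (2884 : ℕ) (206 : ℕ) wk25_14 i (by omega) (by omega)
  rcases Nat.lt_or_ge i 3296 with h15 | h15
  · exact allR_spec _ (3090 : ℕ) (206 : ℕ) wk25_15 i (by omega) (by omega)
  rcases Nat.lt_or_ge i 3502 with h16 | h16
  · exact allR_spec _ (3296 : ℕ) (206 : ℕ) wk25_16 i (by omega) (by omega)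
  exact allR_spec _ (3502 : ℕ) (8 : ℕ) wk25_17 i (by omega) (by omega)
theorem wk26 : allR (OT.ckEqW [X48, X50, X49, X49, X50, X48, X48, X51, X51, X48, X51, X48, X51, X51] [X52]) (nat_lit 0) (nat_lit 3510) = true := by
  apply allR_of_forall
  intro i hi
  have hi : i < 3510 := hi
  rcases Nat.lt_or_ge i 234 with h0 | h0
  · exact allR_spec _ (0 : ℕ) (234 : ℕ) wk26_0 i (by omega) (by omega)
  rcases Nat.lt_or_ge i 468 with h1 | h1
  · exact allR_spec _ (234 : ℕ) (234 : ℕ) wk26_1 i (by omega) (by omega)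
  rcases Nat.lt_or_ge i 702 with h2 | h2
  · exact allR_spec _ (468 : ℕ) (234 : ℕ) wk26_2 i (by omega) (by omega)
  rcases Nat.lt_or_ge i 936 with h3 | h3
  · exact allR_spec _ (702 : ℕ) (234 : ℕ) wk26_3 i (by omega) (by omega)
  rcases Nat.lt_or_ge i 1170 with h4 | h4
  · exact allR_spec _ (936 : ℕ) (234 : ℕ) wk26_4 i (by omega) (by omega)
  rcases Nat.lt_or_ge i 1404 with h5 | h5
  · exact allR_spec _ (1170 : ℕ) (234 : ℕ) wk26_5 i (by omega) (by omega)
  rcases Nat.lt_or_ge i 1638 with h6 | h6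
  · exact allR_spec _ (1404 : ℕ) (234 : ℕ) wk26_6 i (by omega) (by omega)
  rcases Nat.lt_or_ge i 1872 with h7 | h7
  · exact allR_spec _ (1638 : ℕ) (234 : ℕ) wk26_7 i (by omega) (by omega)
  rcases Nat.lt_or_ge i 2106 with h8 | h8
  · exact allR_spec _ (1872 : ℕ) (234 : ℕ) wk26_8 i (by omega) (by omega)
  rcases Nat.lt_or_ge i 2340 with h9 | h9
  · exact allR_spec _ (2106 : ℕ) (234 : ℕ) wk26_9 i (by omega) (by omega)
  rcases Nat.lt_or_ge i 2574 with h10 | h10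
  · exact allR_spec _ (2340 : ℕ) (234 : ℕ) wk26_10 i (by omega) (by omega)
  rcases Nat.lt_or_ge i 2808 with h11 | h11
  · exact allR_spec _ (2574 : ℕ) (234 : ℕ) wk26_11 i (by omega) (by omega)
  rcases Nat.lt_or_ge i 3042 with h12 | h12
  · exact allR_spec _ (2808 : ℕ) (234 : ℕ) wk26_12 i (by omega) (by omega)
  rcases Nat.lt_or_ge i 3276 with h13 | h13
  · exact allR_spec _ (3042 : ℕ) (234 : ℕ) wk26_13 i (by omega) (by omega)
  exact allR_spec _ (3276 : ℕ) (234 : ℕ) wk26_14 i (by omega) (by omega)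
theorem wk27 : allR (OT.ckEqW [X49, X50, X48, X51, X49, X51, X51, X49, X51, X48, X48, X48, X50, X49] [X54]) (nat_lit 0) (nat_lit 3510) = true := by
  apply allR_of_forall
  intro i hi
  have hi : i < 3510 := hi
  rcases Nat.lt_or_ge i 234 with h0 | h0
  · exact allR_spec _ (0 : ℕ) (234 : ℕ) wk27_0 i (by omega) (by omega)
  rcases Nat.lt_or_ge i 468 with h1 | h1
  · exact allR_spec _ (234 : ℕ) (234 : ℕ) wk27_1 i (by omega) (by omega)
  rcases Nat.lt_or_ge i 702 with h2 | h2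
  · exact allR_spec _ (468 : ℕ) (234 : ℕ) wk27_2 i (by omega) (by omega)
  rcases Nat.lt_or_ge i 936 with h3 | h3
  · exact allR_spec _ (702 : ℕ) (234 : ℕ) wk27_3 i (by omega) (by omega)
  rcases Nat.lt_or_ge i 1170 with h4 | h4
  · exact allR_spec _ (936 : ℕ) (234 : ℕ) wk27_4 i (by omega) (by omega)
  rcases Nat.lt_or_ge i 1404 with h5 | h5
  · exact allR_spec _ (1170 : ℕ) (234 : ℕ) wk27_5 i (by omega) (by omega)
  rcases Nat.lt_or_ge i 1638 with h6 | h6
  · exact allR_spec _ (1404 : ℕ) (234 : ℕ) wk27_6 i (by omega) (by omega)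
  rcases Nat.lt_or_ge i 1872 with h7 | h7
  · exact allR_spec _ (1638 : ℕ) (234 : ℕ) wk27_7 i (by omega) (by omega)
  rcases Nat.lt_or_ge i 2106 with h8 | h8
  · exact allR_spec _ (1872 : ℕ) (234 : ℕ) wk27_8 i (by omega) (by omega)
  rcases Nat.lt_or_ge i 2340 with h9 | h9
  · exact allR_spec _ (2106 : ℕ) (234 : ℕ) wk27_9 i (by omega) (by omega)
  rcases Nat.lt_or_ge i 2574 with h10 | h10
  · exact allR_spec _ (2340 : ℕ) (234 : ℕ) wk27_10 i (by omega) (by omega)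
  rcases Nat.lt_or_ge i 2808 with h11 | h11
  · exact allR_spec _ (2574 : ℕ) (234 : ℕ) wk27_11 i (by omega) (by omega)
  rcases Nat.lt_or_ge i 3042 with h12 | h12
  · exact allR_spec _ (2808 : ℕ) (234 : ℕ) wk27_12 i (by omega) (by omega)
  rcases Nat.lt_or_ge i 3276 with h13 | h13
  · exact allR_spec _ (3042 : ℕ) (234 : ℕ) wk27_13 i (by omega) (by omega)
  exact allR_spec _ (3276 : ℕ) (234 : ℕ) wk27_14 i (by omega) (by omega)
theorem wk28 : allR (OT.ckEqW [X54, X52, X52, X52, X54, X54, X54, X53, X55] [X56]) (nat_lit 0) (nat_lit 3510) = true := by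
  apply allR_of_forall
  intro i hi
  have hi : i < 3510 := hi
  rcases Nat.lt_or_ge i 351 with h0 | h0
  · exact allR_spec _ (0 : ℕ) (351 : ℕ) wk28_0 i (by omega) (by omega)
  rcases Nat.lt_or_ge i 702 with h1 | h1
  · exact allR_spec _ (351 : ℕ) (351 : ℕ) wk28_1 i (by omega) (by omega)
  rcases Nat.lt_or_ge i 1053 with h2 | h2
  · exact allR_spec _ (702 : ℕ) (351 : ℕ) wk28_2 i (by omega) (by omega)
  rcases Nat.lt_or_ge i 1404 with h3 | h3
  · exact allR_spec _ (1053 : ℕ) (351 : ℕ) wk28_3 i (by omega) (by omega)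
  rcases Nat.lt_or_ge i 1755 with h4 | h4
  · exact allR_spec _ (1404 : ℕ) (351 : ℕ) wk28_4 i (by omega) (by omega)
  rcases Nat.lt_or_ge i 2106 with h5 | h5
  · exact allR_spec _ (1755 : ℕ) (351 : ℕ) wk28_5 i (by omega) (by omega)
  rcases Nat.lt_or_ge i 2457 with h6 | h6
  · exact allR_spec _ (2106 : ℕ) (351 : ℕ) wk28_6 i (by omega) (by omega)
  rcases Nat.lt_or_ge i 2808 with h7 | h7
  · exact allR_spec _ (2457 : ℕ) (351 : ℕ) wk28_7 i (by omega) (by omega)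
  rcases Nat.lt_or_ge i 3159 with h8 | h8
  · exact allR_spec _ (2808 : ℕ) (351 : ℕ) wk28_8 i (by omega) (by omega)
  exact allR_spec _ (3159 : ℕ) (351 : ℕ) wk28_9 i (by omega) (by omega)
theorem wk29 : allR (OT.ckEqW [X55, X53, X53, X53, X53, X55, X53, X54, X52, X55] [X58]) (nat_lit 0) (nat_lit 3510) = true := by
  apply allR_of_forall
  intro i hi
  have hi : i < 3510 := hi
  rcases Nat.lt_or_ge i 319 with h0 | h0
  · exact allR_spec _ (0 : ℕ) (319 : ℕ) wk29_0 i (by omega) (by omega)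
  rcases Nat.lt_or_ge i 638 with h1 | h1
  · exact allR_spec _ (319 : ℕ) (319 : ℕ) wk29_1 i (by omega) (by omega)
  rcases Nat.lt_or_ge i 957 with h2 | h2
  · exact allR_spec _ (638 : ℕ) (319 : ℕ) wk29_2 i (by omega) (by omega)
  rcases Nat.lt_or_ge i 1276 with h3 | h3
  · exact allR_spec _ (957 : ℕ) (319 : ℕ) wk29_3 i (by omega) (by omega)
  rcases Nat.lt_or_ge i 1595 with h4 | h4
  · exact allR_spec _ (1276 : ℕ) (319 : ℕ) wk29_4 i (by omega) (by omega)
  rcases Nat.lt_or_ge i 1914 with h5 | h5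
  · exact allR_spec _ (1595 : ℕ) (319 : ℕ) wk29_5 i (by omega) (by omega)
  rcases Nat.lt_or_ge i 2233 with h6 | h6
  · exact allR_spec _ (1914 : ℕ) (319 : ℕ) wk29_6 i (by omega) (by omega)
  rcases Nat.lt_or_ge i 2552 with h7 | h7
  · exact allR_spec _ (2233 : ℕ) (319 : ℕ) wk29_7 i (by omega) (by omega)
  rcases Nat.lt_or_ge i 2871 with h8 | h8
  · exact allR_spec _ (2552 : ℕ) (319 : ℕ) wk29_8 i (by omega) (by omega)
  rcases Nat.lt_or_ge i 3190 with h9 | h9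
  · exact allR_spec _ (2871 : ℕ) (319 : ℕ) wk29_9 i (by omega) (by omega)
  rcases Nat.lt_or_ge i 3509 with h10 | h10
  · exact allR_spec _ (3190 : ℕ) (319 : ℕ) wk29_10 i (by omega) (by omega)
  exact allR_spec _ (3509 : ℕ) (1 : ℕ) wk29_11 i (by omega) (by omega)
theorem wk30 : allR (OT.ckEqW [X54, X52, X55, X53, X54, X52, X52, X55, X52, X54, X53, X55, X55, X52] [X60]) (nat_lit 0) (nat_lit 3510) = true := by
  apply allR_of_forall
  intro i hi
  have hi : i < 3510 := hi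
  rcases Nat.lt_or_ge i 234 with h0 | h0
  · exact allR_spec _ (0 : ℕ) (234 : ℕ) wk30_0 i (by omega) (by omega)
  rcases Nat.lt_or_ge i 468 with h1 | h1
  · exact allR_spec _ (234 : ℕ) (234 : ℕ) wk30_1 i (by omega) (by omega)
  rcases Nat.lt_or_ge i 702 with h2 | h2
  · exact allR_spec _ (468 : ℕ) (234 : ℕ) wk30_2 i (by omega) (by omega)
  rcases Nat.lt_or_ge i 936 with h3 | h3
  · exact allR_spec _ (702 : ℕ) (234 : ℕ) wk30_3 i (by omega) (by omega)
  rcases Nat.lt_or_ge i 1170 with h4 | h4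
  · exact allR_spec _ (936 : ℕ) (234 : ℕ) wk30_4 i (by omega) (by omega)
  rcases Nat.lt_or_ge i 1404 with h5 | h5
  · exact allR_spec _ (1170 : ℕ) (234 : ℕ) wk30_5 i (by omega) (by omega)
  rcases Nat.lt_or_ge i 1638 with h6 | h6
  · exact allR_spec _ (1404 : ℕ) (234 : ℕ) wk30_6 i (by omega) (by omega)
  rcases Nat.lt_or_ge i 1872 with h7 | h7
  · exact allR_spec _ (1638 : ℕ) (234 : ℕ) wk30_7 i (by omega) (by omega)
  rcases Nat.lt_or_ge i 2106 with h8 | h8
  · exact allR_spec _ (1872 : ℕ) (234 : ℕ) wk30_8 i (by omega) (by omega)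
  rcases Nat.lt_or_ge i 2340 with h9 | h9
  · exact allR_spec _ (2106 : ℕ) (234 : ℕ) wk30_9 i (by omega) (by omega)
  rcases Nat.lt_or_ge i 2574 with h10 | h10
  · exact allR_spec _ (2340 : ℕ) (234 : ℕ) wk30_10 i (by omega) (by omega)
  rcases Nat.lt_or_ge i 2808 with h11 | h11
  · exact allR_spec _ (2574 : ℕ) (234 : ℕ) wk30_11 i (by omega) (by omega)
  rcases Nat.lt_or_ge i 3042 with h12 | h12
  · exact allR_spec _ (2808 : ℕ) (234 : ℕ) wk30_12 i (by omega) (by omega)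
  rcases Nat.lt_or_ge i 3276 with h13 | h13
  · exact allR_spec _ (3042 : ℕ) (234 : ℕ) wk30_13 i (by omega) (by omega)
  exact allR_spec _ (3276 : ℕ) (234 : ℕ) wk30_14 i (by omega) (by omega)
theorem wk31 : allR (OT.ckEqW [X60, X59, X59, X60, X60, X57] [X62]) (nat_lit 0) (nat_lit 3510) = true := by
  apply allR_of_forall
  intro i hi
  have hi : i < 3510 := hi
  rcases Nat.lt_or_ge i 501 with h0 | h0
  · exact allR_spec _ (0 : ℕ) (501 : ℕ) wk31_0 i (by omega) (by omega)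
  rcases Nat.lt_or_ge i 1002 with h1 | h1
  · exact allR_spec _ (501 : ℕ) (501 : ℕ) wk31_1 i (by omega) (by omega)
  rcases Nat.lt_or_ge i 1503 with h2 | h2
  · exact allR_spec _ (1002 : ℕ) (501 : ℕ) wk31_2 i (by omega) (by omega)
  rcases Nat.lt_or_ge i 2004 with h3 | h3
  · exact allR_spec _ (1503 : ℕ) (501 : ℕ) wk31_3 i (by omega) (by omega)
  rcases Nat.lt_or_ge i 2505 with h4 | h4
  · exact allR_spec _ (2004 : ℕ) (501 : ℕ) wk31_4 i (by omega) (by omega)
  rcases Nat.lt_or_ge i 3006 with h5 | h5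
  · exact allR_spec _ (2505 : ℕ) (501 : ℕ) wk31_5 i (by omega) (by omega)
  rcases Nat.lt_or_ge i 3507 with h6 | h6
  · exact allR_spec _ (3006 : ℕ) (501 : ℕ) wk31_6 i (by omega) (by omega)
  exact allR_spec _ (3507 : ℕ) (3 : ℕ) wk31_7 i (by omega) (by omega)
theorem wk32 : allR (OT.ckEqW [X60, X56, X58, X61, X57, X57, X60, X57] [X64]) (nat_lit 0) (nat_lit 3510) = true := by
  apply allR_of_forall
  intro i hi
  have hi : i < 3510 := hi
  rcases Nat.lt_or_ge i 390 with h0 | h0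
  · exact allR_spec _ (0 : ℕ) (390 : ℕ) wk32_0 i (by omega) (by omega)
  rcases Nat.lt_or_ge i 780 with h1 | h1
  · exact allR_spec _ (390 : ℕ) (390 : ℕ) wk32_1 i (by omega) (by omega)
  rcases Nat.lt_or_ge i 1170 with h2 | h2
  · exact allR_spec _ (780 : ℕ) (390 : ℕ) wk32_2 i (by omega) (by omega)
  rcases Nat.lt_or_ge i 1560 with h3 | h3
  · exact allR_spec _ (1170 : ℕ) (390 : ℕ) wk32_3 i (by omega) (by omega)
  rcases Nat.lt_or_ge i 1950 with h4 | h4
  · exact allR_spec _ (1560 : ℕ) (390 : ℕ) wk32_4 i (by omega) (by omega)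
  rcases Nat.lt_or_ge i 2340 with h5 | h5
  · exact allR_spec _ (1950 : ℕ) (390 : ℕ) wk32_5 i (by omega) (by omega)
  rcases Nat.lt_or_ge i 2730 with h6 | h6
  · exact allR_spec _ (2340 : ℕ) (390 : ℕ) wk32_6 i (by omega) (by omega)
  rcases Nat.lt_or_ge i 3120 with h7 | h7
  · exact allR_spec _ (2730 : ℕ) (390 : ℕ) wk32_7 i (by omega) (by omega)
  exact allR_spec _ (3120 : ℕ) (390 : ℕ) wk32_8 i (by omega) (by omega)
theorem wk33 : allR (OT.ckEqW [X57, X59, X56, X59, X57, X61, X61, X57, X59] [X66]) (nat_lit 0) (nat_lit 3510) = true := by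
  apply allR_of_forall
  intro i hi
  have hi : i < 3510 := hi
  rcases Nat.lt_or_ge i 351 with h0 | h0
  · exact allR_spec _ (0 : ℕ) (351 : ℕ) wk33_0 i (by omega) (by omega)
  rcases Nat.lt_or_ge i 702 with h1 | h1
  · exact allR_spec _ (351 : ℕ) (351 : ℕ) wk33_1 i (by omega) (by omega)
  rcases Nat.lt_or_ge i 1053 with h2 | h2
  · exact allR_spec _ (702 : ℕ) (351 : ℕ) wk33_2 i (by omega) (by omega)
  rcases Nat.lt_or_ge i 1404 with h3 | h3
  · exact allR_spec _ (1053 : ℕ) (351 : ℕ) wk33_3 i (by omega) (by omega)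
  rcases Nat.lt_or_ge i 1755 with h4 | h4
  · exact allR_spec _ (1404 : ℕ) (351 : ℕ) wk33_4 i (by omega) (by omega)
  rcases Nat.lt_or_ge i 2106 with h5 | h5
  · exact allR_spec _ (1755 : ℕ) (351 : ℕ) wk33_5 i (by omega) (by omega)
  rcases Nat.lt_or_ge i 2457 with h6 | h6
  · exact allR_spec _ (2106 : ℕ) (351 : ℕ) wk33_6 i (by omega) (by omega)
  rcases Nat.lt_or_ge i 2808 with h7 | h7
  · exact allR_spec _ (2457 : ℕ) (351 : ℕ) wk33_7 i (by omega) (by omega)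
  rcases Nat.lt_or_ge i 3159 with h8 | h8
  · exact allR_spec _ (2808 : ℕ) (351 : ℕ) wk33_8 i (by omega) (by omega)
  exact allR_spec _ (3159 : ℕ) (351 : ℕ) wk33_9 i (by omega) (by omega)
def bws : List (List Nat) := [[0, 1, 2, 3, 4, 5, 8, 7], [6, 4, 5, 0, 1, 5, 10, 2, 4, 8, 9], [8, 0, 3, 10, 1, 2, 3, 10, 8, 5, 2, 3, 10], [11, 13, 13, 11, 13, 12, 12], [11, 13, 12, 12, 12, 13, 11, 13, 12], [17, 16, 17, 16, 16, 18, 18, 16, 18, 18, 15, 15, 18, 15, 18, 18, 16, 18], [18, 16, 17, 16, 17, 15, 15, 17, 15, 18, 16, 17, 15, 17, 17], [18, 16, 17, 15, 17, 15, 18, 16, 17, 15, 17], [21, 20], [24, 22, 23, 20, 20, 23], [24, 24, 20, 24, 20, 22, 20, 24, 20], [29, 22, 20, 24, 15, 17, 15, 15, 15, 18, 11, 14, 14, 11, 11, 14, 14, 1, 9, 9, 9, 9, 9], [29, 22, 24, 21, 16, 17, 16, 17, 15, 17, 16, 14, 12, 13, 12, 13, 12, 13, 13, 12, 12, 1, 9, 3, 4, 6, 9, 9, 9, 9], [31], [33, 10, 32, 9, 9, 9, 9, 34, 10, 31, 34, 31, 10, 34, 31, 10], [31, 9, 34,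 31, 10, 34, 9, 32, 34, 31, 9], [38, 40, 37, 37, 37, 37, 40, 37, 40, 40, 37, 37, 39], [40, 40, 37, 37, 37, 37, 37, 39, 38, 40, 37, 40, 37, 39, 39], [42, 43, 41, 44, 41, 44, 42, 42, 44, 44, 42, 43, 41], [41, 41, 44, 41, 41, 43, 42, 42, 42, 42, 43, 43, 42, 42], [44, 42, 44, 44, 42, 44, 44, 42, 42, 44], [47, 45, 47, 45, 50, 45], [47, 49, 49, 48, 45, 47, 45, 50, 46, 50], [48, 50, 48], [34, 9, 31, 31, 9, 32, 34, 31, 10, 34, 10], [33, 32, 34, 31, 31, 9, 34, 10, 10, 34, 31, 9, 9, 34, 10, 10], [57, 59, 58, 58, 59, 57, 57, 60, 60, 57, 60, 57, 60, 60], [58, 59, 57, 60, 58, 60, 60, 58, 60, 57, 57, 57, 59, 58], [63, 61, 61, 61, 63, 63, 63, 62, 64], [64, 62, 62, 62, 62, 64, 62, 63, 61, 64], [63, 61, 64, 62, 63, 61, 61, 64, 61, 63, 62, 64, 64, 61], [69, 68, 68, 69, 69, 66], [69, 65, 67, 70, 66, 66, 69, 66], [66, 68, 65, 68, 66, 70, 70, 66, 68]]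
noncomputable def T' : Nat → Nat → Nat := fun l => (@Nat.rec (fun _ => Nat → Nat) T0 (fun l _ => (@Nat.rec (fun _ => Nat → Nat) T1 (fun l _ => (@Nat.rec (fun _ => Nat → Nat) T2 (fun l _ => (@Nat.rec (fun _ => Nat → Nat) T3 (fun l _ => (@Nat.rec (fun _ => Nat → Nat) T4 (fun l _ => (@Nat.rec (fun _ => Nat → Nat) T5 (fun l _ => (@Nat.rec (fun _ => Nat → Nat) T6 (fun l _ => (@Nat.rec (fun _ => Nat → Nat) T7 (fun l _ => (@Nat.rec (fun _ => Nat → Nat) T8 (fun l _ => (@Nat.rec (fun _ => Nat → Nat) X0 (fun l _ => (@Nat.rec (fun _ => Nat → Nat) X1 (fun l _ => (@Nat.rec (fun _ => Nat → Nat) X2 (fun l _ => (@Nat.rec (fun _ => Nat → Nat) X3 (fun l _ => (@Nat.rec (fun _ => Nat → Nat) X4 (fun l _ => (@Nat.rec (fun _ => Nat → Nat) X5 (fun l _ => (@Nat.rec (fun _ => Nat → Nat) X6 (fun l _ => (@Nat.rec (fun _ => Nat → Nat) X7 (fun l _ => (@Nat.rec (fun _ => Nat → Nat) X8 (fun l _ => (@Nat.rec (fun _ => Nat → Nat) X9 (fun l _ => (@Nat.rec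 (fun _ => Nat → Nat) X10 (fun l _ => (@Nat.rec (fun _ => Nat → Nat) X11 (fun l _ => (@Nat.rec (fun _ => Nat → Nat) X12 (fun l _ => (@Nat.rec (fun _ => Nat → Nat) X13 (fun l _ => (@Nat.rec (fun _ => Nat → Nat) X14 (fun l _ => (@Nat.rec (fun _ => Nat → Nat) X15 (fun l _ => (@Nat.rec (fun _ => Nat → Nat) X16 (fun l _ => (@Nat.rec (fun _ => Nat → Nat) X17 (fun l _ => (@Nat.rec (fun _ => Nat → Nat) X18 (fun l _ => (@Nat.rec (fun _ => Nat → Nat) X19 (fun l _ => (@Nat.rec (fun _ => Nat → Nat) X20 (fun l _ => (@Nat.rec (fun _ => Nat → Nat) X21 (fun l _ => (@Nat.rec (fun _ => Nat → Nat) X22 (fun l _ => (@Nat.rec (fun _ => Nat → Nat) X23 (fun l _ => (@Nat.rec (fun _ => Nat → Nat) X24 (fun l _ => (@Nat.rec (fun _ => Nat → Nat) X25 (fun l _ => (@Nat.rec (fun _ => Nat → Nat) X26 (fun l _ => (@Nat.rec (fun _ => Nat → Nat) X27 (fun l _ => (@Nat.rec (fun _ => Nat → Nat) X28 (fun l _ => (@Nat.rec (fun _ => Nat → Nat) X29 (fun l _ =>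 (@Nat.rec (fun _ => Nat → Nat) X30 (fun l _ => (@Nat.rec (fun _ => Nat → Nat) X31 (fun l _ => (@Nat.rec (fun _ => Nat → Nat) X32 (fun l _ => (@Nat.rec (fun _ => Nat → Nat) X33 (fun l _ => (@Nat.rec (fun _ => Nat → Nat) X34 (fun l _ => (@Nat.rec (fun _ => Nat → Nat) X35 (fun l _ => (@Nat.rec (fun _ => Nat → Nat) X36 (fun l _ => (@Nat.rec (fun _ => Nat → Nat) X37 (fun l _ => (@Nat.rec (fun _ => Nat → Nat) X38 (fun l _ => (@Nat.rec (fun _ => Nat → Nat) X39 (fun l _ => (@Nat.rec (fun _ => Nat → Nat) X40 (fun l _ => (@Nat.rec (fun _ => Nat → Nat) X41 (fun l _ => (@Nat.rec (fun _ => Nat → Nat) X42 (fun l _ => (@Nat.rec (fun _ => Nat → Nat) X43 (fun l _ => (@Nat.rec (fun _ => Nat → Nat) X44 (fun l _ => (@Nat.rec (fun _ => Nat → Nat) X45 (fun l _ => (@Nat.rec (fun _ => Nat → Nat) X46 (fun l _ => (@Nat.rec (fun _ => Nat → Nat) X47 (fun l _ => (@Nat.rec (fun _ => Nat → Nat) X48 (fun l _ => (@Nat.rec (fun _ => Nat → Nat) X49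 (fun l _ => (@Nat.rec (fun _ => Nat → Nat) X50 (fun l _ => (@Nat.rec (fun _ => Nat → Nat) X51 (fun l _ => (@Nat.rec (fun _ => Nat → Nat) X52 (fun l _ => (@Nat.rec (fun _ => Nat → Nat) X53 (fun l _ => (@Nat.rec (fun _ => Nat → Nat) X54 (fun l _ => (@Nat.rec (fun _ => Nat → Nat) X55 (fun l _ => (@Nat.rec (fun _ => Nat → Nat) X56 (fun l _ => (@Nat.rec (fun _ => Nat → Nat) X57 (fun l _ => (@Nat.rec (fun _ => Nat → Nat) X58 (fun l _ => (@Nat.rec (fun _ => Nat → Nat) X59 (fun l _ => (@Nat.rec (fun _ => Nat → Nat) X60 (fun l _ => (@Nat.rec (fun _ => Nat → Nat) X61 (fun l _ => (@Nat.rec (fun _ => Nat → Nat) X62 (fun l _ => (@Nat.rec (fun _ => Nat → Nat) X63 (fun l _ => (@Nat.rec (fun _ => Nat → Nat) X64 (fun l _ => (@Nat.rec (fun _ => Nat → Nat) X65 (fun l _ => (@Nat.rec (fun _ => Nat → Nat) X66 (fun l _ => X67) l)) l)) l)) l)) l)) l)) l)) l)) l)) l)) l)) l)) l)) l)) l)) l)) l)) l)) l)) l)) l)) l)) l)) l)) l)) l)) l)) l))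 l)) l)) l)) l)) l)) l)) l)) l)) l)) l)) l)) l)) l)) l)) l)) l)) l)) l)) l)) l)) l)) l)) l)) l)) l)) l)) l)) l)) l)) l)) l)) l)) l)) l)) l)) l)) l)) l)) l)) l)) l)) l)) l)) l)) l)) l)) l)) l)
def inv' : Nat → Nat := fun l => [0, 1, 2, 3, 4, 5, 6, 7, 8, 10, 9, 12, 11, 14, 13, 16, 15, 18, 17, 20, 19, 22, 21, 24, 23, 26, 25, 28, 27, 30, 29, 32, 31, 34, 33, 36, 35, 38, 37, 40, 39, 42, 41, 44, 43, 46, 45, 48, 47, 50, 49, 52, 51, 54, 53, 56, 55, 58, 57, 60, 59, 62, 61, 64, 63, 66, 65, 68, 67, 70, 69, 72, 71, 74, 73, 76, 75].getD l 0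

theorem hTT : ∀ l < 9, T' l = Cfsg.Agent.H8.Fi22bt.T l := by
  intro l hl
  interval_cases l <;> rfl

theorem hii : ∀ l < 9, inv' l = Cfsg.Agent.H8.Fi22bt.inv l := by
  intro l hl
  interval_cases l <;> rfl

theorem h1 : ∀ l, 9 ≤ l → l < 77 → inv' l < 77 ∧ inv' (inv' l) = l := by
  intro l h1 h2
  interval_cases l <;> decide

theorem h2 : ∀ l, 9 ≤ l → l < 77 → ∀ i < 3510, T' l i < 3510 ∧ T' (inv' l) (T' l i) = i := by
  intro l h1 h2 i hi
  interval_cases l
  · exact ckPerm_sound _ _ _ _ (allR_zero _ _ pk0 i hi)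
  · exact ckPerm_sound _ _ _ _ (allR_zero _ _ pk1 i hi)
  · exact ckPerm_sound _ _ _ _ (allR_zero _ _ pk2 i hi)
  · exact ckPerm_sound _ _ _ _ (allR_zero _ _ pk3 i hi)
  · exact ckPerm_sound _ _ _ _ (allR_zero _ _ pk4 i hi)
  · exact ckPerm_sound _ _ _ _ (allR_zero _ _ pk5 i hi)
  · exact ckPerm_sound _ _ _ _ (allR_zero _ _ pk6 i hi)
  · exact ckPerm_sound _ _ _ _ (allR_zero _ _ pk7 i hi)
  · exact ckPerm_sound _ _ _ _ (allR_zero _ _ pk8 i hi)
  · exact ckPerm_sound _ _ _ _ (allR_zero _ _ pk9 i hi)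
  · exact ckPerm_sound _ _ _ _ (allR_zero _ _ pk10 i hi)
  · exact ckPerm_sound _ _ _ _ (allR_zero _ _ pk11 i hi)
  · exact ckPerm_sound _ _ _ _ (allR_zero _ _ pk12 i hi)
  · exact ckPerm_sound _ _ _ _ (allR_zero _ _ pk13 i hi)
  · exact ckPerm_sound _ _ _ _ (allR_zero _ _ pk14 i hi)
  · exact ckPerm_sound _ _ _ _ (allR_zero _ _ pk15 i hi)
  · exact ckPerm_sound _ _ _ _ (allR_zero _ _ pk16 i hi)
  · exact ckPerm_sound _ _ _ _ (allR_zero _ _ pk17 i hi)
  · exact ckPerm_sound _ _ _ _ (allR_zero _ _ pk18 i hi)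
  · exact ckPerm_sound _ _ _ _ (allR_zero _ _ pk19 i hi)
  · exact ckPerm_sound _ _ _ _ (allR_zero _ _ pk20 i hi)
  · exact ckPerm_sound _ _ _ _ (allR_zero _ _ pk21 i hi)
  · exact ckPerm_sound _ _ _ _ (allR_zero _ _ pk22 i hi)
  · exact ckPerm_sound _ _ _ _ (allR_zero _ _ pk23 i hi)
  · exact ckPerm_sound _ _ _ _ (allR_zero _ _ pk24 i hi)
  · exact ckPerm_sound _ _ _ _ (allR_zero _ _ pk25 i hi)
  · exact ckPerm_sound _ _ _ _ (allR_zero _ _ pk26 i hi)
  · exact ckPerm_sound _ _ _ _ (allR_zero _ _ pk27 i hi)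
  · exact ckPerm_sound _ _ _ _ (allR_zero _ _ pk28 i hi)
  · exact ckPerm_sound _ _ _ _ (allR_zero _ _ pk29 i hi)
  · exact ckPerm_sound _ _ _ _ (allR_zero _ _ pk30 i hi)
  · exact ckPerm_sound _ _ _ _ (allR_zero _ _ pk31 i hi)
  · exact ckPerm_sound _ _ _ _ (allR_zero _ _ pk32 i hi)
  · exact ckPerm_sound _ _ _ _ (allR_zero _ _ pk33 i hi)
  · exact ckPerm_sound _ _ _ _ (allR_zero _ _ pk34 i hi)
  · exact ckPerm_sound _ _ _ _ (allR_zero _ _ pk35 i hi)
  · exact ckPerm_sound _ _ _ _ (allR_zero _ _ pk36 i hi)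
  · exact ckPerm_sound _ _ _ _ (allR_zero _ _ pk37 i hi)
  · exact ckPerm_sound _ _ _ _ (allR_zero _ _ pk38 i hi)
  · exact ckPerm_sound _ _ _ _ (allR_zero _ _ pk39 i hi)
  · exact ckPerm_sound _ _ _ _ (allR_zero _ _ pk40 i hi)
  · exact ckPerm_sound _ _ _ _ (allR_zero _ _ pk41 i hi)
  · exact ckPerm_sound _ _ _ _ (allR_zero _ _ pk42 i hi)
  · exact ckPerm_sound _ _ _ _ (allR_zero _ _ pk43 i hi)
  · exact ckPerm_sound _ _ _ _ (allR_zero _ _ pk44 i hi)
  · exact ckPerm_sound _ _ _ _ (allR_zero _ _ pk45 i hi)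
  · exact ckPerm_sound _ _ _ _ (allR_zero _ _ pk46 i hi)
  · exact ckPerm_sound _ _ _ _ (allR_zero _ _ pk47 i hi)
  · exact ckPerm_sound _ _ _ _ (allR_zero _ _ pk48 i hi)
  · exact ckPerm_sound _ _ _ _ (allR_zero _ _ pk49 i hi)
  · exact ckPerm_sound _ _ _ _ (allR_zero _ _ pk50 i hi)
  · exact ckPerm_sound _ _ _ _ (allR_zero _ _ pk51 i hi)
  · exact ckPerm_sound _ _ _ _ (allR_zero _ _ pk52 i hi)
  · exact ckPerm_sound _ _ _ _ (allR_zero _ _ pk53 i hi)
  · exact ckPerm_sound _ _ _ _ (allR_zero _ _ pk54 i hi)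
  · exact ckPerm_sound _ _ _ _ (allR_zero _ _ pk55 i hi)
  · exact ckPerm_sound _ _ _ _ (allR_zero _ _ pk56 i hi)
  · exact ckPerm_sound _ _ _ _ (allR_zero _ _ pk57 i hi)
  · exact ckPerm_sound _ _ _ _ (allR_zero _ _ pk58 i hi)
  · exact ckPerm_sound _ _ _ _ (allR_zero _ _ pk59 i hi)
  · exact ckPerm_sound _ _ _ _ (allR_zero _ _ pk60 i hi)
  · exact ckPerm_sound _ _ _ _ (allR_zero _ _ pk61 i hi)
  · exact ckPerm_sound _ _ _ _ (allR_zero _ _ pk62 i hi)
  · exact ckPerm_sound _ _ _ _ (allR_zero _ _ pk63 i hi)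
  · exact ckPerm_sound _ _ _ _ (allR_zero _ _ pk64 i hi)
  · exact ckPerm_sound _ _ _ _ (allR_zero _ _ pk65 i hi)
  · exact ckPerm_sound _ _ _ _ (allR_zero _ _ pk66 i hi)
  · exact ckPerm_sound _ _ _ _ (allR_zero _ _ pk67 i hi)

theorem tok : TableOK 3510 77 T' inv' :=
  OT.tableOK_ext Cfsg.Agent.H8.Fi22bt.tok (by decide) hTT hii h1 h2

theorem hwb : ∀ i < bws.length, (∀ l ∈ bws.getD i [], l < 9 + 2 * i) ∧ inv' (9 + 2 * i) = 9 + 2 * i + 1 ∧
    ∀ j < 3510, trN T' (bws.getD i []) j = T' (9 + 2 * i) j := by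
  intro i hi
  have hl : bws.length = 34 := by decide
  rw [hl] at hi
  interval_cases i
  · exact ⟨by decide, by decide, fun j hj => OT.ckEqW_sound (T := T') [0, 1, 2, 3, 4, 5, 8, 7] [9] j (allR_zero _ _ wk0 j hj)⟩
  · exact ⟨by decide, by decide, fun j hj => OT.ckEqW_sound (T := T') [6, 4, 5, 0, 1, 5, 10, 2, 4, 8, 9] [11] j (allR_zero _ _ wk1 j hj)⟩
  · exact ⟨by decide, by decide, fun j hj => OT.ckEqW_sound (T := T') [8, 0, 3, 10, 1, 2, 3, 10, 8, 5, 2, 3, 10] [13] j (allR_zero _ _ wk2 j hj)⟩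
  · exact ⟨by decide, by decide, fun j hj => OT.ckEqW_sound (T := T') [11, 13, 13, 11, 13, 12, 12] [15] j (allR_zero _ _ wk3 j hj)⟩
  · exact ⟨by decide, by decide, fun j hj => OT.ckEqW_sound (T := T') [11, 13, 12, 12, 12, 13, 11, 13, 12] [17] j (allR_zero _ _ wk4 j hj)⟩
  · exact ⟨by decide, by decide, fun j hj => OT.ckEqW_sound (T := T') [17, 16, 17, 16, 16, 18, 18, 16, 18, 18, 15, 15, 18, 15, 18, 18, 16, 18] [19] j (allR_zero _ _ wk5 j hj)⟩
  · exact ⟨by decide, by decide, fun j hj => OT.ckEqW_sound (T := T') [18, 16, 17, 16, 17, 15, 15, 17, 15, 18, 16, 17, 15, 17, 17] [21] j (allR_zero _ _ wk6 j hj)⟩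
  · exact ⟨by decide, by decide, fun j hj => OT.ckEqW_sound (T := T') [18, 16, 17, 15, 17, 15, 18, 16, 17, 15, 17] [23] j (allR_zero _ _ wk7 j hj)⟩
  · exact ⟨by decide, by decide, fun j hj => OT.ckEqW_sound (T := T') [21, 20] [25] j (allR_zero _ _ wk8 j hj)⟩
  · exact ⟨by decide, by decide, fun j hj => OT.ckEqW_sound (T := T') [24, 22, 23, 20, 20, 23] [27] j (allR_zero _ _ wk9 j hj)⟩
  · exact ⟨by decide, by decide, fun j hj => OT.ckEqW_sound (T := T') [24, 24, 20, 24, 20, 22, 20, 24, 20] [29] j (allR_zero _ _ wk10 j hj)⟩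
  · exact ⟨by decide, by decide, fun j hj => OT.ckEqW_sound (T := T') [29, 22, 20, 24, 15, 17, 15, 15, 15, 18, 11, 14, 14, 11, 11, 14, 14, 1, 9, 9, 9, 9, 9] [31] j (allR_zero _ _ wk11 j hj)⟩
  · exact ⟨by decide, by decide, fun j hj => OT.ckEqW_sound (T := T') [29, 22, 24, 21, 16, 17, 16, 17, 15, 17, 16, 14, 12, 13, 12, 13, 12, 13, 13, 12, 12, 1, 9, 3, 4, 6, 9, 9, 9, 9] [33] j (allR_zero _ _ wk12 j hj)⟩
  · exact ⟨by decide, by decide, fun j hj => OT.ckEqW_sound (T := T') [31] [35] j (allR_zero _ _ wk13 j hj)⟩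
  · exact ⟨by decide, by decide, fun j hj => OT.ckEqW_sound (T := T') [33, 10, 32, 9, 9, 9, 9, 34, 10, 31, 34, 31, 10, 34, 31, 10] [37] j (allR_zero _ _ wk14 j hj)⟩
  · exact ⟨by decide, by decide, fun j hj => OT.ckEqW_sound (T := T') [31, 9, 34, 31, 10, 34, 9, 32, 34, 31, 9] [39] j (allR_zero _ _ wk15 j hj)⟩
  · exact ⟨by decide, by decide, fun j hj => OT.ckEqW_sound (T := T') [38, 40, 37, 37, 37, 37, 40, 37, 40, 40, 37, 37, 39] [41] j (allR_zero _ _ wk16 j hj)⟩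
  · exact ⟨by decide, by decide, fun j hj => OT.ckEqW_sound (T := T') [40, 40, 37, 37, 37, 37, 37, 39, 38, 40, 37, 40, 37, 39, 39] [43] j (allR_zero _ _ wk17 j hj)⟩
  · exact ⟨by decide, by decide, fun j hj => OT.ckEqW_sound (T := T') [42, 43, 41, 44, 41, 44, 42, 42, 44, 44, 42, 43, 41] [45] j (allR_zero _ _ wk18 j hj)⟩
  · exact ⟨by decide, by decide, fun j hj => OT.ckEqW_sound (T := T') [41, 41, 44, 41, 41, 43, 42, 42, 42, 42, 43, 43, 42, 42] [47] j (allR_zero _ _ wk19 j hj)⟩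
  · exact ⟨by decide, by decide, fun j hj => OT.ckEqW_sound (T := T') [44, 42, 44, 44, 42, 44, 44, 42, 42, 44] [49] j (allR_zero _ _ wk20 j hj)⟩
  · exact ⟨by decide, by decide, fun j hj => OT.ckEqW_sound (T := T') [47, 45, 47, 45, 50, 45] [51] j (allR_zero _ _ wk21 j hj)⟩
  · exact ⟨by decide, by decide, fun j hj => OT.ckEqW_sound (T := T') [47, 49, 49, 48, 45, 47, 45, 50, 46, 50] [53] j (allR_zero _ _ wk22 j hj)⟩
  · exact ⟨by decide, by decide, fun j hj => OT.ckEqW_sound (T := T') [48, 50, 48] [55] j (allR_zero _ _ wk23 j hj)⟩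
  · exact ⟨by decide, by decide, fun j hj => OT.ckEqW_sound (T := T') [34, 9, 31, 31, 9, 32, 34, 31, 10, 34, 10] [57] j (allR_zero _ _ wk24 j hj)⟩
  · exact ⟨by decide, by decide, fun j hj => OT.ckEqW_sound (T := T') [33, 32, 34, 31, 31, 9, 34, 10, 10, 34, 31, 9, 9, 34, 10, 10] [59] j (allR_zero _ _ wk25 j hj)⟩
  · exact ⟨by decide, by decide, fun j hj => OT.ckEqW_sound (T := T') [57, 59, 58, 58, 59, 57, 57, 60, 60, 57, 60, 57, 60, 60] [61] j (allR_zero _ _ wk26 j hj)⟩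
  · exact ⟨by decide, by decide, fun j hj => OT.ckEqW_sound (T := T') [58, 59, 57, 60, 58, 60, 60, 58, 60, 57, 57, 57, 59, 58] [63] j (allR_zero _ _ wk27 j hj)⟩
  · exact ⟨by decide, by decide, fun j hj => OT.ckEqW_sound (T := T') [63, 61, 61, 61, 63, 63, 63, 62, 64] [65] j (allR_zero _ _ wk28 j hj)⟩
  · exact ⟨by decide, by decide, fun j hj => OT.ckEqW_sound (T := T') [64, 62, 62, 62, 62, 64, 62, 63, 61, 64] [67] j (allR_zero _ _ wk29 j hj)⟩
  · exact ⟨by decide, by decide, fun j hj => OT.ckEqW_sound (T := T') [63, 61, 64, 62, 63, 61, 61, 64, 61, 63, 62, 64, 64, 61] [69] j (allR_zero _ _ wk30 j hj)⟩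
  · exact ⟨by decide, by decide, fun j hj => OT.ckEqW_sound (T := T') [69, 68, 68, 69, 69, 66] [71] j (allR_zero _ _ wk31 j hj)⟩
  · exact ⟨by decide, by decide, fun j hj => OT.ckEqW_sound (T := T') [69, 65, 67, 70, 66, 66, 69, 66] [73] j (allR_zero _ _ wk32 j hj)⟩
  · exact ⟨by decide, by decide, fun j hj => OT.ckEqW_sound (T := T') [66, 68, 65, 68, 66, 70, 70, 66, 68] [75] j (allR_zero _ _ wk33 j hj)⟩

end Cfsg.Agent.H8.Fi22O
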