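import Cfsg.Agent.H8.T.X22tC0
import Cfsg.Agent.H8.T.X22tC1
import Cfsg.Agent.H8.T.X22tC2
import Cfsg.Agent.H8.T.X22tC3
import Cfsg.Agent.H8.T.X22tC4
import Cfsg.Agent.H8.T.X22tC5
import Cfsg.Agent.H8.T.X22tC6
import Cfsg.Agent.H8.T.X22tC7
import Cfsg.Agent.H8.T.X22tC8

set_option autoImplicit false
set_option linter.all false
set_option maxRecDepth 100000

namespace Cfsg.Agent.H8.X22t

theorem edgeOK : ∀ l < 9, ∀ i < 14080, EdgeOK E 16383 14080 20 14 63 inv D RW sp l i := by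
  intro l hl i hi
  interval_cases l

  · exact ckE_sound 14080 16383 14 63 20 0 inv D E RW sp i (by
      have := allR_zero _ _ ck0 i hi
      rw [rf0] at this
      exact this)
  · exact ckE_sound 14080 16383 14 63 20 1 inv D E RW sp i (by
      have := allR_zero _ _ ck1 i hi
      rw [rf1] at this
      exact this)
  · exact ckE_sound 14080 16383 14 63 20 2 inv D E RW sp i (by
      have := allR_zero _ _ ck2 i hi
      rw [rf2] at this
      exact this)
  · exact ckE_sound 14080 16383 14 63 20 3 inv D E RW sp i (by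
      have := allR_zero _ _ ck3 i hi
      rw [rf3] at this
      exact this)
  · exact ckE_sound 14080 16383 14 63 20 4 inv D E RW sp i (by
      have := allR_zero _ _ ck4 i hi
      rw [rf4] at this
      exact this)
  · exact ckE_sound 14080 16383 14 63 20 5 inv D E RW sp i (by
      have := allR_zero _ _ ck5 i hi
      rw [rf5] at this
      exact this)
  · exact ckE_sound 14080 16383 14 63 20 6 inv D E RW sp i (by
      have := allR_zero _ _ ck6 i hi
      rw [rf6] at this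
      exact this)
  · exact ckE_sound 14080 16383 14 63 20 7 inv D E RW sp i (by
      have := allR_zero _ _ ck7 i hi
      rw [rf7] at this
      exact this)
  · exact ckE_sound 14080 16383 14 63 20 8 inv D E RW sp i (by
      have := allR_zero _ _ ck8 i hi
      rw [rf8] at this
      exact this)
theorem sp1k : ckSub (nat_lit 0x3fff) (nat_lit 20) E1 [] [] (nat_lit 0) = true := by decide +kernel
theorem sp1 {G : Type*} [Group G] (H : Subgroup G) (s : Nat → G) (hinv : ∀ l, s l = (s l)⁻¹) (h31 : s 31 = 1)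
    (hrels : ∀ W ∈ rels, (W.map s).prod = 1) (hsub : ∀ w ∈ subw, (w.map s).prod ∈ H)
    (htgt : ∀ l < 9, ∀ i < 14080, Nat.land (E l i) 16383 < 14080)
    (hlow : ∀ l' < 9, ∀ i' < 14080, E l' i' < Nat.shiftLeft (Nat.shiftRight (E 1 0) 20) 20 →
      EdgeP H s (repOf s D) E 16383 l' i') : EdgeP H s (repOf s D) E 16383 1 0 := by
  have h1 := ckSub_sound E 16383 20 1 0 [] [] sp1k
  exact special_sub H s (repOf s D) E 16383 14080 9 _ htgt hlow (repOf_zero s D) [] [] 1 0 (by decide) (by decide)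
    (by decide) (by decide) (hsub _ (by decide)) h1.1 h1.2
theorem sp2k : ckSub (nat_lit 0x3fff) (nat_lit 20) E2 [] [] (nat_lit 0) = true := by decide +kernel
theorem sp2 {G : Type*} [Group G] (H : Subgroup G) (s : Nat → G) (hinv : ∀ l, s l = (s l)⁻¹) (h31 : s 31 = 1)
    (hrels : ∀ W ∈ rels, (W.map s).prod = 1) (hsub : ∀ w ∈ subw, (w.map s).prod ∈ H)
    (htgt : ∀ l < 9, ∀ i < 14080, Nat.land (E l i) 16383 < 14080)
    (hlow : ∀ l' < 9, ∀ i' < 14080, E l' i' < Nat.shiftLeft (Nat.shiftRight (E 2 0) 20) 20 →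
      EdgeP H s (repOf s D) E 16383 l' i') : EdgeP H s (repOf s D) E 16383 2 0 := by
  have h1 := ckSub_sound E 16383 20 2 0 [] [] sp2k
  exact special_sub H s (repOf s D) E 16383 14080 9 _ htgt hlow (repOf_zero s D) [] [] 2 0 (by decide) (by decide)
    (by decide) (by decide) (hsub _ (by decide)) h1.1 h1.2
theorem sp3k : ckSub (nat_lit 0x3fff) (nat_lit 20) E3 [] [] (nat_lit 0) = true := by decide +kernel
theorem sp3 {G : Type*} [Group G] (H : Subgroup G) (s : Nat → G) (hinv : ∀ l, s l = (s l)⁻¹) (h31 : s 31 = 1)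
    (hrels : ∀ W ∈ rels, (W.map s).prod = 1) (hsub : ∀ w ∈ subw, (w.map s).prod ∈ H)
    (htgt : ∀ l < 9, ∀ i < 14080, Nat.land (E l i) 16383 < 14080)
    (hlow : ∀ l' < 9, ∀ i' < 14080, E l' i' < Nat.shiftLeft (Nat.shiftRight (E 3 0) 20) 20 →
      EdgeP H s (repOf s D) E 16383 l' i') : EdgeP H s (repOf s D) E 16383 3 0 := by
  have h1 := ckSub_sound E 16383 20 3 0 [] [] sp3k
  exact special_sub H s (repOf s D) E 16383 14080 9 _ htgt hlow (repOf_zero s D) [] [] 3 0 (by decide) (by decide)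
    (by decide) (by decide) (hsub _ (by decide)) h1.1 h1.2
theorem sp4k : ckSub (nat_lit 0x3fff) (nat_lit 20) E4 [] [] (nat_lit 0) = true := by decide +kernel
theorem sp4 {G : Type*} [Group G] (H : Subgroup G) (s : Nat → G) (hinv : ∀ l, s l = (s l)⁻¹) (h31 : s 31 = 1)
    (hrels : ∀ W ∈ rels, (W.map s).prod = 1) (hsub : ∀ w ∈ subw, (w.map s).prod ∈ H)
    (htgt : ∀ l < 9, ∀ i < 14080, Nat.land (E l i) 16383 < 14080)
    (hlow : ∀ l' < 9, ∀ i' < 14080, E l' i' < Nat.shiftLeft (Nat.shiftRight (E 4 0) 20) 20 →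
      EdgeP H s (repOf s D) E 16383 l' i') : EdgeP H s (repOf s D) E 16383 4 0 := by
  have h1 := ckSub_sound E 16383 20 4 0 [] [] sp4k
  exact special_sub H s (repOf s D) E 16383 14080 9 _ htgt hlow (repOf_zero s D) [] [] 4 0 (by decide) (by decide)
    (by decide) (by decide) (hsub _ (by decide)) h1.1 h1.2
theorem sp5k : ckSub (nat_lit 0x3fff) (nat_lit 20) E5 [] [] (nat_lit 0) = true := by decide +kernel
theorem sp5 {G : Type*} [Group G] (H : Subgroup G) (s : Nat → G) (hinv : ∀ l, s l = (s l)⁻¹) (h31 : s 31 = 1)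
    (hrels : ∀ W ∈ rels, (W.map s).prod = 1) (hsub : ∀ w ∈ subw, (w.map s).prod ∈ H)
    (htgt : ∀ l < 9, ∀ i < 14080, Nat.land (E l i) 16383 < 14080)
    (hlow : ∀ l' < 9, ∀ i' < 14080, E l' i' < Nat.shiftLeft (Nat.shiftRight (E 5 0) 20) 20 →
      EdgeP H s (repOf s D) E 16383 l' i') : EdgeP H s (repOf s D) E 16383 5 0 := by
  have h1 := ckSub_sound E 16383 20 5 0 [] [] sp5k
  exact special_sub H s (repOf s D) E 16383 14080 9 _ htgt hlow (repOf_zero s D) [] [] 5 0 (by decide) (by decide)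
    (by decide) (by decide) (hsub _ (by decide)) h1.1 h1.2
theorem sp6k : ckSub (nat_lit 0x3fff) (nat_lit 20) E6 [] [] (nat_lit 0) = true := by decide +kernel
theorem sp6 {G : Type*} [Group G] (H : Subgroup G) (s : Nat → G) (hinv : ∀ l, s l = (s l)⁻¹) (h31 : s 31 = 1)
    (hrels : ∀ W ∈ rels, (W.map s).prod = 1) (hsub : ∀ w ∈ subw, (w.map s).prod ∈ H)
    (htgt : ∀ l < 9, ∀ i < 14080, Nat.land (E l i) 16383 < 14080)
    (hlow : ∀ l' < 9, ∀ i' < 14080, E l' i' < Nat.shiftLeft (Nat.shiftRight (E 6 0) 20) 20 →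
      EdgeP H s (repOf s D) E 16383 l' i') : EdgeP H s (repOf s D) E 16383 6 0 := by
  have h1 := ckSub_sound E 16383 20 6 0 [] [] sp6k
  exact special_sub H s (repOf s D) E 16383 14080 9 _ htgt hlow (repOf_zero s D) [] [] 6 0 (by decide) (by decide)
    (by decide) (by decide) (hsub _ (by decide)) h1.1 h1.2
theorem sp7k : ckSub (nat_lit 0x3fff) (nat_lit 20) E7 [] [] (nat_lit 0) = true := by decide +kernel
theorem sp7 {G : Type*} [Group G] (H : Subgroup G) (s : Nat → G) (hinv : ∀ l, s l = (s l)⁻¹) (h31 : s 31 = 1)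
    (hrels : ∀ W ∈ rels, (W.map s).prod = 1) (hsub : ∀ w ∈ subw, (w.map s).prod ∈ H)
    (htgt : ∀ l < 9, ∀ i < 14080, Nat.land (E l i) 16383 < 14080)
    (hlow : ∀ l' < 9, ∀ i' < 14080, E l' i' < Nat.shiftLeft (Nat.shiftRight (E 7 0) 20) 20 →
      EdgeP H s (repOf s D) E 16383 l' i') : EdgeP H s (repOf s D) E 16383 7 0 := by
  have h1 := ckSub_sound E 16383 20 7 0 [] [] sp7k
  exact special_sub H s (repOf s D) E 16383 14080 9 _ htgt hlow (repOf_zero s D) [] [] 7 0 (by decide) (by decide)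
    (by decide) (by decide) (hsub _ (by decide)) h1.1 h1.2
theorem sp8k : ckSub (nat_lit 0x3fff) (nat_lit 20) E8 [] [] (nat_lit 0) = true := by decide +kernel
theorem sp8 {G : Type*} [Group G] (H : Subgroup G) (s : Nat → G) (hinv : ∀ l, s l = (s l)⁻¹) (h31 : s 31 = 1)
    (hrels : ∀ W ∈ rels, (W.map s).prod = 1) (hsub : ∀ w ∈ subw, (w.map s).prod ∈ H)
    (htgt : ∀ l < 9, ∀ i < 14080, Nat.land (E l i) 16383 < 14080)
    (hlow : ∀ l' < 9, ∀ i' < 14080, E l' i' < Nat.shiftLeft (Nat.shiftRight (E 8 0) 20) 20 →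
      EdgeP H s (repOf s D) E 16383 l' i') : EdgeP H s (repOf s D) E 16383 8 0 := by
  have h1 := ckSub_sound E 16383 20 8 0 [] [] sp8k
  exact special_sub H s (repOf s D) E 16383 14080 9 _ htgt hlow (repOf_zero s D) [] [] 8 0 (by decide) (by decide)
    (by decide) (by decide) (hsub _ (by decide)) h1.1 h1.2

theorem htgt : ∀ l < 9, ∀ i < 14080, Nat.land (E l i) 16383 < 14080 := fun l hl i hi => (edgeOK l hl i hi).1

theorem edges {G : Type*} [Group G] (H : Subgroup G) (s : Nat → G) (hinv : ∀ l, s l = (s l)⁻¹) (h31 : s 31 = 1)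
    (hrels : ∀ W ∈ rels, (W.map s).prod = 1) (hsub : ∀ w ∈ subw, (w.map s).prod ∈ H) :
    ∀ l < 9, ∀ i < 14080, EdgeP H s (repOf s D) E 16383 l i := by
  refine edges_correct H s E 16383 14080 9 20 14 63 inv D RW sp (by decide) (fun l hl => hl) (fun l _ => hinv l)
    ?_ ?_ ?_ edgeOK
  · intro l hl w hw
    interval_cases l
    · exact (ckRels_sound 9 inv rels 0 RW0 RC0 rc0 w hw).1
    · exact (ckRels_sound 9 inv rels 1 RW1 RC1 rc1 w hw).1
    · exact (ckRels_sound 9 inv rels 2 RW2 RC2 rc2 w hw).1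
    · exact (ckRels_sound 9 inv rels 3 RW3 RC3 rc3 w hw).1
    · exact (ckRels_sound 9 inv rels 4 RW4 RC4 rc4 w hw).1
    · exact (ckRels_sound 9 inv rels 5 RW5 RC5 rc5 w hw).1
    · exact (ckRels_sound 9 inv rels 6 RW6 RC6 rc6 w hw).1
    · exact (ckRels_sound 9 inv rels 7 RW7 RC7 rc7 w hw).1
    · exact (ckRels_sound 9 inv rels 8 RW8 RC8 rc8 w hw).1
  · intro l hl w hw
    interval_cases l
    · obtain ⟨_, c, hc⟩ := ckRels_sound 9 inv rels 0 RW0 RC0 rc0 w hw
      exact ckRel_sound s inv rels hrels 0 w c (fun l' _ => hinv l') hc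
    · obtain ⟨_, c, hc⟩ := ckRels_sound 9 inv rels 1 RW1 RC1 rc1 w hw
      exact ckRel_sound s inv rels hrels 1 w c (fun l' _ => hinv l') hc
    · obtain ⟨_, c, hc⟩ := ckRels_sound 9 inv rels 2 RW2 RC2 rc2 w hw
      exact ckRel_sound s inv rels hrels 2 w c (fun l' _ => hinv l') hc
    · obtain ⟨_, c, hc⟩ := ckRels_sound 9 inv rels 3 RW3 RC3 rc3 w hw
      exact ckRel_sound s inv rels hrels 3 w c (fun l' _ => hinv l') hc
    · obtain ⟨_, c, hc⟩ := ckRels_sound 9 inv rels 4 RW4 RC4 rc4 w hw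
      exact ckRel_sound s inv rels hrels 4 w c (fun l' _ => hinv l') hc
    · obtain ⟨_, c, hc⟩ := ckRels_sound 9 inv rels 5 RW5 RC5 rc5 w hw
      exact ckRel_sound s inv rels hrels 5 w c (fun l' _ => hinv l') hc
    · obtain ⟨_, c, hc⟩ := ckRels_sound 9 inv rels 6 RW6 RC6 rc6 w hw
      exact ckRel_sound s inv rels hrels 6 w c (fun l' _ => hinv l') hc
    · obtain ⟨_, c, hc⟩ := ckRels_sound 9 inv rels 7 RW7 RC7 rc7 w hw
      exact ckRel_sound s inv rels hrels 7 w c (fun l' _ => hinv l') hc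
    · obtain ⟨_, c, hc⟩ := ckRels_sound 9 inv rels 8 RW8 RC8 rc8 w hw
      exact ckRel_sound s inv rels hrels 8 w c (fun l' _ => hinv l') hc
  · refine hsp_of H s (repOf s D) E 16383 14080 9 20 sp (by decide) ?_
    refine List.forall_mem_cons.2 ⟨fun _ _ h => sp1 H s hinv h31 hrels hsub htgt h, ?_⟩
    refine List.forall_mem_cons.2 ⟨fun _ _ h => sp2 H s hinv h31 hrels hsub htgt h, ?_⟩
    refine List.forall_mem_cons.2 ⟨fun _ _ h => sp3 H s hinv h31 hrels hsub htgt h, ?_⟩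
    refine List.forall_mem_cons.2 ⟨fun _ _ h => sp4 H s hinv h31 hrels hsub htgt h, ?_⟩
    refine List.forall_mem_cons.2 ⟨fun _ _ h => sp5 H s hinv h31 hrels hsub htgt h, ?_⟩
    refine List.forall_mem_cons.2 ⟨fun _ _ h => sp6 H s hinv h31 hrels hsub htgt h, ?_⟩
    refine List.forall_mem_cons.2 ⟨fun _ _ h => sp7 H s hinv h31 hrels hsub htgt h, ?_⟩
    refine List.forall_mem_cons.2 ⟨fun _ _ h => sp8 H s hinv h31 hrels hsub htgt h, ?_⟩
    intro c hc
    exact absurd hc List.not_mem_nil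

theorem covers {G : Type*} [Group G] (s : Nat → G) (hinv : ∀ l, s l = (s l)⁻¹) (h31 : s 31 = 1)
    (hrels2 : ∀ p ∈ rels2, ((p.1.map s).prod) ^ p.2 = 1) (H : Subgroup G) (hsub : ∀ w ∈ subw, (w.map s).prod ∈ H) :
    ∀ g ∈ letterGroup s 9, ∀ i < 14080, ∃ j < 14080, repOf s D i * g * (repOf s D j)⁻¹ ∈ H :=
  cover H s (repOf s D) E 16383 14080 9 inv (fun l hl => hl) (fun l _ => hinv l) htgt
    (edges H s hinv h31 (hrels_of s rels2 hrels2) hsub)

theorem upper {G : Type*} [Group G] (s : Nat → G) (hinv : ∀ l, s l = (s l)⁻¹) (h31 : s 31 = 1)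
    (hrels2 : ∀ p ∈ rels2, ((p.1.map s).prod) ^ p.2 = 1) (H : Subgroup G) (hsub : ∀ w ∈ subw, (w.map s).prod ∈ H)
    (hH : Finite H) : Finite (letterGroup s 9) ∧ Nat.card (letterGroup s 9) ≤ 14080 * Nat.card H :=
  card_le_of_cover H (repOf s D) 14080 (by decide) (repOf_zero s D) _
    (covers s hinv h31 hrels2 H hsub) hH

theorem upperIndex {G : Type*} [Group G] (s : Nat → G) (hinv : ∀ l, s l = (s l)⁻¹) (h31 : s 31 = 1)
    (hrels2 : ∀ p ∈ rels2, ((p.1.map s).prod) ^ p.2 = 1) (H : Subgroup G) (hsub : ∀ w ∈ subw, (w.map s).prod ∈ H)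
    (htop : letterGroup s 9 = ⊤) : H.FiniteIndex ∧ H.index ≤ 14080 :=
  index_le_of_cover H (repOf s D) 14080 (by decide) (repOf_zero s D)
    (fun g => covers s hinv h31 hrels2 H hsub g (by rw [htop]; exact Subgroup.mem_top g))


end Cfsg.Agent.H8.X22t
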