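import Cfsg.Agent.H8.T.Fi23Oa

set_option Elab.async false
set_option autoImplicit false
set_option linter.all false
set_option maxRecDepth 100000
set_option maxHeartbeats 400000

namespace Cfsg.Agent.H8.Fi23O
open Cfsg.Agent.H8.Fi23t (T0 T1 T2 T3 T4 T5 T6 T7 T8 T9)

theorem wk5_1 : allR (OT.ckEqW [X6, X8, X8, X7, X7, X8, X6, X6, X9, X9, X7, X8, X8, X6, X9, X7] [X10]) (nat_lit 1863) (nat_lit 1863) = true := by decide +kernel
theorem wk5_8 : allR (OT.ckEqW [X6, X8, X8, X7, X7, X8, X6, X6, X9, X9, X7, X8, X8, X6, X9, X7] [X10]) (nat_lit 14904) (nat_lit 1863) = true := by decide +kernel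
theorem wk5_15 : allR (OT.ckEqW [X6, X8, X8, X7, X7, X8, X6, X6, X9, X9, X7, X8, X8, X6, X9, X7] [X10]) (nat_lit 27945) (nat_lit 1863) = true := by decide +kernel
theorem wk25_2 : allR (OT.ckEqW [X1, X23, X1, X23, X24, X1, X25, X1, X25, X23, X0, X0, X25, X0, X25, X1] [X50]) (nat_lit 3726) (nat_lit 1863) = true := by decide +kernel
theorem wk25_9 : allR (OT.ckEqW [X1, X23, X1, X23, X24, X1, X25, X1, X25, X23, X0, X0, X25, X0, X25, X1] [X50]) (nat_lit 16767) (nat_lit 1863) = true := by decide +kernel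
theorem wk25_16 : allR (OT.ckEqW [X1, X23, X1, X23, X24, X1, X25, X1, X25, X23, X0, X0, X25, X0, X25, X1] [X50]) (nat_lit 29808) (nat_lit 1863) = true := by decide +kernel
theorem pk5_1 : allR (ckPerm (nat_lit 31671) X5 X4) (nat_lit 15835) (nat_lit 15835) = true := by decide +kernel
theorem pk9_0 : allR (ckPerm (nat_lit 31671) X9 X8) (nat_lit 0) (nat_lit 15835) = true := by decide +kernel
theorem pk12_1 : allR (ckPerm (nat_lit 31671) X12 X13) (nat_lit 15835) (nat_lit 15835) = true := by decide +kernel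
theorem pk16_0 : allR (ckPerm (nat_lit 31671) X16 X17) (nat_lit 0) (nat_lit 15835) = true := by decide +kernel
theorem pk19_1 : allR (ckPerm (nat_lit 31671) X19 X18) (nat_lit 15835) (nat_lit 15835) = true := by decide +kernel
theorem pk23_0 : allR (ckPerm (nat_lit 31671) X23 X22) (nat_lit 0) (nat_lit 15835) = true := by decide +kernel
theorem pk26_1 : allR (ckPerm (nat_lit 31671) X26 X27) (nat_lit 15835) (nat_lit 15835) = true := by decide +kernel
theorem pk30_0 : allR (ckPerm (nat_lit 31671) X30 X31) (nat_lit 0) (nat_lit 15835) = true := by decide +kernel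
theorem pk33_1 : allR (ckPerm (nat_lit 31671) X33 X32) (nat_lit 15835) (nat_lit 15835) = true := by decide +kernel
theorem pk37_0 : allR (ckPerm (nat_lit 31671) X37 X36) (nat_lit 0) (nat_lit 15835) = true := by decide +kernel
theorem pk40_1 : allR (ckPerm (nat_lit 31671) X40 X41) (nat_lit 15835) (nat_lit 15835) = true := by decide +kernel
theorem pk44_0 : allR (ckPerm (nat_lit 31671) X44 X45) (nat_lit 0) (nat_lit 15835) = true := by decide +kernel
theorem pk47_1 : allR (ckPerm (nat_lit 31671) X47 X46) (nat_lit 15835) (nat_lit 15835) = true := by decide +kernel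
theorem pk51_0 : allR (ckPerm (nat_lit 31671) X51 X50) (nat_lit 0) (nat_lit 15835) = true := by decide +kernel
theorem pk54_1 : allR (ckPerm (nat_lit 31671) X54 X55) (nat_lit 15835) (nat_lit 15835) = true := by decide +kernel
theorem pk58_0 : allR (ckPerm (nat_lit 31671) X58 X59) (nat_lit 0) (nat_lit 15835) = true := by decide +kernel
theorem pk61_1 : allR (ckPerm (nat_lit 31671) X61 X60) (nat_lit 15835) (nat_lit 15835) = true := by decide +kernel
theorem wk0_2 : allR (OT.ckEqW [T0, T1, T2, T3, T4, T5, T7, T6, T8] [X0]) (nat_lit 6334) (nat_lit 3167) = true := by decide +kernel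
theorem wk0_9 : allR (OT.ckEqW [T0, T1, T2, T3, T4, T5, T7, T6, T8] [X0]) (nat_lit 28503) (nat_lit 3167) = true := by decide +kernel
theorem wk3_1 : allR (OT.ckEqW [X5] [X6]) (nat_lit 15835) (nat_lit 15835) = true := by decide +kernel
theorem wk10_6 : allR (OT.ckEqW [X10, X12, X11, X14, X14, X14, X10, X12, X10] [X20]) (nat_lit 19002) (nat_lit 3167) = true := by decide +kernel
theorem wk21_3 : allR (OT.ckEqW [X39, X37, X37, X38, X40, X37, X37, X38, X41] [X42]) (nat_lit 9501) (nat_lit 3167) = true := by decide +kernel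
theorem wk4_0 : allR (OT.ckEqW [X3, X5, X3, X5, X3, X5, X5, X2, X2, X2] [X8]) (nat_lit 0) (nat_lit 2879) = true := by decide +kernel
theorem wk4_1 : allR (OT.ckEqW [X3, X5, X3, X5, X3, X5, X5, X2, X2, X2] [X8]) (nat_lit 2879) (nat_lit 2879) = true := by decide +kernel
theorem wk4_8 : allR (OT.ckEqW [X3, X5, X3, X5, X3, X5, X5, X2, X2, X2] [X8]) (nat_lit 23032) (nat_lit 2879) = true := by decide +kernel
theorem wk31_4 : allR (OT.ckEqW [X59, X56, X56, X58, X57, X59, X59, X59, X57, X58] [X62]) (nat_lit 11516) (nat_lit 2879) = true := by decide +kernel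
theorem wk1_0 : allR (OT.ckEqW [X1, T8, T5, T4, T7] [X2]) (nat_lit 0) (nat_lit 5278) = true := by decide +kernel
theorem wk6_1 : allR (OT.ckEqW [X6, X9, X6, X8, X8, X7, X9, X7, X7, X7, X9, X6, X6, X8, X6, X8, X6, X8, X6, X9] [X12]) (nat_lit 1508) (nat_lit 1508) = true := by decide +kernel
theorem wk6_8 : allR (OT.ckEqW [X6, X9, X6, X8, X8, X7, X9, X7, X7, X7, X9, X6, X6, X8, X6, X8, X6, X8, X6, X9] [X12]) (nat_lit 12064) (nat_lit 1508) = true := by decide +kernel
theorem wk6_15 : allR (OT.ckEqW [X6, X9, X6, X8, X8, X7, X9, X7, X7, X7, X9, X6, X6, X8, X6, X8, X6, X8, X6, X9] [X12]) (nat_lit 22620) (nat_lit 1508) = true := by decide +kernel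
theorem wk8_1 : allR (OT.ckEqW [X13, X13, X13, X14, X12, X12, X10, X15, X13, X10, X12, X10] [X16]) (nat_lit 2436) (nat_lit 2436) = true := by decide +kernel
theorem wk8_8 : allR (OT.ckEqW [X13, X13, X13, X14, X12, X12, X10, X15, X13, X10, X12, X10] [X16]) (nat_lit 19488) (nat_lit 2436) = true := by decide +kernel
theorem wk9_2 : allR (OT.ckEqW [X10, X15, X15, X11, X12, X10, X14, X11, X15, X10, X12, X10] [X18]) (nat_lit 4872) (nat_lit 2436) = true := by decide +kernel
theorem wk9_9 : allR (OT.ckEqW [X10, X15, X15, X11, X12, X10, X14, X11, X15, X10, X12, X10] [X18]) (nat_lit 21924) (nat_lit 2436) = true := by decide +kernel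
theorem wk19_3 : allR (OT.ckEqW [X35, X32, X34, X32, X35, X33, X34, X33, X34, X33, X34, X34] [X38]) (nat_lit 7308) (nat_lit 2436) = true := by decide +kernel
theorem wk19_10 : allR (OT.ckEqW [X35, X32, X34, X32, X35, X33, X34, X33, X34, X33, X34, X34] [X38]) (nat_lit 24360) (nat_lit 2436) = true := by decide +kernel
theorem wk20_4 : allR (OT.ckEqW [X35, X35, X32, X32, X32, X32, X32, X34, X34, X32, X32, X32] [X40]) (nat_lit 9744) (nat_lit 2436) = true := by decide +kernel
theorem wk20_11 : allR (OT.ckEqW [X35, X35, X32, X32, X32, X32, X32, X34, X34, X32, X32, X32] [X40]) (nat_lit 26796) (nat_lit 2436) = true := by decide +kernel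
theorem wk23_5 : allR (OT.ckEqW [X39, X39, X36, X40, X36, X38, X37, X38, X41, X37, X39] [X46]) (nat_lit 13195) (nat_lit 2639) = true := by decide +kernel
theorem wk26_0 : allR (OT.ckEqW [X49, X51, X48, X50, X48, X50, X50, X48, X51, X49, X49, X51, X51, X51, X48, X48, X51, X48, X50, X49] [X52]) (nat_lit 0) (nat_lit 1508) = true := by decide +kernel
theorem wk26_7 : allR (OT.ckEqW [X49, X51, X48, X50, X48, X50, X50, X48, X51, X49, X49, X51, X51, X51, X48, X48, X51, X48, X50, X49] [X52]) (nat_lit 10556) (nat_lit 1508) = true := by decide +kernel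
theorem wk26_14 : allR (OT.ckEqW [X49, X51, X48, X50, X48, X50, X50, X48, X51, X49, X49, X51, X51, X51, X48, X48, X51, X48, X50, X49] [X52]) (nat_lit 21112) (nat_lit 1508) = true := by decide +kernel
theorem wk27_0 : allR (OT.ckEqW [X51, X48, X51, X49, X51, X48, X48, X48, X50, X50, X49, X49, X51, X51, X51, X51, X49, X50, X48, X48] [X54]) (nat_lit 0) (nat_lit 1508) = true := by decide +kernel
theorem wk27_7 : allR (OT.ckEqW [X51, X48, X51, X49, X51, X48, X48, X48, X50, X50, X49, X49, X51, X51, X51, X51, X49, X50, X48, X48] [X54]) (nat_lit 10556) (nat_lit 1508) = true := by decide +kernel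
theorem wk27_14 : allR (OT.ckEqW [X51, X48, X51, X49, X51, X48, X48, X48, X50, X50, X49, X49, X51, X51, X51, X51, X49, X50, X48, X48] [X54]) (nat_lit 21112) (nat_lit 1508) = true := by decide +kernel
theorem wk28_0 : allR (OT.ckEqW [X55, X52, X54, X54, X54, X52] [X56]) (nat_lit 0) (nat_lit 4524) = true := by decide +kernel
theorem wk29_0 : allR (OT.ckEqW [X52, X54, X52, X55, X53, X54, X52, X54, X54, X53, X54, X53] [X58]) (nat_lit 0) (nat_lit 2436) = true := by decide +kernel
theorem wk29_7 : allR (OT.ckEqW [X52, X54, X52, X55, X53, X54, X52, X54, X54, X53, X54, X53] [X58]) (nat_lit 17052) (nat_lit 2436) = true := by decide +kernel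
theorem wk30_1 : allR (OT.ckEqW [X57, X59, X57, X58, X57, X57, X58, X56, X56, X56, X56, X58] [X60]) (nat_lit 2436) (nat_lit 2436) = true := by decide +kernel
theorem wk30_8 : allR (OT.ckEqW [X57, X59, X57, X58, X57, X57, X58, X56, X56, X56, X56, X58] [X60]) (nat_lit 19488) (nat_lit 2436) = true := by decide +kernel
theorem wk22_4 : allR (OT.ckEqW [X38, X36, X38, X38, X41, X41, X37, X40, X36, X36, X36, X38, X36, X36] [X44]) (nat_lit 8444) (nat_lit 2111) = true := by decide +kernel
theorem wk22_11 : allR (OT.ckEqW [X38, X36, X38, X38, X41, X41, X37, X40, X36, X36, X36, X38, X36, X36] [X44]) (nat_lit 23221) (nat_lit 2111) = true := by decide +kernel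
theorem wk14_4 : allR (OT.ckEqW [X0, X25, X25, X0, X23, X24, X0, X24, X1, X25, X23, X25, X23, X1, X22] [X28]) (nat_lit 7916) (nat_lit 1979) = true := by decide +kernel
theorem wk14_11 : allR (OT.ckEqW [X0, X25, X25, X0, X23, X24, X0, X24, X1, X25, X23, X25, X23, X1, X22] [X28]) (nat_lit 21769) (nat_lit 1979) = true := by decide +kernel
theorem wk15_2 : allR (OT.ckEqW [X24, X24, X0, X0, X24, X1, X23, X24, X22, X0, X25, X0, X25, X25, X0] [X30]) (nat_lit 3958) (nat_lit 1979) = true := by decide +kernel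
theorem wk15_9 : allR (OT.ckEqW [X24, X24, X0, X0, X24, X1, X23, X24, X22, X0, X25, X0, X25, X25, X0] [X30]) (nat_lit 17811) (nat_lit 1979) = true := by decide +kernel
theorem wk16_0 : allR (OT.ckEqW [X30, X30, X29, X29, X29, X30, X30, X29, X31, X31, X28, X28, X28, X30, X28, X28, X31] [X32]) (nat_lit 0) (nat_lit 1759) = true := by decide +kernel
theorem wk16_6 : allR (OT.ckEqW [X30, X30, X29, X29, X29, X30, X30, X29, X31, X31, X28, X28, X28, X30, X28, X28, X31] [X32]) (nat_lit 10554) (nat_lit 1759) = true := by decide +kernel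
theorem wk16_13 : allR (OT.ckEqW [X30, X30, X29, X29, X29, X30, X30, X29, X31, X31, X28, X28, X28, X30, X28, X28, X31] [X32]) (nat_lit 22867) (nat_lit 1759) = true := by decide +kernel
theorem wk24_2 : allR (OT.ckEqW [X0, X22, X0, X24, X24, X1, X24, X23, X25, X25, X22, X0, X0, X24, X22, X25, X0] [X48]) (nat_lit 3518) (nat_lit 1759) = true := by decide +kernel
theorem wk24_9 : allR (OT.ckEqW [X0, X22, X0, X24, X24, X1, X24, X23, X25, X25, X22, X0, X0, X24, X22, X25, X0] [X48]) (nat_lit 15831) (nat_lit 1759) = true := by decide +kernel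
theorem wk24_16 : allR (OT.ckEqW [X0, X22, X0, X24, X24, X1, X24, X23, X25, X25, X22, X0, X0, X24, X22, X25, X0] [X48]) (nat_lit 28144) (nat_lit 1759) = true := by decide +kernel
theorem wk17_8 : allR (OT.ckEqW [X30, X29, X31, X31, X31, X28, X30, X29, X29, X30, X29, X29, X31, X29, X30, X30, X29, X29, X29] [X34]) (nat_lit 12664) (nat_lit 1583) = true := by decide +kernel
theorem wk17_15 : allR (OT.ckEqW [X30, X29, X31, X31, X31, X28, X30, X29, X29, X30, X29, X29, X31, X29, X30, X30, X29, X29, X29] [X34]) (nat_lit 23745) (nat_lit 1583) = true := by decide +kernel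
theorem wk18_2 : allR (OT.ckEqW [X33, X33, X33, X33, X35, X32, X34, X34, X33, X35, X33, X34, X32, X35, X33, X35, X35, X35, X33] [X36]) (nat_lit 3166) (nat_lit 1583) = true := by decide +kernel
theorem wk18_9 : allR (OT.ckEqW [X33, X33, X33, X33, X35, X32, X34, X34, X33, X35, X33, X34, X32, X35, X33, X35, X35, X35, X33] [X36]) (nat_lit 14247) (nat_lit 1583) = true := by decide +kernel
theorem wk18_16 : allR (OT.ckEqW [X33, X33, X33, X33, X35, X32, X34, X34, X33, X35, X33, X34, X32, X35, X33, X35, X35, X35, X33] [X36]) (nat_lit 25328) (nat_lit 1583) = true := by decide +kernel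
theorem wk7_3 : allR (OT.ckEqW [X6, X9, X7, X9, X6, X9, X7, X9, X6, X8, X8, X8, X8, X8, X7, X8, X8, X7] [X14]) (nat_lit 4998) (nat_lit 1666) = true := by decide +kernel
theorem wk7_8 : allR (OT.ckEqW [X6, X9, X7, X9, X6, X9, X7, X9, X6, X8, X8, X8, X8, X8, X7, X8, X8, X7] [X14]) (nat_lit 13328) (nat_lit 1666) = true := by decide +kernel
theorem wk7_15 : allR (OT.ckEqW [X6, X9, X7, X9, X6, X9, X7, X9, X6, X8, X8, X8, X8, X8, X7, X8, X8, X7] [X14]) (nat_lit 24990) (nat_lit 1666) = true := by decide +kernel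
theorem wk11_3 : allR (OT.ckEqW [X16, X18, X12, X11, X12, X8, X7, X8, X6, X9, X6, X6, X9, X7, X2, X4, X3, X4, X3, X3, X5, X5, X2, X4, X4, X2, T7, X1, X1, T9, X1, T4, X1, T8, T9, X0, X0, X0, T3, T2] [X22]) (nat_lit 2316) (nat_lit 772) = true := by decide +kernel
theorem wk11_10 : allR (OT.ckEqW [X16, X18, X12, X11, X12, X8, X7, X8, X6, X9, X6, X6, X9, X7, X2, X4, X3, X4, X3, X3, X5, X5, X2, X4, X4, X2, T7, X1, X1, T9, X1, T4, X1, T8, T9, X0, X0, X0, T3, T2] [X22]) (nat_lit 7720) (nat_lit 772) = true := by decide +kernel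
theorem wk11_17 : allR (OT.ckEqW [X16, X18, X12, X11, X12, X8, X7, X8, X6, X9, X6, X6, X9, X7, X2, X4, X3, X4, X3, X3, X5, X5, X2, X4, X4, X2, T7, X1, X1, T9, X1, T4, X1, T8, T9, X0, X0, X0, T3, T2] [X22]) (nat_lit 13124) (nat_lit 772) = true := by decide +kernel
theorem wk11_24 : allR (OT.ckEqW [X16, X18, X12, X11, X12, X8, X7, X8, X6, X9, X6, X6, X9, X7, X2, X4, X3, X4, X3, X3, X5, X5, X2, X4, X4, X2, T7, X1, X1, T9, X1, T4, X1, T8, T9, X0, X0, X0, T3, T2] [X22]) (nat_lit 18528) (nat_lit 772) = true := by decide +kernel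
theorem wk11_31 : allR (OT.ckEqW [X16, X18, X12, X11, X12, X8, X7, X8, X6, X9, X6, X6, X9, X7, X2, X4, X3, X4, X3, X3, X5, X5, X2, X4, X4, X2, T7, X1, X1, T9, X1, T4, X1, T8, T9, X0, X0, X0, T3, T2] [X22]) (nat_lit 23932) (nat_lit 772) = true := by decide +kernel
theorem wk11_38 : allR (OT.ckEqW [X16, X18, X12, X11, X12, X8, X7, X8, X6, X9, X6, X6, X9, X7, X2, X4, X3, X4, X3, X3, X5, X5, X2, X4, X4, X2, T7, X1, X1, T9, X1, T4, X1, T8, T9, X0, X0, X0, T3, T2] [X22]) (nat_lit 29336) (nat_lit 772) = true := by decide +kernel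
theorem wk12_4 : allR (OT.ckEqW [X18, X20, X15, X10, X10, X13, X10, X8, X6, X6, X8, X8, X8, X8, X7, X2, X4, X2, X4, X3, X4, X3, X4, X4, X3, X5, X3, X5, X3, X3, X3, T7, X1, X1, X1, T8, T3, T4, T9, T8, X0, X0] [X24]) (nat_lit 2944) (nat_lit 736) = true := by decide +kernel
theorem wk12_11 : allR (OT.ckEqW [X18, X20, X15, X10, X10, X13, X10, X8, X6, X6, X8, X8, X8, X8, X7, X2, X4, X2, X4, X3, X4, X3, X4, X4, X3, X5, X3, X5, X3, X3, X3, T7, X1, X1, X1, T8, T3, T4, T9, T8, X0, X0] [X24]) (nat_lit 8096) (nat_lit 736) = true := by decide +kernel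
theorem wk12_18 : allR (OT.ckEqW [X18, X20, X15, X10, X10, X13, X10, X8, X6, X6, X8, X8, X8, X8, X7, X2, X4, X2, X4, X3, X4, X3, X4, X4, X3, X5, X3, X5, X3, X3, X3, T7, X1, X1, X1, T8, T3, T4, T9, T8, X0, X0] [X24]) (nat_lit 13248) (nat_lit 736) = true := by decide +kernel
theorem wk12_25 : allR (OT.ckEqW [X18, X20, X15, X10, X10, X13, X10, X8, X6, X6, X8, X8, X8, X8, X7, X2, X4, X2, X4, X3, X4, X3, X4, X4, X3, X5, X3, X5, X3, X3, X3, T7, X1, X1, X1, T8, T3, T4, T9, T8, X0, X0] [X24]) (nat_lit 18400) (nat_lit 736) = true := by decide +kernel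
theorem wk12_32 : allR (OT.ckEqW [X18, X20, X15, X10, X10, X13, X10, X8, X6, X6, X8, X8, X8, X8, X7, X2, X4, X2, X4, X3, X4, X3, X4, X4, X3, X5, X3, X5, X3, X3, X3, T7, X1, X1, X1, T8, T3, T4, T9, T8, X0, X0] [X24]) (nat_lit 23552) (nat_lit 736) = true := by decide +kernel
theorem wk12_39 : allR (OT.ckEqW [X18, X20, X15, X10, X10, X13, X10, X8, X6, X6, X8, X8, X8, X8, X7, X2, X4, X2, X4, X3, X4, X3, X4, X4, X3, X5, X3, X5, X3, X3, X3, T7, X1, X1, X1, T8, T3, T4, T9, T8, X0, X0] [X24]) (nat_lit 28704) (nat_lit 736) = true := by decide +kernel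
theorem wk17_20 : allR (OT.ckEqW [X30, X29, X31, X31, X31, X28, X30, X29, X29, X30, X29, X29, X31, X29, X30, X30, X29, X29, X29] [X34]) (nat_lit 31660) (nat_lit 11) = true := by decide +kernel
theorem wk22_15 : allR (OT.ckEqW [X38, X36, X38, X38, X41, X41, X37, X40, X36, X36, X36, X38, X36, X36] [X44]) (nat_lit 31665) (nat_lit 6) = true := by decide +kernel
theorem wk9_13 : allR (OT.ckEqW [X10, X15, X15, X11, X12, X10, X14, X11, X15, X10, X12, X10] [X18]) (nat_lit 31668) (nat_lit 3) = true := by decide +kernel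
theorem wk23_12 : allR (OT.ckEqW [X39, X39, X36, X40, X36, X38, X37, X38, X41, X37, X39] [X46]) (nat_lit 31668) (nat_lit 3) = true := by decide +kernel
theorem wk21_10 : allR (OT.ckEqW [X39, X37, X37, X38, X40, X37, X37, X38, X41] [X42]) (nat_lit 31670) (nat_lit 1) = true := by decide +kernel
theorem pk1_2 : allR (ckPerm (nat_lit 31671) X1 X0) (nat_lit 31670) (nat_lit 1) = true := by decide +kernel
theorem pk3_2 : allR (ckPerm (nat_lit 31671) X3 X2) (nat_lit 31670) (nat_lit 1) = true := by decide +kernel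
theorem pk8_2 : allR (ckPerm (nat_lit 31671) X8 X9) (nat_lit 31670) (nat_lit 1) = true := by decide +kernel
theorem pk13_2 : allR (ckPerm (nat_lit 31671) X13 X12) (nat_lit 31670) (nat_lit 1) = true := by decide +kernel
theorem pk18_2 : allR (ckPerm (nat_lit 31671) X18 X19) (nat_lit 31670) (nat_lit 1) = true := by decide +kernel
theorem pk23_2 : allR (ckPerm (nat_lit 31671) X23 X22) (nat_lit 31670) (nat_lit 1) = true := by decide +kernel
theorem pk28_2 : allR (ckPerm (nat_lit 31671) X28 X29) (nat_lit 31670) (nat_lit 1) = true := by decide +kernel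
theorem pk33_2 : allR (ckPerm (nat_lit 31671) X33 X32) (nat_lit 31670) (nat_lit 1) = true := by decide +kernel
theorem pk38_2 : allR (ckPerm (nat_lit 31671) X38 X39) (nat_lit 31670) (nat_lit 1) = true := by decide +kernel
theorem pk43_2 : allR (ckPerm (nat_lit 31671) X43 X42) (nat_lit 31670) (nat_lit 1) = true := by decide +kernel
theorem pk48_2 : allR (ckPerm (nat_lit 31671) X48 X49) (nat_lit 31670) (nat_lit 1) = true := by decide +kernel
theorem pk53_2 : allR (ckPerm (nat_lit 31671) X53 X52) (nat_lit 31670) (nat_lit 1) = true := by decide +kernel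
theorem pk58_2 : allR (ckPerm (nat_lit 31671) X58 X59) (nat_lit 31670) (nat_lit 1) = true := by decide +kernel
theorem pk63_2 : allR (ckPerm (nat_lit 31671) X63 X62) (nat_lit 31670) (nat_lit 1) = true := by decide +kernel

end Cfsg.Agent.H8.Fi23O
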