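import Cfsg.Agent.H8.T.Fi23Oa

set_option Elab.async false
set_option autoImplicit false
set_option linter.all false
set_option maxRecDepth 100000
set_option maxHeartbeats 400000

namespace Cfsg.Agent.H8.Fi23O
open Cfsg.Agent.H8.Fi23t (T0 T1 T2 T3 T4 T5 T6 T7 T8 T9)

theorem wk5_2 : allR (OT.ckEqW [X6, X8, X8, X7, X7, X8, X6, X6, X9, X9, X7, X8, X8, X6, X9, X7] [X10]) (nat_lit 3726) (nat_lit 1863) = true := by decide +kernel
theorem wk5_9 : allR (OT.ckEqW [X6, X8, X8, X7, X7, X8, X6, X6, X9, X9, X7, X8, X8, X6, X9, X7] [X10]) (nat_lit 16767) (nat_lit 1863) = true := by decide +kernel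
theorem wk5_16 : allR (OT.ckEqW [X6, X8, X8, X7, X7, X8, X6, X6, X9, X9, X7, X8, X8, X6, X9, X7] [X10]) (nat_lit 29808) (nat_lit 1863) = true := by decide +kernel
theorem wk25_3 : allR (OT.ckEqW [X1, X23, X1, X23, X24, X1, X25, X1, X25, X23, X0, X0, X25, X0, X25, X1] [X50]) (nat_lit 5589) (nat_lit 1863) = true := by decide +kernel
theorem wk25_10 : allR (OT.ckEqW [X1, X23, X1, X23, X24, X1, X25, X1, X25, X23, X0, X0, X25, X0, X25, X1] [X50]) (nat_lit 18630) (nat_lit 1863) = true := by decide +kernel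
theorem pk0_0 : allR (ckPerm (nat_lit 31671) X0 X1) (nat_lit 0) (nat_lit 15835) = true := by decide +kernel
theorem pk2_1 : allR (ckPerm (nat_lit 31671) X2 X3) (nat_lit 15835) (nat_lit 15835) = true := by decide +kernel
theorem pk6_0 : allR (ckPerm (nat_lit 31671) X6 X7) (nat_lit 0) (nat_lit 15835) = true := by decide +kernel
theorem pk9_1 : allR (ckPerm (nat_lit 31671) X9 X8) (nat_lit 15835) (nat_lit 15835) = true := by decide +kernel
theorem pk13_0 : allR (ckPerm (nat_lit 31671) X13 X12) (nat_lit 0) (nat_lit 15835) = true := by decide +kernel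
theorem pk16_1 : allR (ckPerm (nat_lit 31671) X16 X17) (nat_lit 15835) (nat_lit 15835) = true := by decide +kernel
theorem pk20_0 : allR (ckPerm (nat_lit 31671) X20 X21) (nat_lit 0) (nat_lit 15835) = true := by decide +kernel
theorem pk23_1 : allR (ckPerm (nat_lit 31671) X23 X22) (nat_lit 15835) (nat_lit 15835) = true := by decide +kernel
theorem pk27_0 : allR (ckPerm (nat_lit 31671) X27 X26) (nat_lit 0) (nat_lit 15835) = true := by decide +kernel
theorem pk30_1 : allR (ckPerm (nat_lit 31671) X30 X31) (nat_lit 15835) (nat_lit 15835) = true := by decide +kernel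
theorem pk34_0 : allR (ckPerm (nat_lit 31671) X34 X35) (nat_lit 0) (nat_lit 15835) = true := by decide +kernel
theorem pk37_1 : allR (ckPerm (nat_lit 31671) X37 X36) (nat_lit 15835) (nat_lit 15835) = true := by decide +kernel
theorem pk41_0 : allR (ckPerm (nat_lit 31671) X41 X40) (nat_lit 0) (nat_lit 15835) = true := by decide +kernel
theorem pk44_1 : allR (ckPerm (nat_lit 31671) X44 X45) (nat_lit 15835) (nat_lit 15835) = true := by decide +kernel
theorem pk48_0 : allR (ckPerm (nat_lit 31671) X48 X49) (nat_lit 0) (nat_lit 15835) = true := by decide +kernel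
theorem pk51_1 : allR (ckPerm (nat_lit 31671) X51 X50) (nat_lit 15835) (nat_lit 15835) = true := by decide +kernel
theorem pk55_0 : allR (ckPerm (nat_lit 31671) X55 X54) (nat_lit 0) (nat_lit 15835) = true := by decide +kernel
theorem pk58_1 : allR (ckPerm (nat_lit 31671) X58 X59) (nat_lit 15835) (nat_lit 15835) = true := by decide +kernel
theorem pk62_0 : allR (ckPerm (nat_lit 31671) X62 X63) (nat_lit 0) (nat_lit 15835) = true := by decide +kernel
theorem wk0_3 : allR (OT.ckEqW [T0, T1, T2, T3, T4, T5, T7, T6, T8] [X0]) (nat_lit 9501) (nat_lit 3167) = true := by decide +kernel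
theorem wk2_0 : allR (OT.ckEqW [T8, T0, T9, T2] [X4]) (nat_lit 0) (nat_lit 6334) = true := by decide +kernel
theorem wk10_0 : allR (OT.ckEqW [X10, X12, X11, X14, X14, X14, X10, X12, X10] [X20]) (nat_lit 0) (nat_lit 3167) = true := by decide +kernel
theorem wk10_7 : allR (OT.ckEqW [X10, X12, X11, X14, X14, X14, X10, X12, X10] [X20]) (nat_lit 22169) (nat_lit 3167) = true := by decide +kernel
theorem wk21_4 : allR (OT.ckEqW [X39, X37, X37, X38, X40, X37, X37, X38, X41] [X42]) (nat_lit 12668) (nat_lit 3167) = true := by decide +kernel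
theorem wk4_2 : allR (OT.ckEqW [X3, X5, X3, X5, X3, X5, X5, X2, X2, X2] [X8]) (nat_lit 5758) (nat_lit 2879) = true := by decide +kernel
theorem wk4_9 : allR (OT.ckEqW [X3, X5, X3, X5, X3, X5, X5, X2, X2, X2] [X8]) (nat_lit 25911) (nat_lit 2879) = true := by decide +kernel
theorem wk31_5 : allR (OT.ckEqW [X59, X56, X56, X58, X57, X59, X59, X59, X57, X58] [X62]) (nat_lit 14395) (nat_lit 2879) = true := by decide +kernel
theorem wk1_1 : allR (OT.ckEqW [X1, T8, T5, T4, T7] [X2]) (nat_lit 5278) (nat_lit 5278) = true := by decide +kernel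
theorem wk6_2 : allR (OT.ckEqW [X6, X9, X6, X8, X8, X7, X9, X7, X7, X7, X9, X6, X6, X8, X6, X8, X6, X8, X6, X9] [X12]) (nat_lit 3016) (nat_lit 1508) = true := by decide +kernel
theorem wk6_9 : allR (OT.ckEqW [X6, X9, X6, X8, X8, X7, X9, X7, X7, X7, X9, X6, X6, X8, X6, X8, X6, X8, X6, X9] [X12]) (nat_lit 13572) (nat_lit 1508) = true := by decide +kernel
theorem wk6_16 : allR (OT.ckEqW [X6, X9, X6, X8, X8, X7, X9, X7, X7, X7, X9, X6, X6, X8, X6, X8, X6, X8, X6, X9] [X12]) (nat_lit 24128) (nat_lit 1508) = true := by decide +kernel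
theorem wk8_2 : allR (OT.ckEqW [X13, X13, X13, X14, X12, X12, X10, X15, X13, X10, X12, X10] [X16]) (nat_lit 4872) (nat_lit 2436) = true := by decide +kernel
theorem wk8_9 : allR (OT.ckEqW [X13, X13, X13, X14, X12, X12, X10, X15, X13, X10, X12, X10] [X16]) (nat_lit 21924) (nat_lit 2436) = true := by decide +kernel
theorem wk9_3 : allR (OT.ckEqW [X10, X15, X15, X11, X12, X10, X14, X11, X15, X10, X12, X10] [X18]) (nat_lit 7308) (nat_lit 2436) = true := by decide +kernel
theorem wk9_10 : allR (OT.ckEqW [X10, X15, X15, X11, X12, X10, X14, X11, X15, X10, X12, X10] [X18]) (nat_lit 24360) (nat_lit 2436) = true := by decide +kernel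
theorem wk19_4 : allR (OT.ckEqW [X35, X32, X34, X32, X35, X33, X34, X33, X34, X33, X34, X34] [X38]) (nat_lit 9744) (nat_lit 2436) = true := by decide +kernel
theorem wk19_11 : allR (OT.ckEqW [X35, X32, X34, X32, X35, X33, X34, X33, X34, X33, X34, X34] [X38]) (nat_lit 26796) (nat_lit 2436) = true := by decide +kernel
theorem wk20_5 : allR (OT.ckEqW [X35, X35, X32, X32, X32, X32, X32, X34, X34, X32, X32, X32] [X40]) (nat_lit 12180) (nat_lit 2436) = true := by decide +kernel
theorem wk20_12 : allR (OT.ckEqW [X35, X35, X32, X32, X32, X32, X32, X34, X34, X32, X32, X32] [X40]) (nat_lit 29232) (nat_lit 2436) = true := by decide +kernel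
theorem wk23_6 : allR (OT.ckEqW [X39, X39, X36, X40, X36, X38, X37, X38, X41, X37, X39] [X46]) (nat_lit 15834) (nat_lit 2639) = true := by decide +kernel
theorem wk26_1 : allR (OT.ckEqW [X49, X51, X48, X50, X48, X50, X50, X48, X51, X49, X49, X51, X51, X51, X48, X48, X51, X48, X50, X49] [X52]) (nat_lit 1508) (nat_lit 1508) = true := by decide +kernel
theorem wk26_8 : allR (OT.ckEqW [X49, X51, X48, X50, X48, X50, X50, X48, X51, X49, X49, X51, X51, X51, X48, X48, X51, X48, X50, X49] [X52]) (nat_lit 12064) (nat_lit 1508) = true := by decide +kernel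
theorem wk26_15 : allR (OT.ckEqW [X49, X51, X48, X50, X48, X50, X50, X48, X51, X49, X49, X51, X51, X51, X48, X48, X51, X48, X50, X49] [X52]) (nat_lit 22620) (nat_lit 1508) = true := by decide +kernel
theorem wk27_1 : allR (OT.ckEqW [X51, X48, X51, X49, X51, X48, X48, X48, X50, X50, X49, X49, X51, X51, X51, X51, X49, X50, X48, X48] [X54]) (nat_lit 1508) (nat_lit 1508) = true := by decide +kernel
theorem wk27_8 : allR (OT.ckEqW [X51, X48, X51, X49, X51, X48, X48, X48, X50, X50, X49, X49, X51, X51, X51, X51, X49, X50, X48, X48] [X54]) (nat_lit 12064) (nat_lit 1508) = true := by decide +kernel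
theorem wk27_15 : allR (OT.ckEqW [X51, X48, X51, X49, X51, X48, X48, X48, X50, X50, X49, X49, X51, X51, X51, X51, X49, X50, X48, X48] [X54]) (nat_lit 22620) (nat_lit 1508) = true := by decide +kernel
theorem wk28_1 : allR (OT.ckEqW [X55, X52, X54, X54, X54, X52] [X56]) (nat_lit 4524) (nat_lit 4524) = true := by decide +kernel
theorem wk29_1 : allR (OT.ckEqW [X52, X54, X52, X55, X53, X54, X52, X54, X54, X53, X54, X53] [X58]) (nat_lit 2436) (nat_lit 2436) = true := by decide +kernel
theorem wk29_8 : allR (OT.ckEqW [X52, X54, X52, X55, X53, X54, X52, X54, X54, X53, X54, X53] [X58]) (nat_lit 19488) (nat_lit 2436) = true := by decide +kernel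
theorem wk30_2 : allR (OT.ckEqW [X57, X59, X57, X58, X57, X57, X58, X56, X56, X56, X56, X58] [X60]) (nat_lit 4872) (nat_lit 2436) = true := by decide +kernel
theorem wk30_9 : allR (OT.ckEqW [X57, X59, X57, X58, X57, X57, X58, X56, X56, X56, X56, X58] [X60]) (nat_lit 21924) (nat_lit 2436) = true := by decide +kernel
theorem wk22_5 : allR (OT.ckEqW [X38, X36, X38, X38, X41, X41, X37, X40, X36, X36, X36, X38, X36, X36] [X44]) (nat_lit 10555) (nat_lit 2111) = true := by decide +kernel
theorem wk22_12 : allR (OT.ckEqW [X38, X36, X38, X38, X41, X41, X37, X40, X36, X36, X36, X38, X36, X36] [X44]) (nat_lit 25332) (nat_lit 2111) = true := by decide +kernel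
theorem wk14_5 : allR (OT.ckEqW [X0, X25, X25, X0, X23, X24, X0, X24, X1, X25, X23, X25, X23, X1, X22] [X28]) (nat_lit 9895) (nat_lit 1979) = true := by decide +kernel
theorem wk14_12 : allR (OT.ckEqW [X0, X25, X25, X0, X23, X24, X0, X24, X1, X25, X23, X25, X23, X1, X22] [X28]) (nat_lit 23748) (nat_lit 1979) = true := by decide +kernel
theorem wk15_3 : allR (OT.ckEqW [X24, X24, X0, X0, X24, X1, X23, X24, X22, X0, X25, X0, X25, X25, X0] [X30]) (nat_lit 5937) (nat_lit 1979) = true := by decide +kernel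
theorem wk15_10 : allR (OT.ckEqW [X24, X24, X0, X0, X24, X1, X23, X24, X22, X0, X25, X0, X25, X25, X0] [X30]) (nat_lit 19790) (nat_lit 1979) = true := by decide +kernel
theorem wk16_1 : allR (OT.ckEqW [X30, X30, X29, X29, X29, X30, X30, X29, X31, X31, X28, X28, X28, X30, X28, X28, X31] [X32]) (nat_lit 1759) (nat_lit 1759) = true := by decide +kernel
theorem wk16_7 : allR (OT.ckEqW [X30, X30, X29, X29, X29, X30, X30, X29, X31, X31, X28, X28, X28, X30, X28, X28, X31] [X32]) (nat_lit 12313) (nat_lit 1759) = true := by decide +kernel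
theorem wk16_14 : allR (OT.ckEqW [X30, X30, X29, X29, X29, X30, X30, X29, X31, X31, X28, X28, X28, X30, X28, X28, X31] [X32]) (nat_lit 24626) (nat_lit 1759) = true := by decide +kernel
theorem wk24_3 : allR (OT.ckEqW [X0, X22, X0, X24, X24, X1, X24, X23, X25, X25, X22, X0, X0, X24, X22, X25, X0] [X48]) (nat_lit 5277) (nat_lit 1759) = true := by decide +kernel
theorem wk24_10 : allR (OT.ckEqW [X0, X22, X0, X24, X24, X1, X24, X23, X25, X25, X22, X0, X0, X24, X22, X25, X0] [X48]) (nat_lit 17590) (nat_lit 1759) = true := by decide +kernel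
theorem wk24_17 : allR (OT.ckEqW [X0, X22, X0, X24, X24, X1, X24, X23, X25, X25, X22, X0, X0, X24, X22, X25, X0] [X48]) (nat_lit 29903) (nat_lit 1759) = true := by decide +kernel
theorem wk17_9 : allR (OT.ckEqW [X30, X29, X31, X31, X31, X28, X30, X29, X29, X30, X29, X29, X31, X29, X30, X30, X29, X29, X29] [X34]) (nat_lit 14247) (nat_lit 1583) = true := by decide +kernel
theorem wk17_16 : allR (OT.ckEqW [X30, X29, X31, X31, X31, X28, X30, X29, X29, X30, X29, X29, X31, X29, X30, X30, X29, X29, X29] [X34]) (nat_lit 25328) (nat_lit 1583) = true := by decide +kernel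
theorem wk18_3 : allR (OT.ckEqW [X33, X33, X33, X33, X35, X32, X34, X34, X33, X35, X33, X34, X32, X35, X33, X35, X35, X35, X33] [X36]) (nat_lit 4749) (nat_lit 1583) = true := by decide +kernel
theorem wk18_10 : allR (OT.ckEqW [X33, X33, X33, X33, X35, X32, X34, X34, X33, X35, X33, X34, X32, X35, X33, X35, X35, X35, X33] [X36]) (nat_lit 15830) (nat_lit 1583) = true := by decide +kernel
theorem wk18_17 : allR (OT.ckEqW [X33, X33, X33, X33, X35, X32, X34, X34, X33, X35, X33, X34, X32, X35, X33, X35, X35, X35, X33] [X36]) (nat_lit 26911) (nat_lit 1583) = true := by decide +kernel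
theorem wk7_4 : allR (OT.ckEqW [X6, X9, X7, X9, X6, X9, X7, X9, X6, X8, X8, X8, X8, X8, X7, X8, X8, X7] [X14]) (nat_lit 6664) (nat_lit 1666) = true := by decide +kernel
theorem wk7_9 : allR (OT.ckEqW [X6, X9, X7, X9, X6, X9, X7, X9, X6, X8, X8, X8, X8, X8, X7, X8, X8, X7] [X14]) (nat_lit 14994) (nat_lit 1666) = true := by decide +kernel
theorem wk7_16 : allR (OT.ckEqW [X6, X9, X7, X9, X6, X9, X7, X9, X6, X8, X8, X8, X8, X8, X7, X8, X8, X7] [X14]) (nat_lit 26656) (nat_lit 1666) = true := by decide +kernel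
theorem wk11_4 : allR (OT.ckEqW [X16, X18, X12, X11, X12, X8, X7, X8, X6, X9, X6, X6, X9, X7, X2, X4, X3, X4, X3, X3, X5, X5, X2, X4, X4, X2, T7, X1, X1, T9, X1, T4, X1, T8, T9, X0, X0, X0, T3, T2] [X22]) (nat_lit 3088) (nat_lit 772) = true := by decide +kernel
theorem wk11_11 : allR (OT.ckEqW [X16, X18, X12, X11, X12, X8, X7, X8, X6, X9, X6, X6, X9, X7, X2, X4, X3, X4, X3, X3, X5, X5, X2, X4, X4, X2, T7, X1, X1, T9, X1, T4, X1, T8, T9, X0, X0, X0, T3, T2] [X22]) (nat_lit 8492) (nat_lit 772) = true := by decide +kernel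
theorem wk11_18 : allR (OT.ckEqW [X16, X18, X12, X11, X12, X8, X7, X8, X6, X9, X6, X6, X9, X7, X2, X4, X3, X4, X3, X3, X5, X5, X2, X4, X4, X2, T7, X1, X1, T9, X1, T4, X1, T8, T9, X0, X0, X0, T3, T2] [X22]) (nat_lit 13896) (nat_lit 772) = true := by decide +kernel
theorem wk11_25 : allR (OT.ckEqW [X16, X18, X12, X11, X12, X8, X7, X8, X6, X9, X6, X6, X9, X7, X2, X4, X3, X4, X3, X3, X5, X5, X2, X4, X4, X2, T7, X1, X1, T9, X1, T4, X1, T8, T9, X0, X0, X0, T3, T2] [X22]) (nat_lit 19300) (nat_lit 772) = true := by decide +kernel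
theorem wk11_32 : allR (OT.ckEqW [X16, X18, X12, X11, X12, X8, X7, X8, X6, X9, X6, X6, X9, X7, X2, X4, X3, X4, X3, X3, X5, X5, X2, X4, X4, X2, T7, X1, X1, T9, X1, T4, X1, T8, T9, X0, X0, X0, T3, T2] [X22]) (nat_lit 24704) (nat_lit 772) = true := by decide +kernel
theorem wk11_39 : allR (OT.ckEqW [X16, X18, X12, X11, X12, X8, X7, X8, X6, X9, X6, X6, X9, X7, X2, X4, X3, X4, X3, X3, X5, X5, X2, X4, X4, X2, T7, X1, X1, T9, X1, T4, X1, T8, T9, X0, X0, X0, T3, T2] [X22]) (nat_lit 30108) (nat_lit 772) = true := by decide +kernel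
theorem wk12_5 : allR (OT.ckEqW [X18, X20, X15, X10, X10, X13, X10, X8, X6, X6, X8, X8, X8, X8, X7, X2, X4, X2, X4, X3, X4, X3, X4, X4, X3, X5, X3, X5, X3, X3, X3, T7, X1, X1, X1, T8, T3, T4, T9, T8, X0, X0] [X24]) (nat_lit 3680) (nat_lit 736) = true := by decide +kernel
theorem wk12_12 : allR (OT.ckEqW [X18, X20, X15, X10, X10, X13, X10, X8, X6, X6, X8, X8, X8, X8, X7, X2, X4, X2, X4, X3, X4, X3, X4, X4, X3, X5, X3, X5, X3, X3, X3, T7, X1, X1, X1, T8, T3, T4, T9, T8, X0, X0] [X24]) (nat_lit 8832) (nat_lit 736) = true := by decide +kernel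
theorem wk12_19 : allR (OT.ckEqW [X18, X20, X15, X10, X10, X13, X10, X8, X6, X6, X8, X8, X8, X8, X7, X2, X4, X2, X4, X3, X4, X3, X4, X4, X3, X5, X3, X5, X3, X3, X3, T7, X1, X1, X1, T8, T3, T4, T9, T8, X0, X0] [X24]) (nat_lit 13984) (nat_lit 736) = true := by decide +kernel
theorem wk12_26 : allR (OT.ckEqW [X18, X20, X15, X10, X10, X13, X10, X8, X6, X6, X8, X8, X8, X8, X7, X2, X4, X2, X4, X3, X4, X3, X4, X4, X3, X5, X3, X5, X3, X3, X3, T7, X1, X1, X1, T8, T3, T4, T9, T8, X0, X0] [X24]) (nat_lit 19136) (nat_lit 736) = true := by decide +kernel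
theorem wk12_33 : allR (OT.ckEqW [X18, X20, X15, X10, X10, X13, X10, X8, X6, X6, X8, X8, X8, X8, X7, X2, X4, X2, X4, X3, X4, X3, X4, X4, X3, X5, X3, X5, X3, X3, X3, T7, X1, X1, X1, T8, T3, T4, T9, T8, X0, X0] [X24]) (nat_lit 24288) (nat_lit 736) = true := by decide +kernel
theorem wk12_40 : allR (OT.ckEqW [X18, X20, X15, X10, X10, X13, X10, X8, X6, X6, X8, X8, X8, X8, X7, X2, X4, X2, X4, X3, X4, X3, X4, X4, X3, X5, X3, X5, X3, X3, X3, T7, X1, X1, X1, T8, T3, T4, T9, T8, X0, X0] [X24]) (nat_lit 29440) (nat_lit 736) = true := by decide +kernel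
theorem wk18_20 : allR (OT.ckEqW [X33, X33, X33, X33, X35, X32, X34, X34, X33, X35, X33, X34, X32, X35, X33, X35, X35, X35, X33] [X36]) (nat_lit 31660) (nat_lit 11) = true := by decide +kernel
theorem wk6_21 : allR (OT.ckEqW [X6, X9, X6, X8, X8, X7, X9, X7, X7, X7, X9, X6, X6, X8, X6, X8, X6, X8, X6, X9] [X12]) (nat_lit 31668) (nat_lit 3) = true := by decide +kernel
theorem wk8_13 : allR (OT.ckEqW [X13, X13, X13, X14, X12, X12, X10, X15, X13, X10, X12, X10] [X16]) (nat_lit 31668) (nat_lit 3) = true := by decide +kernel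
theorem wk19_13 : allR (OT.ckEqW [X35, X32, X34, X32, X35, X33, X34, X33, X34, X33, X34, X34] [X38]) (nat_lit 31668) (nat_lit 3) = true := by decide +kernel
theorem wk4_11 : allR (OT.ckEqW [X3, X5, X3, X5, X3, X5, X5, X2, X2, X2] [X8]) (nat_lit 31669) (nat_lit 2) = true := by decide +kernel
theorem wk0_10 : allR (OT.ckEqW [T0, T1, T2, T3, T4, T5, T7, T6, T8] [X0]) (nat_lit 31670) (nat_lit 1) = true := by decide +kernel
theorem wk2_5 : allR (OT.ckEqW [T8, T0, T9, T2] [X4]) (nat_lit 31670) (nat_lit 1) = true := by decide +kernel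
theorem pk6_2 : allR (ckPerm (nat_lit 31671) X6 X7) (nat_lit 31670) (nat_lit 1) = true := by decide +kernel
theorem pk11_2 : allR (ckPerm (nat_lit 31671) X11 X10) (nat_lit 31670) (nat_lit 1) = true := by decide +kernel
theorem pk16_2 : allR (ckPerm (nat_lit 31671) X16 X17) (nat_lit 31670) (nat_lit 1) = true := by decide +kernel
theorem pk21_2 : allR (ckPerm (nat_lit 31671) X21 X20) (nat_lit 31670) (nat_lit 1) = true := by decide +kernel
theorem pk26_2 : allR (ckPerm (nat_lit 31671) X26 X27) (nat_lit 31670) (nat_lit 1) = true := by decide +kernel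
theorem pk31_2 : allR (ckPerm (nat_lit 31671) X31 X30) (nat_lit 31670) (nat_lit 1) = true := by decide +kernel
theorem pk36_2 : allR (ckPerm (nat_lit 31671) X36 X37) (nat_lit 31670) (nat_lit 1) = true := by decide +kernel
theorem pk41_2 : allR (ckPerm (nat_lit 31671) X41 X40) (nat_lit 31670) (nat_lit 1) = true := by decide +kernel
theorem pk46_2 : allR (ckPerm (nat_lit 31671) X46 X47) (nat_lit 31670) (nat_lit 1) = true := by decide +kernel
theorem pk51_2 : allR (ckPerm (nat_lit 31671) X51 X50) (nat_lit 31670) (nat_lit 1) = true := by decide +kernel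
theorem pk56_2 : allR (ckPerm (nat_lit 31671) X56 X57) (nat_lit 31670) (nat_lit 1) = true := by decide +kernel
theorem pk61_2 : allR (ckPerm (nat_lit 31671) X61 X60) (nat_lit 31670) (nat_lit 1) = true := by decide +kernel

end Cfsg.Agent.H8.Fi23O
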