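import Cfsg.Agent.H8.T.Fi23Oa

set_option Elab.async false
set_option autoImplicit false
set_option linter.all false
set_option maxRecDepth 100000
set_option maxHeartbeats 400000

namespace Cfsg.Agent.H8.Fi23O
open Cfsg.Agent.H8.Fi23t (T0 T1 T2 T3 T4 T5 T6 T7 T8 T9)

theorem wk5_3 : allR (OT.ckEqW [X6, X8, X8, X7, X7, X8, X6, X6, X9, X9, X7, X8, X8, X6, X9, X7] [X10]) (nat_lit 5589) (nat_lit 1863) = true := by decide +kernel
theorem wk5_10 : allR (OT.ckEqW [X6, X8, X8, X7, X7, X8, X6, X6, X9, X9, X7, X8, X8, X6, X9, X7] [X10]) (nat_lit 18630) (nat_lit 1863) = true := by decide +kernel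
theorem wk13_0 : allR (OT.ckEqW [X22, X22] [X26]) (nat_lit 0) (nat_lit 10557) = true := by decide +kernel
theorem wk25_4 : allR (OT.ckEqW [X1, X23, X1, X23, X24, X1, X25, X1, X25, X23, X0, X0, X25, X0, X25, X1] [X50]) (nat_lit 7452) (nat_lit 1863) = true := by decide +kernel
theorem wk25_11 : allR (OT.ckEqW [X1, X23, X1, X23, X24, X1, X25, X1, X25, X23, X0, X0, X25, X0, X25, X1] [X50]) (nat_lit 20493) (nat_lit 1863) = true := by decide +kernel
theorem pk0_1 : allR (ckPerm (nat_lit 31671) X0 X1) (nat_lit 15835) (nat_lit 15835) = true := by decide +kernel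
theorem pk3_0 : allR (ckPerm (nat_lit 31671) X3 X2) (nat_lit 0) (nat_lit 15835) = true := by decide +kernel
theorem pk6_1 : allR (ckPerm (nat_lit 31671) X6 X7) (nat_lit 15835) (nat_lit 15835) = true := by decide +kernel
theorem pk10_0 : allR (ckPerm (nat_lit 31671) X10 X11) (nat_lit 0) (nat_lit 15835) = true := by decide +kernel
theorem pk13_1 : allR (ckPerm (nat_lit 31671) X13 X12) (nat_lit 15835) (nat_lit 15835) = true := by decide +kernel
theorem pk17_0 : allR (ckPerm (nat_lit 31671) X17 X16) (nat_lit 0) (nat_lit 15835) = true := by decide +kernel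
theorem pk20_1 : allR (ckPerm (nat_lit 31671) X20 X21) (nat_lit 15835) (nat_lit 15835) = true := by decide +kernel
theorem pk24_0 : allR (ckPerm (nat_lit 31671) X24 X25) (nat_lit 0) (nat_lit 15835) = true := by decide +kernel
theorem pk27_1 : allR (ckPerm (nat_lit 31671) X27 X26) (nat_lit 15835) (nat_lit 15835) = true := by decide +kernel
theorem pk31_0 : allR (ckPerm (nat_lit 31671) X31 X30) (nat_lit 0) (nat_lit 15835) = true := by decide +kernel
theorem pk34_1 : allR (ckPerm (nat_lit 31671) X34 X35) (nat_lit 15835) (nat_lit 15835) = true := by decide +kernel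
theorem pk38_0 : allR (ckPerm (nat_lit 31671) X38 X39) (nat_lit 0) (nat_lit 15835) = true := by decide +kernel
theorem pk41_1 : allR (ckPerm (nat_lit 31671) X41 X40) (nat_lit 15835) (nat_lit 15835) = true := by decide +kernel
theorem pk45_0 : allR (ckPerm (nat_lit 31671) X45 X44) (nat_lit 0) (nat_lit 15835) = true := by decide +kernel
theorem pk48_1 : allR (ckPerm (nat_lit 31671) X48 X49) (nat_lit 15835) (nat_lit 15835) = true := by decide +kernel
theorem pk52_0 : allR (ckPerm (nat_lit 31671) X52 X53) (nat_lit 0) (nat_lit 15835) = true := by decide +kernel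
theorem pk55_1 : allR (ckPerm (nat_lit 31671) X55 X54) (nat_lit 15835) (nat_lit 15835) = true := by decide +kernel
theorem pk59_0 : allR (ckPerm (nat_lit 31671) X59 X58) (nat_lit 0) (nat_lit 15835) = true := by decide +kernel
theorem pk62_1 : allR (ckPerm (nat_lit 31671) X62 X63) (nat_lit 15835) (nat_lit 15835) = true := by decide +kernel
theorem wk0_4 : allR (OT.ckEqW [T0, T1, T2, T3, T4, T5, T7, T6, T8] [X0]) (nat_lit 12668) (nat_lit 3167) = true := by decide +kernel
theorem wk2_1 : allR (OT.ckEqW [T8, T0, T9, T2] [X4]) (nat_lit 6334) (nat_lit 6334) = true := by decide +kernel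
theorem wk10_1 : allR (OT.ckEqW [X10, X12, X11, X14, X14, X14, X10, X12, X10] [X20]) (nat_lit 3167) (nat_lit 3167) = true := by decide +kernel
theorem wk10_8 : allR (OT.ckEqW [X10, X12, X11, X14, X14, X14, X10, X12, X10] [X20]) (nat_lit 25336) (nat_lit 3167) = true := by decide +kernel
theorem wk21_5 : allR (OT.ckEqW [X39, X37, X37, X38, X40, X37, X37, X38, X41] [X42]) (nat_lit 15835) (nat_lit 3167) = true := by decide +kernel
theorem wk4_3 : allR (OT.ckEqW [X3, X5, X3, X5, X3, X5, X5, X2, X2, X2] [X8]) (nat_lit 8637) (nat_lit 2879) = true := by decide +kernel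
theorem wk4_10 : allR (OT.ckEqW [X3, X5, X3, X5, X3, X5, X5, X2, X2, X2] [X8]) (nat_lit 28790) (nat_lit 2879) = true := by decide +kernel
theorem wk31_6 : allR (OT.ckEqW [X59, X56, X56, X58, X57, X59, X59, X59, X57, X58] [X62]) (nat_lit 17274) (nat_lit 2879) = true := by decide +kernel
theorem wk1_2 : allR (OT.ckEqW [X1, T8, T5, T4, T7] [X2]) (nat_lit 10556) (nat_lit 5278) = true := by decide +kernel
theorem wk6_3 : allR (OT.ckEqW [X6, X9, X6, X8, X8, X7, X9, X7, X7, X7, X9, X6, X6, X8, X6, X8, X6, X8, X6, X9] [X12]) (nat_lit 4524) (nat_lit 1508) = true := by decide +kernel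
theorem wk6_10 : allR (OT.ckEqW [X6, X9, X6, X8, X8, X7, X9, X7, X7, X7, X9, X6, X6, X8, X6, X8, X6, X8, X6, X9] [X12]) (nat_lit 15080) (nat_lit 1508) = true := by decide +kernel
theorem wk6_17 : allR (OT.ckEqW [X6, X9, X6, X8, X8, X7, X9, X7, X7, X7, X9, X6, X6, X8, X6, X8, X6, X8, X6, X9] [X12]) (nat_lit 25636) (nat_lit 1508) = true := by decide +kernel
theorem wk8_3 : allR (OT.ckEqW [X13, X13, X13, X14, X12, X12, X10, X15, X13, X10, X12, X10] [X16]) (nat_lit 7308) (nat_lit 2436) = true := by decide +kernel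
theorem wk8_10 : allR (OT.ckEqW [X13, X13, X13, X14, X12, X12, X10, X15, X13, X10, X12, X10] [X16]) (nat_lit 24360) (nat_lit 2436) = true := by decide +kernel
theorem wk9_4 : allR (OT.ckEqW [X10, X15, X15, X11, X12, X10, X14, X11, X15, X10, X12, X10] [X18]) (nat_lit 9744) (nat_lit 2436) = true := by decide +kernel
theorem wk9_11 : allR (OT.ckEqW [X10, X15, X15, X11, X12, X10, X14, X11, X15, X10, X12, X10] [X18]) (nat_lit 26796) (nat_lit 2436) = true := by decide +kernel
theorem wk19_5 : allR (OT.ckEqW [X35, X32, X34, X32, X35, X33, X34, X33, X34, X33, X34, X34] [X38]) (nat_lit 12180) (nat_lit 2436) = true := by decide +kernel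
theorem wk19_12 : allR (OT.ckEqW [X35, X32, X34, X32, X35, X33, X34, X33, X34, X33, X34, X34] [X38]) (nat_lit 29232) (nat_lit 2436) = true := by decide +kernel
theorem wk20_6 : allR (OT.ckEqW [X35, X35, X32, X32, X32, X32, X32, X34, X34, X32, X32, X32] [X40]) (nat_lit 14616) (nat_lit 2436) = true := by decide +kernel
theorem wk23_0 : allR (OT.ckEqW [X39, X39, X36, X40, X36, X38, X37, X38, X41, X37, X39] [X46]) (nat_lit 0) (nat_lit 2639) = true := by decide +kernel
theorem wk23_7 : allR (OT.ckEqW [X39, X39, X36, X40, X36, X38, X37, X38, X41, X37, X39] [X46]) (nat_lit 18473) (nat_lit 2639) = true := by decide +kernel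
theorem wk26_2 : allR (OT.ckEqW [X49, X51, X48, X50, X48, X50, X50, X48, X51, X49, X49, X51, X51, X51, X48, X48, X51, X48, X50, X49] [X52]) (nat_lit 3016) (nat_lit 1508) = true := by decide +kernel
theorem wk26_9 : allR (OT.ckEqW [X49, X51, X48, X50, X48, X50, X50, X48, X51, X49, X49, X51, X51, X51, X48, X48, X51, X48, X50, X49] [X52]) (nat_lit 13572) (nat_lit 1508) = true := by decide +kernel
theorem wk26_16 : allR (OT.ckEqW [X49, X51, X48, X50, X48, X50, X50, X48, X51, X49, X49, X51, X51, X51, X48, X48, X51, X48, X50, X49] [X52]) (nat_lit 24128) (nat_lit 1508) = true := by decide +kernel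
theorem wk27_2 : allR (OT.ckEqW [X51, X48, X51, X49, X51, X48, X48, X48, X50, X50, X49, X49, X51, X51, X51, X51, X49, X50, X48, X48] [X54]) (nat_lit 3016) (nat_lit 1508) = true := by decide +kernel
theorem wk27_9 : allR (OT.ckEqW [X51, X48, X51, X49, X51, X48, X48, X48, X50, X50, X49, X49, X51, X51, X51, X51, X49, X50, X48, X48] [X54]) (nat_lit 13572) (nat_lit 1508) = true := by decide +kernel
theorem wk27_16 : allR (OT.ckEqW [X51, X48, X51, X49, X51, X48, X48, X48, X50, X50, X49, X49, X51, X51, X51, X51, X49, X50, X48, X48] [X54]) (nat_lit 24128) (nat_lit 1508) = true := by decide +kernel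
theorem wk28_2 : allR (OT.ckEqW [X55, X52, X54, X54, X54, X52] [X56]) (nat_lit 9048) (nat_lit 4524) = true := by decide +kernel
theorem wk29_2 : allR (OT.ckEqW [X52, X54, X52, X55, X53, X54, X52, X54, X54, X53, X54, X53] [X58]) (nat_lit 4872) (nat_lit 2436) = true := by decide +kernel
theorem wk29_9 : allR (OT.ckEqW [X52, X54, X52, X55, X53, X54, X52, X54, X54, X53, X54, X53] [X58]) (nat_lit 21924) (nat_lit 2436) = true := by decide +kernel
theorem wk30_3 : allR (OT.ckEqW [X57, X59, X57, X58, X57, X57, X58, X56, X56, X56, X56, X58] [X60]) (nat_lit 7308) (nat_lit 2436) = true := by decide +kernel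
theorem wk30_10 : allR (OT.ckEqW [X57, X59, X57, X58, X57, X57, X58, X56, X56, X56, X56, X58] [X60]) (nat_lit 24360) (nat_lit 2436) = true := by decide +kernel
theorem wk22_6 : allR (OT.ckEqW [X38, X36, X38, X38, X41, X41, X37, X40, X36, X36, X36, X38, X36, X36] [X44]) (nat_lit 12666) (nat_lit 2111) = true := by decide +kernel
theorem wk22_13 : allR (OT.ckEqW [X38, X36, X38, X38, X41, X41, X37, X40, X36, X36, X36, X38, X36, X36] [X44]) (nat_lit 27443) (nat_lit 2111) = true := by decide +kernel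
theorem wk14_6 : allR (OT.ckEqW [X0, X25, X25, X0, X23, X24, X0, X24, X1, X25, X23, X25, X23, X1, X22] [X28]) (nat_lit 11874) (nat_lit 1979) = true := by decide +kernel
theorem wk14_13 : allR (OT.ckEqW [X0, X25, X25, X0, X23, X24, X0, X24, X1, X25, X23, X25, X23, X1, X22] [X28]) (nat_lit 25727) (nat_lit 1979) = true := by decide +kernel
theorem wk15_4 : allR (OT.ckEqW [X24, X24, X0, X0, X24, X1, X23, X24, X22, X0, X25, X0, X25, X25, X0] [X30]) (nat_lit 7916) (nat_lit 1979) = true := by decide +kernel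
theorem wk15_11 : allR (OT.ckEqW [X24, X24, X0, X0, X24, X1, X23, X24, X22, X0, X25, X0, X25, X25, X0] [X30]) (nat_lit 21769) (nat_lit 1979) = true := by decide +kernel
theorem wk16_2 : allR (OT.ckEqW [X30, X30, X29, X29, X29, X30, X30, X29, X31, X31, X28, X28, X28, X30, X28, X28, X31] [X32]) (nat_lit 3518) (nat_lit 1759) = true := by decide +kernel
theorem wk16_8 : allR (OT.ckEqW [X30, X30, X29, X29, X29, X30, X30, X29, X31, X31, X28, X28, X28, X30, X28, X28, X31] [X32]) (nat_lit 14072) (nat_lit 1759) = true := by decide +kernel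
theorem wk16_15 : allR (OT.ckEqW [X30, X30, X29, X29, X29, X30, X30, X29, X31, X31, X28, X28, X28, X30, X28, X28, X31] [X32]) (nat_lit 26385) (nat_lit 1759) = true := by decide +kernel
theorem wk24_4 : allR (OT.ckEqW [X0, X22, X0, X24, X24, X1, X24, X23, X25, X25, X22, X0, X0, X24, X22, X25, X0] [X48]) (nat_lit 7036) (nat_lit 1759) = true := by decide +kernel
theorem wk24_11 : allR (OT.ckEqW [X0, X22, X0, X24, X24, X1, X24, X23, X25, X25, X22, X0, X0, X24, X22, X25, X0] [X48]) (nat_lit 19349) (nat_lit 1759) = true := by decide +kernel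
theorem wk17_0 : allR (OT.ckEqW [X30, X29, X31, X31, X31, X28, X30, X29, X29, X30, X29, X29, X31, X29, X30, X30, X29, X29, X29] [X34]) (nat_lit 0) (nat_lit 1583) = true := by decide +kernel
theorem wk17_3 : allR (OT.ckEqW [X30, X29, X31, X31, X31, X28, X30, X29, X29, X30, X29, X29, X31, X29, X30, X30, X29, X29, X29] [X34]) (nat_lit 4749) (nat_lit 1583) = true := by decide +kernel
theorem wk17_10 : allR (OT.ckEqW [X30, X29, X31, X31, X31, X28, X30, X29, X29, X30, X29, X29, X31, X29, X30, X30, X29, X29, X29] [X34]) (nat_lit 15830) (nat_lit 1583) = true := by decide +kernel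
theorem wk17_17 : allR (OT.ckEqW [X30, X29, X31, X31, X31, X28, X30, X29, X29, X30, X29, X29, X31, X29, X30, X30, X29, X29, X29] [X34]) (nat_lit 26911) (nat_lit 1583) = true := by decide +kernel
theorem wk18_4 : allR (OT.ckEqW [X33, X33, X33, X33, X35, X32, X34, X34, X33, X35, X33, X34, X32, X35, X33, X35, X35, X35, X33] [X36]) (nat_lit 6332) (nat_lit 1583) = true := by decide +kernel
theorem wk18_11 : allR (OT.ckEqW [X33, X33, X33, X33, X35, X32, X34, X34, X33, X35, X33, X34, X32, X35, X33, X35, X35, X35, X33] [X36]) (nat_lit 17413) (nat_lit 1583) = true := by decide +kernel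
theorem wk18_18 : allR (OT.ckEqW [X33, X33, X33, X33, X35, X32, X34, X34, X33, X35, X33, X34, X32, X35, X33, X35, X35, X35, X33] [X36]) (nat_lit 28494) (nat_lit 1583) = true := by decide +kernel
theorem wk7_10 : allR (OT.ckEqW [X6, X9, X7, X9, X6, X9, X7, X9, X6, X8, X8, X8, X8, X8, X7, X8, X8, X7] [X14]) (nat_lit 16660) (nat_lit 1666) = true := by decide +kernel
theorem wk7_17 : allR (OT.ckEqW [X6, X9, X7, X9, X6, X9, X7, X9, X6, X8, X8, X8, X8, X8, X7, X8, X8, X7] [X14]) (nat_lit 28322) (nat_lit 1666) = true := by decide +kernel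
theorem wk11_5 : allR (OT.ckEqW [X16, X18, X12, X11, X12, X8, X7, X8, X6, X9, X6, X6, X9, X7, X2, X4, X3, X4, X3, X3, X5, X5, X2, X4, X4, X2, T7, X1, X1, T9, X1, T4, X1, T8, T9, X0, X0, X0, T3, T2] [X22]) (nat_lit 3860) (nat_lit 772) = true := by decide +kernel
theorem wk11_12 : allR (OT.ckEqW [X16, X18, X12, X11, X12, X8, X7, X8, X6, X9, X6, X6, X9, X7, X2, X4, X3, X4, X3, X3, X5, X5, X2, X4, X4, X2, T7, X1, X1, T9, X1, T4, X1, T8, T9, X0, X0, X0, T3, T2] [X22]) (nat_lit 9264) (nat_lit 772) = true := by decide +kernel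
theorem wk11_19 : allR (OT.ckEqW [X16, X18, X12, X11, X12, X8, X7, X8, X6, X9, X6, X6, X9, X7, X2, X4, X3, X4, X3, X3, X5, X5, X2, X4, X4, X2, T7, X1, X1, T9, X1, T4, X1, T8, T9, X0, X0, X0, T3, T2] [X22]) (nat_lit 14668) (nat_lit 772) = true := by decide +kernel
theorem wk11_26 : allR (OT.ckEqW [X16, X18, X12, X11, X12, X8, X7, X8, X6, X9, X6, X6, X9, X7, X2, X4, X3, X4, X3, X3, X5, X5, X2, X4, X4, X2, T7, X1, X1, T9, X1, T4, X1, T8, T9, X0, X0, X0, T3, T2] [X22]) (nat_lit 20072) (nat_lit 772) = true := by decide +kernel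
theorem wk11_33 : allR (OT.ckEqW [X16, X18, X12, X11, X12, X8, X7, X8, X6, X9, X6, X6, X9, X7, X2, X4, X3, X4, X3, X3, X5, X5, X2, X4, X4, X2, T7, X1, X1, T9, X1, T4, X1, T8, T9, X0, X0, X0, T3, T2] [X22]) (nat_lit 25476) (nat_lit 772) = true := by decide +kernel
theorem wk11_40 : allR (OT.ckEqW [X16, X18, X12, X11, X12, X8, X7, X8, X6, X9, X6, X6, X9, X7, X2, X4, X3, X4, X3, X3, X5, X5, X2, X4, X4, X2, T7, X1, X1, T9, X1, T4, X1, T8, T9, X0, X0, X0, T3, T2] [X22]) (nat_lit 30880) (nat_lit 772) = true := by decide +kernel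
theorem wk12_7 : allR (OT.ckEqW [X18, X20, X15, X10, X10, X13, X10, X8, X6, X6, X8, X8, X8, X8, X7, X2, X4, X2, X4, X3, X4, X3, X4, X4, X3, X5, X3, X5, X3, X3, X3, T7, X1, X1, X1, T8, T3, T4, T9, T8, X0, X0] [X24]) (nat_lit 5152) (nat_lit 736) = true := by decide +kernel
theorem wk12_14 : allR (OT.ckEqW [X18, X20, X15, X10, X10, X13, X10, X8, X6, X6, X8, X8, X8, X8, X7, X2, X4, X2, X4, X3, X4, X3, X4, X4, X3, X5, X3, X5, X3, X3, X3, T7, X1, X1, X1, T8, T3, T4, T9, T8, X0, X0] [X24]) (nat_lit 10304) (nat_lit 736) = true := by decide +kernel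
theorem wk12_21 : allR (OT.ckEqW [X18, X20, X15, X10, X10, X13, X10, X8, X6, X6, X8, X8, X8, X8, X7, X2, X4, X2, X4, X3, X4, X3, X4, X4, X3, X5, X3, X5, X3, X3, X3, T7, X1, X1, X1, T8, T3, T4, T9, T8, X0, X0] [X24]) (nat_lit 15456) (nat_lit 736) = true := by decide +kernel
theorem wk12_28 : allR (OT.ckEqW [X18, X20, X15, X10, X10, X13, X10, X8, X6, X6, X8, X8, X8, X8, X7, X2, X4, X2, X4, X3, X4, X3, X4, X4, X3, X5, X3, X5, X3, X3, X3, T7, X1, X1, X1, T8, T3, T4, T9, T8, X0, X0] [X24]) (nat_lit 20608) (nat_lit 736) = true := by decide +kernel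
theorem wk12_35 : allR (OT.ckEqW [X18, X20, X15, X10, X10, X13, X10, X8, X6, X6, X8, X8, X8, X8, X7, X2, X4, X2, X4, X3, X4, X3, X4, X4, X3, X5, X3, X5, X3, X3, X3, T7, X1, X1, X1, T8, T3, T4, T9, T8, X0, X0] [X24]) (nat_lit 25760) (nat_lit 736) = true := by decide +kernel
theorem wk12_42 : allR (OT.ckEqW [X18, X20, X15, X10, X10, X13, X10, X8, X6, X6, X8, X8, X8, X8, X7, X2, X4, X2, X4, X3, X4, X3, X4, X4, X3, X5, X3, X5, X3, X3, X3, T7, X1, X1, X1, T8, T3, T4, T9, T8, X0, X0] [X24]) (nat_lit 30912) (nat_lit 736) = true := by decide +kernel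
theorem wk24_18 : allR (OT.ckEqW [X0, X22, X0, X24, X24, X1, X24, X23, X25, X25, X22, X0, X0, X24, X22, X25, X0] [X48]) (nat_lit 31662) (nat_lit 9) = true := by decide +kernel
theorem wk15_16 : allR (OT.ckEqW [X24, X24, X0, X0, X24, X1, X23, X24, X22, X0, X25, X0, X25, X25, X0] [X30]) (nat_lit 31664) (nat_lit 7) = true := by decide +kernel
theorem wk27_21 : allR (OT.ckEqW [X51, X48, X51, X49, X51, X48, X48, X48, X50, X50, X49, X49, X51, X51, X51, X51, X49, X50, X48, X48] [X54]) (nat_lit 31668) (nat_lit 3) = true := by decide +kernel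
theorem wk30_13 : allR (OT.ckEqW [X57, X59, X57, X58, X57, X57, X58, X56, X56, X56, X56, X58] [X60]) (nat_lit 31668) (nat_lit 3) = true := by decide +kernel
theorem wk1_6 : allR (OT.ckEqW [X1, T8, T5, T4, T7] [X2]) (nat_lit 31668) (nat_lit 3) = true := by decide +kernel
theorem pk7_2 : allR (ckPerm (nat_lit 31671) X7 X6) (nat_lit 31670) (nat_lit 1) = true := by decide +kernel
theorem pk12_2 : allR (ckPerm (nat_lit 31671) X12 X13) (nat_lit 31670) (nat_lit 1) = true := by decide +kernel
theorem pk17_2 : allR (ckPerm (nat_lit 31671) X17 X16) (nat_lit 31670) (nat_lit 1) = true := by decide +kernel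
theorem pk22_2 : allR (ckPerm (nat_lit 31671) X22 X23) (nat_lit 31670) (nat_lit 1) = true := by decide +kernel
theorem pk27_2 : allR (ckPerm (nat_lit 31671) X27 X26) (nat_lit 31670) (nat_lit 1) = true := by decide +kernel
theorem pk32_2 : allR (ckPerm (nat_lit 31671) X32 X33) (nat_lit 31670) (nat_lit 1) = true := by decide +kernel
theorem pk37_2 : allR (ckPerm (nat_lit 31671) X37 X36) (nat_lit 31670) (nat_lit 1) = true := by decide +kernel
theorem pk42_2 : allR (ckPerm (nat_lit 31671) X42 X43) (nat_lit 31670) (nat_lit 1) = true := by decide +kernel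
theorem pk47_2 : allR (ckPerm (nat_lit 31671) X47 X46) (nat_lit 31670) (nat_lit 1) = true := by decide +kernel
theorem pk52_2 : allR (ckPerm (nat_lit 31671) X52 X53) (nat_lit 31670) (nat_lit 1) = true := by decide +kernel
theorem pk57_2 : allR (ckPerm (nat_lit 31671) X57 X56) (nat_lit 31670) (nat_lit 1) = true := by decide +kernel
theorem pk62_2 : allR (ckPerm (nat_lit 31671) X62 X63) (nat_lit 31670) (nat_lit 1) = true := by decide +kernel

end Cfsg.Agent.H8.Fi23O
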