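import Cfsg.Agent.H8.T.Fi23Oa

set_option Elab.async false
set_option autoImplicit false
set_option linter.all false
set_option maxRecDepth 100000
set_option maxHeartbeats 400000

namespace Cfsg.Agent.H8.Fi23O
open Cfsg.Agent.H8.Fi23t (T0 T1 T2 T3 T4 T5 T6 T7 T8 T9)

theorem wk5_4 : allR (OT.ckEqW [X6, X8, X8, X7, X7, X8, X6, X6, X9, X9, X7, X8, X8, X6, X9, X7] [X10]) (nat_lit 7452) (nat_lit 1863) = true := by decide +kernel
theorem wk5_11 : allR (OT.ckEqW [X6, X8, X8, X7, X7, X8, X6, X6, X9, X9, X7, X8, X8, X6, X9, X7] [X10]) (nat_lit 20493) (nat_lit 1863) = true := by decide +kernel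
theorem wk13_1 : allR (OT.ckEqW [X22, X22] [X26]) (nat_lit 10557) (nat_lit 10557) = true := by decide +kernel
theorem wk25_5 : allR (OT.ckEqW [X1, X23, X1, X23, X24, X1, X25, X1, X25, X23, X0, X0, X25, X0, X25, X1] [X50]) (nat_lit 9315) (nat_lit 1863) = true := by decide +kernel
theorem wk25_12 : allR (OT.ckEqW [X1, X23, X1, X23, X24, X1, X25, X1, X25, X23, X0, X0, X25, X0, X25, X1] [X50]) (nat_lit 22356) (nat_lit 1863) = true := by decide +kernel
theorem pk1_0 : allR (ckPerm (nat_lit 31671) X1 X0) (nat_lit 0) (nat_lit 15835) = true := by decide +kernel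
theorem pk3_1 : allR (ckPerm (nat_lit 31671) X3 X2) (nat_lit 15835) (nat_lit 15835) = true := by decide +kernel
theorem pk7_0 : allR (ckPerm (nat_lit 31671) X7 X6) (nat_lit 0) (nat_lit 15835) = true := by decide +kernel
theorem pk10_1 : allR (ckPerm (nat_lit 31671) X10 X11) (nat_lit 15835) (nat_lit 15835) = true := by decide +kernel
theorem pk14_0 : allR (ckPerm (nat_lit 31671) X14 X15) (nat_lit 0) (nat_lit 15835) = true := by decide +kernel
theorem pk17_1 : allR (ckPerm (nat_lit 31671) X17 X16) (nat_lit 15835) (nat_lit 15835) = true := by decide +kernel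
theorem pk21_0 : allR (ckPerm (nat_lit 31671) X21 X20) (nat_lit 0) (nat_lit 15835) = true := by decide +kernel
theorem pk24_1 : allR (ckPerm (nat_lit 31671) X24 X25) (nat_lit 15835) (nat_lit 15835) = true := by decide +kernel
theorem pk28_0 : allR (ckPerm (nat_lit 31671) X28 X29) (nat_lit 0) (nat_lit 15835) = true := by decide +kernel
theorem pk31_1 : allR (ckPerm (nat_lit 31671) X31 X30) (nat_lit 15835) (nat_lit 15835) = true := by decide +kernel
theorem pk35_0 : allR (ckPerm (nat_lit 31671) X35 X34) (nat_lit 0) (nat_lit 15835) = true := by decide +kernel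
theorem pk38_1 : allR (ckPerm (nat_lit 31671) X38 X39) (nat_lit 15835) (nat_lit 15835) = true := by decide +kernel
theorem pk42_0 : allR (ckPerm (nat_lit 31671) X42 X43) (nat_lit 0) (nat_lit 15835) = true := by decide +kernel
theorem pk45_1 : allR (ckPerm (nat_lit 31671) X45 X44) (nat_lit 15835) (nat_lit 15835) = true := by decide +kernel
theorem pk49_0 : allR (ckPerm (nat_lit 31671) X49 X48) (nat_lit 0) (nat_lit 15835) = true := by decide +kernel
theorem pk52_1 : allR (ckPerm (nat_lit 31671) X52 X53) (nat_lit 15835) (nat_lit 15835) = true := by decide +kernel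
theorem pk56_0 : allR (ckPerm (nat_lit 31671) X56 X57) (nat_lit 0) (nat_lit 15835) = true := by decide +kernel
theorem pk59_1 : allR (ckPerm (nat_lit 31671) X59 X58) (nat_lit 15835) (nat_lit 15835) = true := by decide +kernel
theorem pk63_0 : allR (ckPerm (nat_lit 31671) X63 X62) (nat_lit 0) (nat_lit 15835) = true := by decide +kernel
theorem wk0_5 : allR (OT.ckEqW [T0, T1, T2, T3, T4, T5, T7, T6, T8] [X0]) (nat_lit 15835) (nat_lit 3167) = true := by decide +kernel
theorem wk2_2 : allR (OT.ckEqW [T8, T0, T9, T2] [X4]) (nat_lit 12668) (nat_lit 6334) = true := by decide +kernel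
theorem wk10_2 : allR (OT.ckEqW [X10, X12, X11, X14, X14, X14, X10, X12, X10] [X20]) (nat_lit 6334) (nat_lit 3167) = true := by decide +kernel
theorem wk10_9 : allR (OT.ckEqW [X10, X12, X11, X14, X14, X14, X10, X12, X10] [X20]) (nat_lit 28503) (nat_lit 3167) = true := by decide +kernel
theorem wk21_6 : allR (OT.ckEqW [X39, X37, X37, X38, X40, X37, X37, X38, X41] [X42]) (nat_lit 19002) (nat_lit 3167) = true := by decide +kernel
theorem wk4_4 : allR (OT.ckEqW [X3, X5, X3, X5, X3, X5, X5, X2, X2, X2] [X8]) (nat_lit 11516) (nat_lit 2879) = true := by decide +kernel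
theorem wk31_0 : allR (OT.ckEqW [X59, X56, X56, X58, X57, X59, X59, X59, X57, X58] [X62]) (nat_lit 0) (nat_lit 2879) = true := by decide +kernel
theorem wk31_7 : allR (OT.ckEqW [X59, X56, X56, X58, X57, X59, X59, X59, X57, X58] [X62]) (nat_lit 20153) (nat_lit 2879) = true := by decide +kernel
theorem wk1_3 : allR (OT.ckEqW [X1, T8, T5, T4, T7] [X2]) (nat_lit 15834) (nat_lit 5278) = true := by decide +kernel
theorem wk6_4 : allR (OT.ckEqW [X6, X9, X6, X8, X8, X7, X9, X7, X7, X7, X9, X6, X6, X8, X6, X8, X6, X8, X6, X9] [X12]) (nat_lit 6032) (nat_lit 1508) = true := by decide +kernel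
theorem wk6_11 : allR (OT.ckEqW [X6, X9, X6, X8, X8, X7, X9, X7, X7, X7, X9, X6, X6, X8, X6, X8, X6, X8, X6, X9] [X12]) (nat_lit 16588) (nat_lit 1508) = true := by decide +kernel
theorem wk6_18 : allR (OT.ckEqW [X6, X9, X6, X8, X8, X7, X9, X7, X7, X7, X9, X6, X6, X8, X6, X8, X6, X8, X6, X9] [X12]) (nat_lit 27144) (nat_lit 1508) = true := by decide +kernel
theorem wk8_4 : allR (OT.ckEqW [X13, X13, X13, X14, X12, X12, X10, X15, X13, X10, X12, X10] [X16]) (nat_lit 9744) (nat_lit 2436) = true := by decide +kernel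
theorem wk8_11 : allR (OT.ckEqW [X13, X13, X13, X14, X12, X12, X10, X15, X13, X10, X12, X10] [X16]) (nat_lit 26796) (nat_lit 2436) = true := by decide +kernel
theorem wk9_5 : allR (OT.ckEqW [X10, X15, X15, X11, X12, X10, X14, X11, X15, X10, X12, X10] [X18]) (nat_lit 12180) (nat_lit 2436) = true := by decide +kernel
theorem wk9_12 : allR (OT.ckEqW [X10, X15, X15, X11, X12, X10, X14, X11, X15, X10, X12, X10] [X18]) (nat_lit 29232) (nat_lit 2436) = true := by decide +kernel
theorem wk19_6 : allR (OT.ckEqW [X35, X32, X34, X32, X35, X33, X34, X33, X34, X33, X34, X34] [X38]) (nat_lit 14616) (nat_lit 2436) = true := by decide +kernel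
theorem wk20_0 : allR (OT.ckEqW [X35, X35, X32, X32, X32, X32, X32, X34, X34, X32, X32, X32] [X40]) (nat_lit 0) (nat_lit 2436) = true := by decide +kernel
theorem wk20_7 : allR (OT.ckEqW [X35, X35, X32, X32, X32, X32, X32, X34, X34, X32, X32, X32] [X40]) (nat_lit 17052) (nat_lit 2436) = true := by decide +kernel
theorem wk23_1 : allR (OT.ckEqW [X39, X39, X36, X40, X36, X38, X37, X38, X41, X37, X39] [X46]) (nat_lit 2639) (nat_lit 2639) = true := by decide +kernel
theorem wk23_8 : allR (OT.ckEqW [X39, X39, X36, X40, X36, X38, X37, X38, X41, X37, X39] [X46]) (nat_lit 21112) (nat_lit 2639) = true := by decide +kernel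
theorem wk26_3 : allR (OT.ckEqW [X49, X51, X48, X50, X48, X50, X50, X48, X51, X49, X49, X51, X51, X51, X48, X48, X51, X48, X50, X49] [X52]) (nat_lit 4524) (nat_lit 1508) = true := by decide +kernel
theorem wk26_10 : allR (OT.ckEqW [X49, X51, X48, X50, X48, X50, X50, X48, X51, X49, X49, X51, X51, X51, X48, X48, X51, X48, X50, X49] [X52]) (nat_lit 15080) (nat_lit 1508) = true := by decide +kernel
theorem wk26_17 : allR (OT.ckEqW [X49, X51, X48, X50, X48, X50, X50, X48, X51, X49, X49, X51, X51, X51, X48, X48, X51, X48, X50, X49] [X52]) (nat_lit 25636) (nat_lit 1508) = true := by decide +kernel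
theorem wk27_3 : allR (OT.ckEqW [X51, X48, X51, X49, X51, X48, X48, X48, X50, X50, X49, X49, X51, X51, X51, X51, X49, X50, X48, X48] [X54]) (nat_lit 4524) (nat_lit 1508) = true := by decide +kernel
theorem wk27_10 : allR (OT.ckEqW [X51, X48, X51, X49, X51, X48, X48, X48, X50, X50, X49, X49, X51, X51, X51, X51, X49, X50, X48, X48] [X54]) (nat_lit 15080) (nat_lit 1508) = true := by decide +kernel
theorem wk27_17 : allR (OT.ckEqW [X51, X48, X51, X49, X51, X48, X48, X48, X50, X50, X49, X49, X51, X51, X51, X51, X49, X50, X48, X48] [X54]) (nat_lit 25636) (nat_lit 1508) = true := by decide +kernel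
theorem wk28_3 : allR (OT.ckEqW [X55, X52, X54, X54, X54, X52] [X56]) (nat_lit 13572) (nat_lit 4524) = true := by decide +kernel
theorem wk29_3 : allR (OT.ckEqW [X52, X54, X52, X55, X53, X54, X52, X54, X54, X53, X54, X53] [X58]) (nat_lit 7308) (nat_lit 2436) = true := by decide +kernel
theorem wk29_10 : allR (OT.ckEqW [X52, X54, X52, X55, X53, X54, X52, X54, X54, X53, X54, X53] [X58]) (nat_lit 24360) (nat_lit 2436) = true := by decide +kernel
theorem wk30_4 : allR (OT.ckEqW [X57, X59, X57, X58, X57, X57, X58, X56, X56, X56, X56, X58] [X60]) (nat_lit 9744) (nat_lit 2436) = true := by decide +kernel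
theorem wk30_11 : allR (OT.ckEqW [X57, X59, X57, X58, X57, X57, X58, X56, X56, X56, X56, X58] [X60]) (nat_lit 26796) (nat_lit 2436) = true := by decide +kernel
theorem wk22_7 : allR (OT.ckEqW [X38, X36, X38, X38, X41, X41, X37, X40, X36, X36, X36, X38, X36, X36] [X44]) (nat_lit 14777) (nat_lit 2111) = true := by decide +kernel
theorem wk22_14 : allR (OT.ckEqW [X38, X36, X38, X38, X41, X41, X37, X40, X36, X36, X36, X38, X36, X36] [X44]) (nat_lit 29554) (nat_lit 2111) = true := by decide +kernel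
theorem wk14_7 : allR (OT.ckEqW [X0, X25, X25, X0, X23, X24, X0, X24, X1, X25, X23, X25, X23, X1, X22] [X28]) (nat_lit 13853) (nat_lit 1979) = true := by decide +kernel
theorem wk14_14 : allR (OT.ckEqW [X0, X25, X25, X0, X23, X24, X0, X24, X1, X25, X23, X25, X23, X1, X22] [X28]) (nat_lit 27706) (nat_lit 1979) = true := by decide +kernel
theorem wk15_5 : allR (OT.ckEqW [X24, X24, X0, X0, X24, X1, X23, X24, X22, X0, X25, X0, X25, X25, X0] [X30]) (nat_lit 9895) (nat_lit 1979) = true := by decide +kernel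
theorem wk15_12 : allR (OT.ckEqW [X24, X24, X0, X0, X24, X1, X23, X24, X22, X0, X25, X0, X25, X25, X0] [X30]) (nat_lit 23748) (nat_lit 1979) = true := by decide +kernel
theorem wk16_3 : allR (OT.ckEqW [X30, X30, X29, X29, X29, X30, X30, X29, X31, X31, X28, X28, X28, X30, X28, X28, X31] [X32]) (nat_lit 5277) (nat_lit 1759) = true := by decide +kernel
theorem wk16_9 : allR (OT.ckEqW [X30, X30, X29, X29, X29, X30, X30, X29, X31, X31, X28, X28, X28, X30, X28, X28, X31] [X32]) (nat_lit 15831) (nat_lit 1759) = true := by decide +kernel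
theorem wk16_16 : allR (OT.ckEqW [X30, X30, X29, X29, X29, X30, X30, X29, X31, X31, X28, X28, X28, X30, X28, X28, X31] [X32]) (nat_lit 28144) (nat_lit 1759) = true := by decide +kernel
theorem wk24_5 : allR (OT.ckEqW [X0, X22, X0, X24, X24, X1, X24, X23, X25, X25, X22, X0, X0, X24, X22, X25, X0] [X48]) (nat_lit 8795) (nat_lit 1759) = true := by decide +kernel
theorem wk24_12 : allR (OT.ckEqW [X0, X22, X0, X24, X24, X1, X24, X23, X25, X25, X22, X0, X0, X24, X22, X25, X0] [X48]) (nat_lit 21108) (nat_lit 1759) = true := by decide +kernel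
theorem wk17_1 : allR (OT.ckEqW [X30, X29, X31, X31, X31, X28, X30, X29, X29, X30, X29, X29, X31, X29, X30, X30, X29, X29, X29] [X34]) (nat_lit 1583) (nat_lit 1583) = true := by decide +kernel
theorem wk17_4 : allR (OT.ckEqW [X30, X29, X31, X31, X31, X28, X30, X29, X29, X30, X29, X29, X31, X29, X30, X30, X29, X29, X29] [X34]) (nat_lit 6332) (nat_lit 1583) = true := by decide +kernel
theorem wk17_11 : allR (OT.ckEqW [X30, X29, X31, X31, X31, X28, X30, X29, X29, X30, X29, X29, X31, X29, X30, X30, X29, X29, X29] [X34]) (nat_lit 17413) (nat_lit 1583) = true := by decide +kernel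
theorem wk17_18 : allR (OT.ckEqW [X30, X29, X31, X31, X31, X28, X30, X29, X29, X30, X29, X29, X31, X29, X30, X30, X29, X29, X29] [X34]) (nat_lit 28494) (nat_lit 1583) = true := by decide +kernel
theorem wk18_5 : allR (OT.ckEqW [X33, X33, X33, X33, X35, X32, X34, X34, X33, X35, X33, X34, X32, X35, X33, X35, X35, X35, X33] [X36]) (nat_lit 7915) (nat_lit 1583) = true := by decide +kernel
theorem wk18_12 : allR (OT.ckEqW [X33, X33, X33, X33, X35, X32, X34, X34, X33, X35, X33, X34, X32, X35, X33, X35, X35, X35, X33] [X36]) (nat_lit 18996) (nat_lit 1583) = true := by decide +kernel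
theorem wk18_19 : allR (OT.ckEqW [X33, X33, X33, X33, X35, X32, X34, X34, X33, X35, X33, X34, X32, X35, X33, X35, X35, X35, X33] [X36]) (nat_lit 30077) (nat_lit 1583) = true := by decide +kernel
theorem wk7_11 : allR (OT.ckEqW [X6, X9, X7, X9, X6, X9, X7, X9, X6, X8, X8, X8, X8, X8, X7, X8, X8, X7] [X14]) (nat_lit 18326) (nat_lit 1666) = true := by decide +kernel
theorem wk7_18 : allR (OT.ckEqW [X6, X9, X7, X9, X6, X9, X7, X9, X6, X8, X8, X8, X8, X8, X7, X8, X8, X7] [X14]) (nat_lit 29988) (nat_lit 1666) = true := by decide +kernel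
theorem wk11_6 : allR (OT.ckEqW [X16, X18, X12, X11, X12, X8, X7, X8, X6, X9, X6, X6, X9, X7, X2, X4, X3, X4, X3, X3, X5, X5, X2, X4, X4, X2, T7, X1, X1, T9, X1, T4, X1, T8, T9, X0, X0, X0, T3, T2] [X22]) (nat_lit 4632) (nat_lit 772) = true := by decide +kernel
theorem wk11_13 : allR (OT.ckEqW [X16, X18, X12, X11, X12, X8, X7, X8, X6, X9, X6, X6, X9, X7, X2, X4, X3, X4, X3, X3, X5, X5, X2, X4, X4, X2, T7, X1, X1, T9, X1, T4, X1, T8, T9, X0, X0, X0, T3, T2] [X22]) (nat_lit 10036) (nat_lit 772) = true := by decide +kernel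
theorem wk11_20 : allR (OT.ckEqW [X16, X18, X12, X11, X12, X8, X7, X8, X6, X9, X6, X6, X9, X7, X2, X4, X3, X4, X3, X3, X5, X5, X2, X4, X4, X2, T7, X1, X1, T9, X1, T4, X1, T8, T9, X0, X0, X0, T3, T2] [X22]) (nat_lit 15440) (nat_lit 772) = true := by decide +kernel
theorem wk11_27 : allR (OT.ckEqW [X16, X18, X12, X11, X12, X8, X7, X8, X6, X9, X6, X6, X9, X7, X2, X4, X3, X4, X3, X3, X5, X5, X2, X4, X4, X2, T7, X1, X1, T9, X1, T4, X1, T8, T9, X0, X0, X0, T3, T2] [X22]) (nat_lit 20844) (nat_lit 772) = true := by decide +kernel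
theorem wk11_34 : allR (OT.ckEqW [X16, X18, X12, X11, X12, X8, X7, X8, X6, X9, X6, X6, X9, X7, X2, X4, X3, X4, X3, X3, X5, X5, X2, X4, X4, X2, T7, X1, X1, T9, X1, T4, X1, T8, T9, X0, X0, X0, T3, T2] [X22]) (nat_lit 26248) (nat_lit 772) = true := by decide +kernel
theorem wk12_0 : allR (OT.ckEqW [X18, X20, X15, X10, X10, X13, X10, X8, X6, X6, X8, X8, X8, X8, X7, X2, X4, X2, X4, X3, X4, X3, X4, X4, X3, X5, X3, X5, X3, X3, X3, T7, X1, X1, X1, T8, T3, T4, T9, T8, X0, X0] [X24]) (nat_lit 0) (nat_lit 736) = true := by decide +kernel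
theorem wk12_6 : allR (OT.ckEqW [X18, X20, X15, X10, X10, X13, X10, X8, X6, X6, X8, X8, X8, X8, X7, X2, X4, X2, X4, X3, X4, X3, X4, X4, X3, X5, X3, X5, X3, X3, X3, T7, X1, X1, X1, T8, T3, T4, T9, T8, X0, X0] [X24]) (nat_lit 4416) (nat_lit 736) = true := by decide +kernel
theorem wk12_13 : allR (OT.ckEqW [X18, X20, X15, X10, X10, X13, X10, X8, X6, X6, X8, X8, X8, X8, X7, X2, X4, X2, X4, X3, X4, X3, X4, X4, X3, X5, X3, X5, X3, X3, X3, T7, X1, X1, X1, T8, T3, T4, T9, T8, X0, X0] [X24]) (nat_lit 9568) (nat_lit 736) = true := by decide +kernel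
theorem wk12_20 : allR (OT.ckEqW [X18, X20, X15, X10, X10, X13, X10, X8, X6, X6, X8, X8, X8, X8, X7, X2, X4, X2, X4, X3, X4, X3, X4, X4, X3, X5, X3, X5, X3, X3, X3, T7, X1, X1, X1, T8, T3, T4, T9, T8, X0, X0] [X24]) (nat_lit 14720) (nat_lit 736) = true := by decide +kernel
theorem wk12_27 : allR (OT.ckEqW [X18, X20, X15, X10, X10, X13, X10, X8, X6, X6, X8, X8, X8, X8, X7, X2, X4, X2, X4, X3, X4, X3, X4, X4, X3, X5, X3, X5, X3, X3, X3, T7, X1, X1, X1, T8, T3, T4, T9, T8, X0, X0] [X24]) (nat_lit 19872) (nat_lit 736) = true := by decide +kernel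
theorem wk12_34 : allR (OT.ckEqW [X18, X20, X15, X10, X10, X13, X10, X8, X6, X6, X8, X8, X8, X8, X7, X2, X4, X2, X4, X3, X4, X3, X4, X4, X3, X5, X3, X5, X3, X3, X3, T7, X1, X1, X1, T8, T3, T4, T9, T8, X0, X0] [X24]) (nat_lit 25024) (nat_lit 736) = true := by decide +kernel
theorem wk12_41 : allR (OT.ckEqW [X18, X20, X15, X10, X10, X13, X10, X8, X6, X6, X8, X8, X8, X8, X7, X2, X4, X2, X4, X3, X4, X3, X4, X4, X3, X5, X3, X5, X3, X3, X3, T7, X1, X1, X1, T8, T3, T4, T9, T8, X0, X0] [X24]) (nat_lit 30176) (nat_lit 736) = true := by decide +kernel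
theorem wk16_18 : allR (OT.ckEqW [X30, X30, X29, X29, X29, X30, X30, X29, X31, X31, X28, X28, X28, X30, X28, X28, X31] [X32]) (nat_lit 31662) (nat_lit 9) = true := by decide +kernel
theorem wk14_16 : allR (OT.ckEqW [X0, X25, X25, X0, X23, X24, X0, X24, X1, X25, X23, X25, X23, X1, X22] [X28]) (nat_lit 31664) (nat_lit 7) = true := by decide +kernel
theorem wk26_21 : allR (OT.ckEqW [X49, X51, X48, X50, X48, X50, X50, X48, X51, X49, X49, X51, X51, X51, X48, X48, X51, X48, X50, X49] [X52]) (nat_lit 31668) (nat_lit 3) = true := by decide +kernel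
theorem wk29_13 : allR (OT.ckEqW [X52, X54, X52, X55, X53, X54, X52, X54, X54, X53, X54, X53] [X58]) (nat_lit 31668) (nat_lit 3) = true := by decide +kernel
theorem wk28_7 : allR (OT.ckEqW [X55, X52, X54, X54, X54, X52] [X56]) (nat_lit 31668) (nat_lit 3) = true := by decide +kernel
theorem pk4_2 : allR (ckPerm (nat_lit 31671) X4 X5) (nat_lit 31670) (nat_lit 1) = true := by decide +kernel
theorem pk9_2 : allR (ckPerm (nat_lit 31671) X9 X8) (nat_lit 31670) (nat_lit 1) = true := by decide +kernel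
theorem pk14_2 : allR (ckPerm (nat_lit 31671) X14 X15) (nat_lit 31670) (nat_lit 1) = true := by decide +kernel
theorem pk19_2 : allR (ckPerm (nat_lit 31671) X19 X18) (nat_lit 31670) (nat_lit 1) = true := by decide +kernel
theorem pk24_2 : allR (ckPerm (nat_lit 31671) X24 X25) (nat_lit 31670) (nat_lit 1) = true := by decide +kernel
theorem pk29_2 : allR (ckPerm (nat_lit 31671) X29 X28) (nat_lit 31670) (nat_lit 1) = true := by decide +kernel
theorem pk34_2 : allR (ckPerm (nat_lit 31671) X34 X35) (nat_lit 31670) (nat_lit 1) = true := by decide +kernel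
theorem pk39_2 : allR (ckPerm (nat_lit 31671) X39 X38) (nat_lit 31670) (nat_lit 1) = true := by decide +kernel
theorem pk44_2 : allR (ckPerm (nat_lit 31671) X44 X45) (nat_lit 31670) (nat_lit 1) = true := by decide +kernel
theorem pk49_2 : allR (ckPerm (nat_lit 31671) X49 X48) (nat_lit 31670) (nat_lit 1) = true := by decide +kernel
theorem pk54_2 : allR (ckPerm (nat_lit 31671) X54 X55) (nat_lit 31670) (nat_lit 1) = true := by decide +kernel
theorem pk59_2 : allR (ckPerm (nat_lit 31671) X59 X58) (nat_lit 31670) (nat_lit 1) = true := by decide +kernel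
theorem wk3_2 : allR (OT.ckEqW [X5] [X6]) (nat_lit 31670) (nat_lit 1) = true := by decide +kernel

end Cfsg.Agent.H8.Fi23O
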