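import Cfsg.Agent.H8.T.Fi23Oa

set_option Elab.async false
set_option autoImplicit false
set_option linter.all false
set_option maxRecDepth 100000
set_option maxHeartbeats 400000

namespace Cfsg.Agent.H8.Fi23O
open Cfsg.Agent.H8.Fi23t (T0 T1 T2 T3 T4 T5 T6 T7 T8 T9)

theorem wk5_6 : allR (OT.ckEqW [X6, X8, X8, X7, X7, X8, X6, X6, X9, X9, X7, X8, X8, X6, X9, X7] [X10]) (nat_lit 11178) (nat_lit 1863) = true := by decide +kernel
theorem wk5_13 : allR (OT.ckEqW [X6, X8, X8, X7, X7, X8, X6, X6, X9, X9, X7, X8, X8, X6, X9, X7] [X10]) (nat_lit 24219) (nat_lit 1863) = true := by decide +kernel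
theorem wk25_0 : allR (OT.ckEqW [X1, X23, X1, X23, X24, X1, X25, X1, X25, X23, X0, X0, X25, X0, X25, X1] [X50]) (nat_lit 0) (nat_lit 1863) = true := by decide +kernel
theorem wk25_7 : allR (OT.ckEqW [X1, X23, X1, X23, X24, X1, X25, X1, X25, X23, X0, X0, X25, X0, X25, X1] [X50]) (nat_lit 13041) (nat_lit 1863) = true := by decide +kernel
theorem wk25_14 : allR (OT.ckEqW [X1, X23, X1, X23, X24, X1, X25, X1, X25, X23, X0, X0, X25, X0, X25, X1] [X50]) (nat_lit 26082) (nat_lit 1863) = true := by decide +kernel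
theorem pk2_0 : allR (ckPerm (nat_lit 31671) X2 X3) (nat_lit 0) (nat_lit 15835) = true := by decide +kernel
theorem pk4_1 : allR (ckPerm (nat_lit 31671) X4 X5) (nat_lit 15835) (nat_lit 15835) = true := by decide +kernel
theorem pk8_0 : allR (ckPerm (nat_lit 31671) X8 X9) (nat_lit 0) (nat_lit 15835) = true := by decide +kernel
theorem pk11_1 : allR (ckPerm (nat_lit 31671) X11 X10) (nat_lit 15835) (nat_lit 15835) = true := by decide +kernel
theorem pk15_0 : allR (ckPerm (nat_lit 31671) X15 X14) (nat_lit 0) (nat_lit 15835) = true := by decide +kernel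
theorem pk18_1 : allR (ckPerm (nat_lit 31671) X18 X19) (nat_lit 15835) (nat_lit 15835) = true := by decide +kernel
theorem pk22_0 : allR (ckPerm (nat_lit 31671) X22 X23) (nat_lit 0) (nat_lit 15835) = true := by decide +kernel
theorem pk25_1 : allR (ckPerm (nat_lit 31671) X25 X24) (nat_lit 15835) (nat_lit 15835) = true := by decide +kernel
theorem pk29_0 : allR (ckPerm (nat_lit 31671) X29 X28) (nat_lit 0) (nat_lit 15835) = true := by decide +kernel
theorem pk32_1 : allR (ckPerm (nat_lit 31671) X32 X33) (nat_lit 15835) (nat_lit 15835) = true := by decide +kernel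
theorem pk36_0 : allR (ckPerm (nat_lit 31671) X36 X37) (nat_lit 0) (nat_lit 15835) = true := by decide +kernel
theorem pk39_1 : allR (ckPerm (nat_lit 31671) X39 X38) (nat_lit 15835) (nat_lit 15835) = true := by decide +kernel
theorem pk43_0 : allR (ckPerm (nat_lit 31671) X43 X42) (nat_lit 0) (nat_lit 15835) = true := by decide +kernel
theorem pk46_1 : allR (ckPerm (nat_lit 31671) X46 X47) (nat_lit 15835) (nat_lit 15835) = true := by decide +kernel
theorem pk50_0 : allR (ckPerm (nat_lit 31671) X50 X51) (nat_lit 0) (nat_lit 15835) = true := by decide +kernel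
theorem pk53_1 : allR (ckPerm (nat_lit 31671) X53 X52) (nat_lit 15835) (nat_lit 15835) = true := by decide +kernel
theorem pk57_0 : allR (ckPerm (nat_lit 31671) X57 X56) (nat_lit 0) (nat_lit 15835) = true := by decide +kernel
theorem pk60_1 : allR (ckPerm (nat_lit 31671) X60 X61) (nat_lit 15835) (nat_lit 15835) = true := by decide +kernel
theorem wk0_0 : allR (OT.ckEqW [T0, T1, T2, T3, T4, T5, T7, T6, T8] [X0]) (nat_lit 0) (nat_lit 3167) = true := by decide +kernel
theorem wk0_7 : allR (OT.ckEqW [T0, T1, T2, T3, T4, T5, T7, T6, T8] [X0]) (nat_lit 22169) (nat_lit 3167) = true := by decide +kernel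
theorem wk2_4 : allR (OT.ckEqW [T8, T0, T9, T2] [X4]) (nat_lit 25336) (nat_lit 6334) = true := by decide +kernel
theorem wk10_4 : allR (OT.ckEqW [X10, X12, X11, X14, X14, X14, X10, X12, X10] [X20]) (nat_lit 12668) (nat_lit 3167) = true := by decide +kernel
theorem wk21_1 : allR (OT.ckEqW [X39, X37, X37, X38, X40, X37, X37, X38, X41] [X42]) (nat_lit 3167) (nat_lit 3167) = true := by decide +kernel
theorem wk21_8 : allR (OT.ckEqW [X39, X37, X37, X38, X40, X37, X37, X38, X41] [X42]) (nat_lit 25336) (nat_lit 3167) = true := by decide +kernel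
theorem wk4_6 : allR (OT.ckEqW [X3, X5, X3, X5, X3, X5, X5, X2, X2, X2] [X8]) (nat_lit 17274) (nat_lit 2879) = true := by decide +kernel
theorem wk31_2 : allR (OT.ckEqW [X59, X56, X56, X58, X57, X59, X59, X59, X57, X58] [X62]) (nat_lit 5758) (nat_lit 2879) = true := by decide +kernel
theorem wk31_9 : allR (OT.ckEqW [X59, X56, X56, X58, X57, X59, X59, X59, X57, X58] [X62]) (nat_lit 25911) (nat_lit 2879) = true := by decide +kernel
theorem wk1_5 : allR (OT.ckEqW [X1, T8, T5, T4, T7] [X2]) (nat_lit 26390) (nat_lit 5278) = true := by decide +kernel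
theorem wk6_6 : allR (OT.ckEqW [X6, X9, X6, X8, X8, X7, X9, X7, X7, X7, X9, X6, X6, X8, X6, X8, X6, X8, X6, X9] [X12]) (nat_lit 9048) (nat_lit 1508) = true := by decide +kernel
theorem wk6_13 : allR (OT.ckEqW [X6, X9, X6, X8, X8, X7, X9, X7, X7, X7, X9, X6, X6, X8, X6, X8, X6, X8, X6, X9] [X12]) (nat_lit 19604) (nat_lit 1508) = true := by decide +kernel
theorem wk6_20 : allR (OT.ckEqW [X6, X9, X6, X8, X8, X7, X9, X7, X7, X7, X9, X6, X6, X8, X6, X8, X6, X8, X6, X9] [X12]) (nat_lit 30160) (nat_lit 1508) = true := by decide +kernel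
theorem wk8_6 : allR (OT.ckEqW [X13, X13, X13, X14, X12, X12, X10, X15, X13, X10, X12, X10] [X16]) (nat_lit 14616) (nat_lit 2436) = true := by decide +kernel
theorem wk9_0 : allR (OT.ckEqW [X10, X15, X15, X11, X12, X10, X14, X11, X15, X10, X12, X10] [X18]) (nat_lit 0) (nat_lit 2436) = true := by decide +kernel
theorem wk9_7 : allR (OT.ckEqW [X10, X15, X15, X11, X12, X10, X14, X11, X15, X10, X12, X10] [X18]) (nat_lit 17052) (nat_lit 2436) = true := by decide +kernel
theorem wk19_1 : allR (OT.ckEqW [X35, X32, X34, X32, X35, X33, X34, X33, X34, X33, X34, X34] [X38]) (nat_lit 2436) (nat_lit 2436) = true := by decide +kernel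
theorem wk19_8 : allR (OT.ckEqW [X35, X32, X34, X32, X35, X33, X34, X33, X34, X33, X34, X34] [X38]) (nat_lit 19488) (nat_lit 2436) = true := by decide +kernel
theorem wk20_2 : allR (OT.ckEqW [X35, X35, X32, X32, X32, X32, X32, X34, X34, X32, X32, X32] [X40]) (nat_lit 4872) (nat_lit 2436) = true := by decide +kernel
theorem wk20_9 : allR (OT.ckEqW [X35, X35, X32, X32, X32, X32, X32, X34, X34, X32, X32, X32] [X40]) (nat_lit 21924) (nat_lit 2436) = true := by decide +kernel
theorem wk23_3 : allR (OT.ckEqW [X39, X39, X36, X40, X36, X38, X37, X38, X41, X37, X39] [X46]) (nat_lit 7917) (nat_lit 2639) = true := by decide +kernel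
theorem wk23_10 : allR (OT.ckEqW [X39, X39, X36, X40, X36, X38, X37, X38, X41, X37, X39] [X46]) (nat_lit 26390) (nat_lit 2639) = true := by decide +kernel
theorem wk26_5 : allR (OT.ckEqW [X49, X51, X48, X50, X48, X50, X50, X48, X51, X49, X49, X51, X51, X51, X48, X48, X51, X48, X50, X49] [X52]) (nat_lit 7540) (nat_lit 1508) = true := by decide +kernel
theorem wk26_12 : allR (OT.ckEqW [X49, X51, X48, X50, X48, X50, X50, X48, X51, X49, X49, X51, X51, X51, X48, X48, X51, X48, X50, X49] [X52]) (nat_lit 18096) (nat_lit 1508) = true := by decide +kernel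
theorem wk26_19 : allR (OT.ckEqW [X49, X51, X48, X50, X48, X50, X50, X48, X51, X49, X49, X51, X51, X51, X48, X48, X51, X48, X50, X49] [X52]) (nat_lit 28652) (nat_lit 1508) = true := by decide +kernel
theorem wk27_5 : allR (OT.ckEqW [X51, X48, X51, X49, X51, X48, X48, X48, X50, X50, X49, X49, X51, X51, X51, X51, X49, X50, X48, X48] [X54]) (nat_lit 7540) (nat_lit 1508) = true := by decide +kernel
theorem wk27_12 : allR (OT.ckEqW [X51, X48, X51, X49, X51, X48, X48, X48, X50, X50, X49, X49, X51, X51, X51, X51, X49, X50, X48, X48] [X54]) (nat_lit 18096) (nat_lit 1508) = true := by decide +kernel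
theorem wk27_19 : allR (OT.ckEqW [X51, X48, X51, X49, X51, X48, X48, X48, X50, X50, X49, X49, X51, X51, X51, X51, X49, X50, X48, X48] [X54]) (nat_lit 28652) (nat_lit 1508) = true := by decide +kernel
theorem wk28_5 : allR (OT.ckEqW [X55, X52, X54, X54, X54, X52] [X56]) (nat_lit 22620) (nat_lit 4524) = true := by decide +kernel
theorem wk29_5 : allR (OT.ckEqW [X52, X54, X52, X55, X53, X54, X52, X54, X54, X53, X54, X53] [X58]) (nat_lit 12180) (nat_lit 2436) = true := by decide +kernel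
theorem wk29_12 : allR (OT.ckEqW [X52, X54, X52, X55, X53, X54, X52, X54, X54, X53, X54, X53] [X58]) (nat_lit 29232) (nat_lit 2436) = true := by decide +kernel
theorem wk30_6 : allR (OT.ckEqW [X57, X59, X57, X58, X57, X57, X58, X56, X56, X56, X56, X58] [X60]) (nat_lit 14616) (nat_lit 2436) = true := by decide +kernel
theorem wk22_0 : allR (OT.ckEqW [X38, X36, X38, X38, X41, X41, X37, X40, X36, X36, X36, X38, X36, X36] [X44]) (nat_lit 0) (nat_lit 2111) = true := by decide +kernel
theorem wk22_2 : allR (OT.ckEqW [X38, X36, X38, X38, X41, X41, X37, X40, X36, X36, X36, X38, X36, X36] [X44]) (nat_lit 4222) (nat_lit 2111) = true := by decide +kernel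
theorem wk22_9 : allR (OT.ckEqW [X38, X36, X38, X38, X41, X41, X37, X40, X36, X36, X36, X38, X36, X36] [X44]) (nat_lit 18999) (nat_lit 2111) = true := by decide +kernel
theorem wk14_1 : allR (OT.ckEqW [X0, X25, X25, X0, X23, X24, X0, X24, X1, X25, X23, X25, X23, X1, X22] [X28]) (nat_lit 1979) (nat_lit 1979) = true := by decide +kernel
theorem wk14_8 : allR (OT.ckEqW [X0, X25, X25, X0, X23, X24, X0, X24, X1, X25, X23, X25, X23, X1, X22] [X28]) (nat_lit 15832) (nat_lit 1979) = true := by decide +kernel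
theorem wk14_15 : allR (OT.ckEqW [X0, X25, X25, X0, X23, X24, X0, X24, X1, X25, X23, X25, X23, X1, X22] [X28]) (nat_lit 29685) (nat_lit 1979) = true := by decide +kernel
theorem wk15_6 : allR (OT.ckEqW [X24, X24, X0, X0, X24, X1, X23, X24, X22, X0, X25, X0, X25, X25, X0] [X30]) (nat_lit 11874) (nat_lit 1979) = true := by decide +kernel
theorem wk15_13 : allR (OT.ckEqW [X24, X24, X0, X0, X24, X1, X23, X24, X22, X0, X25, X0, X25, X25, X0] [X30]) (nat_lit 25727) (nat_lit 1979) = true := by decide +kernel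
theorem wk16_4 : allR (OT.ckEqW [X30, X30, X29, X29, X29, X30, X30, X29, X31, X31, X28, X28, X28, X30, X28, X28, X31] [X32]) (nat_lit 7036) (nat_lit 1759) = true := by decide +kernel
theorem wk16_11 : allR (OT.ckEqW [X30, X30, X29, X29, X29, X30, X30, X29, X31, X31, X28, X28, X28, X30, X28, X28, X31] [X32]) (nat_lit 19349) (nat_lit 1759) = true := by decide +kernel
theorem wk24_0 : allR (OT.ckEqW [X0, X22, X0, X24, X24, X1, X24, X23, X25, X25, X22, X0, X0, X24, X22, X25, X0] [X48]) (nat_lit 0) (nat_lit 1759) = true := by decide +kernel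
theorem wk24_7 : allR (OT.ckEqW [X0, X22, X0, X24, X24, X1, X24, X23, X25, X25, X22, X0, X0, X24, X22, X25, X0] [X48]) (nat_lit 12313) (nat_lit 1759) = true := by decide +kernel
theorem wk24_14 : allR (OT.ckEqW [X0, X22, X0, X24, X24, X1, X24, X23, X25, X25, X22, X0, X0, X24, X22, X25, X0] [X48]) (nat_lit 24626) (nat_lit 1759) = true := by decide +kernel
theorem wk17_6 : allR (OT.ckEqW [X30, X29, X31, X31, X31, X28, X30, X29, X29, X30, X29, X29, X31, X29, X30, X30, X29, X29, X29] [X34]) (nat_lit 9498) (nat_lit 1583) = true := by decide +kernel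
theorem wk17_13 : allR (OT.ckEqW [X30, X29, X31, X31, X31, X28, X30, X29, X29, X30, X29, X29, X31, X29, X30, X30, X29, X29, X29] [X34]) (nat_lit 20579) (nat_lit 1583) = true := by decide +kernel
theorem wk18_0 : allR (OT.ckEqW [X33, X33, X33, X33, X35, X32, X34, X34, X33, X35, X33, X34, X32, X35, X33, X35, X35, X35, X33] [X36]) (nat_lit 0) (nat_lit 1583) = true := by decide +kernel
theorem wk18_7 : allR (OT.ckEqW [X33, X33, X33, X33, X35, X32, X34, X34, X33, X35, X33, X34, X32, X35, X33, X35, X35, X35, X33] [X36]) (nat_lit 11081) (nat_lit 1583) = true := by decide +kernel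
theorem wk18_14 : allR (OT.ckEqW [X33, X33, X33, X33, X35, X32, X34, X34, X33, X35, X33, X34, X32, X35, X33, X35, X35, X35, X33] [X36]) (nat_lit 22162) (nat_lit 1583) = true := by decide +kernel
theorem wk7_1 : allR (OT.ckEqW [X6, X9, X7, X9, X6, X9, X7, X9, X6, X8, X8, X8, X8, X8, X7, X8, X8, X7] [X14]) (nat_lit 1666) (nat_lit 1666) = true := by decide +kernel
theorem wk7_6 : allR (OT.ckEqW [X6, X9, X7, X9, X6, X9, X7, X9, X6, X8, X8, X8, X8, X8, X7, X8, X8, X7] [X14]) (nat_lit 9996) (nat_lit 1666) = true := by decide +kernel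
theorem wk7_13 : allR (OT.ckEqW [X6, X9, X7, X9, X6, X9, X7, X9, X6, X8, X8, X8, X8, X8, X7, X8, X8, X7] [X14]) (nat_lit 21658) (nat_lit 1666) = true := by decide +kernel
theorem wk11_1 : allR (OT.ckEqW [X16, X18, X12, X11, X12, X8, X7, X8, X6, X9, X6, X6, X9, X7, X2, X4, X3, X4, X3, X3, X5, X5, X2, X4, X4, X2, T7, X1, X1, T9, X1, T4, X1, T8, T9, X0, X0, X0, T3, T2] [X22]) (nat_lit 772) (nat_lit 772) = true := by decide +kernel
theorem wk11_8 : allR (OT.ckEqW [X16, X18, X12, X11, X12, X8, X7, X8, X6, X9, X6, X6, X9, X7, X2, X4, X3, X4, X3, X3, X5, X5, X2, X4, X4, X2, T7, X1, X1, T9, X1, T4, X1, T8, T9, X0, X0, X0, T3, T2] [X22]) (nat_lit 6176) (nat_lit 772) = true := by decide +kernel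
theorem wk11_15 : allR (OT.ckEqW [X16, X18, X12, X11, X12, X8, X7, X8, X6, X9, X6, X6, X9, X7, X2, X4, X3, X4, X3, X3, X5, X5, X2, X4, X4, X2, T7, X1, X1, T9, X1, T4, X1, T8, T9, X0, X0, X0, T3, T2] [X22]) (nat_lit 11580) (nat_lit 772) = true := by decide +kernel
theorem wk11_22 : allR (OT.ckEqW [X16, X18, X12, X11, X12, X8, X7, X8, X6, X9, X6, X6, X9, X7, X2, X4, X3, X4, X3, X3, X5, X5, X2, X4, X4, X2, T7, X1, X1, T9, X1, T4, X1, T8, T9, X0, X0, X0, T3, T2] [X22]) (nat_lit 16984) (nat_lit 772) = true := by decide +kernel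
theorem wk11_29 : allR (OT.ckEqW [X16, X18, X12, X11, X12, X8, X7, X8, X6, X9, X6, X6, X9, X7, X2, X4, X3, X4, X3, X3, X5, X5, X2, X4, X4, X2, T7, X1, X1, T9, X1, T4, X1, T8, T9, X0, X0, X0, T3, T2] [X22]) (nat_lit 22388) (nat_lit 772) = true := by decide +kernel
theorem wk11_36 : allR (OT.ckEqW [X16, X18, X12, X11, X12, X8, X7, X8, X6, X9, X6, X6, X9, X7, X2, X4, X3, X4, X3, X3, X5, X5, X2, X4, X4, X2, T7, X1, X1, T9, X1, T4, X1, T8, T9, X0, X0, X0, T3, T2] [X22]) (nat_lit 27792) (nat_lit 772) = true := by decide +kernel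
theorem wk12_2 : allR (OT.ckEqW [X18, X20, X15, X10, X10, X13, X10, X8, X6, X6, X8, X8, X8, X8, X7, X2, X4, X2, X4, X3, X4, X3, X4, X4, X3, X5, X3, X5, X3, X3, X3, T7, X1, X1, X1, T8, T3, T4, T9, T8, X0, X0] [X24]) (nat_lit 1472) (nat_lit 736) = true := by decide +kernel
theorem wk12_9 : allR (OT.ckEqW [X18, X20, X15, X10, X10, X13, X10, X8, X6, X6, X8, X8, X8, X8, X7, X2, X4, X2, X4, X3, X4, X3, X4, X4, X3, X5, X3, X5, X3, X3, X3, T7, X1, X1, X1, T8, T3, T4, T9, T8, X0, X0] [X24]) (nat_lit 6624) (nat_lit 736) = true := by decide +kernel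
theorem wk12_16 : allR (OT.ckEqW [X18, X20, X15, X10, X10, X13, X10, X8, X6, X6, X8, X8, X8, X8, X7, X2, X4, X2, X4, X3, X4, X3, X4, X4, X3, X5, X3, X5, X3, X3, X3, T7, X1, X1, X1, T8, T3, T4, T9, T8, X0, X0] [X24]) (nat_lit 11776) (nat_lit 736) = true := by decide +kernel
theorem wk12_23 : allR (OT.ckEqW [X18, X20, X15, X10, X10, X13, X10, X8, X6, X6, X8, X8, X8, X8, X7, X2, X4, X2, X4, X3, X4, X3, X4, X4, X3, X5, X3, X5, X3, X3, X3, T7, X1, X1, X1, T8, T3, T4, T9, T8, X0, X0] [X24]) (nat_lit 16928) (nat_lit 736) = true := by decide +kernel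
theorem wk12_30 : allR (OT.ckEqW [X18, X20, X15, X10, X10, X13, X10, X8, X6, X6, X8, X8, X8, X8, X7, X2, X4, X2, X4, X3, X4, X3, X4, X4, X3, X5, X3, X5, X3, X3, X3, T7, X1, X1, X1, T8, T3, T4, T9, T8, X0, X0] [X24]) (nat_lit 22080) (nat_lit 736) = true := by decide +kernel
theorem wk12_37 : allR (OT.ckEqW [X18, X20, X15, X10, X10, X13, X10, X8, X6, X6, X8, X8, X8, X8, X7, X2, X4, X2, X4, X3, X4, X3, X4, X4, X3, X5, X3, X5, X3, X3, X3, T7, X1, X1, X1, T8, T3, T4, T9, T8, X0, X0] [X24]) (nat_lit 27232) (nat_lit 736) = true := by decide +kernel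
theorem wk11_41 : allR (OT.ckEqW [X16, X18, X12, X11, X12, X8, X7, X8, X6, X9, X6, X6, X9, X7, X2, X4, X3, X4, X3, X3, X5, X5, X2, X4, X4, X2, T7, X1, X1, T9, X1, T4, X1, T8, T9, X0, X0, X0, T3, T2] [X22]) (nat_lit 31652) (nat_lit 19) = true := by decide +kernel

end Cfsg.Agent.H8.Fi23O
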