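import Cfsg.Agent.H8.T.Fi23tTab

set_option autoImplicit false
set_option linter.all false
set_option maxRecDepth 100000

namespace Cfsg.Agent.H8.Fi23t
theorem rk45 : allR (fun i => powT [T3, T2, T1, T3, T4, T5, T3, T8, T9] i (nat_lit 10) i) (nat_lit 0) (nat_lit 0x7bb7) = true := by decide +kernel

end Cfsg.Agent.H8.Fi23t
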