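import Cfsg.Agent.H8.T.Fi23tTab

set_option autoImplicit false
set_option linter.all false
set_option maxRecDepth 100000

namespace Cfsg.Agent.H8.Fi23t
theorem rk46 : allR (fun i => powT [T0, T1, T2, T3, T4, T5, T8] i (nat_lit 9) i) (nat_lit 0) (nat_lit 0x7bb7) = true := by decide +kernel

end Cfsg.Agent.H8.Fi23t
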