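import Cfsg.Agent.H8.T.Fi23tTab

set_option autoImplicit false
set_option linter.all false
set_option maxRecDepth 100000

namespace Cfsg.Agent.H8.Fi23t
theorem rk0 : allR (fun i => powT [T0, T1] i (nat_lit 3) i) (nat_lit 0) (nat_lit 0x7bb7) = true := by decide +kernel
theorem rk7 : allR (fun i => powT [T0, T9] i (nat_lit 2) i) (nat_lit 0) (nat_lit 0x7bb7) = true := by decide +kernel
theorem rk12 : allR (fun i => powT [T1, T5] i (nat_lit 2) i) (nat_lit 0) (nat_lit 0x7bb7) = true := by decide +kernel
theorem rk16 : allR (fun i => powT [T1, T7] i (nat_lit 2) i) (nat_lit 0) (nat_lit 0x7bb7) = true := by decide +kernel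
theorem rk21 : allR (fun i => powT [T2, T8] i (nat_lit 2) i) (nat_lit 0) (nat_lit 0x7bb7) = true := by decide +kernel
theorem rk26 : allR (fun i => powT [T3, T6] i (nat_lit 2) i) (nat_lit 0) (nat_lit 0x7bb7) = true := by decide +kernel
theorem rk27 : allR (fun i => powT [T3, T8] i (nat_lit 3) i) (nat_lit 0) (nat_lit 0x7bb7) = true := by decide +kernel
theorem rk32 : allR (fun i => powT [T4, T8] i (nat_lit 2) i) (nat_lit 0) (nat_lit 0x7bb7) = true := by decide +kernel
theorem rk37 : allR (fun i => powT [T5, T9] i (nat_lit 2) i) (nat_lit 0) (nat_lit 0x7bb7) = true := by decide +kernel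
theorem rk42 : allR (fun i => powT [T8, T9] i (nat_lit 3) i) (nat_lit 0) (nat_lit 0x7bb7) = true := by decide +kernel
theorem rk43 : allR (fun i => powT [T8, T7] i (nat_lit 2) i) (nat_lit 0) (nat_lit 0x7bb7) = true := by decide +kernel

end Cfsg.Agent.H8.Fi23t
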