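import Cfsg.Agent.H8.T.Fi23Oc0
import Cfsg.Agent.H8.T.Fi23Oc1
import Cfsg.Agent.H8.T.Fi23Oc2
import Cfsg.Agent.H8.T.Fi23Oc3
import Cfsg.Agent.H8.T.Fi23Oc4
import Cfsg.Agent.H8.T.Fi23Oc5
import Cfsg.Agent.H8.T.Fi23Oc6
import Cfsg.Agent.H8.CosetGlue
import Cfsg.Agent.H8.T.Fi23tP

set_option Elab.async false
set_option autoImplicit false
set_option linter.all false
set_option maxRecDepth 100000
set_option maxHeartbeats 400000

namespace Cfsg.Agent.H8.Fi23O
open Cfsg.Agent.H8.Fi23t (T0 T1 T2 T3 T4 T5 T6 T7 T8 T9)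

theorem pk0 : allR (ckPerm (nat_lit 31671) X0 X1) (nat_lit 0) (nat_lit 31671) = true := by
  apply allR_of_forall
  intro i hi
  have hi : i < 31671 := hi
  rcases Nat.lt_or_ge i 15835 with h0 | h0
  · exact allR_spec _ (0 : ℕ) (15835 : ℕ) pk0_0 i (by omega) (by omega)
  rcases Nat.lt_or_ge i 31670 with h1 | h1
  · exact allR_spec _ (15835 : ℕ) (15835 : ℕ) pk0_1 i (by omega) (by omega)
  exact allR_spec _ (31670 : ℕ) (1 : ℕ) pk0_2 i (by omega) (by omega)
theorem pk1 : allR (ckPerm (nat_lit 31671) X1 X0) (nat_lit 0) (nat_lit 31671) = true := by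
  apply allR_of_forall
  intro i hi
  have hi : i < 31671 := hi
  rcases Nat.lt_or_ge i 15835 with h0 | h0
  · exact allR_spec _ (0 : ℕ) (15835 : ℕ) pk1_0 i (by omega) (by omega)
  rcases Nat.lt_or_ge i 31670 with h1 | h1
  · exact allR_spec _ (15835 : ℕ) (15835 : ℕ) pk1_1 i (by omega) (by omega)
  exact allR_spec _ (31670 : ℕ) (1 : ℕ) pk1_2 i (by omega) (by omega)
theorem pk2 : allR (ckPerm (nat_lit 31671) X2 X3) (nat_lit 0) (nat_lit 31671) = true := by
  apply allR_of_forall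
  intro i hi
  have hi : i < 31671 := hi
  rcases Nat.lt_or_ge i 15835 with h0 | h0
  · exact allR_spec _ (0 : ℕ) (15835 : ℕ) pk2_0 i (by omega) (by omega)
  rcases Nat.lt_or_ge i 31670 with h1 | h1
  · exact allR_spec _ (15835 : ℕ) (15835 : ℕ) pk2_1 i (by omega) (by omega)
  exact allR_spec _ (31670 : ℕ) (1 : ℕ) pk2_2 i (by omega) (by omega)
theorem pk3 : allR (ckPerm (nat_lit 31671) X3 X2) (nat_lit 0) (nat_lit 31671) = true := by
  apply allR_of_forall
  intro i hi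
  have hi : i < 31671 := hi
  rcases Nat.lt_or_ge i 15835 with h0 | h0
  · exact allR_spec _ (0 : ℕ) (15835 : ℕ) pk3_0 i (by omega) (by omega)
  rcases Nat.lt_or_ge i 31670 with h1 | h1
  · exact allR_spec _ (15835 : ℕ) (15835 : ℕ) pk3_1 i (by omega) (by omega)
  exact allR_spec _ (31670 : ℕ) (1 : ℕ) pk3_2 i (by omega) (by omega)
theorem pk4 : allR (ckPerm (nat_lit 31671) X4 X5) (nat_lit 0) (nat_lit 31671) = true := by
  apply allR_of_forall
  intro i hi
  have hi : i < 31671 := hi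
  rcases Nat.lt_or_ge i 15835 with h0 | h0
  · exact allR_spec _ (0 : ℕ) (15835 : ℕ) pk4_0 i (by omega) (by omega)
  rcases Nat.lt_or_ge i 31670 with h1 | h1
  · exact allR_spec _ (15835 : ℕ) (15835 : ℕ) pk4_1 i (by omega) (by omega)
  exact allR_spec _ (31670 : ℕ) (1 : ℕ) pk4_2 i (by omega) (by omega)
theorem pk5 : allR (ckPerm (nat_lit 31671) X5 X4) (nat_lit 0) (nat_lit 31671) = true := by
  apply allR_of_forall
  intro i hi
  have hi : i < 31671 := hi
  rcases Nat.lt_or_ge i 15835 with h0 | h0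
  · exact allR_spec _ (0 : ℕ) (15835 : ℕ) pk5_0 i (by omega) (by omega)
  rcases Nat.lt_or_ge i 31670 with h1 | h1
  · exact allR_spec _ (15835 : ℕ) (15835 : ℕ) pk5_1 i (by omega) (by omega)
  exact allR_spec _ (31670 : ℕ) (1 : ℕ) pk5_2 i (by omega) (by omega)
theorem pk6 : allR (ckPerm (nat_lit 31671) X6 X7) (nat_lit 0) (nat_lit 31671) = true := by
  apply allR_of_forall
  intro i hi
  have hi : i < 31671 := hi
  rcases Nat.lt_or_ge i 15835 with h0 | h0
  · exact allR_spec _ (0 : ℕ) (15835 : ℕ) pk6_0 i (by omega) (by omega)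
  rcases Nat.lt_or_ge i 31670 with h1 | h1
  · exact allR_spec _ (15835 : ℕ) (15835 : ℕ) pk6_1 i (by omega) (by omega)
  exact allR_spec _ (31670 : ℕ) (1 : ℕ) pk6_2 i (by omega) (by omega)
theorem pk7 : allR (ckPerm (nat_lit 31671) X7 X6) (nat_lit 0) (nat_lit 31671) = true := by
  apply allR_of_forall
  intro i hi
  have hi : i < 31671 := hi
  rcases Nat.lt_or_ge i 15835 with h0 | h0
  · exact allR_spec _ (0 : ℕ) (15835 : ℕ) pk7_0 i (by omega) (by omega)
  rcases Nat.lt_or_ge i 31670 with h1 | h1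
  · exact allR_spec _ (15835 : ℕ) (15835 : ℕ) pk7_1 i (by omega) (by omega)
  exact allR_spec _ (31670 : ℕ) (1 : ℕ) pk7_2 i (by omega) (by omega)
theorem pk8 : allR (ckPerm (nat_lit 31671) X8 X9) (nat_lit 0) (nat_lit 31671) = true := by
  apply allR_of_forall
  intro i hi
  have hi : i < 31671 := hi
  rcases Nat.lt_or_ge i 15835 with h0 | h0
  · exact allR_spec _ (0 : ℕ) (15835 : ℕ) pk8_0 i (by omega) (by omega)
  rcases Nat.lt_or_ge i 31670 with h1 | h1
  · exact allR_spec _ (15835 : ℕ) (15835 : ℕ) pk8_1 i (by omega) (by omega)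
  exact allR_spec _ (31670 : ℕ) (1 : ℕ) pk8_2 i (by omega) (by omega)
theorem pk9 : allR (ckPerm (nat_lit 31671) X9 X8) (nat_lit 0) (nat_lit 31671) = true := by
  apply allR_of_forall
  intro i hi
  have hi : i < 31671 := hi
  rcases Nat.lt_or_ge i 15835 with h0 | h0
  · exact allR_spec _ (0 : ℕ) (15835 : ℕ) pk9_0 i (by omega) (by omega)
  rcases Nat.lt_or_ge i 31670 with h1 | h1
  · exact allR_spec _ (15835 : ℕ) (15835 : ℕ) pk9_1 i (by omega) (by omega)
  exact allR_spec _ (31670 : ℕ) (1 : ℕ) pk9_2 i (by omega) (by omega)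
theorem pk10 : allR (ckPerm (nat_lit 31671) X10 X11) (nat_lit 0) (nat_lit 31671) = true := by
  apply allR_of_forall
  intro i hi
  have hi : i < 31671 := hi
  rcases Nat.lt_or_ge i 15835 with h0 | h0
  · exact allR_spec _ (0 : ℕ) (15835 : ℕ) pk10_0 i (by omega) (by omega)
  rcases Nat.lt_or_ge i 31670 with h1 | h1
  · exact allR_spec _ (15835 : ℕ) (15835 : ℕ) pk10_1 i (by omega) (by omega)
  exact allR_spec _ (31670 : ℕ) (1 : ℕ) pk10_2 i (by omega) (by omega)
theorem pk11 : allR (ckPerm (nat_lit 31671) X11 X10) (nat_lit 0) (nat_lit 31671) = true := by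
  apply allR_of_forall
  intro i hi
  have hi : i < 31671 := hi
  rcases Nat.lt_or_ge i 15835 with h0 | h0
  · exact allR_spec _ (0 : ℕ) (15835 : ℕ) pk11_0 i (by omega) (by omega)
  rcases Nat.lt_or_ge i 31670 with h1 | h1
  · exact allR_spec _ (15835 : ℕ) (15835 : ℕ) pk11_1 i (by omega) (by omega)
  exact allR_spec _ (31670 : ℕ) (1 : ℕ) pk11_2 i (by omega) (by omega)
theorem pk12 : allR (ckPerm (nat_lit 31671) X12 X13) (nat_lit 0) (nat_lit 31671) = true := by
  apply allR_of_forall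
  intro i hi
  have hi : i < 31671 := hi
  rcases Nat.lt_or_ge i 15835 with h0 | h0
  · exact allR_spec _ (0 : ℕ) (15835 : ℕ) pk12_0 i (by omega) (by omega)
  rcases Nat.lt_or_ge i 31670 with h1 | h1
  · exact allR_spec _ (15835 : ℕ) (15835 : ℕ) pk12_1 i (by omega) (by omega)
  exact allR_spec _ (31670 : ℕ) (1 : ℕ) pk12_2 i (by omega) (by omega)
theorem pk13 : allR (ckPerm (nat_lit 31671) X13 X12) (nat_lit 0) (nat_lit 31671) = true := by
  apply allR_of_forall
  intro i hi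
  have hi : i < 31671 := hi
  rcases Nat.lt_or_ge i 15835 with h0 | h0
  · exact allR_spec _ (0 : ℕ) (15835 : ℕ) pk13_0 i (by omega) (by omega)
  rcases Nat.lt_or_ge i 31670 with h1 | h1
  · exact allR_spec _ (15835 : ℕ) (15835 : ℕ) pk13_1 i (by omega) (by omega)
  exact allR_spec _ (31670 : ℕ) (1 : ℕ) pk13_2 i (by omega) (by omega)
theorem pk14 : allR (ckPerm (nat_lit 31671) X14 X15) (nat_lit 0) (nat_lit 31671) = true := by
  apply allR_of_forall
  intro i hi
  have hi : i < 31671 := hi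
  rcases Nat.lt_or_ge i 15835 with h0 | h0
  · exact allR_spec _ (0 : ℕ) (15835 : ℕ) pk14_0 i (by omega) (by omega)
  rcases Nat.lt_or_ge i 31670 with h1 | h1
  · exact allR_spec _ (15835 : ℕ) (15835 : ℕ) pk14_1 i (by omega) (by omega)
  exact allR_spec _ (31670 : ℕ) (1 : ℕ) pk14_2 i (by omega) (by omega)
theorem pk15 : allR (ckPerm (nat_lit 31671) X15 X14) (nat_lit 0) (nat_lit 31671) = true := by
  apply allR_of_forall
  intro i hi
  have hi : i < 31671 := hi
  rcases Nat.lt_or_ge i 15835 with h0 | h0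
  · exact allR_spec _ (0 : ℕ) (15835 : ℕ) pk15_0 i (by omega) (by omega)
  rcases Nat.lt_or_ge i 31670 with h1 | h1
  · exact allR_spec _ (15835 : ℕ) (15835 : ℕ) pk15_1 i (by omega) (by omega)
  exact allR_spec _ (31670 : ℕ) (1 : ℕ) pk15_2 i (by omega) (by omega)
theorem pk16 : allR (ckPerm (nat_lit 31671) X16 X17) (nat_lit 0) (nat_lit 31671) = true := by
  apply allR_of_forall
  intro i hi
  have hi : i < 31671 := hi
  rcases Nat.lt_or_ge i 15835 with h0 | h0
  · exact allR_spec _ (0 : ℕ) (15835 : ℕ) pk16_0 i (by omega) (by omega)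
  rcases Nat.lt_or_ge i 31670 with h1 | h1
  · exact allR_spec _ (15835 : ℕ) (15835 : ℕ) pk16_1 i (by omega) (by omega)
  exact allR_spec _ (31670 : ℕ) (1 : ℕ) pk16_2 i (by omega) (by omega)
theorem pk17 : allR (ckPerm (nat_lit 31671) X17 X16) (nat_lit 0) (nat_lit 31671) = true := by
  apply allR_of_forall
  intro i hi
  have hi : i < 31671 := hi
  rcases Nat.lt_or_ge i 15835 with h0 | h0
  · exact allR_spec _ (0 : ℕ) (15835 : ℕ) pk17_0 i (by omega) (by omega)
  rcases Nat.lt_or_ge i 31670 with h1 | h1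
  · exact allR_spec _ (15835 : ℕ) (15835 : ℕ) pk17_1 i (by omega) (by omega)
  exact allR_spec _ (31670 : ℕ) (1 : ℕ) pk17_2 i (by omega) (by omega)
theorem pk18 : allR (ckPerm (nat_lit 31671) X18 X19) (nat_lit 0) (nat_lit 31671) = true := by
  apply allR_of_forall
  intro i hi
  have hi : i < 31671 := hi
  rcases Nat.lt_or_ge i 15835 with h0 | h0
  · exact allR_spec _ (0 : ℕ) (15835 : ℕ) pk18_0 i (by omega) (by omega)
  rcases Nat.lt_or_ge i 31670 with h1 | h1
  · exact allR_spec _ (15835 : ℕ) (15835 : ℕ) pk18_1 i (by omega) (by omega)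
  exact allR_spec _ (31670 : ℕ) (1 : ℕ) pk18_2 i (by omega) (by omega)
theorem pk19 : allR (ckPerm (nat_lit 31671) X19 X18) (nat_lit 0) (nat_lit 31671) = true := by
  apply allR_of_forall
  intro i hi
  have hi : i < 31671 := hi
  rcases Nat.lt_or_ge i 15835 with h0 | h0
  · exact allR_spec _ (0 : ℕ) (15835 : ℕ) pk19_0 i (by omega) (by omega)
  rcases Nat.lt_or_ge i 31670 with h1 | h1
  · exact allR_spec _ (15835 : ℕ) (15835 : ℕ) pk19_1 i (by omega) (by omega)
  exact allR_spec _ (31670 : ℕ) (1 : ℕ) pk19_2 i (by omega) (by omega)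
theorem pk20 : allR (ckPerm (nat_lit 31671) X20 X21) (nat_lit 0) (nat_lit 31671) = true := by
  apply allR_of_forall
  intro i hi
  have hi : i < 31671 := hi
  rcases Nat.lt_or_ge i 15835 with h0 | h0
  · exact allR_spec _ (0 : ℕ) (15835 : ℕ) pk20_0 i (by omega) (by omega)
  rcases Nat.lt_or_ge i 31670 with h1 | h1
  · exact allR_spec _ (15835 : ℕ) (15835 : ℕ) pk20_1 i (by omega) (by omega)
  exact allR_spec _ (31670 : ℕ) (1 : ℕ) pk20_2 i (by omega) (by omega)
theorem pk21 : allR (ckPerm (nat_lit 31671) X21 X20) (nat_lit 0) (nat_lit 31671) = true := by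
  apply allR_of_forall
  intro i hi
  have hi : i < 31671 := hi
  rcases Nat.lt_or_ge i 15835 with h0 | h0
  · exact allR_spec _ (0 : ℕ) (15835 : ℕ) pk21_0 i (by omega) (by omega)
  rcases Nat.lt_or_ge i 31670 with h1 | h1
  · exact allR_spec _ (15835 : ℕ) (15835 : ℕ) pk21_1 i (by omega) (by omega)
  exact allR_spec _ (31670 : ℕ) (1 : ℕ) pk21_2 i (by omega) (by omega)
theorem pk22 : allR (ckPerm (nat_lit 31671) X22 X23) (nat_lit 0) (nat_lit 31671) = true := by
  apply allR_of_forall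
  intro i hi
  have hi : i < 31671 := hi
  rcases Nat.lt_or_ge i 15835 with h0 | h0
  · exact allR_spec _ (0 : ℕ) (15835 : ℕ) pk22_0 i (by omega) (by omega)
  rcases Nat.lt_or_ge i 31670 with h1 | h1
  · exact allR_spec _ (15835 : ℕ) (15835 : ℕ) pk22_1 i (by omega) (by omega)
  exact allR_spec _ (31670 : ℕ) (1 : ℕ) pk22_2 i (by omega) (by omega)
theorem pk23 : allR (ckPerm (nat_lit 31671) X23 X22) (nat_lit 0) (nat_lit 31671) = true := by
  apply allR_of_forall
  intro i hi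
  have hi : i < 31671 := hi
  rcases Nat.lt_or_ge i 15835 with h0 | h0
  · exact allR_spec _ (0 : ℕ) (15835 : ℕ) pk23_0 i (by omega) (by omega)
  rcases Nat.lt_or_ge i 31670 with h1 | h1
  · exact allR_spec _ (15835 : ℕ) (15835 : ℕ) pk23_1 i (by omega) (by omega)
  exact allR_spec _ (31670 : ℕ) (1 : ℕ) pk23_2 i (by omega) (by omega)
theorem pk24 : allR (ckPerm (nat_lit 31671) X24 X25) (nat_lit 0) (nat_lit 31671) = true := by
  apply allR_of_forall
  intro i hi
  have hi : i < 31671 := hi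
  rcases Nat.lt_or_ge i 15835 with h0 | h0
  · exact allR_spec _ (0 : ℕ) (15835 : ℕ) pk24_0 i (by omega) (by omega)
  rcases Nat.lt_or_ge i 31670 with h1 | h1
  · exact allR_spec _ (15835 : ℕ) (15835 : ℕ) pk24_1 i (by omega) (by omega)
  exact allR_spec _ (31670 : ℕ) (1 : ℕ) pk24_2 i (by omega) (by omega)
theorem pk25 : allR (ckPerm (nat_lit 31671) X25 X24) (nat_lit 0) (nat_lit 31671) = true := by
  apply allR_of_forall
  intro i hi
  have hi : i < 31671 := hi
  rcases Nat.lt_or_ge i 15835 with h0 | h0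
  · exact allR_spec _ (0 : ℕ) (15835 : ℕ) pk25_0 i (by omega) (by omega)
  rcases Nat.lt_or_ge i 31670 with h1 | h1
  · exact allR_spec _ (15835 : ℕ) (15835 : ℕ) pk25_1 i (by omega) (by omega)
  exact allR_spec _ (31670 : ℕ) (1 : ℕ) pk25_2 i (by omega) (by omega)
theorem pk26 : allR (ckPerm (nat_lit 31671) X26 X27) (nat_lit 0) (nat_lit 31671) = true := by
  apply allR_of_forall
  intro i hi
  have hi : i < 31671 := hi
  rcases Nat.lt_or_ge i 15835 with h0 | h0
  · exact allR_spec _ (0 : ℕ) (15835 : ℕ) pk26_0 i (by omega) (by omega)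
  rcases Nat.lt_or_ge i 31670 with h1 | h1
  · exact allR_spec _ (15835 : ℕ) (15835 : ℕ) pk26_1 i (by omega) (by omega)
  exact allR_spec _ (31670 : ℕ) (1 : ℕ) pk26_2 i (by omega) (by omega)
theorem pk27 : allR (ckPerm (nat_lit 31671) X27 X26) (nat_lit 0) (nat_lit 31671) = true := by
  apply allR_of_forall
  intro i hi
  have hi : i < 31671 := hi
  rcases Nat.lt_or_ge i 15835 with h0 | h0
  · exact allR_spec _ (0 : ℕ) (15835 : ℕ) pk27_0 i (by omega) (by omega)
  rcases Nat.lt_or_ge i 31670 with h1 | h1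
  · exact allR_spec _ (15835 : ℕ) (15835 : ℕ) pk27_1 i (by omega) (by omega)
  exact allR_spec _ (31670 : ℕ) (1 : ℕ) pk27_2 i (by omega) (by omega)
theorem pk28 : allR (ckPerm (nat_lit 31671) X28 X29) (nat_lit 0) (nat_lit 31671) = true := by
  apply allR_of_forall
  intro i hi
  have hi : i < 31671 := hi
  rcases Nat.lt_or_ge i 15835 with h0 | h0
  · exact allR_spec _ (0 : ℕ) (15835 : ℕ) pk28_0 i (by omega) (by omega)
  rcases Nat.lt_or_ge i 31670 with h1 | h1
  · exact allR_spec _ (15835 : ℕ) (15835 : ℕ) pk28_1 i (by omega) (by omega)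
  exact allR_spec _ (31670 : ℕ) (1 : ℕ) pk28_2 i (by omega) (by omega)
theorem pk29 : allR (ckPerm (nat_lit 31671) X29 X28) (nat_lit 0) (nat_lit 31671) = true := by
  apply allR_of_forall
  intro i hi
  have hi : i < 31671 := hi
  rcases Nat.lt_or_ge i 15835 with h0 | h0
  · exact allR_spec _ (0 : ℕ) (15835 : ℕ) pk29_0 i (by omega) (by omega)
  rcases Nat.lt_or_ge i 31670 with h1 | h1
  · exact allR_spec _ (15835 : ℕ) (15835 : ℕ) pk29_1 i (by omega) (by omega)
  exact allR_spec _ (31670 : ℕ) (1 : ℕ) pk29_2 i (by omega) (by omega)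
theorem pk30 : allR (ckPerm (nat_lit 31671) X30 X31) (nat_lit 0) (nat_lit 31671) = true := by
  apply allR_of_forall
  intro i hi
  have hi : i < 31671 := hi
  rcases Nat.lt_or_ge i 15835 with h0 | h0
  · exact allR_spec _ (0 : ℕ) (15835 : ℕ) pk30_0 i (by omega) (by omega)
  rcases Nat.lt_or_ge i 31670 with h1 | h1
  · exact allR_spec _ (15835 : ℕ) (15835 : ℕ) pk30_1 i (by omega) (by omega)
  exact allR_spec _ (31670 : ℕ) (1 : ℕ) pk30_2 i (by omega) (by omega)
theorem pk31 : allR (ckPerm (nat_lit 31671) X31 X30) (nat_lit 0) (nat_lit 31671) = true := by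
  apply allR_of_forall
  intro i hi
  have hi : i < 31671 := hi
  rcases Nat.lt_or_ge i 15835 with h0 | h0
  · exact allR_spec _ (0 : ℕ) (15835 : ℕ) pk31_0 i (by omega) (by omega)
  rcases Nat.lt_or_ge i 31670 with h1 | h1
  · exact allR_spec _ (15835 : ℕ) (15835 : ℕ) pk31_1 i (by omega) (by omega)
  exact allR_spec _ (31670 : ℕ) (1 : ℕ) pk31_2 i (by omega) (by omega)
theorem pk32 : allR (ckPerm (nat_lit 31671) X32 X33) (nat_lit 0) (nat_lit 31671) = true := by
  apply allR_of_forall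
  intro i hi
  have hi : i < 31671 := hi
  rcases Nat.lt_or_ge i 15835 with h0 | h0
  · exact allR_spec _ (0 : ℕ) (15835 : ℕ) pk32_0 i (by omega) (by omega)
  rcases Nat.lt_or_ge i 31670 with h1 | h1
  · exact allR_spec _ (15835 : ℕ) (15835 : ℕ) pk32_1 i (by omega) (by omega)
  exact allR_spec _ (31670 : ℕ) (1 : ℕ) pk32_2 i (by omega) (by omega)
theorem pk33 : allR (ckPerm (nat_lit 31671) X33 X32) (nat_lit 0) (nat_lit 31671) = true := by
  apply allR_of_forall
  intro i hi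
  have hi : i < 31671 := hi
  rcases Nat.lt_or_ge i 15835 with h0 | h0
  · exact allR_spec _ (0 : ℕ) (15835 : ℕ) pk33_0 i (by omega) (by omega)
  rcases Nat.lt_or_ge i 31670 with h1 | h1
  · exact allR_spec _ (15835 : ℕ) (15835 : ℕ) pk33_1 i (by omega) (by omega)
  exact allR_spec _ (31670 : ℕ) (1 : ℕ) pk33_2 i (by omega) (by omega)
theorem pk34 : allR (ckPerm (nat_lit 31671) X34 X35) (nat_lit 0) (nat_lit 31671) = true := by
  apply allR_of_forall
  intro i hi
  have hi : i < 31671 := hi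
  rcases Nat.lt_or_ge i 15835 with h0 | h0
  · exact allR_spec _ (0 : ℕ) (15835 : ℕ) pk34_0 i (by omega) (by omega)
  rcases Nat.lt_or_ge i 31670 with h1 | h1
  · exact allR_spec _ (15835 : ℕ) (15835 : ℕ) pk34_1 i (by omega) (by omega)
  exact allR_spec _ (31670 : ℕ) (1 : ℕ) pk34_2 i (by omega) (by omega)
theorem pk35 : allR (ckPerm (nat_lit 31671) X35 X34) (nat_lit 0) (nat_lit 31671) = true := by
  apply allR_of_forall
  intro i hi
  have hi : i < 31671 := hi
  rcases Nat.lt_or_ge i 15835 with h0 | h0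
  · exact allR_spec _ (0 : ℕ) (15835 : ℕ) pk35_0 i (by omega) (by omega)
  rcases Nat.lt_or_ge i 31670 with h1 | h1
  · exact allR_spec _ (15835 : ℕ) (15835 : ℕ) pk35_1 i (by omega) (by omega)
  exact allR_spec _ (31670 : ℕ) (1 : ℕ) pk35_2 i (by omega) (by omega)
theorem pk36 : allR (ckPerm (nat_lit 31671) X36 X37) (nat_lit 0) (nat_lit 31671) = true := by
  apply allR_of_forall
  intro i hi
  have hi : i < 31671 := hi
  rcases Nat.lt_or_ge i 15835 with h0 | h0
  · exact allR_spec _ (0 : ℕ) (15835 : ℕ) pk36_0 i (by omega) (by omega)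
  rcases Nat.lt_or_ge i 31670 with h1 | h1
  · exact allR_spec _ (15835 : ℕ) (15835 : ℕ) pk36_1 i (by omega) (by omega)
  exact allR_spec _ (31670 : ℕ) (1 : ℕ) pk36_2 i (by omega) (by omega)
theorem pk37 : allR (ckPerm (nat_lit 31671) X37 X36) (nat_lit 0) (nat_lit 31671) = true := by
  apply allR_of_forall
  intro i hi
  have hi : i < 31671 := hi
  rcases Nat.lt_or_ge i 15835 with h0 | h0
  · exact allR_spec _ (0 : ℕ) (15835 : ℕ) pk37_0 i (by omega) (by omega)
  rcases Nat.lt_or_ge i 31670 with h1 | h1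
  · exact allR_spec _ (15835 : ℕ) (15835 : ℕ) pk37_1 i (by omega) (by omega)
  exact allR_spec _ (31670 : ℕ) (1 : ℕ) pk37_2 i (by omega) (by omega)
theorem pk38 : allR (ckPerm (nat_lit 31671) X38 X39) (nat_lit 0) (nat_lit 31671) = true := by
  apply allR_of_forall
  intro i hi
  have hi : i < 31671 := hi
  rcases Nat.lt_or_ge i 15835 with h0 | h0
  · exact allR_spec _ (0 : ℕ) (15835 : ℕ) pk38_0 i (by omega) (by omega)
  rcases Nat.lt_or_ge i 31670 with h1 | h1
  · exact allR_spec _ (15835 : ℕ) (15835 : ℕ) pk38_1 i (by omega) (by omega)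
  exact allR_spec _ (31670 : ℕ) (1 : ℕ) pk38_2 i (by omega) (by omega)
theorem pk39 : allR (ckPerm (nat_lit 31671) X39 X38) (nat_lit 0) (nat_lit 31671) = true := by
  apply allR_of_forall
  intro i hi
  have hi : i < 31671 := hi
  rcases Nat.lt_or_ge i 15835 with h0 | h0
  · exact allR_spec _ (0 : ℕ) (15835 : ℕ) pk39_0 i (by omega) (by omega)
  rcases Nat.lt_or_ge i 31670 with h1 | h1
  · exact allR_spec _ (15835 : ℕ) (15835 : ℕ) pk39_1 i (by omega) (by omega)
  exact allR_spec _ (31670 : ℕ) (1 : ℕ) pk39_2 i (by omega) (by omega)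
theorem pk40 : allR (ckPerm (nat_lit 31671) X40 X41) (nat_lit 0) (nat_lit 31671) = true := by
  apply allR_of_forall
  intro i hi
  have hi : i < 31671 := hi
  rcases Nat.lt_or_ge i 15835 with h0 | h0
  · exact allR_spec _ (0 : ℕ) (15835 : ℕ) pk40_0 i (by omega) (by omega)
  rcases Nat.lt_or_ge i 31670 with h1 | h1
  · exact allR_spec _ (15835 : ℕ) (15835 : ℕ) pk40_1 i (by omega) (by omega)
  exact allR_spec _ (31670 : ℕ) (1 : ℕ) pk40_2 i (by omega) (by omega)
theorem pk41 : allR (ckPerm (nat_lit 31671) X41 X40) (nat_lit 0) (nat_lit 31671) = true := by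
  apply allR_of_forall
  intro i hi
  have hi : i < 31671 := hi
  rcases Nat.lt_or_ge i 15835 with h0 | h0
  · exact allR_spec _ (0 : ℕ) (15835 : ℕ) pk41_0 i (by omega) (by omega)
  rcases Nat.lt_or_ge i 31670 with h1 | h1
  · exact allR_spec _ (15835 : ℕ) (15835 : ℕ) pk41_1 i (by omega) (by omega)
  exact allR_spec _ (31670 : ℕ) (1 : ℕ) pk41_2 i (by omega) (by omega)
theorem pk42 : allR (ckPerm (nat_lit 31671) X42 X43) (nat_lit 0) (nat_lit 31671) = true := by
  apply allR_of_forall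
  intro i hi
  have hi : i < 31671 := hi
  rcases Nat.lt_or_ge i 15835 with h0 | h0
  · exact allR_spec _ (0 : ℕ) (15835 : ℕ) pk42_0 i (by omega) (by omega)
  rcases Nat.lt_or_ge i 31670 with h1 | h1
  · exact allR_spec _ (15835 : ℕ) (15835 : ℕ) pk42_1 i (by omega) (by omega)
  exact allR_spec _ (31670 : ℕ) (1 : ℕ) pk42_2 i (by omega) (by omega)
theorem pk43 : allR (ckPerm (nat_lit 31671) X43 X42) (nat_lit 0) (nat_lit 31671) = true := by
  apply allR_of_forall
  intro i hi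
  have hi : i < 31671 := hi
  rcases Nat.lt_or_ge i 15835 with h0 | h0
  · exact allR_spec _ (0 : ℕ) (15835 : ℕ) pk43_0 i (by omega) (by omega)
  rcases Nat.lt_or_ge i 31670 with h1 | h1
  · exact allR_spec _ (15835 : ℕ) (15835 : ℕ) pk43_1 i (by omega) (by omega)
  exact allR_spec _ (31670 : ℕ) (1 : ℕ) pk43_2 i (by omega) (by omega)
theorem pk44 : allR (ckPerm (nat_lit 31671) X44 X45) (nat_lit 0) (nat_lit 31671) = true := by
  apply allR_of_forall
  intro i hi
  have hi : i < 31671 := hi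
  rcases Nat.lt_or_ge i 15835 with h0 | h0
  · exact allR_spec _ (0 : ℕ) (15835 : ℕ) pk44_0 i (by omega) (by omega)
  rcases Nat.lt_or_ge i 31670 with h1 | h1
  · exact allR_spec _ (15835 : ℕ) (15835 : ℕ) pk44_1 i (by omega) (by omega)
  exact allR_spec _ (31670 : ℕ) (1 : ℕ) pk44_2 i (by omega) (by omega)
theorem pk45 : allR (ckPerm (nat_lit 31671) X45 X44) (nat_lit 0) (nat_lit 31671) = true := by
  apply allR_of_forall
  intro i hi
  have hi : i < 31671 := hi
  rcases Nat.lt_or_ge i 15835 with h0 | h0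
  · exact allR_spec _ (0 : ℕ) (15835 : ℕ) pk45_0 i (by omega) (by omega)
  rcases Nat.lt_or_ge i 31670 with h1 | h1
  · exact allR_spec _ (15835 : ℕ) (15835 : ℕ) pk45_1 i (by omega) (by omega)
  exact allR_spec _ (31670 : ℕ) (1 : ℕ) pk45_2 i (by omega) (by omega)
theorem pk46 : allR (ckPerm (nat_lit 31671) X46 X47) (nat_lit 0) (nat_lit 31671) = true := by
  apply allR_of_forall
  intro i hi
  have hi : i < 31671 := hi
  rcases Nat.lt_or_ge i 15835 with h0 | h0
  · exact allR_spec _ (0 : ℕ) (15835 : ℕ) pk46_0 i (by omega) (by omega)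
  rcases Nat.lt_or_ge i 31670 with h1 | h1
  · exact allR_spec _ (15835 : ℕ) (15835 : ℕ) pk46_1 i (by omega) (by omega)
  exact allR_spec _ (31670 : ℕ) (1 : ℕ) pk46_2 i (by omega) (by omega)
theorem pk47 : allR (ckPerm (nat_lit 31671) X47 X46) (nat_lit 0) (nat_lit 31671) = true := by
  apply allR_of_forall
  intro i hi
  have hi : i < 31671 := hi
  rcases Nat.lt_or_ge i 15835 with h0 | h0
  · exact allR_spec _ (0 : ℕ) (15835 : ℕ) pk47_0 i (by omega) (by omega)
  rcases Nat.lt_or_ge i 31670 with h1 | h1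
  · exact allR_spec _ (15835 : ℕ) (15835 : ℕ) pk47_1 i (by omega) (by omega)
  exact allR_spec _ (31670 : ℕ) (1 : ℕ) pk47_2 i (by omega) (by omega)
theorem pk48 : allR (ckPerm (nat_lit 31671) X48 X49) (nat_lit 0) (nat_lit 31671) = true := by
  apply allR_of_forall
  intro i hi
  have hi : i < 31671 := hi
  rcases Nat.lt_or_ge i 15835 with h0 | h0
  · exact allR_spec _ (0 : ℕ) (15835 : ℕ) pk48_0 i (by omega) (by omega)
  rcases Nat.lt_or_ge i 31670 with h1 | h1
  · exact allR_spec _ (15835 : ℕ) (15835 : ℕ) pk48_1 i (by omega) (by omega)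
  exact allR_spec _ (31670 : ℕ) (1 : ℕ) pk48_2 i (by omega) (by omega)
theorem pk49 : allR (ckPerm (nat_lit 31671) X49 X48) (nat_lit 0) (nat_lit 31671) = true := by
  apply allR_of_forall
  intro i hi
  have hi : i < 31671 := hi
  rcases Nat.lt_or_ge i 15835 with h0 | h0
  · exact allR_spec _ (0 : ℕ) (15835 : ℕ) pk49_0 i (by omega) (by omega)
  rcases Nat.lt_or_ge i 31670 with h1 | h1
  · exact allR_spec _ (15835 : ℕ) (15835 : ℕ) pk49_1 i (by omega) (by omega)
  exact allR_spec _ (31670 : ℕ) (1 : ℕ) pk49_2 i (by omega) (by omega)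
theorem pk50 : allR (ckPerm (nat_lit 31671) X50 X51) (nat_lit 0) (nat_lit 31671) = true := by
  apply allR_of_forall
  intro i hi
  have hi : i < 31671 := hi
  rcases Nat.lt_or_ge i 15835 with h0 | h0
  · exact allR_spec _ (0 : ℕ) (15835 : ℕ) pk50_0 i (by omega) (by omega)
  rcases Nat.lt_or_ge i 31670 with h1 | h1
  · exact allR_spec _ (15835 : ℕ) (15835 : ℕ) pk50_1 i (by omega) (by omega)
  exact allR_spec _ (31670 : ℕ) (1 : ℕ) pk50_2 i (by omega) (by omega)
theorem pk51 : allR (ckPerm (nat_lit 31671) X51 X50) (nat_lit 0) (nat_lit 31671) = true := by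
  apply allR_of_forall
  intro i hi
  have hi : i < 31671 := hi
  rcases Nat.lt_or_ge i 15835 with h0 | h0
  · exact allR_spec _ (0 : ℕ) (15835 : ℕ) pk51_0 i (by omega) (by omega)
  rcases Nat.lt_or_ge i 31670 with h1 | h1
  · exact allR_spec _ (15835 : ℕ) (15835 : ℕ) pk51_1 i (by omega) (by omega)
  exact allR_spec _ (31670 : ℕ) (1 : ℕ) pk51_2 i (by omega) (by omega)
theorem pk52 : allR (ckPerm (nat_lit 31671) X52 X53) (nat_lit 0) (nat_lit 31671) = true := by
  apply allR_of_forall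
  intro i hi
  have hi : i < 31671 := hi
  rcases Nat.lt_or_ge i 15835 with h0 | h0
  · exact allR_spec _ (0 : ℕ) (15835 : ℕ) pk52_0 i (by omega) (by omega)
  rcases Nat.lt_or_ge i 31670 with h1 | h1
  · exact allR_spec _ (15835 : ℕ) (15835 : ℕ) pk52_1 i (by omega) (by omega)
  exact allR_spec _ (31670 : ℕ) (1 : ℕ) pk52_2 i (by omega) (by omega)
theorem pk53 : allR (ckPerm (nat_lit 31671) X53 X52) (nat_lit 0) (nat_lit 31671) = true := by
  apply allR_of_forall
  intro i hi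
  have hi : i < 31671 := hi
  rcases Nat.lt_or_ge i 15835 with h0 | h0
  · exact allR_spec _ (0 : ℕ) (15835 : ℕ) pk53_0 i (by omega) (by omega)
  rcases Nat.lt_or_ge i 31670 with h1 | h1
  · exact allR_spec _ (15835 : ℕ) (15835 : ℕ) pk53_1 i (by omega) (by omega)
  exact allR_spec _ (31670 : ℕ) (1 : ℕ) pk53_2 i (by omega) (by omega)
theorem pk54 : allR (ckPerm (nat_lit 31671) X54 X55) (nat_lit 0) (nat_lit 31671) = true := by
  apply allR_of_forall
  intro i hi
  have hi : i < 31671 := hi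
  rcases Nat.lt_or_ge i 15835 with h0 | h0
  · exact allR_spec _ (0 : ℕ) (15835 : ℕ) pk54_0 i (by omega) (by omega)
  rcases Nat.lt_or_ge i 31670 with h1 | h1
  · exact allR_spec _ (15835 : ℕ) (15835 : ℕ) pk54_1 i (by omega) (by omega)
  exact allR_spec _ (31670 : ℕ) (1 : ℕ) pk54_2 i (by omega) (by omega)
theorem pk55 : allR (ckPerm (nat_lit 31671) X55 X54) (nat_lit 0) (nat_lit 31671) = true := by
  apply allR_of_forall
  intro i hi
  have hi : i < 31671 := hi
  rcases Nat.lt_or_ge i 15835 with h0 | h0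
  · exact allR_spec _ (0 : ℕ) (15835 : ℕ) pk55_0 i (by omega) (by omega)
  rcases Nat.lt_or_ge i 31670 with h1 | h1
  · exact allR_spec _ (15835 : ℕ) (15835 : ℕ) pk55_1 i (by omega) (by omega)
  exact allR_spec _ (31670 : ℕ) (1 : ℕ) pk55_2 i (by omega) (by omega)
theorem pk56 : allR (ckPerm (nat_lit 31671) X56 X57) (nat_lit 0) (nat_lit 31671) = true := by
  apply allR_of_forall
  intro i hi
  have hi : i < 31671 := hi
  rcases Nat.lt_or_ge i 15835 with h0 | h0
  · exact allR_spec _ (0 : ℕ) (15835 : ℕ) pk56_0 i (by omega) (by omega)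
  rcases Nat.lt_or_ge i 31670 with h1 | h1
  · exact allR_spec _ (15835 : ℕ) (15835 : ℕ) pk56_1 i (by omega) (by omega)
  exact allR_spec _ (31670 : ℕ) (1 : ℕ) pk56_2 i (by omega) (by omega)
theorem pk57 : allR (ckPerm (nat_lit 31671) X57 X56) (nat_lit 0) (nat_lit 31671) = true := by
  apply allR_of_forall
  intro i hi
  have hi : i < 31671 := hi
  rcases Nat.lt_or_ge i 15835 with h0 | h0
  · exact allR_spec _ (0 : ℕ) (15835 : ℕ) pk57_0 i (by omega) (by omega)
  rcases Nat.lt_or_ge i 31670 with h1 | h1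
  · exact allR_spec _ (15835 : ℕ) (15835 : ℕ) pk57_1 i (by omega) (by omega)
  exact allR_spec _ (31670 : ℕ) (1 : ℕ) pk57_2 i (by omega) (by omega)
theorem pk58 : allR (ckPerm (nat_lit 31671) X58 X59) (nat_lit 0) (nat_lit 31671) = true := by
  apply allR_of_forall
  intro i hi
  have hi : i < 31671 := hi
  rcases Nat.lt_or_ge i 15835 with h0 | h0
  · exact allR_spec _ (0 : ℕ) (15835 : ℕ) pk58_0 i (by omega) (by omega)
  rcases Nat.lt_or_ge i 31670 with h1 | h1
  · exact allR_spec _ (15835 : ℕ) (15835 : ℕ) pk58_1 i (by omega) (by omega)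
  exact allR_spec _ (31670 : ℕ) (1 : ℕ) pk58_2 i (by omega) (by omega)
theorem pk59 : allR (ckPerm (nat_lit 31671) X59 X58) (nat_lit 0) (nat_lit 31671) = true := by
  apply allR_of_forall
  intro i hi
  have hi : i < 31671 := hi
  rcases Nat.lt_or_ge i 15835 with h0 | h0
  · exact allR_spec _ (0 : ℕ) (15835 : ℕ) pk59_0 i (by omega) (by omega)
  rcases Nat.lt_or_ge i 31670 with h1 | h1
  · exact allR_spec _ (15835 : ℕ) (15835 : ℕ) pk59_1 i (by omega) (by omega)
  exact allR_spec _ (31670 : ℕ) (1 : ℕ) pk59_2 i (by omega) (by omega)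
theorem pk60 : allR (ckPerm (nat_lit 31671) X60 X61) (nat_lit 0) (nat_lit 31671) = true := by
  apply allR_of_forall
  intro i hi
  have hi : i < 31671 := hi
  rcases Nat.lt_or_ge i 15835 with h0 | h0
  · exact allR_spec _ (0 : ℕ) (15835 : ℕ) pk60_0 i (by omega) (by omega)
  rcases Nat.lt_or_ge i 31670 with h1 | h1
  · exact allR_spec _ (15835 : ℕ) (15835 : ℕ) pk60_1 i (by omega) (by omega)
  exact allR_spec _ (31670 : ℕ) (1 : ℕ) pk60_2 i (by omega) (by omega)
theorem pk61 : allR (ckPerm (nat_lit 31671) X61 X60) (nat_lit 0) (nat_lit 31671) = true := by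
  apply allR_of_forall
  intro i hi
  have hi : i < 31671 := hi
  rcases Nat.lt_or_ge i 15835 with h0 | h0
  · exact allR_spec _ (0 : ℕ) (15835 : ℕ) pk61_0 i (by omega) (by omega)
  rcases Nat.lt_or_ge i 31670 with h1 | h1
  · exact allR_spec _ (15835 : ℕ) (15835 : ℕ) pk61_1 i (by omega) (by omega)
  exact allR_spec _ (31670 : ℕ) (1 : ℕ) pk61_2 i (by omega) (by omega)
theorem pk62 : allR (ckPerm (nat_lit 31671) X62 X63) (nat_lit 0) (nat_lit 31671) = true := by
  apply allR_of_forall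
  intro i hi
  have hi : i < 31671 := hi
  rcases Nat.lt_or_ge i 15835 with h0 | h0
  · exact allR_spec _ (0 : ℕ) (15835 : ℕ) pk62_0 i (by omega) (by omega)
  rcases Nat.lt_or_ge i 31670 with h1 | h1
  · exact allR_spec _ (15835 : ℕ) (15835 : ℕ) pk62_1 i (by omega) (by omega)
  exact allR_spec _ (31670 : ℕ) (1 : ℕ) pk62_2 i (by omega) (by omega)
theorem pk63 : allR (ckPerm (nat_lit 31671) X63 X62) (nat_lit 0) (nat_lit 31671) = true := by
  apply allR_of_forall
  intro i hi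
  have hi : i < 31671 := hi
  rcases Nat.lt_or_ge i 15835 with h0 | h0
  · exact allR_spec _ (0 : ℕ) (15835 : ℕ) pk63_0 i (by omega) (by omega)
  rcases Nat.lt_or_ge i 31670 with h1 | h1
  · exact allR_spec _ (15835 : ℕ) (15835 : ℕ) pk63_1 i (by omega) (by omega)
  exact allR_spec _ (31670 : ℕ) (1 : ℕ) pk63_2 i (by omega) (by omega)
theorem wk0 : allR (OT.ckEqW [T0, T1, T2, T3, T4, T5, T7, T6, T8] [X0]) (nat_lit 0) (nat_lit 31671) = true := by
  apply allR_of_forall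
  intro i hi
  have hi : i < 31671 := hi
  rcases Nat.lt_or_ge i 3167 with h0 | h0
  · exact allR_spec _ (0 : ℕ) (3167 : ℕ) wk0_0 i (by omega) (by omega)
  rcases Nat.lt_or_ge i 6334 with h1 | h1
  · exact allR_spec _ (3167 : ℕ) (3167 : ℕ) wk0_1 i (by omega) (by omega)
  rcases Nat.lt_or_ge i 9501 with h2 | h2
  · exact allR_spec _ (6334 : ℕ) (3167 : ℕ) wk0_2 i (by omega) (by omega)
  rcases Nat.lt_or_ge i 12668 with h3 | h3
  · exact allR_spec _ (9501 : ℕ) (3167 : ℕ) wk0_3 i (by omega) (by omega)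
  rcases Nat.lt_or_ge i 15835 with h4 | h4
  · exact allR_spec _ (12668 : ℕ) (3167 : ℕ) wk0_4 i (by omega) (by omega)
  rcases Nat.lt_or_ge i 19002 with h5 | h5
  · exact allR_spec _ (15835 : ℕ) (3167 : ℕ) wk0_5 i (by omega) (by omega)
  rcases Nat.lt_or_ge i 22169 with h6 | h6
  · exact allR_spec _ (19002 : ℕ) (3167 : ℕ) wk0_6 i (by omega) (by omega)
  rcases Nat.lt_or_ge i 25336 with h7 | h7
  · exact allR_spec _ (22169 : ℕ) (3167 : ℕ) wk0_7 i (by omega) (by omega)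
  rcases Nat.lt_or_ge i 28503 with h8 | h8
  · exact allR_spec _ (25336 : ℕ) (3167 : ℕ) wk0_8 i (by omega) (by omega)
  rcases Nat.lt_or_ge i 31670 with h9 | h9
  · exact allR_spec _ (28503 : ℕ) (3167 : ℕ) wk0_9 i (by omega) (by omega)
  exact allR_spec _ (31670 : ℕ) (1 : ℕ) wk0_10 i (by omega) (by omega)
theorem wk1 : allR (OT.ckEqW [X1, T8, T5, T4, T7] [X2]) (nat_lit 0) (nat_lit 31671) = true := by
  apply allR_of_forall
  intro i hi
  have hi : i < 31671 := hi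
  rcases Nat.lt_or_ge i 5278 with h0 | h0
  · exact allR_spec _ (0 : ℕ) (5278 : ℕ) wk1_0 i (by omega) (by omega)
  rcases Nat.lt_or_ge i 10556 with h1 | h1
  · exact allR_spec _ (5278 : ℕ) (5278 : ℕ) wk1_1 i (by omega) (by omega)
  rcases Nat.lt_or_ge i 15834 with h2 | h2
  · exact allR_spec _ (10556 : ℕ) (5278 : ℕ) wk1_2 i (by omega) (by omega)
  rcases Nat.lt_or_ge i 21112 with h3 | h3
  · exact allR_spec _ (15834 : ℕ) (5278 : ℕ) wk1_3 i (by omega) (by omega)
  rcases Nat.lt_or_ge i 26390 with h4 | h4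
  · exact allR_spec _ (21112 : ℕ) (5278 : ℕ) wk1_4 i (by omega) (by omega)
  rcases Nat.lt_or_ge i 31668 with h5 | h5
  · exact allR_spec _ (26390 : ℕ) (5278 : ℕ) wk1_5 i (by omega) (by omega)
  exact allR_spec _ (31668 : ℕ) (3 : ℕ) wk1_6 i (by omega) (by omega)
theorem wk2 : allR (OT.ckEqW [T8, T0, T9, T2] [X4]) (nat_lit 0) (nat_lit 31671) = true := by
  apply allR_of_forall
  intro i hi
  have hi : i < 31671 := hi
  rcases Nat.lt_or_ge i 6334 with h0 | h0
  · exact allR_spec _ (0 : ℕ) (6334 : ℕ) wk2_0 i (by omega) (by omega)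
  rcases Nat.lt_or_ge i 12668 with h1 | h1
  · exact allR_spec _ (6334 : ℕ) (6334 : ℕ) wk2_1 i (by omega) (by omega)
  rcases Nat.lt_or_ge i 19002 with h2 | h2
  · exact allR_spec _ (12668 : ℕ) (6334 : ℕ) wk2_2 i (by omega) (by omega)
  rcases Nat.lt_or_ge i 25336 with h3 | h3
  · exact allR_spec _ (19002 : ℕ) (6334 : ℕ) wk2_3 i (by omega) (by omega)
  rcases Nat.lt_or_ge i 31670 with h4 | h4
  · exact allR_spec _ (25336 : ℕ) (6334 : ℕ) wk2_4 i (by omega) (by omega)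
  exact allR_spec _ (31670 : ℕ) (1 : ℕ) wk2_5 i (by omega) (by omega)
theorem wk3 : allR (OT.ckEqW [X5] [X6]) (nat_lit 0) (nat_lit 31671) = true := by
  apply allR_of_forall
  intro i hi
  have hi : i < 31671 := hi
  rcases Nat.lt_or_ge i 15835 with h0 | h0
  · exact allR_spec _ (0 : ℕ) (15835 : ℕ) wk3_0 i (by omega) (by omega)
  rcases Nat.lt_or_ge i 31670 with h1 | h1
  · exact allR_spec _ (15835 : ℕ) (15835 : ℕ) wk3_1 i (by omega) (by omega)
  exact allR_spec _ (31670 : ℕ) (1 : ℕ) wk3_2 i (by omega) (by omega)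
theorem wk4 : allR (OT.ckEqW [X3, X5, X3, X5, X3, X5, X5, X2, X2, X2] [X8]) (nat_lit 0) (nat_lit 31671) = true := by
  apply allR_of_forall
  intro i hi
  have hi : i < 31671 := hi
  rcases Nat.lt_or_ge i 2879 with h0 | h0
  · exact allR_spec _ (0 : ℕ) (2879 : ℕ) wk4_0 i (by omega) (by omega)
  rcases Nat.lt_or_ge i 5758 with h1 | h1
  · exact allR_spec _ (2879 : ℕ) (2879 : ℕ) wk4_1 i (by omega) (by omega)
  rcases Nat.lt_or_ge i 8637 with h2 | h2
  · exact allR_spec _ (5758 : ℕ) (2879 : ℕ) wk4_2 i (by omega) (by omega)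
  rcases Nat.lt_or_ge i 11516 with h3 | h3
  · exact allR_spec _ (8637 : ℕ) (2879 : ℕ) wk4_3 i (by omega) (by omega)
  rcases Nat.lt_or_ge i 14395 with h4 | h4
  · exact allR_spec _ (11516 : ℕ) (2879 : ℕ) wk4_4 i (by omega) (by omega)
  rcases Nat.lt_or_ge i 17274 with h5 | h5
  · exact allR_spec _ (14395 : ℕ) (2879 : ℕ) wk4_5 i (by omega) (by omega)
  rcases Nat.lt_or_ge i 20153 with h6 | h6
  · exact allR_spec _ (17274 : ℕ) (2879 : ℕ) wk4_6 i (by omega) (by omega)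
  rcases Nat.lt_or_ge i 23032 with h7 | h7
  · exact allR_spec _ (20153 : ℕ) (2879 : ℕ) wk4_7 i (by omega) (by omega)
  rcases Nat.lt_or_ge i 25911 with h8 | h8
  · exact allR_spec _ (23032 : ℕ) (2879 : ℕ) wk4_8 i (by omega) (by omega)
  rcases Nat.lt_or_ge i 28790 with h9 | h9
  · exact allR_spec _ (25911 : ℕ) (2879 : ℕ) wk4_9 i (by omega) (by omega)
  rcases Nat.lt_or_ge i 31669 with h10 | h10
  · exact allR_spec _ (28790 : ℕ) (2879 : ℕ) wk4_10 i (by omega) (by omega)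
  exact allR_spec _ (31669 : ℕ) (2 : ℕ) wk4_11 i (by omega) (by omega)
theorem wk5 : allR (OT.ckEqW [X6, X8, X8, X7, X7, X8, X6, X6, X9, X9, X7, X8, X8, X6, X9, X7] [X10]) (nat_lit 0) (nat_lit 31671) = true := by
  apply allR_of_forall
  intro i hi
  have hi : i < 31671 := hi
  rcases Nat.lt_or_ge i 1863 with h0 | h0
  · exact allR_spec _ (0 : ℕ) (1863 : ℕ) wk5_0 i (by omega) (by omega)
  rcases Nat.lt_or_ge i 3726 with h1 | h1
  · exact allR_spec _ (1863 : ℕ) (1863 : ℕ) wk5_1 i (by omega) (by omega)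
  rcases Nat.lt_or_ge i 5589 with h2 | h2
  · exact allR_spec _ (3726 : ℕ) (1863 : ℕ) wk5_2 i (by omega) (by omega)
  rcases Nat.lt_or_ge i 7452 with h3 | h3
  · exact allR_spec _ (5589 : ℕ) (1863 : ℕ) wk5_3 i (by omega) (by omega)
  rcases Nat.lt_or_ge i 9315 with h4 | h4
  · exact allR_spec _ (7452 : ℕ) (1863 : ℕ) wk5_4 i (by omega) (by omega)
  rcases Nat.lt_or_ge i 11178 with h5 | h5
  · exact allR_spec _ (9315 : ℕ) (1863 : ℕ) wk5_5 i (by omega) (by omega)
  rcases Nat.lt_or_ge i 13041 with h6 | h6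
  · exact allR_spec _ (11178 : ℕ) (1863 : ℕ) wk5_6 i (by omega) (by omega)
  rcases Nat.lt_or_ge i 14904 with h7 | h7
  · exact allR_spec _ (13041 : ℕ) (1863 : ℕ) wk5_7 i (by omega) (by omega)
  rcases Nat.lt_or_ge i 16767 with h8 | h8
  · exact allR_spec _ (14904 : ℕ) (1863 : ℕ) wk5_8 i (by omega) (by omega)
  rcases Nat.lt_or_ge i 18630 with h9 | h9
  · exact allR_spec _ (16767 : ℕ) (1863 : ℕ) wk5_9 i (by omega) (by omega)
  rcases Nat.lt_or_ge i 20493 with h10 | h10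
  · exact allR_spec _ (18630 : ℕ) (1863 : ℕ) wk5_10 i (by omega) (by omega)
  rcases Nat.lt_or_ge i 22356 with h11 | h11
  · exact allR_spec _ (20493 : ℕ) (1863 : ℕ) wk5_11 i (by omega) (by omega)
  rcases Nat.lt_or_ge i 24219 with h12 | h12
  · exact allR_spec _ (22356 : ℕ) (1863 : ℕ) wk5_12 i (by omega) (by omega)
  rcases Nat.lt_or_ge i 26082 with h13 | h13
  · exact allR_spec _ (24219 : ℕ) (1863 : ℕ) wk5_13 i (by omega) (by omega)
  rcases Nat.lt_or_ge i 27945 with h14 | h14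
  · exact allR_spec _ (26082 : ℕ) (1863 : ℕ) wk5_14 i (by omega) (by omega)
  rcases Nat.lt_or_ge i 29808 with h15 | h15
  · exact allR_spec _ (27945 : ℕ) (1863 : ℕ) wk5_15 i (by omega) (by omega)
  exact allR_spec _ (29808 : ℕ) (1863 : ℕ) wk5_16 i (by omega) (by omega)
theorem wk6 : allR (OT.ckEqW [X6, X9, X6, X8, X8, X7, X9, X7, X7, X7, X9, X6, X6, X8, X6, X8, X6, X8, X6, X9] [X12]) (nat_lit 0) (nat_lit 31671) = true := by
  apply allR_of_forall
  intro i hi
  have hi : i < 31671 := hi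
  rcases Nat.lt_or_ge i 1508 with h0 | h0
  · exact allR_spec _ (0 : ℕ) (1508 : ℕ) wk6_0 i (by omega) (by omega)
  rcases Nat.lt_or_ge i 3016 with h1 | h1
  · exact allR_spec _ (1508 : ℕ) (1508 : ℕ) wk6_1 i (by omega) (by omega)
  rcases Nat.lt_or_ge i 4524 with h2 | h2
  · exact allR_spec _ (3016 : ℕ) (1508 : ℕ) wk6_2 i (by omega) (by omega)
  rcases Nat.lt_or_ge i 6032 with h3 | h3
  · exact allR_spec _ (4524 : ℕ) (1508 : ℕ) wk6_3 i (by omega) (by omega)
  rcases Nat.lt_or_ge i 7540 with h4 | h4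
  · exact allR_spec _ (6032 : ℕ) (1508 : ℕ) wk6_4 i (by omega) (by omega)
  rcases Nat.lt_or_ge i 9048 with h5 | h5
  · exact allR_spec _ (7540 : ℕ) (1508 : ℕ) wk6_5 i (by omega) (by omega)
  rcases Nat.lt_or_ge i 10556 with h6 | h6
  · exact allR_spec _ (9048 : ℕ) (1508 : ℕ) wk6_6 i (by omega) (by omega)
  rcases Nat.lt_or_ge i 12064 with h7 | h7
  · exact allR_spec _ (10556 : ℕ) (1508 : ℕ) wk6_7 i (by omega) (by omega)
  rcases Nat.lt_or_ge i 13572 with h8 | h8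
  · exact allR_spec _ (12064 : ℕ) (1508 : ℕ) wk6_8 i (by omega) (by omega)
  rcases Nat.lt_or_ge i 15080 with h9 | h9
  · exact allR_spec _ (13572 : ℕ) (1508 : ℕ) wk6_9 i (by omega) (by omega)
  rcases Nat.lt_or_ge i 16588 with h10 | h10
  · exact allR_spec _ (15080 : ℕ) (1508 : ℕ) wk6_10 i (by omega) (by omega)
  rcases Nat.lt_or_ge i 18096 with h11 | h11
  · exact allR_spec _ (16588 : ℕ) (1508 : ℕ) wk6_11 i (by omega) (by omega)
  rcases Nat.lt_or_ge i 19604 with h12 | h12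
  · exact allR_spec _ (18096 : ℕ) (1508 : ℕ) wk6_12 i (by omega) (by omega)
  rcases Nat.lt_or_ge i 21112 with h13 | h13
  · exact allR_spec _ (19604 : ℕ) (1508 : ℕ) wk6_13 i (by omega) (by omega)
  rcases Nat.lt_or_ge i 22620 with h14 | h14
  · exact allR_spec _ (21112 : ℕ) (1508 : ℕ) wk6_14 i (by omega) (by omega)
  rcases Nat.lt_or_ge i 24128 with h15 | h15
  · exact allR_spec _ (22620 : ℕ) (1508 : ℕ) wk6_15 i (by omega) (by omega)
  rcases Nat.lt_or_ge i 25636 with h16 | h16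
  · exact allR_spec _ (24128 : ℕ) (1508 : ℕ) wk6_16 i (by omega) (by omega)
  rcases Nat.lt_or_ge i 27144 with h17 | h17
  · exact allR_spec _ (25636 : ℕ) (1508 : ℕ) wk6_17 i (by omega) (by omega)
  rcases Nat.lt_or_ge i 28652 with h18 | h18
  · exact allR_spec _ (27144 : ℕ) (1508 : ℕ) wk6_18 i (by omega) (by omega)
  rcases Nat.lt_or_ge i 30160 with h19 | h19
  · exact allR_spec _ (28652 : ℕ) (1508 : ℕ) wk6_19 i (by omega) (by omega)
  rcases Nat.lt_or_ge i 31668 with h20 | h20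
  · exact allR_spec _ (30160 : ℕ) (1508 : ℕ) wk6_20 i (by omega) (by omega)
  exact allR_spec _ (31668 : ℕ) (3 : ℕ) wk6_21 i (by omega) (by omega)
theorem wk7 : allR (OT.ckEqW [X6, X9, X7, X9, X6, X9, X7, X9, X6, X8, X8, X8, X8, X8, X7, X8, X8, X7] [X14]) (nat_lit 0) (nat_lit 31671) = true := by
  apply allR_of_forall
  intro i hi
  have hi : i < 31671 := hi
  rcases Nat.lt_or_ge i 1666 with h0 | h0
  · exact allR_spec _ (0 : ℕ) (1666 : ℕ) wk7_0 i (by omega) (by omega)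
  rcases Nat.lt_or_ge i 3332 with h1 | h1
  · exact allR_spec _ (1666 : ℕ) (1666 : ℕ) wk7_1 i (by omega) (by omega)
  rcases Nat.lt_or_ge i 4998 with h2 | h2
  · exact allR_spec _ (3332 : ℕ) (1666 : ℕ) wk7_2 i (by omega) (by omega)
  rcases Nat.lt_or_ge i 6664 with h3 | h3
  · exact allR_spec _ (4998 : ℕ) (1666 : ℕ) wk7_3 i (by omega) (by omega)
  rcases Nat.lt_or_ge i 8330 with h4 | h4
  · exact allR_spec _ (6664 : ℕ) (1666 : ℕ) wk7_4 i (by omega) (by omega)
  rcases Nat.lt_or_ge i 9996 with h5 | h5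
  · exact allR_spec _ (8330 : ℕ) (1666 : ℕ) wk7_5 i (by omega) (by omega)
  rcases Nat.lt_or_ge i 11662 with h6 | h6
  · exact allR_spec _ (9996 : ℕ) (1666 : ℕ) wk7_6 i (by omega) (by omega)
  rcases Nat.lt_or_ge i 13328 with h7 | h7
  · exact allR_spec _ (11662 : ℕ) (1666 : ℕ) wk7_7 i (by omega) (by omega)
  rcases Nat.lt_or_ge i 14994 with h8 | h8
  · exact allR_spec _ (13328 : ℕ) (1666 : ℕ) wk7_8 i (by omega) (by omega)
  rcases Nat.lt_or_ge i 16660 with h9 | h9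
  · exact allR_spec _ (14994 : ℕ) (1666 : ℕ) wk7_9 i (by omega) (by omega)
  rcases Nat.lt_or_ge i 18326 with h10 | h10
  · exact allR_spec _ (16660 : ℕ) (1666 : ℕ) wk7_10 i (by omega) (by omega)
  rcases Nat.lt_or_ge i 19992 with h11 | h11
  · exact allR_spec _ (18326 : ℕ) (1666 : ℕ) wk7_11 i (by omega) (by omega)
  rcases Nat.lt_or_ge i 21658 with h12 | h12
  · exact allR_spec _ (19992 : ℕ) (1666 : ℕ) wk7_12 i (by omega) (by omega)
  rcases Nat.lt_or_ge i 23324 with h13 | h13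
  · exact allR_spec _ (21658 : ℕ) (1666 : ℕ) wk7_13 i (by omega) (by omega)
  rcases Nat.lt_or_ge i 24990 with h14 | h14
  · exact allR_spec _ (23324 : ℕ) (1666 : ℕ) wk7_14 i (by omega) (by omega)
  rcases Nat.lt_or_ge i 26656 with h15 | h15
  · exact allR_spec _ (24990 : ℕ) (1666 : ℕ) wk7_15 i (by omega) (by omega)
  rcases Nat.lt_or_ge i 28322 with h16 | h16
  · exact allR_spec _ (26656 : ℕ) (1666 : ℕ) wk7_16 i (by omega) (by omega)
  rcases Nat.lt_or_ge i 29988 with h17 | h17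
  · exact allR_spec _ (28322 : ℕ) (1666 : ℕ) wk7_17 i (by omega) (by omega)
  rcases Nat.lt_or_ge i 31654 with h18 | h18
  · exact allR_spec _ (29988 : ℕ) (1666 : ℕ) wk7_18 i (by omega) (by omega)
  exact allR_spec _ (31654 : ℕ) (17 : ℕ) wk7_19 i (by omega) (by omega)
theorem wk8 : allR (OT.ckEqW [X13, X13, X13, X14, X12, X12, X10, X15, X13, X10, X12, X10] [X16]) (nat_lit 0) (nat_lit 31671) = true := by
  apply allR_of_forall
  intro i hi
  have hi : i < 31671 := hi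
  rcases Nat.lt_or_ge i 2436 with h0 | h0
  · exact allR_spec _ (0 : ℕ) (2436 : ℕ) wk8_0 i (by omega) (by omega)
  rcases Nat.lt_or_ge i 4872 with h1 | h1
  · exact allR_spec _ (2436 : ℕ) (2436 : ℕ) wk8_1 i (by omega) (by omega)
  rcases Nat.lt_or_ge i 7308 with h2 | h2
  · exact allR_spec _ (4872 : ℕ) (2436 : ℕ) wk8_2 i (by omega) (by omega)
  rcases Nat.lt_or_ge i 9744 with h3 | h3
  · exact allR_spec _ (7308 : ℕ) (2436 : ℕ) wk8_3 i (by omega) (by omega)
  rcases Nat.lt_or_ge i 12180 with h4 | h4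
  · exact allR_spec _ (9744 : ℕ) (2436 : ℕ) wk8_4 i (by omega) (by omega)
  rcases Nat.lt_or_ge i 14616 with h5 | h5
  · exact allR_spec _ (12180 : ℕ) (2436 : ℕ) wk8_5 i (by omega) (by omega)
  rcases Nat.lt_or_ge i 17052 with h6 | h6
  · exact allR_spec _ (14616 : ℕ) (2436 : ℕ) wk8_6 i (by omega) (by omega)
  rcases Nat.lt_or_ge i 19488 with h7 | h7
  · exact allR_spec _ (17052 : ℕ) (2436 : ℕ) wk8_7 i (by omega) (by omega)
  rcases Nat.lt_or_ge i 21924 with h8 | h8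
  · exact allR_spec _ (19488 : ℕ) (2436 : ℕ) wk8_8 i (by omega) (by omega)
  rcases Nat.lt_or_ge i 24360 with h9 | h9
  · exact allR_spec _ (21924 : ℕ) (2436 : ℕ) wk8_9 i (by omega) (by omega)
  rcases Nat.lt_or_ge i 26796 with h10 | h10
  · exact allR_spec _ (24360 : ℕ) (2436 : ℕ) wk8_10 i (by omega) (by omega)
  rcases Nat.lt_or_ge i 29232 with h11 | h11
  · exact allR_spec _ (26796 : ℕ) (2436 : ℕ) wk8_11 i (by omega) (by omega)
  rcases Nat.lt_or_ge i 31668 with h12 | h12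
  · exact allR_spec _ (29232 : ℕ) (2436 : ℕ) wk8_12 i (by omega) (by omega)
  exact allR_spec _ (31668 : ℕ) (3 : ℕ) wk8_13 i (by omega) (by omega)
theorem wk9 : allR (OT.ckEqW [X10, X15, X15, X11, X12, X10, X14, X11, X15, X10, X12, X10] [X18]) (nat_lit 0) (nat_lit 31671) = true := by
  apply allR_of_forall
  intro i hi
  have hi : i < 31671 := hi
  rcases Nat.lt_or_ge i 2436 with h0 | h0
  · exact allR_spec _ (0 : ℕ) (2436 : ℕ) wk9_0 i (by omega) (by omega)
  rcases Nat.lt_or_ge i 4872 with h1 | h1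
  · exact allR_spec _ (2436 : ℕ) (2436 : ℕ) wk9_1 i (by omega) (by omega)
  rcases Nat.lt_or_ge i 7308 with h2 | h2
  · exact allR_spec _ (4872 : ℕ) (2436 : ℕ) wk9_2 i (by omega) (by omega)
  rcases Nat.lt_or_ge i 9744 with h3 | h3
  · exact allR_spec _ (7308 : ℕ) (2436 : ℕ) wk9_3 i (by omega) (by omega)
  rcases Nat.lt_or_ge i 12180 with h4 | h4
  · exact allR_spec _ (9744 : ℕ) (2436 : ℕ) wk9_4 i (by omega) (by omega)
  rcases Nat.lt_or_ge i 14616 with h5 | h5
  · exact allR_spec _ (12180 : ℕ) (2436 : ℕ) wk9_5 i (by omega) (by omega)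
  rcases Nat.lt_or_ge i 17052 with h6 | h6
  · exact allR_spec _ (14616 : ℕ) (2436 : ℕ) wk9_6 i (by omega) (by omega)
  rcases Nat.lt_or_ge i 19488 with h7 | h7
  · exact allR_spec _ (17052 : ℕ) (2436 : ℕ) wk9_7 i (by omega) (by omega)
  rcases Nat.lt_or_ge i 21924 with h8 | h8
  · exact allR_spec _ (19488 : ℕ) (2436 : ℕ) wk9_8 i (by omega) (by omega)
  rcases Nat.lt_or_ge i 24360 with h9 | h9
  · exact allR_spec _ (21924 : ℕ) (2436 : ℕ) wk9_9 i (by omega) (by omega)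
  rcases Nat.lt_or_ge i 26796 with h10 | h10
  · exact allR_spec _ (24360 : ℕ) (2436 : ℕ) wk9_10 i (by omega) (by omega)
  rcases Nat.lt_or_ge i 29232 with h11 | h11
  · exact allR_spec _ (26796 : ℕ) (2436 : ℕ) wk9_11 i (by omega) (by omega)
  rcases Nat.lt_or_ge i 31668 with h12 | h12
  · exact allR_spec _ (29232 : ℕ) (2436 : ℕ) wk9_12 i (by omega) (by omega)
  exact allR_spec _ (31668 : ℕ) (3 : ℕ) wk9_13 i (by omega) (by omega)
theorem wk10 : allR (OT.ckEqW [X10, X12, X11, X14, X14, X14, X10, X12, X10] [X20]) (nat_lit 0) (nat_lit 31671) = true := by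
  apply allR_of_forall
  intro i hi
  have hi : i < 31671 := hi
  rcases Nat.lt_or_ge i 3167 with h0 | h0
  · exact allR_spec _ (0 : ℕ) (3167 : ℕ) wk10_0 i (by omega) (by omega)
  rcases Nat.lt_or_ge i 6334 with h1 | h1
  · exact allR_spec _ (3167 : ℕ) (3167 : ℕ) wk10_1 i (by omega) (by omega)
  rcases Nat.lt_or_ge i 9501 with h2 | h2
  · exact allR_spec _ (6334 : ℕ) (3167 : ℕ) wk10_2 i (by omega) (by omega)
  rcases Nat.lt_or_ge i 12668 with h3 | h3
  · exact allR_spec _ (9501 : ℕ) (3167 : ℕ) wk10_3 i (by omega) (by omega)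
  rcases Nat.lt_or_ge i 15835 with h4 | h4
  · exact allR_spec _ (12668 : ℕ) (3167 : ℕ) wk10_4 i (by omega) (by omega)
  rcases Nat.lt_or_ge i 19002 with h5 | h5
  · exact allR_spec _ (15835 : ℕ) (3167 : ℕ) wk10_5 i (by omega) (by omega)
  rcases Nat.lt_or_ge i 22169 with h6 | h6
  · exact allR_spec _ (19002 : ℕ) (3167 : ℕ) wk10_6 i (by omega) (by omega)
  rcases Nat.lt_or_ge i 25336 with h7 | h7
  · exact allR_spec _ (22169 : ℕ) (3167 : ℕ) wk10_7 i (by omega) (by omega)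
  rcases Nat.lt_or_ge i 28503 with h8 | h8
  · exact allR_spec _ (25336 : ℕ) (3167 : ℕ) wk10_8 i (by omega) (by omega)
  rcases Nat.lt_or_ge i 31670 with h9 | h9
  · exact allR_spec _ (28503 : ℕ) (3167 : ℕ) wk10_9 i (by omega) (by omega)
  exact allR_spec _ (31670 : ℕ) (1 : ℕ) wk10_10 i (by omega) (by omega)
theorem wk11 : allR (OT.ckEqW [X16, X18, X12, X11, X12, X8, X7, X8, X6, X9, X6, X6, X9, X7, X2, X4, X3, X4, X3, X3, X5, X5, X2, X4, X4, X2, T7, X1, X1, T9, X1, T4, X1, T8, T9, X0, X0, X0, T3, T2] [X22]) (nat_lit 0) (nat_lit 31671) = true := by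
  apply allR_of_forall
  intro i hi
  have hi : i < 31671 := hi
  rcases Nat.lt_or_ge i 772 with h0 | h0
  · exact allR_spec _ (0 : ℕ) (772 : ℕ) wk11_0 i (by omega) (by omega)
  rcases Nat.lt_or_ge i 1544 with h1 | h1
  · exact allR_spec _ (772 : ℕ) (772 : ℕ) wk11_1 i (by omega) (by omega)
  rcases Nat.lt_or_ge i 2316 with h2 | h2
  · exact allR_spec _ (1544 : ℕ) (772 : ℕ) wk11_2 i (by omega) (by omega)
  rcases Nat.lt_or_ge i 3088 with h3 | h3
  · exact allR_spec _ (2316 : ℕ) (772 : ℕ) wk11_3 i (by omega) (by omega)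
  rcases Nat.lt_or_ge i 3860 with h4 | h4
  · exact allR_spec _ (3088 : ℕ) (772 : ℕ) wk11_4 i (by omega) (by omega)
  rcases Nat.lt_or_ge i 4632 with h5 | h5
  · exact allR_spec _ (3860 : ℕ) (772 : ℕ) wk11_5 i (by omega) (by omega)
  rcases Nat.lt_or_ge i 5404 with h6 | h6
  · exact allR_spec _ (4632 : ℕ) (772 : ℕ) wk11_6 i (by omega) (by omega)
  rcases Nat.lt_or_ge i 6176 with h7 | h7
  · exact allR_spec _ (5404 : ℕ) (772 : ℕ) wk11_7 i (by omega) (by omega)
  rcases Nat.lt_or_ge i 6948 with h8 | h8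
  · exact allR_spec _ (6176 : ℕ) (772 : ℕ) wk11_8 i (by omega) (by omega)
  rcases Nat.lt_or_ge i 7720 with h9 | h9
  · exact allR_spec _ (6948 : ℕ) (772 : ℕ) wk11_9 i (by omega) (by omega)
  rcases Nat.lt_or_ge i 8492 with h10 | h10
  · exact allR_spec _ (7720 : ℕ) (772 : ℕ) wk11_10 i (by omega) (by omega)
  rcases Nat.lt_or_ge i 9264 with h11 | h11
  · exact allR_spec _ (8492 : ℕ) (772 : ℕ) wk11_11 i (by omega) (by omega)
  rcases Nat.lt_or_ge i 10036 with h12 | h12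
  · exact allR_spec _ (9264 : ℕ) (772 : ℕ) wk11_12 i (by omega) (by omega)
  rcases Nat.lt_or_ge i 10808 with h13 | h13
  · exact allR_spec _ (10036 : ℕ) (772 : ℕ) wk11_13 i (by omega) (by omega)
  rcases Nat.lt_or_ge i 11580 with h14 | h14
  · exact allR_spec _ (10808 : ℕ) (772 : ℕ) wk11_14 i (by omega) (by omega)
  rcases Nat.lt_or_ge i 12352 with h15 | h15
  · exact allR_spec _ (11580 : ℕ) (772 : ℕ) wk11_15 i (by omega) (by omega)
  rcases Nat.lt_or_ge i 13124 with h16 | h16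
  · exact allR_spec _ (12352 : ℕ) (772 : ℕ) wk11_16 i (by omega) (by omega)
  rcases Nat.lt_or_ge i 13896 with h17 | h17
  · exact allR_spec _ (13124 : ℕ) (772 : ℕ) wk11_17 i (by omega) (by omega)
  rcases Nat.lt_or_ge i 14668 with h18 | h18
  · exact allR_spec _ (13896 : ℕ) (772 : ℕ) wk11_18 i (by omega) (by omega)
  rcases Nat.lt_or_ge i 15440 with h19 | h19
  · exact allR_spec _ (14668 : ℕ) (772 : ℕ) wk11_19 i (by omega) (by omega)
  rcases Nat.lt_or_ge i 16212 with h20 | h20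
  · exact allR_spec _ (15440 : ℕ) (772 : ℕ) wk11_20 i (by omega) (by omega)
  rcases Nat.lt_or_ge i 16984 with h21 | h21
  · exact allR_spec _ (16212 : ℕ) (772 : ℕ) wk11_21 i (by omega) (by omega)
  rcases Nat.lt_or_ge i 17756 with h22 | h22
  · exact allR_spec _ (16984 : ℕ) (772 : ℕ) wk11_22 i (by omega) (by omega)
  rcases Nat.lt_or_ge i 18528 with h23 | h23
  · exact allR_spec _ (17756 : ℕ) (772 : ℕ) wk11_23 i (by omega) (by omega)
  rcases Nat.lt_or_ge i 19300 with h24 | h24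
  · exact allR_spec _ (18528 : ℕ) (772 : ℕ) wk11_24 i (by omega) (by omega)
  rcases Nat.lt_or_ge i 20072 with h25 | h25
  · exact allR_spec _ (19300 : ℕ) (772 : ℕ) wk11_25 i (by omega) (by omega)
  rcases Nat.lt_or_ge i 20844 with h26 | h26
  · exact allR_spec _ (20072 : ℕ) (772 : ℕ) wk11_26 i (by omega) (by omega)
  rcases Nat.lt_or_ge i 21616 with h27 | h27
  · exact allR_spec _ (20844 : ℕ) (772 : ℕ) wk11_27 i (by omega) (by omega)
  rcases Nat.lt_or_ge i 22388 with h28 | h28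
  · exact allR_spec _ (21616 : ℕ) (772 : ℕ) wk11_28 i (by omega) (by omega)
  rcases Nat.lt_or_ge i 23160 with h29 | h29
  · exact allR_spec _ (22388 : ℕ) (772 : ℕ) wk11_29 i (by omega) (by omega)
  rcases Nat.lt_or_ge i 23932 with h30 | h30
  · exact allR_spec _ (23160 : ℕ) (772 : ℕ) wk11_30 i (by omega) (by omega)
  rcases Nat.lt_or_ge i 24704 with h31 | h31
  · exact allR_spec _ (23932 : ℕ) (772 : ℕ) wk11_31 i (by omega) (by omega)
  rcases Nat.lt_or_ge i 25476 with h32 | h32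
  · exact allR_spec _ (24704 : ℕ) (772 : ℕ) wk11_32 i (by omega) (by omega)
  rcases Nat.lt_or_ge i 26248 with h33 | h33
  · exact allR_spec _ (25476 : ℕ) (772 : ℕ) wk11_33 i (by omega) (by omega)
  rcases Nat.lt_or_ge i 27020 with h34 | h34
  · exact allR_spec _ (26248 : ℕ) (772 : ℕ) wk11_34 i (by omega) (by omega)
  rcases Nat.lt_or_ge i 27792 with h35 | h35
  · exact allR_spec _ (27020 : ℕ) (772 : ℕ) wk11_35 i (by omega) (by omega)
  rcases Nat.lt_or_ge i 28564 with h36 | h36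
  · exact allR_spec _ (27792 : ℕ) (772 : ℕ) wk11_36 i (by omega) (by omega)
  rcases Nat.lt_or_ge i 29336 with h37 | h37
  · exact allR_spec _ (28564 : ℕ) (772 : ℕ) wk11_37 i (by omega) (by omega)
  rcases Nat.lt_or_ge i 30108 with h38 | h38
  · exact allR_spec _ (29336 : ℕ) (772 : ℕ) wk11_38 i (by omega) (by omega)
  rcases Nat.lt_or_ge i 30880 with h39 | h39
  · exact allR_spec _ (30108 : ℕ) (772 : ℕ) wk11_39 i (by omega) (by omega)
  rcases Nat.lt_or_ge i 31652 with h40 | h40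
  · exact allR_spec _ (30880 : ℕ) (772 : ℕ) wk11_40 i (by omega) (by omega)
  exact allR_spec _ (31652 : ℕ) (19 : ℕ) wk11_41 i (by omega) (by omega)
theorem wk12 : allR (OT.ckEqW [X18, X20, X15, X10, X10, X13, X10, X8, X6, X6, X8, X8, X8, X8, X7, X2, X4, X2, X4, X3, X4, X3, X4, X4, X3, X5, X3, X5, X3, X3, X3, T7, X1, X1, X1, T8, T3, T4, T9, T8, X0, X0] [X24]) (nat_lit 0) (nat_lit 31671) = true := by
  apply allR_of_forall
  intro i hi
  have hi : i < 31671 := hi
  rcases Nat.lt_or_ge i 736 with h0 | h0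
  · exact allR_spec _ (0 : ℕ) (736 : ℕ) wk12_0 i (by omega) (by omega)
  rcases Nat.lt_or_ge i 1472 with h1 | h1
  · exact allR_spec _ (736 : ℕ) (736 : ℕ) wk12_1 i (by omega) (by omega)
  rcases Nat.lt_or_ge i 2208 with h2 | h2
  · exact allR_spec _ (1472 : ℕ) (736 : ℕ) wk12_2 i (by omega) (by omega)
  rcases Nat.lt_or_ge i 2944 with h3 | h3
  · exact allR_spec _ (2208 : ℕ) (736 : ℕ) wk12_3 i (by omega) (by omega)
  rcases Nat.lt_or_ge i 3680 with h4 | h4
  · exact allR_spec _ (2944 : ℕ) (736 : ℕ) wk12_4 i (by omega) (by omega)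
  rcases Nat.lt_or_ge i 4416 with h5 | h5
  · exact allR_spec _ (3680 : ℕ) (736 : ℕ) wk12_5 i (by omega) (by omega)
  rcases Nat.lt_or_ge i 5152 with h6 | h6
  · exact allR_spec _ (4416 : ℕ) (736 : ℕ) wk12_6 i (by omega) (by omega)
  rcases Nat.lt_or_ge i 5888 with h7 | h7
  · exact allR_spec _ (5152 : ℕ) (736 : ℕ) wk12_7 i (by omega) (by omega)
  rcases Nat.lt_or_ge i 6624 with h8 | h8
  · exact allR_spec _ (5888 : ℕ) (736 : ℕ) wk12_8 i (by omega) (by omega)
  rcases Nat.lt_or_ge i 7360 with h9 | h9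
  · exact allR_spec _ (6624 : ℕ) (736 : ℕ) wk12_9 i (by omega) (by omega)
  rcases Nat.lt_or_ge i 8096 with h10 | h10
  · exact allR_spec _ (7360 : ℕ) (736 : ℕ) wk12_10 i (by omega) (by omega)
  rcases Nat.lt_or_ge i 8832 with h11 | h11
  · exact allR_spec _ (8096 : ℕ) (736 : ℕ) wk12_11 i (by omega) (by omega)
  rcases Nat.lt_or_ge i 9568 with h12 | h12
  · exact allR_spec _ (8832 : ℕ) (736 : ℕ) wk12_12 i (by omega) (by omega)
  rcases Nat.lt_or_ge i 10304 with h13 | h13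
  · exact allR_spec _ (9568 : ℕ) (736 : ℕ) wk12_13 i (by omega) (by omega)
  rcases Nat.lt_or_ge i 11040 with h14 | h14
  · exact allR_spec _ (10304 : ℕ) (736 : ℕ) wk12_14 i (by omega) (by omega)
  rcases Nat.lt_or_ge i 11776 with h15 | h15
  · exact allR_spec _ (11040 : ℕ) (736 : ℕ) wk12_15 i (by omega) (by omega)
  rcases Nat.lt_or_ge i 12512 with h16 | h16
  · exact allR_spec _ (11776 : ℕ) (736 : ℕ) wk12_16 i (by omega) (by omega)
  rcases Nat.lt_or_ge i 13248 with h17 | h17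
  · exact allR_spec _ (12512 : ℕ) (736 : ℕ) wk12_17 i (by omega) (by omega)
  rcases Nat.lt_or_ge i 13984 with h18 | h18
  · exact allR_spec _ (13248 : ℕ) (736 : ℕ) wk12_18 i (by omega) (by omega)
  rcases Nat.lt_or_ge i 14720 with h19 | h19
  · exact allR_spec _ (13984 : ℕ) (736 : ℕ) wk12_19 i (by omega) (by omega)
  rcases Nat.lt_or_ge i 15456 with h20 | h20
  · exact allR_spec _ (14720 : ℕ) (736 : ℕ) wk12_20 i (by omega) (by omega)
  rcases Nat.lt_or_ge i 16192 with h21 | h21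
  · exact allR_spec _ (15456 : ℕ) (736 : ℕ) wk12_21 i (by omega) (by omega)
  rcases Nat.lt_or_ge i 16928 with h22 | h22
  · exact allR_spec _ (16192 : ℕ) (736 : ℕ) wk12_22 i (by omega) (by omega)
  rcases Nat.lt_or_ge i 17664 with h23 | h23
  · exact allR_spec _ (16928 : ℕ) (736 : ℕ) wk12_23 i (by omega) (by omega)
  rcases Nat.lt_or_ge i 18400 with h24 | h24
  · exact allR_spec _ (17664 : ℕ) (736 : ℕ) wk12_24 i (by omega) (by omega)
  rcases Nat.lt_or_ge i 19136 with h25 | h25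
  · exact allR_spec _ (18400 : ℕ) (736 : ℕ) wk12_25 i (by omega) (by omega)
  rcases Nat.lt_or_ge i 19872 with h26 | h26
  · exact allR_spec _ (19136 : ℕ) (736 : ℕ) wk12_26 i (by omega) (by omega)
  rcases Nat.lt_or_ge i 20608 with h27 | h27
  · exact allR_spec _ (19872 : ℕ) (736 : ℕ) wk12_27 i (by omega) (by omega)
  rcases Nat.lt_or_ge i 21344 with h28 | h28
  · exact allR_spec _ (20608 : ℕ) (736 : ℕ) wk12_28 i (by omega) (by omega)
  rcases Nat.lt_or_ge i 22080 with h29 | h29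
  · exact allR_spec _ (21344 : ℕ) (736 : ℕ) wk12_29 i (by omega) (by omega)
  rcases Nat.lt_or_ge i 22816 with h30 | h30
  · exact allR_spec _ (22080 : ℕ) (736 : ℕ) wk12_30 i (by omega) (by omega)
  rcases Nat.lt_or_ge i 23552 with h31 | h31
  · exact allR_spec _ (22816 : ℕ) (736 : ℕ) wk12_31 i (by omega) (by omega)
  rcases Nat.lt_or_ge i 24288 with h32 | h32
  · exact allR_spec _ (23552 : ℕ) (736 : ℕ) wk12_32 i (by omega) (by omega)
  rcases Nat.lt_or_ge i 25024 with h33 | h33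
  · exact allR_spec _ (24288 : ℕ) (736 : ℕ) wk12_33 i (by omega) (by omega)
  rcases Nat.lt_or_ge i 25760 with h34 | h34
  · exact allR_spec _ (25024 : ℕ) (736 : ℕ) wk12_34 i (by omega) (by omega)
  rcases Nat.lt_or_ge i 26496 with h35 | h35
  · exact allR_spec _ (25760 : ℕ) (736 : ℕ) wk12_35 i (by omega) (by omega)
  rcases Nat.lt_or_ge i 27232 with h36 | h36
  · exact allR_spec _ (26496 : ℕ) (736 : ℕ) wk12_36 i (by omega) (by omega)
  rcases Nat.lt_or_ge i 27968 with h37 | h37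
  · exact allR_spec _ (27232 : ℕ) (736 : ℕ) wk12_37 i (by omega) (by omega)
  rcases Nat.lt_or_ge i 28704 with h38 | h38
  · exact allR_spec _ (27968 : ℕ) (736 : ℕ) wk12_38 i (by omega) (by omega)
  rcases Nat.lt_or_ge i 29440 with h39 | h39
  · exact allR_spec _ (28704 : ℕ) (736 : ℕ) wk12_39 i (by omega) (by omega)
  rcases Nat.lt_or_ge i 30176 with h40 | h40
  · exact allR_spec _ (29440 : ℕ) (736 : ℕ) wk12_40 i (by omega) (by omega)
  rcases Nat.lt_or_ge i 30912 with h41 | h41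
  · exact allR_spec _ (30176 : ℕ) (736 : ℕ) wk12_41 i (by omega) (by omega)
  rcases Nat.lt_or_ge i 31648 with h42 | h42
  · exact allR_spec _ (30912 : ℕ) (736 : ℕ) wk12_42 i (by omega) (by omega)
  exact allR_spec _ (31648 : ℕ) (23 : ℕ) wk12_43 i (by omega) (by omega)
theorem wk13 : allR (OT.ckEqW [X22, X22] [X26]) (nat_lit 0) (nat_lit 31671) = true := by
  apply allR_of_forall
  intro i hi
  have hi : i < 31671 := hi
  rcases Nat.lt_or_ge i 10557 with h0 | h0
  · exact allR_spec _ (0 : ℕ) (10557 : ℕ) wk13_0 i (by omega) (by omega)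
  rcases Nat.lt_or_ge i 21114 with h1 | h1
  · exact allR_spec _ (10557 : ℕ) (10557 : ℕ) wk13_1 i (by omega) (by omega)
  exact allR_spec _ (21114 : ℕ) (10557 : ℕ) wk13_2 i (by omega) (by omega)
theorem wk14 : allR (OT.ckEqW [X0, X25, X25, X0, X23, X24, X0, X24, X1, X25, X23, X25, X23, X1, X22] [X28]) (nat_lit 0) (nat_lit 31671) = true := by
  apply allR_of_forall
  intro i hi
  have hi : i < 31671 := hi
  rcases Nat.lt_or_ge i 1979 with h0 | h0
  · exact allR_spec _ (0 : ℕ) (1979 : ℕ) wk14_0 i (by omega) (by omega)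
  rcases Nat.lt_or_ge i 3958 with h1 | h1
  · exact allR_spec _ (1979 : ℕ) (1979 : ℕ) wk14_1 i (by omega) (by omega)
  rcases Nat.lt_or_ge i 5937 with h2 | h2
  · exact allR_spec _ (3958 : ℕ) (1979 : ℕ) wk14_2 i (by omega) (by omega)
  rcases Nat.lt_or_ge i 7916 with h3 | h3
  · exact allR_spec _ (5937 : ℕ) (1979 : ℕ) wk14_3 i (by omega) (by omega)
  rcases Nat.lt_or_ge i 9895 with h4 | h4
  · exact allR_spec _ (7916 : ℕ) (1979 : ℕ) wk14_4 i (by omega) (by omega)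
  rcases Nat.lt_or_ge i 11874 with h5 | h5
  · exact allR_spec _ (9895 : ℕ) (1979 : ℕ) wk14_5 i (by omega) (by omega)
  rcases Nat.lt_or_ge i 13853 with h6 | h6
  · exact allR_spec _ (11874 : ℕ) (1979 : ℕ) wk14_6 i (by omega) (by omega)
  rcases Nat.lt_or_ge i 15832 with h7 | h7
  · exact allR_spec _ (13853 : ℕ) (1979 : ℕ) wk14_7 i (by omega) (by omega)
  rcases Nat.lt_or_ge i 17811 with h8 | h8
  · exact allR_spec _ (15832 : ℕ) (1979 : ℕ) wk14_8 i (by omega) (by omega)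
  rcases Nat.lt_or_ge i 19790 with h9 | h9
  · exact allR_spec _ (17811 : ℕ) (1979 : ℕ) wk14_9 i (by omega) (by omega)
  rcases Nat.lt_or_ge i 21769 with h10 | h10
  · exact allR_spec _ (19790 : ℕ) (1979 : ℕ) wk14_10 i (by omega) (by omega)
  rcases Nat.lt_or_ge i 23748 with h11 | h11
  · exact allR_spec _ (21769 : ℕ) (1979 : ℕ) wk14_11 i (by omega) (by omega)
  rcases Nat.lt_or_ge i 25727 with h12 | h12
  · exact allR_spec _ (23748 : ℕ) (1979 : ℕ) wk14_12 i (by omega) (by omega)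
  rcases Nat.lt_or_ge i 27706 with h13 | h13
  · exact allR_spec _ (25727 : ℕ) (1979 : ℕ) wk14_13 i (by omega) (by omega)
  rcases Nat.lt_or_ge i 29685 with h14 | h14
  · exact allR_spec _ (27706 : ℕ) (1979 : ℕ) wk14_14 i (by omega) (by omega)
  rcases Nat.lt_or_ge i 31664 with h15 | h15
  · exact allR_spec _ (29685 : ℕ) (1979 : ℕ) wk14_15 i (by omega) (by omega)
  exact allR_spec _ (31664 : ℕ) (7 : ℕ) wk14_16 i (by omega) (by omega)
theorem wk15 : allR (OT.ckEqW [X24, X24, X0, X0, X24, X1, X23, X24, X22, X0, X25, X0, X25, X25, X0] [X30]) (nat_lit 0) (nat_lit 31671) = true := by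
  apply allR_of_forall
  intro i hi
  have hi : i < 31671 := hi
  rcases Nat.lt_or_ge i 1979 with h0 | h0
  · exact allR_spec _ (0 : ℕ) (1979 : ℕ) wk15_0 i (by omega) (by omega)
  rcases Nat.lt_or_ge i 3958 with h1 | h1
  · exact allR_spec _ (1979 : ℕ) (1979 : ℕ) wk15_1 i (by omega) (by omega)
  rcases Nat.lt_or_ge i 5937 with h2 | h2
  · exact allR_spec _ (3958 : ℕ) (1979 : ℕ) wk15_2 i (by omega) (by omega)
  rcases Nat.lt_or_ge i 7916 with h3 | h3
  · exact allR_spec _ (5937 : ℕ) (1979 : ℕ) wk15_3 i (by omega) (by omega)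
  rcases Nat.lt_or_ge i 9895 with h4 | h4
  · exact allR_spec _ (7916 : ℕ) (1979 : ℕ) wk15_4 i (by omega) (by omega)
  rcases Nat.lt_or_ge i 11874 with h5 | h5
  · exact allR_spec _ (9895 : ℕ) (1979 : ℕ) wk15_5 i (by omega) (by omega)
  rcases Nat.lt_or_ge i 13853 with h6 | h6
  · exact allR_spec _ (11874 : ℕ) (1979 : ℕ) wk15_6 i (by omega) (by omega)
  rcases Nat.lt_or_ge i 15832 with h7 | h7
  · exact allR_spec _ (13853 : ℕ) (1979 : ℕ) wk15_7 i (by omega) (by omega)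
  rcases Nat.lt_or_ge i 17811 with h8 | h8
  · exact allR_spec _ (15832 : ℕ) (1979 : ℕ) wk15_8 i (by omega) (by omega)
  rcases Nat.lt_or_ge i 19790 with h9 | h9
  · exact allR_spec _ (17811 : ℕ) (1979 : ℕ) wk15_9 i (by omega) (by omega)
  rcases Nat.lt_or_ge i 21769 with h10 | h10
  · exact allR_spec _ (19790 : ℕ) (1979 : ℕ) wk15_10 i (by omega) (by omega)
  rcases Nat.lt_or_ge i 23748 with h11 | h11
  · exact allR_spec _ (21769 : ℕ) (1979 : ℕ) wk15_11 i (by omega) (by omega)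
  rcases Nat.lt_or_ge i 25727 with h12 | h12
  · exact allR_spec _ (23748 : ℕ) (1979 : ℕ) wk15_12 i (by omega) (by omega)
  rcases Nat.lt_or_ge i 27706 with h13 | h13
  · exact allR_spec _ (25727 : ℕ) (1979 : ℕ) wk15_13 i (by omega) (by omega)
  rcases Nat.lt_or_ge i 29685 with h14 | h14
  · exact allR_spec _ (27706 : ℕ) (1979 : ℕ) wk15_14 i (by omega) (by omega)
  rcases Nat.lt_or_ge i 31664 with h15 | h15
  · exact allR_spec _ (29685 : ℕ) (1979 : ℕ) wk15_15 i (by omega) (by omega)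
  exact allR_spec _ (31664 : ℕ) (7 : ℕ) wk15_16 i (by omega) (by omega)
theorem wk16 : allR (OT.ckEqW [X30, X30, X29, X29, X29, X30, X30, X29, X31, X31, X28, X28, X28, X30, X28, X28, X31] [X32]) (nat_lit 0) (nat_lit 31671) = true := by
  apply allR_of_forall
  intro i hi
  have hi : i < 31671 := hi
  rcases Nat.lt_or_ge i 1759 with h0 | h0
  · exact allR_spec _ (0 : ℕ) (1759 : ℕ) wk16_0 i (by omega) (by omega)
  rcases Nat.lt_or_ge i 3518 with h1 | h1
  · exact allR_spec _ (1759 : ℕ) (1759 : ℕ) wk16_1 i (by omega) (by omega)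
  rcases Nat.lt_or_ge i 5277 with h2 | h2
  · exact allR_spec _ (3518 : ℕ) (1759 : ℕ) wk16_2 i (by omega) (by omega)
  rcases Nat.lt_or_ge i 7036 with h3 | h3
  · exact allR_spec _ (5277 : ℕ) (1759 : ℕ) wk16_3 i (by omega) (by omega)
  rcases Nat.lt_or_ge i 8795 with h4 | h4
  · exact allR_spec _ (7036 : ℕ) (1759 : ℕ) wk16_4 i (by omega) (by omega)
  rcases Nat.lt_or_ge i 10554 with h5 | h5
  · exact allR_spec _ (8795 : ℕ) (1759 : ℕ) wk16_5 i (by omega) (by omega)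
  rcases Nat.lt_or_ge i 12313 with h6 | h6
  · exact allR_spec _ (10554 : ℕ) (1759 : ℕ) wk16_6 i (by omega) (by omega)
  rcases Nat.lt_or_ge i 14072 with h7 | h7
  · exact allR_spec _ (12313 : ℕ) (1759 : ℕ) wk16_7 i (by omega) (by omega)
  rcases Nat.lt_or_ge i 15831 with h8 | h8
  · exact allR_spec _ (14072 : ℕ) (1759 : ℕ) wk16_8 i (by omega) (by omega)
  rcases Nat.lt_or_ge i 17590 with h9 | h9
  · exact allR_spec _ (15831 : ℕ) (1759 : ℕ) wk16_9 i (by omega) (by omega)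
  rcases Nat.lt_or_ge i 19349 with h10 | h10
  · exact allR_spec _ (17590 : ℕ) (1759 : ℕ) wk16_10 i (by omega) (by omega)
  rcases Nat.lt_or_ge i 21108 with h11 | h11
  · exact allR_spec _ (19349 : ℕ) (1759 : ℕ) wk16_11 i (by omega) (by omega)
  rcases Nat.lt_or_ge i 22867 with h12 | h12
  · exact allR_spec _ (21108 : ℕ) (1759 : ℕ) wk16_12 i (by omega) (by omega)
  rcases Nat.lt_or_ge i 24626 with h13 | h13
  · exact allR_spec _ (22867 : ℕ) (1759 : ℕ) wk16_13 i (by omega) (by omega)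
  rcases Nat.lt_or_ge i 26385 with h14 | h14
  · exact allR_spec _ (24626 : ℕ) (1759 : ℕ) wk16_14 i (by omega) (by omega)
  rcases Nat.lt_or_ge i 28144 with h15 | h15
  · exact allR_spec _ (26385 : ℕ) (1759 : ℕ) wk16_15 i (by omega) (by omega)
  rcases Nat.lt_or_ge i 29903 with h16 | h16
  · exact allR_spec _ (28144 : ℕ) (1759 : ℕ) wk16_16 i (by omega) (by omega)
  rcases Nat.lt_or_ge i 31662 with h17 | h17
  · exact allR_spec _ (29903 : ℕ) (1759 : ℕ) wk16_17 i (by omega) (by omega)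
  exact allR_spec _ (31662 : ℕ) (9 : ℕ) wk16_18 i (by omega) (by omega)
theorem wk17 : allR (OT.ckEqW [X30, X29, X31, X31, X31, X28, X30, X29, X29, X30, X29, X29, X31, X29, X30, X30, X29, X29, X29] [X34]) (nat_lit 0) (nat_lit 31671) = true := by
  apply allR_of_forall
  intro i hi
  have hi : i < 31671 := hi
  rcases Nat.lt_or_ge i 1583 with h0 | h0
  · exact allR_spec _ (0 : ℕ) (1583 : ℕ) wk17_0 i (by omega) (by omega)
  rcases Nat.lt_or_ge i 3166 with h1 | h1
  · exact allR_spec _ (1583 : ℕ) (1583 : ℕ) wk17_1 i (by omega) (by omega)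
  rcases Nat.lt_or_ge i 4749 with h2 | h2
  · exact allR_spec _ (3166 : ℕ) (1583 : ℕ) wk17_2 i (by omega) (by omega)
  rcases Nat.lt_or_ge i 6332 with h3 | h3
  · exact allR_spec _ (4749 : ℕ) (1583 : ℕ) wk17_3 i (by omega) (by omega)
  rcases Nat.lt_or_ge i 7915 with h4 | h4
  · exact allR_spec _ (6332 : ℕ) (1583 : ℕ) wk17_4 i (by omega) (by omega)
  rcases Nat.lt_or_ge i 9498 with h5 | h5
  · exact allR_spec _ (7915 : ℕ) (1583 : ℕ) wk17_5 i (by omega) (by omega)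
  rcases Nat.lt_or_ge i 11081 with h6 | h6
  · exact allR_spec _ (9498 : ℕ) (1583 : ℕ) wk17_6 i (by omega) (by omega)
  rcases Nat.lt_or_ge i 12664 with h7 | h7
  · exact allR_spec _ (11081 : ℕ) (1583 : ℕ) wk17_7 i (by omega) (by omega)
  rcases Nat.lt_or_ge i 14247 with h8 | h8
  · exact allR_spec _ (12664 : ℕ) (1583 : ℕ) wk17_8 i (by omega) (by omega)
  rcases Nat.lt_or_ge i 15830 with h9 | h9
  · exact allR_spec _ (14247 : ℕ) (1583 : ℕ) wk17_9 i (by omega) (by omega)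
  rcases Nat.lt_or_ge i 17413 with h10 | h10
  · exact allR_spec _ (15830 : ℕ) (1583 : ℕ) wk17_10 i (by omega) (by omega)
  rcases Nat.lt_or_ge i 18996 with h11 | h11
  · exact allR_spec _ (17413 : ℕ) (1583 : ℕ) wk17_11 i (by omega) (by omega)
  rcases Nat.lt_or_ge i 20579 with h12 | h12
  · exact allR_spec _ (18996 : ℕ) (1583 : ℕ) wk17_12 i (by omega) (by omega)
  rcases Nat.lt_or_ge i 22162 with h13 | h13
  · exact allR_spec _ (20579 : ℕ) (1583 : ℕ) wk17_13 i (by omega) (by omega)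
  rcases Nat.lt_or_ge i 23745 with h14 | h14
  · exact allR_spec _ (22162 : ℕ) (1583 : ℕ) wk17_14 i (by omega) (by omega)
  rcases Nat.lt_or_ge i 25328 with h15 | h15
  · exact allR_spec _ (23745 : ℕ) (1583 : ℕ) wk17_15 i (by omega) (by omega)
  rcases Nat.lt_or_ge i 26911 with h16 | h16
  · exact allR_spec _ (25328 : ℕ) (1583 : ℕ) wk17_16 i (by omega) (by omega)
  rcases Nat.lt_or_ge i 28494 with h17 | h17
  · exact allR_spec _ (26911 : ℕ) (1583 : ℕ) wk17_17 i (by omega) (by omega)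
  rcases Nat.lt_or_ge i 30077 with h18 | h18
  · exact allR_spec _ (28494 : ℕ) (1583 : ℕ) wk17_18 i (by omega) (by omega)
  rcases Nat.lt_or_ge i 31660 with h19 | h19
  · exact allR_spec _ (30077 : ℕ) (1583 : ℕ) wk17_19 i (by omega) (by omega)
  exact allR_spec _ (31660 : ℕ) (11 : ℕ) wk17_20 i (by omega) (by omega)
theorem wk18 : allR (OT.ckEqW [X33, X33, X33, X33, X35, X32, X34, X34, X33, X35, X33, X34, X32, X35, X33, X35, X35, X35, X33] [X36]) (nat_lit 0) (nat_lit 31671) = true := by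
  apply allR_of_forall
  intro i hi
  have hi : i < 31671 := hi
  rcases Nat.lt_or_ge i 1583 with h0 | h0
  · exact allR_spec _ (0 : ℕ) (1583 : ℕ) wk18_0 i (by omega) (by omega)
  rcases Nat.lt_or_ge i 3166 with h1 | h1
  · exact allR_spec _ (1583 : ℕ) (1583 : ℕ) wk18_1 i (by omega) (by omega)
  rcases Nat.lt_or_ge i 4749 with h2 | h2
  · exact allR_spec _ (3166 : ℕ) (1583 : ℕ) wk18_2 i (by omega) (by omega)
  rcases Nat.lt_or_ge i 6332 with h3 | h3
  · exact allR_spec _ (4749 : ℕ) (1583 : ℕ) wk18_3 i (by omega) (by omega)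
  rcases Nat.lt_or_ge i 7915 with h4 | h4
  · exact allR_spec _ (6332 : ℕ) (1583 : ℕ) wk18_4 i (by omega) (by omega)
  rcases Nat.lt_or_ge i 9498 with h5 | h5
  · exact allR_spec _ (7915 : ℕ) (1583 : ℕ) wk18_5 i (by omega) (by omega)
  rcases Nat.lt_or_ge i 11081 with h6 | h6
  · exact allR_spec _ (9498 : ℕ) (1583 : ℕ) wk18_6 i (by omega) (by omega)
  rcases Nat.lt_or_ge i 12664 with h7 | h7
  · exact allR_spec _ (11081 : ℕ) (1583 : ℕ) wk18_7 i (by omega) (by omega)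
  rcases Nat.lt_or_ge i 14247 with h8 | h8
  · exact allR_spec _ (12664 : ℕ) (1583 : ℕ) wk18_8 i (by omega) (by omega)
  rcases Nat.lt_or_ge i 15830 with h9 | h9
  · exact allR_spec _ (14247 : ℕ) (1583 : ℕ) wk18_9 i (by omega) (by omega)
  rcases Nat.lt_or_ge i 17413 with h10 | h10
  · exact allR_spec _ (15830 : ℕ) (1583 : ℕ) wk18_10 i (by omega) (by omega)
  rcases Nat.lt_or_ge i 18996 with h11 | h11
  · exact allR_spec _ (17413 : ℕ) (1583 : ℕ) wk18_11 i (by omega) (by omega)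
  rcases Nat.lt_or_ge i 20579 with h12 | h12
  · exact allR_spec _ (18996 : ℕ) (1583 : ℕ) wk18_12 i (by omega) (by omega)
  rcases Nat.lt_or_ge i 22162 with h13 | h13
  · exact allR_spec _ (20579 : ℕ) (1583 : ℕ) wk18_13 i (by omega) (by omega)
  rcases Nat.lt_or_ge i 23745 with h14 | h14
  · exact allR_spec _ (22162 : ℕ) (1583 : ℕ) wk18_14 i (by omega) (by omega)
  rcases Nat.lt_or_ge i 25328 with h15 | h15
  · exact allR_spec _ (23745 : ℕ) (1583 : ℕ) wk18_15 i (by omega) (by omega)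
  rcases Nat.lt_or_ge i 26911 with h16 | h16
  · exact allR_spec _ (25328 : ℕ) (1583 : ℕ) wk18_16 i (by omega) (by omega)
  rcases Nat.lt_or_ge i 28494 with h17 | h17
  · exact allR_spec _ (26911 : ℕ) (1583 : ℕ) wk18_17 i (by omega) (by omega)
  rcases Nat.lt_or_ge i 30077 with h18 | h18
  · exact allR_spec _ (28494 : ℕ) (1583 : ℕ) wk18_18 i (by omega) (by omega)
  rcases Nat.lt_or_ge i 31660 with h19 | h19
  · exact allR_spec _ (30077 : ℕ) (1583 : ℕ) wk18_19 i (by omega) (by omega)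
  exact allR_spec _ (31660 : ℕ) (11 : ℕ) wk18_20 i (by omega) (by omega)
theorem wk19 : allR (OT.ckEqW [X35, X32, X34, X32, X35, X33, X34, X33, X34, X33, X34, X34] [X38]) (nat_lit 0) (nat_lit 31671) = true := by
  apply allR_of_forall
  intro i hi
  have hi : i < 31671 := hi
  rcases Nat.lt_or_ge i 2436 with h0 | h0
  · exact allR_spec _ (0 : ℕ) (2436 : ℕ) wk19_0 i (by omega) (by omega)
  rcases Nat.lt_or_ge i 4872 with h1 | h1
  · exact allR_spec _ (2436 : ℕ) (2436 : ℕ) wk19_1 i (by omega) (by omega)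
  rcases Nat.lt_or_ge i 7308 with h2 | h2
  · exact allR_spec _ (4872 : ℕ) (2436 : ℕ) wk19_2 i (by omega) (by omega)
  rcases Nat.lt_or_ge i 9744 with h3 | h3
  · exact allR_spec _ (7308 : ℕ) (2436 : ℕ) wk19_3 i (by omega) (by omega)
  rcases Nat.lt_or_ge i 12180 with h4 | h4
  · exact allR_spec _ (9744 : ℕ) (2436 : ℕ) wk19_4 i (by omega) (by omega)
  rcases Nat.lt_or_ge i 14616 with h5 | h5
  · exact allR_spec _ (12180 : ℕ) (2436 : ℕ) wk19_5 i (by omega) (by omega)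
  rcases Nat.lt_or_ge i 17052 with h6 | h6
  · exact allR_spec _ (14616 : ℕ) (2436 : ℕ) wk19_6 i (by omega) (by omega)
  rcases Nat.lt_or_ge i 19488 with h7 | h7
  · exact allR_spec _ (17052 : ℕ) (2436 : ℕ) wk19_7 i (by omega) (by omega)
  rcases Nat.lt_or_ge i 21924 with h8 | h8
  · exact allR_spec _ (19488 : ℕ) (2436 : ℕ) wk19_8 i (by omega) (by omega)
  rcases Nat.lt_or_ge i 24360 with h9 | h9
  · exact allR_spec _ (21924 : ℕ) (2436 : ℕ) wk19_9 i (by omega) (by omega)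
  rcases Nat.lt_or_ge i 26796 with h10 | h10
  · exact allR_spec _ (24360 : ℕ) (2436 : ℕ) wk19_10 i (by omega) (by omega)
  rcases Nat.lt_or_ge i 29232 with h11 | h11
  · exact allR_spec _ (26796 : ℕ) (2436 : ℕ) wk19_11 i (by omega) (by omega)
  rcases Nat.lt_or_ge i 31668 with h12 | h12
  · exact allR_spec _ (29232 : ℕ) (2436 : ℕ) wk19_12 i (by omega) (by omega)
  exact allR_spec _ (31668 : ℕ) (3 : ℕ) wk19_13 i (by omega) (by omega)
theorem wk20 : allR (OT.ckEqW [X35, X35, X32, X32, X32, X32, X32, X34, X34, X32, X32, X32] [X40]) (nat_lit 0) (nat_lit 31671) = true := by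
  apply allR_of_forall
  intro i hi
  have hi : i < 31671 := hi
  rcases Nat.lt_or_ge i 2436 with h0 | h0
  · exact allR_spec _ (0 : ℕ) (2436 : ℕ) wk20_0 i (by omega) (by omega)
  rcases Nat.lt_or_ge i 4872 with h1 | h1
  · exact allR_spec _ (2436 : ℕ) (2436 : ℕ) wk20_1 i (by omega) (by omega)
  rcases Nat.lt_or_ge i 7308 with h2 | h2
  · exact allR_spec _ (4872 : ℕ) (2436 : ℕ) wk20_2 i (by omega) (by omega)
  rcases Nat.lt_or_ge i 9744 with h3 | h3
  · exact allR_spec _ (7308 : ℕ) (2436 : ℕ) wk20_3 i (by omega) (by omega)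
  rcases Nat.lt_or_ge i 12180 with h4 | h4
  · exact allR_spec _ (9744 : ℕ) (2436 : ℕ) wk20_4 i (by omega) (by omega)
  rcases Nat.lt_or_ge i 14616 with h5 | h5
  · exact allR_spec _ (12180 : ℕ) (2436 : ℕ) wk20_5 i (by omega) (by omega)
  rcases Nat.lt_or_ge i 17052 with h6 | h6
  · exact allR_spec _ (14616 : ℕ) (2436 : ℕ) wk20_6 i (by omega) (by omega)
  rcases Nat.lt_or_ge i 19488 with h7 | h7
  · exact allR_spec _ (17052 : ℕ) (2436 : ℕ) wk20_7 i (by omega) (by omega)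
  rcases Nat.lt_or_ge i 21924 with h8 | h8
  · exact allR_spec _ (19488 : ℕ) (2436 : ℕ) wk20_8 i (by omega) (by omega)
  rcases Nat.lt_or_ge i 24360 with h9 | h9
  · exact allR_spec _ (21924 : ℕ) (2436 : ℕ) wk20_9 i (by omega) (by omega)
  rcases Nat.lt_or_ge i 26796 with h10 | h10
  · exact allR_spec _ (24360 : ℕ) (2436 : ℕ) wk20_10 i (by omega) (by omega)
  rcases Nat.lt_or_ge i 29232 with h11 | h11
  · exact allR_spec _ (26796 : ℕ) (2436 : ℕ) wk20_11 i (by omega) (by omega)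
  rcases Nat.lt_or_ge i 31668 with h12 | h12
  · exact allR_spec _ (29232 : ℕ) (2436 : ℕ) wk20_12 i (by omega) (by omega)
  exact allR_spec _ (31668 : ℕ) (3 : ℕ) wk20_13 i (by omega) (by omega)
theorem wk21 : allR (OT.ckEqW [X39, X37, X37, X38, X40, X37, X37, X38, X41] [X42]) (nat_lit 0) (nat_lit 31671) = true := by
  apply allR_of_forall
  intro i hi
  have hi : i < 31671 := hi
  rcases Nat.lt_or_ge i 3167 with h0 | h0
  · exact allR_spec _ (0 : ℕ) (3167 : ℕ) wk21_0 i (by omega) (by omega)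
  rcases Nat.lt_or_ge i 6334 with h1 | h1
  · exact allR_spec _ (3167 : ℕ) (3167 : ℕ) wk21_1 i (by omega) (by omega)
  rcases Nat.lt_or_ge i 9501 with h2 | h2
  · exact allR_spec _ (6334 : ℕ) (3167 : ℕ) wk21_2 i (by omega) (by omega)
  rcases Nat.lt_or_ge i 12668 with h3 | h3
  · exact allR_spec _ (9501 : ℕ) (3167 : ℕ) wk21_3 i (by omega) (by omega)
  rcases Nat.lt_or_ge i 15835 with h4 | h4
  · exact allR_spec _ (12668 : ℕ) (3167 : ℕ) wk21_4 i (by omega) (by omega)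
  rcases Nat.lt_or_ge i 19002 with h5 | h5
  · exact allR_spec _ (15835 : ℕ) (3167 : ℕ) wk21_5 i (by omega) (by omega)
  rcases Nat.lt_or_ge i 22169 with h6 | h6
  · exact allR_spec _ (19002 : ℕ) (3167 : ℕ) wk21_6 i (by omega) (by omega)
  rcases Nat.lt_or_ge i 25336 with h7 | h7
  · exact allR_spec _ (22169 : ℕ) (3167 : ℕ) wk21_7 i (by omega) (by omega)
  rcases Nat.lt_or_ge i 28503 with h8 | h8
  · exact allR_spec _ (25336 : ℕ) (3167 : ℕ) wk21_8 i (by omega) (by omega)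
  rcases Nat.lt_or_ge i 31670 with h9 | h9
  · exact allR_spec _ (28503 : ℕ) (3167 : ℕ) wk21_9 i (by omega) (by omega)
  exact allR_spec _ (31670 : ℕ) (1 : ℕ) wk21_10 i (by omega) (by omega)
theorem wk22 : allR (OT.ckEqW [X38, X36, X38, X38, X41, X41, X37, X40, X36, X36, X36, X38, X36, X36] [X44]) (nat_lit 0) (nat_lit 31671) = true := by
  apply allR_of_forall
  intro i hi
  have hi : i < 31671 := hi
  rcases Nat.lt_or_ge i 2111 with h0 | h0
  · exact allR_spec _ (0 : ℕ) (2111 : ℕ) wk22_0 i (by omega) (by omega)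
  rcases Nat.lt_or_ge i 4222 with h1 | h1
  · exact allR_spec _ (2111 : ℕ) (2111 : ℕ) wk22_1 i (by omega) (by omega)
  rcases Nat.lt_or_ge i 6333 with h2 | h2
  · exact allR_spec _ (4222 : ℕ) (2111 : ℕ) wk22_2 i (by omega) (by omega)
  rcases Nat.lt_or_ge i 8444 with h3 | h3
  · exact allR_spec _ (6333 : ℕ) (2111 : ℕ) wk22_3 i (by omega) (by omega)
  rcases Nat.lt_or_ge i 10555 with h4 | h4
  · exact allR_spec _ (8444 : ℕ) (2111 : ℕ) wk22_4 i (by omega) (by omega)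
  rcases Nat.lt_or_ge i 12666 with h5 | h5
  · exact allR_spec _ (10555 : ℕ) (2111 : ℕ) wk22_5 i (by omega) (by omega)
  rcases Nat.lt_or_ge i 14777 with h6 | h6
  · exact allR_spec _ (12666 : ℕ) (2111 : ℕ) wk22_6 i (by omega) (by omega)
  rcases Nat.lt_or_ge i 16888 with h7 | h7
  · exact allR_spec _ (14777 : ℕ) (2111 : ℕ) wk22_7 i (by omega) (by omega)
  rcases Nat.lt_or_ge i 18999 with h8 | h8
  · exact allR_spec _ (16888 : ℕ) (2111 : ℕ) wk22_8 i (by omega) (by omega)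
  rcases Nat.lt_or_ge i 21110 with h9 | h9
  · exact allR_spec _ (18999 : ℕ) (2111 : ℕ) wk22_9 i (by omega) (by omega)
  rcases Nat.lt_or_ge i 23221 with h10 | h10
  · exact allR_spec _ (21110 : ℕ) (2111 : ℕ) wk22_10 i (by omega) (by omega)
  rcases Nat.lt_or_ge i 25332 with h11 | h11
  · exact allR_spec _ (23221 : ℕ) (2111 : ℕ) wk22_11 i (by omega) (by omega)
  rcases Nat.lt_or_ge i 27443 with h12 | h12
  · exact allR_spec _ (25332 : ℕ) (2111 : ℕ) wk22_12 i (by omega) (by omega)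
  rcases Nat.lt_or_ge i 29554 with h13 | h13
  · exact allR_spec _ (27443 : ℕ) (2111 : ℕ) wk22_13 i (by omega) (by omega)
  rcases Nat.lt_or_ge i 31665 with h14 | h14
  · exact allR_spec _ (29554 : ℕ) (2111 : ℕ) wk22_14 i (by omega) (by omega)
  exact allR_spec _ (31665 : ℕ) (6 : ℕ) wk22_15 i (by omega) (by omega)
theorem wk23 : allR (OT.ckEqW [X39, X39, X36, X40, X36, X38, X37, X38, X41, X37, X39] [X46]) (nat_lit 0) (nat_lit 31671) = true := by
  apply allR_of_forall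
  intro i hi
  have hi : i < 31671 := hi
  rcases Nat.lt_or_ge i 2639 with h0 | h0
  · exact allR_spec _ (0 : ℕ) (2639 : ℕ) wk23_0 i (by omega) (by omega)
  rcases Nat.lt_or_ge i 5278 with h1 | h1
  · exact allR_spec _ (2639 : ℕ) (2639 : ℕ) wk23_1 i (by omega) (by omega)
  rcases Nat.lt_or_ge i 7917 with h2 | h2
  · exact allR_spec _ (5278 : ℕ) (2639 : ℕ) wk23_2 i (by omega) (by omega)
  rcases Nat.lt_or_ge i 10556 with h3 | h3
  · exact allR_spec _ (7917 : ℕ) (2639 : ℕ) wk23_3 i (by omega) (by omega)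
  rcases Nat.lt_or_ge i 13195 with h4 | h4
  · exact allR_spec _ (10556 : ℕ) (2639 : ℕ) wk23_4 i (by omega) (by omega)
  rcases Nat.lt_or_ge i 15834 with h5 | h5
  · exact allR_spec _ (13195 : ℕ) (2639 : ℕ) wk23_5 i (by omega) (by omega)
  rcases Nat.lt_or_ge i 18473 with h6 | h6
  · exact allR_spec _ (15834 : ℕ) (2639 : ℕ) wk23_6 i (by omega) (by omega)
  rcases Nat.lt_or_ge i 21112 with h7 | h7
  · exact allR_spec _ (18473 : ℕ) (2639 : ℕ) wk23_7 i (by omega) (by omega)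
  rcases Nat.lt_or_ge i 23751 with h8 | h8
  · exact allR_spec _ (21112 : ℕ) (2639 : ℕ) wk23_8 i (by omega) (by omega)
  rcases Nat.lt_or_ge i 26390 with h9 | h9
  · exact allR_spec _ (23751 : ℕ) (2639 : ℕ) wk23_9 i (by omega) (by omega)
  rcases Nat.lt_or_ge i 29029 with h10 | h10
  · exact allR_spec _ (26390 : ℕ) (2639 : ℕ) wk23_10 i (by omega) (by omega)
  rcases Nat.lt_or_ge i 31668 with h11 | h11
  · exact allR_spec _ (29029 : ℕ) (2639 : ℕ) wk23_11 i (by omega) (by omega)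
  exact allR_spec _ (31668 : ℕ) (3 : ℕ) wk23_12 i (by omega) (by omega)
theorem wk24 : allR (OT.ckEqW [X0, X22, X0, X24, X24, X1, X24, X23, X25, X25, X22, X0, X0, X24, X22, X25, X0] [X48]) (nat_lit 0) (nat_lit 31671) = true := by
  apply allR_of_forall
  intro i hi
  have hi : i < 31671 := hi
  rcases Nat.lt_or_ge i 1759 with h0 | h0
  · exact allR_spec _ (0 : ℕ) (1759 : ℕ) wk24_0 i (by omega) (by omega)
  rcases Nat.lt_or_ge i 3518 with h1 | h1
  · exact allR_spec _ (1759 : ℕ) (1759 : ℕ) wk24_1 i (by omega) (by omega)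
  rcases Nat.lt_or_ge i 5277 with h2 | h2
  · exact allR_spec _ (3518 : ℕ) (1759 : ℕ) wk24_2 i (by omega) (by omega)
  rcases Nat.lt_or_ge i 7036 with h3 | h3
  · exact allR_spec _ (5277 : ℕ) (1759 : ℕ) wk24_3 i (by omega) (by omega)
  rcases Nat.lt_or_ge i 8795 with h4 | h4
  · exact allR_spec _ (7036 : ℕ) (1759 : ℕ) wk24_4 i (by omega) (by omega)
  rcases Nat.lt_or_ge i 10554 with h5 | h5
  · exact allR_spec _ (8795 : ℕ) (1759 : ℕ) wk24_5 i (by omega) (by omega)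
  rcases Nat.lt_or_ge i 12313 with h6 | h6
  · exact allR_spec _ (10554 : ℕ) (1759 : ℕ) wk24_6 i (by omega) (by omega)
  rcases Nat.lt_or_ge i 14072 with h7 | h7
  · exact allR_spec _ (12313 : ℕ) (1759 : ℕ) wk24_7 i (by omega) (by omega)
  rcases Nat.lt_or_ge i 15831 with h8 | h8
  · exact allR_spec _ (14072 : ℕ) (1759 : ℕ) wk24_8 i (by omega) (by omega)
  rcases Nat.lt_or_ge i 17590 with h9 | h9
  · exact allR_spec _ (15831 : ℕ) (1759 : ℕ) wk24_9 i (by omega) (by omega)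
  rcases Nat.lt_or_ge i 19349 with h10 | h10
  · exact allR_spec _ (17590 : ℕ) (1759 : ℕ) wk24_10 i (by omega) (by omega)
  rcases Nat.lt_or_ge i 21108 with h11 | h11
  · exact allR_spec _ (19349 : ℕ) (1759 : ℕ) wk24_11 i (by omega) (by omega)
  rcases Nat.lt_or_ge i 22867 with h12 | h12
  · exact allR_spec _ (21108 : ℕ) (1759 : ℕ) wk24_12 i (by omega) (by omega)
  rcases Nat.lt_or_ge i 24626 with h13 | h13
  · exact allR_spec _ (22867 : ℕ) (1759 : ℕ) wk24_13 i (by omega) (by omega)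
  rcases Nat.lt_or_ge i 26385 with h14 | h14
  · exact allR_spec _ (24626 : ℕ) (1759 : ℕ) wk24_14 i (by omega) (by omega)
  rcases Nat.lt_or_ge i 28144 with h15 | h15
  · exact allR_spec _ (26385 : ℕ) (1759 : ℕ) wk24_15 i (by omega) (by omega)
  rcases Nat.lt_or_ge i 29903 with h16 | h16
  · exact allR_spec _ (28144 : ℕ) (1759 : ℕ) wk24_16 i (by omega) (by omega)
  rcases Nat.lt_or_ge i 31662 with h17 | h17
  · exact allR_spec _ (29903 : ℕ) (1759 : ℕ) wk24_17 i (by omega) (by omega)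
  exact allR_spec _ (31662 : ℕ) (9 : ℕ) wk24_18 i (by omega) (by omega)
theorem wk25 : allR (OT.ckEqW [X1, X23, X1, X23, X24, X1, X25, X1, X25, X23, X0, X0, X25, X0, X25, X1] [X50]) (nat_lit 0) (nat_lit 31671) = true := by
  apply allR_of_forall
  intro i hi
  have hi : i < 31671 := hi
  rcases Nat.lt_or_ge i 1863 with h0 | h0
  · exact allR_spec _ (0 : ℕ) (1863 : ℕ) wk25_0 i (by omega) (by omega)
  rcases Nat.lt_or_ge i 3726 with h1 | h1
  · exact allR_spec _ (1863 : ℕ) (1863 : ℕ) wk25_1 i (by omega) (by omega)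
  rcases Nat.lt_or_ge i 5589 with h2 | h2
  · exact allR_spec _ (3726 : ℕ) (1863 : ℕ) wk25_2 i (by omega) (by omega)
  rcases Nat.lt_or_ge i 7452 with h3 | h3
  · exact allR_spec _ (5589 : ℕ) (1863 : ℕ) wk25_3 i (by omega) (by omega)
  rcases Nat.lt_or_ge i 9315 with h4 | h4
  · exact allR_spec _ (7452 : ℕ) (1863 : ℕ) wk25_4 i (by omega) (by omega)
  rcases Nat.lt_or_ge i 11178 with h5 | h5
  · exact allR_spec _ (9315 : ℕ) (1863 : ℕ) wk25_5 i (by omega) (by omega)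
  rcases Nat.lt_or_ge i 13041 with h6 | h6
  · exact allR_spec _ (11178 : ℕ) (1863 : ℕ) wk25_6 i (by omega) (by omega)
  rcases Nat.lt_or_ge i 14904 with h7 | h7
  · exact allR_spec _ (13041 : ℕ) (1863 : ℕ) wk25_7 i (by omega) (by omega)
  rcases Nat.lt_or_ge i 16767 with h8 | h8
  · exact allR_spec _ (14904 : ℕ) (1863 : ℕ) wk25_8 i (by omega) (by omega)
  rcases Nat.lt_or_ge i 18630 with h9 | h9
  · exact allR_spec _ (16767 : ℕ) (1863 : ℕ) wk25_9 i (by omega) (by omega)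
  rcases Nat.lt_or_ge i 20493 with h10 | h10
  · exact allR_spec _ (18630 : ℕ) (1863 : ℕ) wk25_10 i (by omega) (by omega)
  rcases Nat.lt_or_ge i 22356 with h11 | h11
  · exact allR_spec _ (20493 : ℕ) (1863 : ℕ) wk25_11 i (by omega) (by omega)
  rcases Nat.lt_or_ge i 24219 with h12 | h12
  · exact allR_spec _ (22356 : ℕ) (1863 : ℕ) wk25_12 i (by omega) (by omega)
  rcases Nat.lt_or_ge i 26082 with h13 | h13
  · exact allR_spec _ (24219 : ℕ) (1863 : ℕ) wk25_13 i (by omega) (by omega)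
  rcases Nat.lt_or_ge i 27945 with h14 | h14
  · exact allR_spec _ (26082 : ℕ) (1863 : ℕ) wk25_14 i (by omega) (by omega)
  rcases Nat.lt_or_ge i 29808 with h15 | h15
  · exact allR_spec _ (27945 : ℕ) (1863 : ℕ) wk25_15 i (by omega) (by omega)
  exact allR_spec _ (29808 : ℕ) (1863 : ℕ) wk25_16 i (by omega) (by omega)
theorem wk26 : allR (OT.ckEqW [X49, X51, X48, X50, X48, X50, X50, X48, X51, X49, X49, X51, X51, X51, X48, X48, X51, X48, X50, X49] [X52]) (nat_lit 0) (nat_lit 31671) = true := by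
  apply allR_of_forall
  intro i hi
  have hi : i < 31671 := hi
  rcases Nat.lt_or_ge i 1508 with h0 | h0
  · exact allR_spec _ (0 : ℕ) (1508 : ℕ) wk26_0 i (by omega) (by omega)
  rcases Nat.lt_or_ge i 3016 with h1 | h1
  · exact allR_spec _ (1508 : ℕ) (1508 : ℕ) wk26_1 i (by omega) (by omega)
  rcases Nat.lt_or_ge i 4524 with h2 | h2
  · exact allR_spec _ (3016 : ℕ) (1508 : ℕ) wk26_2 i (by omega) (by omega)
  rcases Nat.lt_or_ge i 6032 with h3 | h3
  · exact allR_spec _ (4524 : ℕ) (1508 : ℕ) wk26_3 i (by omega) (by omega)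
  rcases Nat.lt_or_ge i 7540 with h4 | h4
  · exact allR_spec _ (6032 : ℕ) (1508 : ℕ) wk26_4 i (by omega) (by omega)
  rcases Nat.lt_or_ge i 9048 with h5 | h5
  · exact allR_spec _ (7540 : ℕ) (1508 : ℕ) wk26_5 i (by omega) (by omega)
  rcases Nat.lt_or_ge i 10556 with h6 | h6
  · exact allR_spec _ (9048 : ℕ) (1508 : ℕ) wk26_6 i (by omega) (by omega)
  rcases Nat.lt_or_ge i 12064 with h7 | h7
  · exact allR_spec _ (10556 : ℕ) (1508 : ℕ) wk26_7 i (by omega) (by omega)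
  rcases Nat.lt_or_ge i 13572 with h8 | h8
  · exact allR_spec _ (12064 : ℕ) (1508 : ℕ) wk26_8 i (by omega) (by omega)
  rcases Nat.lt_or_ge i 15080 with h9 | h9
  · exact allR_spec _ (13572 : ℕ) (1508 : ℕ) wk26_9 i (by omega) (by omega)
  rcases Nat.lt_or_ge i 16588 with h10 | h10
  · exact allR_spec _ (15080 : ℕ) (1508 : ℕ) wk26_10 i (by omega) (by omega)
  rcases Nat.lt_or_ge i 18096 with h11 | h11
  · exact allR_spec _ (16588 : ℕ) (1508 : ℕ) wk26_11 i (by omega) (by omega)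
  rcases Nat.lt_or_ge i 19604 with h12 | h12
  · exact allR_spec _ (18096 : ℕ) (1508 : ℕ) wk26_12 i (by omega) (by omega)
  rcases Nat.lt_or_ge i 21112 with h13 | h13
  · exact allR_spec _ (19604 : ℕ) (1508 : ℕ) wk26_13 i (by omega) (by omega)
  rcases Nat.lt_or_ge i 22620 with h14 | h14
  · exact allR_spec _ (21112 : ℕ) (1508 : ℕ) wk26_14 i (by omega) (by omega)
  rcases Nat.lt_or_ge i 24128 with h15 | h15
  · exact allR_spec _ (22620 : ℕ) (1508 : ℕ) wk26_15 i (by omega) (by omega)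
  rcases Nat.lt_or_ge i 25636 with h16 | h16
  · exact allR_spec _ (24128 : ℕ) (1508 : ℕ) wk26_16 i (by omega) (by omega)
  rcases Nat.lt_or_ge i 27144 with h17 | h17
  · exact allR_spec _ (25636 : ℕ) (1508 : ℕ) wk26_17 i (by omega) (by omega)
  rcases Nat.lt_or_ge i 28652 with h18 | h18
  · exact allR_spec _ (27144 : ℕ) (1508 : ℕ) wk26_18 i (by omega) (by omega)
  rcases Nat.lt_or_ge i 30160 with h19 | h19
  · exact allR_spec _ (28652 : ℕ) (1508 : ℕ) wk26_19 i (by omega) (by omega)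
  rcases Nat.lt_or_ge i 31668 with h20 | h20
  · exact allR_spec _ (30160 : ℕ) (1508 : ℕ) wk26_20 i (by omega) (by omega)
  exact allR_spec _ (31668 : ℕ) (3 : ℕ) wk26_21 i (by omega) (by omega)
theorem wk27 : allR (OT.ckEqW [X51, X48, X51, X49, X51, X48, X48, X48, X50, X50, X49, X49, X51, X51, X51, X51, X49, X50, X48, X48] [X54]) (nat_lit 0) (nat_lit 31671) = true := by
  apply allR_of_forall
  intro i hi
  have hi : i < 31671 := hi
  rcases Nat.lt_or_ge i 1508 with h0 | h0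
  · exact allR_spec _ (0 : ℕ) (1508 : ℕ) wk27_0 i (by omega) (by omega)
  rcases Nat.lt_or_ge i 3016 with h1 | h1
  · exact allR_spec _ (1508 : ℕ) (1508 : ℕ) wk27_1 i (by omega) (by omega)
  rcases Nat.lt_or_ge i 4524 with h2 | h2
  · exact allR_spec _ (3016 : ℕ) (1508 : ℕ) wk27_2 i (by omega) (by omega)
  rcases Nat.lt_or_ge i 6032 with h3 | h3
  · exact allR_spec _ (4524 : ℕ) (1508 : ℕ) wk27_3 i (by omega) (by omega)
  rcases Nat.lt_or_ge i 7540 with h4 | h4
  · exact allR_spec _ (6032 : ℕ) (1508 : ℕ) wk27_4 i (by omega) (by omega)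
  rcases Nat.lt_or_ge i 9048 with h5 | h5
  · exact allR_spec _ (7540 : ℕ) (1508 : ℕ) wk27_5 i (by omega) (by omega)
  rcases Nat.lt_or_ge i 10556 with h6 | h6
  · exact allR_spec _ (9048 : ℕ) (1508 : ℕ) wk27_6 i (by omega) (by omega)
  rcases Nat.lt_or_ge i 12064 with h7 | h7
  · exact allR_spec _ (10556 : ℕ) (1508 : ℕ) wk27_7 i (by omega) (by omega)
  rcases Nat.lt_or_ge i 13572 with h8 | h8
  · exact allR_spec _ (12064 : ℕ) (1508 : ℕ) wk27_8 i (by omega) (by omega)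
  rcases Nat.lt_or_ge i 15080 with h9 | h9
  · exact allR_spec _ (13572 : ℕ) (1508 : ℕ) wk27_9 i (by omega) (by omega)
  rcases Nat.lt_or_ge i 16588 with h10 | h10
  · exact allR_spec _ (15080 : ℕ) (1508 : ℕ) wk27_10 i (by omega) (by omega)
  rcases Nat.lt_or_ge i 18096 with h11 | h11
  · exact allR_spec _ (16588 : ℕ) (1508 : ℕ) wk27_11 i (by omega) (by omega)
  rcases Nat.lt_or_ge i 19604 with h12 | h12
  · exact allR_spec _ (18096 : ℕ) (1508 : ℕ) wk27_12 i (by omega) (by omega)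
  rcases Nat.lt_or_ge i 21112 with h13 | h13
  · exact allR_spec _ (19604 : ℕ) (1508 : ℕ) wk27_13 i (by omega) (by omega)
  rcases Nat.lt_or_ge i 22620 with h14 | h14
  · exact allR_spec _ (21112 : ℕ) (1508 : ℕ) wk27_14 i (by omega) (by omega)
  rcases Nat.lt_or_ge i 24128 with h15 | h15
  · exact allR_spec _ (22620 : ℕ) (1508 : ℕ) wk27_15 i (by omega) (by omega)
  rcases Nat.lt_or_ge i 25636 with h16 | h16
  · exact allR_spec _ (24128 : ℕ) (1508 : ℕ) wk27_16 i (by omega) (by omega)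
  rcases Nat.lt_or_ge i 27144 with h17 | h17
  · exact allR_spec _ (25636 : ℕ) (1508 : ℕ) wk27_17 i (by omega) (by omega)
  rcases Nat.lt_or_ge i 28652 with h18 | h18
  · exact allR_spec _ (27144 : ℕ) (1508 : ℕ) wk27_18 i (by omega) (by omega)
  rcases Nat.lt_or_ge i 30160 with h19 | h19
  · exact allR_spec _ (28652 : ℕ) (1508 : ℕ) wk27_19 i (by omega) (by omega)
  rcases Nat.lt_or_ge i 31668 with h20 | h20
  · exact allR_spec _ (30160 : ℕ) (1508 : ℕ) wk27_20 i (by omega) (by omega)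
  exact allR_spec _ (31668 : ℕ) (3 : ℕ) wk27_21 i (by omega) (by omega)
theorem wk28 : allR (OT.ckEqW [X55, X52, X54, X54, X54, X52] [X56]) (nat_lit 0) (nat_lit 31671) = true := by
  apply allR_of_forall
  intro i hi
  have hi : i < 31671 := hi
  rcases Nat.lt_or_ge i 4524 with h0 | h0
  · exact allR_spec _ (0 : ℕ) (4524 : ℕ) wk28_0 i (by omega) (by omega)
  rcases Nat.lt_or_ge i 9048 with h1 | h1
  · exact allR_spec _ (4524 : ℕ) (4524 : ℕ) wk28_1 i (by omega) (by omega)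
  rcases Nat.lt_or_ge i 13572 with h2 | h2
  · exact allR_spec _ (9048 : ℕ) (4524 : ℕ) wk28_2 i (by omega) (by omega)
  rcases Nat.lt_or_ge i 18096 with h3 | h3
  · exact allR_spec _ (13572 : ℕ) (4524 : ℕ) wk28_3 i (by omega) (by omega)
  rcases Nat.lt_or_ge i 22620 with h4 | h4
  · exact allR_spec _ (18096 : ℕ) (4524 : ℕ) wk28_4 i (by omega) (by omega)
  rcases Nat.lt_or_ge i 27144 with h5 | h5
  · exact allR_spec _ (22620 : ℕ) (4524 : ℕ) wk28_5 i (by omega) (by omega)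
  rcases Nat.lt_or_ge i 31668 with h6 | h6
  · exact allR_spec _ (27144 : ℕ) (4524 : ℕ) wk28_6 i (by omega) (by omega)
  exact allR_spec _ (31668 : ℕ) (3 : ℕ) wk28_7 i (by omega) (by omega)
theorem wk29 : allR (OT.ckEqW [X52, X54, X52, X55, X53, X54, X52, X54, X54, X53, X54, X53] [X58]) (nat_lit 0) (nat_lit 31671) = true := by
  apply allR_of_forall
  intro i hi
  have hi : i < 31671 := hi
  rcases Nat.lt_or_ge i 2436 with h0 | h0
  · exact allR_spec _ (0 : ℕ) (2436 : ℕ) wk29_0 i (by omega) (by omega)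
  rcases Nat.lt_or_ge i 4872 with h1 | h1
  · exact allR_spec _ (2436 : ℕ) (2436 : ℕ) wk29_1 i (by omega) (by omega)
  rcases Nat.lt_or_ge i 7308 with h2 | h2
  · exact allR_spec _ (4872 : ℕ) (2436 : ℕ) wk29_2 i (by omega) (by omega)
  rcases Nat.lt_or_ge i 9744 with h3 | h3
  · exact allR_spec _ (7308 : ℕ) (2436 : ℕ) wk29_3 i (by omega) (by omega)
  rcases Nat.lt_or_ge i 12180 with h4 | h4
  · exact allR_spec _ (9744 : ℕ) (2436 : ℕ) wk29_4 i (by omega) (by omega)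
  rcases Nat.lt_or_ge i 14616 with h5 | h5
  · exact allR_spec _ (12180 : ℕ) (2436 : ℕ) wk29_5 i (by omega) (by omega)
  rcases Nat.lt_or_ge i 17052 with h6 | h6
  · exact allR_spec _ (14616 : ℕ) (2436 : ℕ) wk29_6 i (by omega) (by omega)
  rcases Nat.lt_or_ge i 19488 with h7 | h7
  · exact allR_spec _ (17052 : ℕ) (2436 : ℕ) wk29_7 i (by omega) (by omega)
  rcases Nat.lt_or_ge i 21924 with h8 | h8
  · exact allR_spec _ (19488 : ℕ) (2436 : ℕ) wk29_8 i (by omega) (by omega)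
  rcases Nat.lt_or_ge i 24360 with h9 | h9
  · exact allR_spec _ (21924 : ℕ) (2436 : ℕ) wk29_9 i (by omega) (by omega)
  rcases Nat.lt_or_ge i 26796 with h10 | h10
  · exact allR_spec _ (24360 : ℕ) (2436 : ℕ) wk29_10 i (by omega) (by omega)
  rcases Nat.lt_or_ge i 29232 with h11 | h11
  · exact allR_spec _ (26796 : ℕ) (2436 : ℕ) wk29_11 i (by omega) (by omega)
  rcases Nat.lt_or_ge i 31668 with h12 | h12
  · exact allR_spec _ (29232 : ℕ) (2436 : ℕ) wk29_12 i (by omega) (by omega)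
  exact allR_spec _ (31668 : ℕ) (3 : ℕ) wk29_13 i (by omega) (by omega)
theorem wk30 : allR (OT.ckEqW [X57, X59, X57, X58, X57, X57, X58, X56, X56, X56, X56, X58] [X60]) (nat_lit 0) (nat_lit 31671) = true := by
  apply allR_of_forall
  intro i hi
  have hi : i < 31671 := hi
  rcases Nat.lt_or_ge i 2436 with h0 | h0
  · exact allR_spec _ (0 : ℕ) (2436 : ℕ) wk30_0 i (by omega) (by omega)
  rcases Nat.lt_or_ge i 4872 with h1 | h1
  · exact allR_spec _ (2436 : ℕ) (2436 : ℕ) wk30_1 i (by omega) (by omega)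
  rcases Nat.lt_or_ge i 7308 with h2 | h2
  · exact allR_spec _ (4872 : ℕ) (2436 : ℕ) wk30_2 i (by omega) (by omega)
  rcases Nat.lt_or_ge i 9744 with h3 | h3
  · exact allR_spec _ (7308 : ℕ) (2436 : ℕ) wk30_3 i (by omega) (by omega)
  rcases Nat.lt_or_ge i 12180 with h4 | h4
  · exact allR_spec _ (9744 : ℕ) (2436 : ℕ) wk30_4 i (by omega) (by omega)
  rcases Nat.lt_or_ge i 14616 with h5 | h5
  · exact allR_spec _ (12180 : ℕ) (2436 : ℕ) wk30_5 i (by omega) (by omega)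
  rcases Nat.lt_or_ge i 17052 with h6 | h6
  · exact allR_spec _ (14616 : ℕ) (2436 : ℕ) wk30_6 i (by omega) (by omega)
  rcases Nat.lt_or_ge i 19488 with h7 | h7
  · exact allR_spec _ (17052 : ℕ) (2436 : ℕ) wk30_7 i (by omega) (by omega)
  rcases Nat.lt_or_ge i 21924 with h8 | h8
  · exact allR_spec _ (19488 : ℕ) (2436 : ℕ) wk30_8 i (by omega) (by omega)
  rcases Nat.lt_or_ge i 24360 with h9 | h9
  · exact allR_spec _ (21924 : ℕ) (2436 : ℕ) wk30_9 i (by omega) (by omega)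
  rcases Nat.lt_or_ge i 26796 with h10 | h10
  · exact allR_spec _ (24360 : ℕ) (2436 : ℕ) wk30_10 i (by omega) (by omega)
  rcases Nat.lt_or_ge i 29232 with h11 | h11
  · exact allR_spec _ (26796 : ℕ) (2436 : ℕ) wk30_11 i (by omega) (by omega)
  rcases Nat.lt_or_ge i 31668 with h12 | h12
  · exact allR_spec _ (29232 : ℕ) (2436 : ℕ) wk30_12 i (by omega) (by omega)
  exact allR_spec _ (31668 : ℕ) (3 : ℕ) wk30_13 i (by omega) (by omega)
theorem wk31 : allR (OT.ckEqW [X59, X56, X56, X58, X57, X59, X59, X59, X57, X58] [X62]) (nat_lit 0) (nat_lit 31671) = true := by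
  apply allR_of_forall
  intro i hi
  have hi : i < 31671 := hi
  rcases Nat.lt_or_ge i 2879 with h0 | h0
  · exact allR_spec _ (0 : ℕ) (2879 : ℕ) wk31_0 i (by omega) (by omega)
  rcases Nat.lt_or_ge i 5758 with h1 | h1
  · exact allR_spec _ (2879 : ℕ) (2879 : ℕ) wk31_1 i (by omega) (by omega)
  rcases Nat.lt_or_ge i 8637 with h2 | h2
  · exact allR_spec _ (5758 : ℕ) (2879 : ℕ) wk31_2 i (by omega) (by omega)
  rcases Nat.lt_or_ge i 11516 with h3 | h3
  · exact allR_spec _ (8637 : ℕ) (2879 : ℕ) wk31_3 i (by omega) (by omega)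
  rcases Nat.lt_or_ge i 14395 with h4 | h4
  · exact allR_spec _ (11516 : ℕ) (2879 : ℕ) wk31_4 i (by omega) (by omega)
  rcases Nat.lt_or_ge i 17274 with h5 | h5
  · exact allR_spec _ (14395 : ℕ) (2879 : ℕ) wk31_5 i (by omega) (by omega)
  rcases Nat.lt_or_ge i 20153 with h6 | h6
  · exact allR_spec _ (17274 : ℕ) (2879 : ℕ) wk31_6 i (by omega) (by omega)
  rcases Nat.lt_or_ge i 23032 with h7 | h7
  · exact allR_spec _ (20153 : ℕ) (2879 : ℕ) wk31_7 i (by omega) (by omega)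
  rcases Nat.lt_or_ge i 25911 with h8 | h8
  · exact allR_spec _ (23032 : ℕ) (2879 : ℕ) wk31_8 i (by omega) (by omega)
  rcases Nat.lt_or_ge i 28790 with h9 | h9
  · exact allR_spec _ (25911 : ℕ) (2879 : ℕ) wk31_9 i (by omega) (by omega)
  rcases Nat.lt_or_ge i 31669 with h10 | h10
  · exact allR_spec _ (28790 : ℕ) (2879 : ℕ) wk31_10 i (by omega) (by omega)
  exact allR_spec _ (31669 : ℕ) (2 : ℕ) wk31_11 i (by omega) (by omega)
def bws : List (List Nat) := [[0, 1, 2, 3, 4, 5, 7, 6, 8], [11, 8, 5, 4, 7], [8, 0, 9, 2], [15], [13, 15, 13, 15, 13, 15, 15, 12, 12, 12], [16, 18, 18, 17, 17, 18, 16, 16, 19, 19, 17, 18, 18, 16, 19, 17], [16, 19, 16, 18, 18, 17, 19, 17, 17, 17, 19, 16, 16, 18, 16, 18, 16, 18, 16, 19], [16, 19, 17, 19, 16, 19, 17, 19, 16, 18, 18, 18, 18, 18, 17, 18, 18, 17], [23, 23, 23, 24, 22, 22, 20, 25, 23, 20, 22, 20], [20, 25, 25, 21, 22, 20, 24, 21, 25, 20, 22, 20], [20, 22, 21, 24, 24, 24, 20, 22, 20], [26,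 28, 22, 21, 22, 18, 17, 18, 16, 19, 16, 16, 19, 17, 12, 14, 13, 14, 13, 13, 15, 15, 12, 14, 14, 12, 7, 11, 11, 9, 11, 4, 11, 8, 9, 10, 10, 10, 3, 2], [28, 30, 25, 20, 20, 23, 20, 18, 16, 16, 18, 18, 18, 18, 17, 12, 14, 12, 14, 13, 14, 13, 14, 14, 13, 15, 13, 15, 13, 13, 13, 7, 11, 11, 11, 8, 3, 4, 9, 8, 10, 10], [32, 32], [10, 35, 35, 10, 33, 34, 10, 34, 11, 35, 33, 35, 33, 11, 32], [34, 34, 10, 10, 34, 11, 33, 34, 32, 10, 35, 10, 35, 35, 10], [40, 40, 39, 39, 39, 40, 40, 39, 41, 41, 38, 38, 38, 40, 38, 38, 41], [40, 39, 41, 41, 41, 38, 40, 39, 39, 40, 39, 39, 41, 39, 40, 40, 39, 39, 39], [43, 43, 43, 43, 45, 42, 44, 44, 43, 45, 43, 44, 42, 45, 43, 45, 45, 45, 43], [45, 42, 44, 42, 45, 43, 44, 43, 44, 43, 44, 44], [45, 45, 42, 42, 42, 42, 42, 44, 44, 42, 42, 42], [49, 47, 47, 48, 50, 47, 47, 48, 51], [48, 46, 48, 48, 51, 51, 47, 50, 46, 46, 46, 48, 46, 46], [49, 49, 46, 50, 46, 48, 47, 48, 51, 47, 49], [10, 32, 10, 34, 34,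 11, 34, 33, 35, 35, 32, 10, 10, 34, 32, 35, 10], [11, 33, 11, 33, 34, 11, 35, 11, 35, 33, 10, 10, 35, 10, 35, 11], [59, 61, 58, 60, 58, 60, 60, 58, 61, 59, 59, 61, 61, 61, 58, 58, 61, 58, 60, 59], [61, 58, 61, 59, 61, 58, 58, 58, 60, 60, 59, 59, 61, 61, 61, 61, 59, 60, 58, 58], [65, 62, 64, 64, 64, 62], [62, 64, 62, 65, 63, 64, 62, 64, 64, 63, 64, 63], [67, 69, 67, 68, 67, 67, 68, 66, 66, 66, 66, 68], [69, 66, 66, 68, 67, 69, 69, 69, 67, 68]]
noncomputable def T' : Nat → Nat → Nat := fun l => (@Nat.rec (fun _ => Nat → Nat) T0 (fun l _ => (@Nat.rec (fun _ => Nat → Nat) T1 (fun l _ => (@Nat.rec (fun _ => Nat → Nat) T2 (fun l _ => (@Nat.rec (fun _ => Nat → Nat) T3 (fun l _ => (@Nat.rec (fun _ => Nat → Nat) T4 (fun l _ => (@Nat.rec (fun _ => Nat → Nat) T5 (fun l _ => (@Nat.rec (fun _ => Nat → Nat) T6 (fun l _ => (@Nat.rec (fun _ => Nat → Nat) T7 (fun l _ => (@Nat.rec (fun _ => Nat → Nat) T8 (fun l _ => (@Nat.rec (fun _ => Nat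 → Nat) T9 (fun l _ => (@Nat.rec (fun _ => Nat → Nat) X0 (fun l _ => (@Nat.rec (fun _ => Nat → Nat) X1 (fun l _ => (@Nat.rec (fun _ => Nat → Nat) X2 (fun l _ => (@Nat.rec (fun _ => Nat → Nat) X3 (fun l _ => (@Nat.rec (fun _ => Nat → Nat) X4 (fun l _ => (@Nat.rec (fun _ => Nat → Nat) X5 (fun l _ => (@Nat.rec (fun _ => Nat → Nat) X6 (fun l _ => (@Nat.rec (fun _ => Nat → Nat) X7 (fun l _ => (@Nat.rec (fun _ => Nat → Nat) X8 (fun l _ => (@Nat.rec (fun _ => Nat → Nat) X9 (fun l _ => (@Nat.rec (fun _ => Nat → Nat) X10 (fun l _ => (@Nat.rec (fun _ => Nat → Nat) X11 (fun l _ => (@Nat.rec (fun _ => Nat → Nat) X12 (fun l _ => (@Nat.rec (fun _ => Nat → Nat) X13 (fun l _ => (@Nat.rec (fun _ => Nat → Nat) X14 (fun l _ => (@Nat.rec (fun _ => Nat → Nat) X15 (fun l _ => (@Nat.rec (fun _ => Nat → Nat) X16 (fun l _ => (@Nat.rec (fun _ => Nat → Nat) X17 (fun l _ => (@Nat.rec (fun _ => Nat → Nat) X18 (fun l _ => (@Nat.rec (fun _ => Nat → Nat)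 X19 (fun l _ => (@Nat.rec (fun _ => Nat → Nat) X20 (fun l _ => (@Nat.rec (fun _ => Nat → Nat) X21 (fun l _ => (@Nat.rec (fun _ => Nat → Nat) X22 (fun l _ => (@Nat.rec (fun _ => Nat → Nat) X23 (fun l _ => (@Nat.rec (fun _ => Nat → Nat) X24 (fun l _ => (@Nat.rec (fun _ => Nat → Nat) X25 (fun l _ => (@Nat.rec (fun _ => Nat → Nat) X26 (fun l _ => (@Nat.rec (fun _ => Nat → Nat) X27 (fun l _ => (@Nat.rec (fun _ => Nat → Nat) X28 (fun l _ => (@Nat.rec (fun _ => Nat → Nat) X29 (fun l _ => (@Nat.rec (fun _ => Nat → Nat) X30 (fun l _ => (@Nat.rec (fun _ => Nat → Nat) X31 (fun l _ => (@Nat.rec (fun _ => Nat → Nat) X32 (fun l _ => (@Nat.rec (fun _ => Nat → Nat) X33 (fun l _ => (@Nat.rec (fun _ => Nat → Nat) X34 (fun l _ => (@Nat.rec (fun _ => Nat → Nat) X35 (fun l _ => (@Nat.rec (fun _ => Nat → Nat) X36 (fun l _ => (@Nat.rec (fun _ => Nat → Nat) X37 (fun l _ => (@Nat.rec (fun _ => Nat → Nat) X38 (fun l _ => (@Nat.rec (fun _ => Nat →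 Nat) X39 (fun l _ => (@Nat.rec (fun _ => Nat → Nat) X40 (fun l _ => (@Nat.rec (fun _ => Nat → Nat) X41 (fun l _ => (@Nat.rec (fun _ => Nat → Nat) X42 (fun l _ => (@Nat.rec (fun _ => Nat → Nat) X43 (fun l _ => (@Nat.rec (fun _ => Nat → Nat) X44 (fun l _ => (@Nat.rec (fun _ => Nat → Nat) X45 (fun l _ => (@Nat.rec (fun _ => Nat → Nat) X46 (fun l _ => (@Nat.rec (fun _ => Nat → Nat) X47 (fun l _ => (@Nat.rec (fun _ => Nat → Nat) X48 (fun l _ => (@Nat.rec (fun _ => Nat → Nat) X49 (fun l _ => (@Nat.rec (fun _ => Nat → Nat) X50 (fun l _ => (@Nat.rec (fun _ => Nat → Nat) X51 (fun l _ => (@Nat.rec (fun _ => Nat → Nat) X52 (fun l _ => (@Nat.rec (fun _ => Nat → Nat) X53 (fun l _ => (@Nat.rec (fun _ => Nat → Nat) X54 (fun l _ => (@Nat.rec (fun _ => Nat → Nat) X55 (fun l _ => (@Nat.rec (fun _ => Nat → Nat) X56 (fun l _ => (@Nat.rec (fun _ => Nat → Nat) X57 (fun l _ => (@Nat.rec (fun _ => Nat → Nat) X58 (fun l _ => (@Nat.rec (fun _ => Nat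 → Nat) X59 (fun l _ => (@Nat.rec (fun _ => Nat → Nat) X60 (fun l _ => (@Nat.rec (fun _ => Nat → Nat) X61 (fun l _ => (@Nat.rec (fun _ => Nat → Nat) X62 (fun l _ => X63) l)) l)) l)) l)) l)) l)) l)) l)) l)) l)) l)) l)) l)) l)) l)) l)) l)) l)) l)) l)) l)) l)) l)) l)) l)) l)) l)) l)) l)) l)) l)) l)) l)) l)) l)) l)) l)) l)) l)) l)) l)) l)) l)) l)) l)) l)) l)) l)) l)) l)) l)) l)) l)) l)) l)) l)) l)) l)) l)) l)) l)) l)) l)) l)) l)) l)) l)) l)) l)) l)) l)) l)) l)
def inv' : Nat → Nat := fun l => [0, 1, 2, 3, 4, 5, 6, 7, 8, 9, 11, 10, 13, 12, 15, 14, 17, 16, 19, 18, 21, 20, 23, 22, 25, 24, 27, 26, 29, 28, 31, 30, 33, 32, 35, 34, 37, 36, 39, 38, 41, 40, 43, 42, 45, 44, 47, 46, 49, 48, 51, 50, 53, 52, 55, 54, 57, 56, 59, 58, 61, 60, 63, 62, 65, 64, 67, 66, 69, 68, 71, 70, 73, 72].getD l 0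

theorem hTT : ∀ l < 10, T' l = Cfsg.Agent.H8.Fi23t.T l := by
  intro l hl
  interval_cases l <;> rfl

theorem hii : ∀ l < 10, inv' l = Cfsg.Agent.H8.Fi23t.inv l := by
  intro l hl
  interval_cases l <;> rfl

theorem h1 : ∀ l, 10 ≤ l → l < 74 → inv' l < 74 ∧ inv' (inv' l) = l := by
  intro l h1 h2
  interval_cases l <;> decide

theorem h2 : ∀ l, 10 ≤ l → l < 74 → ∀ i < 31671, T' l i < 31671 ∧ T' (inv' l) (T' l i) = i := by
  intro l h1 h2 i hi
  interval_cases l
  · exact ckPerm_sound _ _ _ _ (allR_zero _ _ pk0 i hi)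
  · exact ckPerm_sound _ _ _ _ (allR_zero _ _ pk1 i hi)
  · exact ckPerm_sound _ _ _ _ (allR_zero _ _ pk2 i hi)
  · exact ckPerm_sound _ _ _ _ (allR_zero _ _ pk3 i hi)
  · exact ckPerm_sound _ _ _ _ (allR_zero _ _ pk4 i hi)
  · exact ckPerm_sound _ _ _ _ (allR_zero _ _ pk5 i hi)
  · exact ckPerm_sound _ _ _ _ (allR_zero _ _ pk6 i hi)
  · exact ckPerm_sound _ _ _ _ (allR_zero _ _ pk7 i hi)
  · exact ckPerm_sound _ _ _ _ (allR_zero _ _ pk8 i hi)
  · exact ckPerm_sound _ _ _ _ (allR_zero _ _ pk9 i hi)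
  · exact ckPerm_sound _ _ _ _ (allR_zero _ _ pk10 i hi)
  · exact ckPerm_sound _ _ _ _ (allR_zero _ _ pk11 i hi)
  · exact ckPerm_sound _ _ _ _ (allR_zero _ _ pk12 i hi)
  · exact ckPerm_sound _ _ _ _ (allR_zero _ _ pk13 i hi)
  · exact ckPerm_sound _ _ _ _ (allR_zero _ _ pk14 i hi)
  · exact ckPerm_sound _ _ _ _ (allR_zero _ _ pk15 i hi)
  · exact ckPerm_sound _ _ _ _ (allR_zero _ _ pk16 i hi)
  · exact ckPerm_sound _ _ _ _ (allR_zero _ _ pk17 i hi)
  · exact ckPerm_sound _ _ _ _ (allR_zero _ _ pk18 i hi)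
  · exact ckPerm_sound _ _ _ _ (allR_zero _ _ pk19 i hi)
  · exact ckPerm_sound _ _ _ _ (allR_zero _ _ pk20 i hi)
  · exact ckPerm_sound _ _ _ _ (allR_zero _ _ pk21 i hi)
  · exact ckPerm_sound _ _ _ _ (allR_zero _ _ pk22 i hi)
  · exact ckPerm_sound _ _ _ _ (allR_zero _ _ pk23 i hi)
  · exact ckPerm_sound _ _ _ _ (allR_zero _ _ pk24 i hi)
  · exact ckPerm_sound _ _ _ _ (allR_zero _ _ pk25 i hi)
  · exact ckPerm_sound _ _ _ _ (allR_zero _ _ pk26 i hi)
  · exact ckPerm_sound _ _ _ _ (allR_zero _ _ pk27 i hi)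
  · exact ckPerm_sound _ _ _ _ (allR_zero _ _ pk28 i hi)
  · exact ckPerm_sound _ _ _ _ (allR_zero _ _ pk29 i hi)
  · exact ckPerm_sound _ _ _ _ (allR_zero _ _ pk30 i hi)
  · exact ckPerm_sound _ _ _ _ (allR_zero _ _ pk31 i hi)
  · exact ckPerm_sound _ _ _ _ (allR_zero _ _ pk32 i hi)
  · exact ckPerm_sound _ _ _ _ (allR_zero _ _ pk33 i hi)
  · exact ckPerm_sound _ _ _ _ (allR_zero _ _ pk34 i hi)
  · exact ckPerm_sound _ _ _ _ (allR_zero _ _ pk35 i hi)
  · exact ckPerm_sound _ _ _ _ (allR_zero _ _ pk36 i hi)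
  · exact ckPerm_sound _ _ _ _ (allR_zero _ _ pk37 i hi)
  · exact ckPerm_sound _ _ _ _ (allR_zero _ _ pk38 i hi)
  · exact ckPerm_sound _ _ _ _ (allR_zero _ _ pk39 i hi)
  · exact ckPerm_sound _ _ _ _ (allR_zero _ _ pk40 i hi)
  · exact ckPerm_sound _ _ _ _ (allR_zero _ _ pk41 i hi)
  · exact ckPerm_sound _ _ _ _ (allR_zero _ _ pk42 i hi)
  · exact ckPerm_sound _ _ _ _ (allR_zero _ _ pk43 i hi)
  · exact ckPerm_sound _ _ _ _ (allR_zero _ _ pk44 i hi)
  · exact ckPerm_sound _ _ _ _ (allR_zero _ _ pk45 i hi)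
  · exact ckPerm_sound _ _ _ _ (allR_zero _ _ pk46 i hi)
  · exact ckPerm_sound _ _ _ _ (allR_zero _ _ pk47 i hi)
  · exact ckPerm_sound _ _ _ _ (allR_zero _ _ pk48 i hi)
  · exact ckPerm_sound _ _ _ _ (allR_zero _ _ pk49 i hi)
  · exact ckPerm_sound _ _ _ _ (allR_zero _ _ pk50 i hi)
  · exact ckPerm_sound _ _ _ _ (allR_zero _ _ pk51 i hi)
  · exact ckPerm_sound _ _ _ _ (allR_zero _ _ pk52 i hi)
  · exact ckPerm_sound _ _ _ _ (allR_zero _ _ pk53 i hi)
  · exact ckPerm_sound _ _ _ _ (allR_zero _ _ pk54 i hi)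
  · exact ckPerm_sound _ _ _ _ (allR_zero _ _ pk55 i hi)
  · exact ckPerm_sound _ _ _ _ (allR_zero _ _ pk56 i hi)
  · exact ckPerm_sound _ _ _ _ (allR_zero _ _ pk57 i hi)
  · exact ckPerm_sound _ _ _ _ (allR_zero _ _ pk58 i hi)
  · exact ckPerm_sound _ _ _ _ (allR_zero _ _ pk59 i hi)
  · exact ckPerm_sound _ _ _ _ (allR_zero _ _ pk60 i hi)
  · exact ckPerm_sound _ _ _ _ (allR_zero _ _ pk61 i hi)
  · exact ckPerm_sound _ _ _ _ (allR_zero _ _ pk62 i hi)
  · exact ckPerm_sound _ _ _ _ (allR_zero _ _ pk63 i hi)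

theorem tok : TableOK 31671 74 T' inv' :=
  OT.tableOK_ext Cfsg.Agent.H8.Fi23t.tok (by decide) hTT hii h1 h2

theorem hwb : ∀ i < bws.length, (∀ l ∈ bws.getD i [], l < 10 + 2 * i) ∧ inv' (10 + 2 * i) = 10 + 2 * i + 1 ∧
    ∀ j < 31671, trN T' (bws.getD i []) j = T' (10 + 2 * i) j := by
  intro i hi
  have hl : bws.length = 32 := by decide
  rw [hl] at hi
  interval_cases i
  · exact ⟨by decide, by decide, fun j hj => OT.ckEqW_sound (T := T') [0, 1, 2, 3, 4, 5, 7, 6, 8] [10] j (allR_zero _ _ wk0 j hj)⟩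
  · exact ⟨by decide, by decide, fun j hj => OT.ckEqW_sound (T := T') [11, 8, 5, 4, 7] [12] j (allR_zero _ _ wk1 j hj)⟩
  · exact ⟨by decide, by decide, fun j hj => OT.ckEqW_sound (T := T') [8, 0, 9, 2] [14] j (allR_zero _ _ wk2 j hj)⟩
  · exact ⟨by decide, by decide, fun j hj => OT.ckEqW_sound (T := T') [15] [16] j (allR_zero _ _ wk3 j hj)⟩
  · exact ⟨by decide, by decide, fun j hj => OT.ckEqW_sound (T := T') [13, 15, 13, 15, 13, 15, 15, 12, 12, 12] [18] j (allR_zero _ _ wk4 j hj)⟩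
  · exact ⟨by decide, by decide, fun j hj => OT.ckEqW_sound (T := T') [16, 18, 18, 17, 17, 18, 16, 16, 19, 19, 17, 18, 18, 16, 19, 17] [20] j (allR_zero _ _ wk5 j hj)⟩
  · exact ⟨by decide, by decide, fun j hj => OT.ckEqW_sound (T := T') [16, 19, 16, 18, 18, 17, 19, 17, 17, 17, 19, 16, 16, 18, 16, 18, 16, 18, 16, 19] [22] j (allR_zero _ _ wk6 j hj)⟩
  · exact ⟨by decide, by decide, fun j hj => OT.ckEqW_sound (T := T') [16, 19, 17, 19, 16, 19, 17, 19, 16, 18, 18, 18, 18, 18, 17, 18, 18, 17] [24] j (allR_zero _ _ wk7 j hj)⟩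
  · exact ⟨by decide, by decide, fun j hj => OT.ckEqW_sound (T := T') [23, 23, 23, 24, 22, 22, 20, 25, 23, 20, 22, 20] [26] j (allR_zero _ _ wk8 j hj)⟩
  · exact ⟨by decide, by decide, fun j hj => OT.ckEqW_sound (T := T') [20, 25, 25, 21, 22, 20, 24, 21, 25, 20, 22, 20] [28] j (allR_zero _ _ wk9 j hj)⟩
  · exact ⟨by decide, by decide, fun j hj => OT.ckEqW_sound (T := T') [20, 22, 21, 24, 24, 24, 20, 22, 20] [30] j (allR_zero _ _ wk10 j hj)⟩
  · exact ⟨by decide, by decide, fun j hj => OT.ckEqW_sound (T := T') [26, 28, 22, 21, 22, 18, 17, 18, 16, 19, 16, 16, 19, 17, 12, 14, 13, 14, 13, 13, 15, 15, 12, 14, 14, 12, 7, 11, 11, 9, 11, 4, 11, 8, 9, 10, 10, 10, 3, 2] [32] j (allR_zero _ _ wk11 j hj)⟩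
  · exact ⟨by decide, by decide, fun j hj => OT.ckEqW_sound (T := T') [28, 30, 25, 20, 20, 23, 20, 18, 16, 16, 18, 18, 18, 18, 17, 12, 14, 12, 14, 13, 14, 13, 14, 14, 13, 15, 13, 15, 13, 13, 13, 7, 11, 11, 11, 8, 3, 4, 9, 8, 10, 10] [34] j (allR_zero _ _ wk12 j hj)⟩
  · exact ⟨by decide, by decide, fun j hj => OT.ckEqW_sound (T := T') [32, 32] [36] j (allR_zero _ _ wk13 j hj)⟩
  · exact ⟨by decide, by decide, fun j hj => OT.ckEqW_sound (T := T') [10, 35, 35, 10, 33, 34, 10, 34, 11, 35, 33, 35, 33, 11, 32] [38] j (allR_zero _ _ wk14 j hj)⟩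
  · exact ⟨by decide, by decide, fun j hj => OT.ckEqW_sound (T := T') [34, 34, 10, 10, 34, 11, 33, 34, 32, 10, 35, 10, 35, 35, 10] [40] j (allR_zero _ _ wk15 j hj)⟩
  · exact ⟨by decide, by decide, fun j hj => OT.ckEqW_sound (T := T') [40, 40, 39, 39, 39, 40, 40, 39, 41, 41, 38, 38, 38, 40, 38, 38, 41] [42] j (allR_zero _ _ wk16 j hj)⟩
  · exact ⟨by decide, by decide, fun j hj => OT.ckEqW_sound (T := T') [40, 39, 41, 41, 41, 38, 40, 39, 39, 40, 39, 39, 41, 39, 40, 40, 39, 39, 39] [44] j (allR_zero _ _ wk17 j hj)⟩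
  · exact ⟨by decide, by decide, fun j hj => OT.ckEqW_sound (T := T') [43, 43, 43, 43, 45, 42, 44, 44, 43, 45, 43, 44, 42, 45, 43, 45, 45, 45, 43] [46] j (allR_zero _ _ wk18 j hj)⟩
  · exact ⟨by decide, by decide, fun j hj => OT.ckEqW_sound (T := T') [45, 42, 44, 42, 45, 43, 44, 43, 44, 43, 44, 44] [48] j (allR_zero _ _ wk19 j hj)⟩
  · exact ⟨by decide, by decide, fun j hj => OT.ckEqW_sound (T := T') [45, 45, 42, 42, 42, 42, 42, 44, 44, 42, 42, 42] [50] j (allR_zero _ _ wk20 j hj)⟩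
  · exact ⟨by decide, by decide, fun j hj => OT.ckEqW_sound (T := T') [49, 47, 47, 48, 50, 47, 47, 48, 51] [52] j (allR_zero _ _ wk21 j hj)⟩
  · exact ⟨by decide, by decide, fun j hj => OT.ckEqW_sound (T := T') [48, 46, 48, 48, 51, 51, 47, 50, 46, 46, 46, 48, 46, 46] [54] j (allR_zero _ _ wk22 j hj)⟩
  · exact ⟨by decide, by decide, fun j hj => OT.ckEqW_sound (T := T') [49, 49, 46, 50, 46, 48, 47, 48, 51, 47, 49] [56] j (allR_zero _ _ wk23 j hj)⟩
  · exact ⟨by decide, by decide, fun j hj => OT.ckEqW_sound (T := T') [10, 32, 10, 34, 34, 11, 34, 33, 35, 35, 32, 10, 10, 34, 32, 35, 10] [58] j (allR_zero _ _ wk24 j hj)⟩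
  · exact ⟨by decide, by decide, fun j hj => OT.ckEqW_sound (T := T') [11, 33, 11, 33, 34, 11, 35, 11, 35, 33, 10, 10, 35, 10, 35, 11] [60] j (allR_zero _ _ wk25 j hj)⟩
  · exact ⟨by decide, by decide, fun j hj => OT.ckEqW_sound (T := T') [59, 61, 58, 60, 58, 60, 60, 58, 61, 59, 59, 61, 61, 61, 58, 58, 61, 58, 60, 59] [62] j (allR_zero _ _ wk26 j hj)⟩
  · exact ⟨by decide, by decide, fun j hj => OT.ckEqW_sound (T := T') [61, 58, 61, 59, 61, 58, 58, 58, 60, 60, 59, 59, 61, 61, 61, 61, 59, 60, 58, 58] [64] j (allR_zero _ _ wk27 j hj)⟩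
  · exact ⟨by decide, by decide, fun j hj => OT.ckEqW_sound (T := T') [65, 62, 64, 64, 64, 62] [66] j (allR_zero _ _ wk28 j hj)⟩
  · exact ⟨by decide, by decide, fun j hj => OT.ckEqW_sound (T := T') [62, 64, 62, 65, 63, 64, 62, 64, 64, 63, 64, 63] [68] j (allR_zero _ _ wk29 j hj)⟩
  · exact ⟨by decide, by decide, fun j hj => OT.ckEqW_sound (T := T') [67, 69, 67, 68, 67, 67, 68, 66, 66, 66, 66, 68] [70] j (allR_zero _ _ wk30 j hj)⟩
  · exact ⟨by decide, by decide, fun j hj => OT.ckEqW_sound (T := T') [69, 66, 66, 68, 67, 69, 69, 69, 67, 68] [72] j (allR_zero _ _ wk31 j hj)⟩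

end Cfsg.Agent.H8.Fi23O
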