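import Cfsg.Agent.H8.CosetCls
import Cfsg.Agent.H8.T.G24tP

set_option autoImplicit false
set_option linter.all false
set_option maxRecDepth 100000

namespace Cfsg.Agent.H8.G24t
noncomputable def chQ0c0 : Nat := nat_lit 0x71395c6e170b95c8e571b81c0e172b85cae370385c2e572395c6e072b8dc2e172b85c2e571395c0e171395c6e072b81c6e168b55a4d068b55a2d56a349aad368b45aad46ab4da0d568b45aad469355a6d06ab4da2d16ab41a6d169355a6d16ab49a2d569345aad368b55a0d368b45a4d162b0582c56231586c062b0d82c56031586c162b098ac16130d8ac262b0d82c561b1588c260b0984c3612d560b559ac56ab258ad564b559ad564b35a2d566b55a2d568b159ac966b35a2cd42a55129546a252a8d4aa452a8d48a252a9146a05229146a45228548a44925526954a24d2a94482552a9449a45289249a51229449251249341a150880422050a844120d02844120d06813a1c4e8723a9cce073389c8c86231984c46029948a242200c44a10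
noncomputable def chQ0c1 : Nat := nat_lit 0x99c8e472189c4e23138a44a251289446251281c120b0380c12050082412050380c16070180412050381c0e030282c0e030581c020b028040a00f278bc1e2f378bd5e8f17abd1e4f3783c5e8f4793cde4f0783c5eaf37a3c1e2f57a3c5e8f2783c1e2f578bd5e8f27abcde2f2783d5e4f579bc5eaf07abc5e2f57a3d5e6f0783c5eaf378bc5e4f078bd5e4f378bcdc4e070b85c2e572385cae471395c6e270381c2e570b91c4e571b85c2e270b95cae470b85cae4
noncomputable def chQ0 : Nat → Nat := (fun h => @Nat.rec (fun _ => Nat → Nat)
 (fun i => Nat.land (Nat.shiftRight chQ0c0 (Nat.mul (nat_lit 9) (Nat.land i (nat_lit 255)))) (nat_lit 511))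
 (fun _ _ => (fun i => Nat.land (Nat.shiftRight chQ0c1 (Nat.mul (nat_lit 9) (Nat.land i (nat_lit 255)))) (nat_lit 511))) (Nat.land h (nat_lit 256)) h)
theorem ch_r0 : allR (ckReach chQ0 [[T0], [T1], [T2], [T3], [T4], [T5]] (nat_lit 0)) (nat_lit 0) (nat_lit 416) = true := by decide +kernel
theorem ch_c0 : cntT chQ0 (nat_lit 416) (nat_lit 416) (nat_lit 0) = true := by decide +kernel
def chG0 : List (List Nat) := [[0], [1], [2], [3], [4], [5]]
def chG1 : List (List Nat) := [[0], [1], [2], [3], [4]]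

theorem ch_lower {G : Type*} [Group G] [Finite G] (s : Nat → G) (ρ : G →* Equiv.Perm (Fin 416))
    (hρ : ∀ l < 6, ρ (s l) = permL tok l) :
    416 * (Nat.card (wordGroup s chG1)) ≤ Nat.card (wordGroup s chG0) := by
  have h0 := card_step s tok ρ hρ chQ0 416 chG0 chG1 (by decide) ⟨0, by decide⟩ ch_r0 ch_c0
    (by decide) (by decide +kernel) inferInstance
  have e1 : Nat.card (wordGroup s chG1) ≤ Nat.card (wordGroup s chG1) := le_rfl
  have e0 := le_trans (Nat.mul_le_mul_left 416 e1) h0
  exact e0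

end Cfsg.Agent.H8.G24t
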