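import Cfsg.Agent.H8.CosetCls
import Cfsg.Agent.H8.T.G24tP

set_option autoImplicit false
set_option linter.all false
set_option maxRecDepth 100000

namespace Cfsg.Agent.H8.G24t
noncomputable def clCc0 : Nat := nat_lit 0x65a555555a55969a55555595aa59695669659555659a6955559a65966595599a6555665966556665555665995595555566595555555565555555555555555554
noncomputable def clCc1 : Nat := nat_lit 0x55555555555655a6955556555699a555a555a95a556a555555555a556955555a6a69556a5559a969
noncomputable def clC : Nat → Nat := (fun h => @Nat.rec (fun _ => Nat → Nat)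
 (fun i => Nat.land (Nat.shiftRight clCc0 (Nat.mul (nat_lit 2) (Nat.land i (nat_lit 255)))) (nat_lit 3))
 (fun _ _ => (fun i => Nat.land (Nat.shiftRight clCc1 (Nat.mul (nat_lit 2) (Nat.land i (nat_lit 255)))) (nat_lit 3))) (Nat.land h (nat_lit 256)) h)
noncomputable def clQc0 : Nat := nat_lit 0x6920da6d1389cda8f469b41a0f369b45e6d368344e2736a38da6d03934da27339344e87369349a0d169385a6d070341a6d151b4184c03199106826230928c360984c6c471b0d809260984c6c46124d86c03130d82c171b0186c16118986c131b08c86361188c8c360b4180c360b0584c151ac4a2535a24d66b0292cd62a25814966b129ac964b1592cca6b22a2cca2545994d68b258ac964b359289404251a8486a25090d444451a8d44a35211146435210148a151a8946a35228d2233490d126921a24c66944a24d289218a5126904a25126944a24528944109106204220c468440251028441a05088241a11028441211048339840e8703a1c50674391cce274391cce67132184c8623818cc06330988a85229944a450219088232180842010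
noncomputable def clQc1 : Nat := nat_lit 0x91c4e271181c0e03038240a05028140a050279bd206f378bd1e4947a3d1e4f358a4de69349bd1e4f379bcde6f2793cde29379bc1e6f2783c9e0a461bc108e34a24dc8e17a391c4e341a11c8e47138dc4e05121108e372381229072385c8e2702010684723c9c8e278b8dc2e270389c4e371b85e0e0713850283723d1c6e07020d04e370b85c4e070b85c4e370b8d28b3709d0e4946a21124d469391a6d2681c0e67469b51a4f269b4524d2399d0e4d468a5100d4
noncomputable def clQ : Nat → Nat := (fun h => @Nat.rec (fun _ => Nat → Nat)
 (fun i => Nat.land (Nat.shiftRight clQc0 (Nat.mul (nat_lit 9) (Nat.land i (nat_lit 255)))) (nat_lit 511))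
 (fun _ _ => (fun i => Nat.land (Nat.shiftRight clQc1 (Nat.mul (nat_lit 9) (Nat.land i (nat_lit 255)))) (nat_lit 511))) (Nat.land h (nat_lit 256)) h)
def clG : List (List Nat) := [[0], [1], [2], [3], [4]]
def clR : List Nat := [0, 1, 38]
theorem cl_i0 : allR (ckCls clC [T0]) (nat_lit 0) (nat_lit 416) = true := by decide +kernel
theorem cl_i1 : allR (ckCls clC [T1]) (nat_lit 0) (nat_lit 416) = true := by decide +kernel
theorem cl_i2 : allR (ckCls clC [T2]) (nat_lit 0) (nat_lit 416) = true := by decide +kernel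
theorem cl_i3 : allR (ckCls clC [T3]) (nat_lit 0) (nat_lit 416) = true := by decide +kernel
theorem cl_i4 : allR (ckCls clC [T4]) (nat_lit 0) (nat_lit 416) = true := by decide +kernel
theorem cl_rt : allR (ckRt (nat_lit 416) clC clQ [[T0], [T1], [T2], [T3], [T4]] clR) (nat_lit 0) (nat_lit 416) = true := by decide +kernel
theorem cl_n0 : cntC clC (nat_lit 0) (nat_lit 1) (nat_lit 416) (nat_lit 0) = true := by decide +kernel
theorem cl_n1 : cntC clC (nat_lit 1) (nat_lit 315) (nat_lit 416) (nat_lit 0) = true := by decide +kernel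
theorem cl_n2 : cntC clC (nat_lit 2) (nat_lit 100) (nat_lit 416) (nat_lit 0) = true := by decide +kernel
theorem clOK : ClsOK 416 T clC clQ clG clR where
  inv := by
    refine List.forall_mem_cons.2 ⟨cl_i0, ?_⟩
    refine List.forall_mem_cons.2 ⟨cl_i1, ?_⟩
    refine List.forall_mem_cons.2 ⟨cl_i2, ?_⟩
    refine List.forall_mem_cons.2 ⟨cl_i3, ?_⟩
    refine List.forall_mem_cons.2 ⟨cl_i4, ?_⟩
    intro c hc
    exact absurd hc List.not_mem_nil
  rt := cl_rt
theorem cl_lt : ∀ i < 416, clC i < 3 := by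
  intro i hi
  have h : allR (fun i => Nat.ble (Nat.succ (clC i)) (nat_lit 3)) (nat_lit 0) (nat_lit 416) = true := by decide +kernel
  exact Nat.le_of_ble_eq_true (allR_zero _ _ h i hi)
def clS : Fin 3 → Nat := ![1, 315, 100]
theorem cl_size : ∀ c : Fin 3, cntC clC c (clS c) 416 0 = true := by
  intro c
  fin_cases c
  · exact cl_n0
  · exact cl_n1
  · exact cl_n2

theorem cl_coatom {G : Type*} [Group G] (s : Nat → G) (ρ : G →* Equiv.Perm (Fin 416))
    (hρ : ∀ l < 6, ρ (s l) = permL tok l)
    (hH : stabOf ρ ⟨0, by decide⟩ = wordGroup s clG) : IsCoatom (stabOf ρ ⟨0, by decide⟩) := by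
  refine isCoatom_of_cls s tok ρ hρ clC clQ clG clR (by decide) clOK (by decide) (rho_tr s ρ hρ) hH 3
    clS (fun i => cl_lt i i.2) cl_size ?_
  have h0 : (⟨clC 0, cl_lt 0 (by decide)⟩ : Fin 3) = 0 := by decide +kernel
  rw [h0]
  have key : ∀ S : Finset (Fin 3), (0 : Fin 3) ∈ S → (∑ c ∈ S, clS c) ∣ 416 →
      (∑ c ∈ S, clS c) = 1 ∨ (∑ c ∈ S, clS c) = 416 := by decide +kernel
  intro S hS1 hS2
  rcases key S hS1 hS2 with h | h
  · exact Or.inl h
  · exact Or.inr (Or.inl h)


end Cfsg.Agent.H8.G24t
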