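import Cfsg.Agent.H8.T.HSOa

set_option Elab.async false
set_option autoImplicit false
set_option linter.all false
set_option maxRecDepth 100000
set_option maxHeartbeats 400000

namespace Cfsg.Agent.H8.HSO
open Cfsg.Agent.H8.LtH (T0 T1 T2)

noncomputable def FQ0c0 : Nat := nat_lit 0xa2c30c46396252a755a408b070d0410a1d183921548346a33674e84568c315163022d482d60456b4f2406aca0c4a1469d5ab450c48b562c4a1122c1454d855a9168b047422908912a546b11a408091ac56341a25a952240
noncomputable def FQ0 : Nat → Nat := (fun i => Nat.land (Nat.shiftRight FQ0c0 (Nat.mul (nat_lit 7) (Nat.land i (nat_lit 255)))) (nat_lit 127))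
theorem Fr0 : allR (ckReach FQ0 [[X0], [X1], [X16], [X17], [X18], [X19], [X22], [X23], [X24], [X25], [X26], [X27], [X28], [X29], [X30], [X31], [X32], [X33], [X34], [X35]] (nat_lit 20)) (nat_lit 0) (nat_lit 100) = true := by decide +kernel
theorem Fc0 : cntT FQ0 (nat_lit 100) (nat_lit 100) (nat_lit 0) = true := by decide +kernel
def FG0 : List (List Nat) := [[3], [4], [19], [20], [21], [22], [25], [26], [27], [28], [29], [30], [31], [32], [33], [34], [35], [36], [37], [38]]
noncomputable def FQ1c0 : Nat := nat_lit 0xc5068800184000010e8006600052630c050858a0e3a54c03081828c3a54e0424000000a5031b1c18a900c286080e74c042a109840a30c052c1068604403160c7831b12186900014c000c500023a34f0b087870d36589953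
noncomputable def FQ1 : Nat → Nat := (fun i => Nat.land (Nat.shiftRight FQ1c0 (Nat.mul (nat_lit 7) (Nat.land i (nat_lit 255)))) (nat_lit 127))
theorem Fr1 : allR (ckReach FQ1 [[X22], [X23], [X24], [X25], [X26], [X27], [X28], [X29], [X30], [X31], [X32], [X33], [X34], [X35]] (nat_lit 23)) (nat_lit 0) (nat_lit 100) = true := by decide +kernel
theorem Fc1 : cntT FQ1 (nat_lit 77) (nat_lit 100) (nat_lit 0) = true := by decide +kernel
def FG1 : List (List Nat) := [[25], [26], [27], [28], [29], [30], [31], [32], [33], [34], [35], [36], [37], [38]]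
noncomputable def FQ2c0 : Nat := nat_lit 0xa641800000000001028808000000634c051840002300c4032a60102183029506600000014a88085470804508000014c00082ce050a340000a402900800205387419c2010d900010c0008344041a100043a10d9410106130
noncomputable def FQ2 : Nat → Nat := (fun i => Nat.land (Nat.shiftRight FQ2c0 (Nat.mul (nat_lit 7) (Nat.land i (nat_lit 255)))) (nat_lit 127))
theorem Fr2 : allR (ckReach FQ2 [[X26], [X27], [X28], [X29], [X30], [X31], [X32], [X33], [X34], [X35]] (nat_lit 98)) (nat_lit 0) (nat_lit 100) = true := by decide +kernel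
theorem Fc2 : cntT FQ2 (nat_lit 60) (nat_lit 100) (nat_lit 0) = true := by decide +kernel
def FG2 : List (List Nat) := [[29], [30], [31], [32], [33], [34], [35], [36], [37], [38]]
noncomputable def FQ3c0 : Nat := nat_lit 0xa40000000000000106100a00000080000306000040010c0000001040630d8c2860000000000006400000c6400000000000a201142874c0006001080a0028800000023014288000000000000000000000000000000002800
noncomputable def FQ3 : Nat → Nat := (fun i => Nat.land (Nat.shiftRight FQ3c0 (Nat.mul (nat_lit 7) (Nat.land i (nat_lit 255)))) (nat_lit 127))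
theorem Fr3 : allR (ckReach FQ3 [[X30], [X31], [X32], [X33], [X34], [X35]] (nat_lit 50)) (nat_lit 0) (nat_lit 100) = true := by decide +kernel
theorem Fc3 : cntT FQ3 (nat_lit 32) (nat_lit 100) (nat_lit 0) = true := by decide +kernel
def FG3 : List (List Nat) := [[33], [34], [35], [36], [37], [38]]
noncomputable def FQ4c0 : Nat := nat_lit 0x21000000000000000000800000000000000000000000000000000000000000000000400000000000000000000000000000000000000000000000
noncomputable def FQ4 : Nat → Nat := (fun i => Nat.land (Nat.shiftRight FQ4c0 (Nat.mul (nat_lit 6) (Nat.land i (nat_lit 255)))) (nat_lit 63))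
theorem Fr4 : allR (ckReach FQ4 [[X34], [X35]] (nat_lit 31)) (nat_lit 0) (nat_lit 100) = true := by decide +kernel
theorem Fc4 : cntT FQ4 (nat_lit 3) (nat_lit 100) (nat_lit 0) = true := by decide +kernel
def FG4 : List (List Nat) := [[37], [38]]
noncomputable def FK4 : List Nat → Bool := levF FQ4 [[X34], [X35]] (nat_lit 31) (fun _ => false) (nat_lit 8)
noncomputable def FK3 : List Nat → Bool := levF FQ3 [[X30], [X31], [X32], [X33], [X34], [X35]] (nat_lit 50) FK4 (nat_lit 8)
noncomputable def FK2 : List Nat → Bool := levF FQ2 [[X26], [X27], [X28], [X29], [X30], [X31], [X32], [X33], [X34], [X35]] (nat_lit 98) FK3 (nat_lit 8)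
noncomputable def FK1 : List Nat → Bool := levF FQ1 [[X22], [X23], [X24], [X25], [X26], [X27], [X28], [X29], [X30], [X31], [X32], [X33], [X34], [X35]] (nat_lit 23) FK2 (nat_lit 8)
noncomputable def FK0 : List Nat → Bool := levF FQ0 [[X0], [X1], [X16], [X17], [X18], [X19], [X22], [X23], [X24], [X25], [X26], [X27], [X28], [X29], [X30], [X31], [X32], [X33], [X34], [X35]] (nat_lit 20) FK1 (nat_lit 8)
theorem FS : allR (OT.ckCand [X20] (nat_lit 5) FK0 [0, 1, 4, 7, 20]) (nat_lit 0) (nat_lit 100) = true := by decide +kernel

end Cfsg.Agent.H8.HSO
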