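import Cfsg.Agent.H8.Lt5

/-! # Tables for a subgroup of `Co3` -/

set_option autoImplicit false
set_option linter.all false
set_option maxRecDepth 100000

namespace Cfsg.Agent.H8.LtH
open Cfsg.Agent.H8 Cfsg.Agent.H8.Lt
noncomputable def EMc0 : Nat := nat_lit 0x84df47b9e777dd5701b36c9ac69da664d8f61d855f16959d5d5194550d3e4e9394dd334c92f4b123485204711845d023a0d9360d5348c7318c430cc12f4ba2d8b42bcaa298a528c9f278922448f2308b2187d1cc721a0611805d15c511404f124470fc3c0e8360d0310bc280801f060130440e0340c02c0a0200400c02
noncomputable def EM : Nat → Nat := (fun i => Nat.land (Nat.shiftRight EMc0 (Nat.mul (nat_lit 10) (Nat.land i (nat_lit 255)))) (nat_lit 0x3ff))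
noncomputable def EIc0 : Nat := nat_lit 0x3d0000000000000000000000001e3b0001d0000e40000000000000000070dc0366a01a00000198000c800000c403000000005e0000000b800000b5600560000054a40000000000000000000a13804c000254800000008c000000000000011000000000000000042800000000000000001f00000000000f1d0000e00000000036000000000d1930000000000b802c0000000000002a00014004c000004801100008001e00000000000e0000000000000d1800000000000b0000000140048000203860a1000300000020200000
noncomputable def EIc1 : Nat := nat_lit 0x62000000001840000000000c0000000000000be0000000000000002f000000000000000000000000000000000005d000000000000000000000b96c000000005a0000000b3600000000000000000000000000000000ae00000ac000000000000aa02a000000000000005300000000000000000000000000000002900a2000000000000000280000000000000000000000000000000000000013e7009a000000130000012e5009200000911c0008c000450000000000000088021c2000004100000407e00000000000000000000000000000000000f8000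
noncomputable def EIc2 : Nat := nat_lit 0xc6000000000000000000000000000000000
noncomputable def EI : Nat → Nat := (fun h => @Nat.rec (fun _ => Nat → Nat)
 (fun h => @Nat.rec (fun _ => Nat → Nat)
 (fun i => Nat.land (Nat.shiftRight EIc0 (Nat.mul (nat_lit 7) (Nat.land i (nat_lit 255)))) (nat_lit 127))
 (fun _ _ => (fun i => Nat.land (Nat.shiftRight EIc1 (Nat.mul (nat_lit 7) (Nat.land i (nat_lit 255)))) (nat_lit 127))) (Nat.land h (nat_lit 256)) h)
 (fun _ _ => (fun i => Nat.land (Nat.shiftRight EIc2 (Nat.mul (nat_lit 7) (Nat.land i (nat_lit 255)))) (nat_lit 127))) (Nat.land h (nat_lit 512)) h)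
noncomputable def T0c0 : Nat := nat_lit 0xc58d35243129d92ef6e0e60e94abbb8094786765220934a41a0e58de9e164336e7ed0a015a32a7e9522e80722d730d1427a8e2aad5985b352d32f887c3e7322a404afb68cdc90f4461a3d605911af0ca0260614b040c33b
noncomputable def T0 : Nat → Nat := (fun i => Nat.land (Nat.shiftRight T0c0 (Nat.mul (nat_lit 7) (Nat.land i (nat_lit 255)))) (nat_lit 127))
noncomputable def T1c0 : Nat := nat_lit 0xc69b0e0acce4b07d2162d1f7eaa2310c6d09f15c956cd6eda5622744a408e177f6debc76126925f2e511bca475c6e1ac598e159204388f1d2d513a83e952413664d53808e61426e1a10aec688302284c60eb953a1908580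
noncomputable def T1 : Nat → Nat := (fun i => Nat.land (Nat.shiftRight T1c0 (Nat.mul (nat_lit 7) (Nat.land i (nat_lit 255)))) (nat_lit 127))
noncomputable def T2c0 : Nat := nat_lit 0xa98a85cbf7aae07b4abd8b346ee3a76ab614ed6239550a49d86e22cd8f299a430fad9332ea6466e4a73482c591e38306ac412c5179e9884036590ab1cc242f4669dbf508801478d88a5167d6ae1ea42060e201890a08095
noncomputable def T2 : Nat → Nat := (fun i => Nat.land (Nat.shiftRight T2c0 (Nat.mul (nat_lit 7) (Nat.land i (nat_lit 255)))) (nat_lit 127))
noncomputable def T : Nat → Nat → Nat := fun l => (@Nat.rec (fun _ => Nat → Nat) T0 (fun l _ => (@Nat.rec (fun _ => Nat → Nat) T1 (fun l _ => T2) l)) l)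
def inv : Nat → Nat := fun l => l
def U : Nat := 42873999471991744781013780582
theorem okU : isLV U = true := by decide +kernel
theorem uU : ckDot U U 4 0 = true := by decide +kernel
theorem eBd : allR (fun i => Nat.ble (Nat.succ (EM i)) 552) 0 100 = true := by decide +kernel
theorem eLt : allR (fun i => Nat.ble (Nat.succ (EM i)) (EM (Nat.succ i))) 0 99 = true := by decide +kernel
theorem eDot : allR (fun i => ckDot (LtC3.VC (EM i)) U 0 0) 0 100 = true := by decide +kernel
theorem eSub : allR (ckSubV LtC3.VC EM EI 100 U 0 0) 0 552 = true := by decide +kernel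
theorem pk0 : allR (ckPerm (nat_lit 100) T0 T0) (nat_lit 0) (nat_lit 100) = true := by decide +kernel
theorem ek0 : allR (fun i => Nat.beq (trN LtC3.T [2] (EM i)) (EM (T0 i))) 0 100 = true := by decide +kernel
theorem pk1 : allR (ckPerm (nat_lit 100) T1 T1) (nat_lit 0) (nat_lit 100) = true := by decide +kernel
theorem ek1 : allR (fun i => Nat.beq (trN LtC3.T [0, 2, 1, 2, 0] (EM i)) (EM (T1 i))) 0 100 = true := by decide +kernel
theorem pk2 : allR (ckPerm (nat_lit 100) T2 T2) (nat_lit 0) (nat_lit 100) = true := by decide +kernel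
theorem ek2 : allR (fun i => Nat.beq (trN LtC3.T [1, 2, 0, 2, 1] (EM i)) (EM (T2 i))) 0 100 = true := by decide +kernel

theorem tok : TableOK 100 3 T inv where
  lt := by
    intro l hl i hi
    interval_cases l
    · exact (ckPerm_sound _ _ _ _ (allR_zero _ _ pk0 i hi)).1
    · exact (ckPerm_sound _ _ _ _ (allR_zero _ _ pk1 i hi)).1
    · exact (ckPerm_sound _ _ _ _ (allR_zero _ _ pk2 i hi)).1
  inv_lt := by intro l hl; exact hl
  inv_inv := by intro l hl; rfl
  inv_apply := by
    intro l hl i hi
    interval_cases l
    · exact (ckPerm_sound _ _ _ _ (allR_zero _ _ pk0 i hi)).2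
    · exact (ckPerm_sound _ _ _ _ (allR_zero _ _ pk1 i hi)).2
    · exact (ckPerm_sound _ _ _ _ (allR_zero _ _ pk2 i hi)).2


end Cfsg.Agent.H8.LtH
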