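import Cfsg.Agent.H8.T.HSOc0
import Cfsg.Agent.H8.CosetGlue
import Cfsg.Agent.H8.T.LtH

set_option Elab.async false
set_option autoImplicit false
set_option linter.all false
set_option maxRecDepth 100000
set_option maxHeartbeats 400000

namespace Cfsg.Agent.H8.HSO
open Cfsg.Agent.H8.LtH (T0 T1 T2)

theorem pk0 : allR (ckPerm (nat_lit 100) X0 X1) (nat_lit 0) (nat_lit 100) = true := by
  apply allR_of_forall
  intro i hi
  have hi : i < 100 := hi
  rcases Nat.lt_or_ge i 50 with h0 | h0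
  · exact allR_spec _ (0 : ℕ) (50 : ℕ) pk0_0 i (by omega) (by omega)
  exact allR_spec _ (50 : ℕ) (50 : ℕ) pk0_1 i (by omega) (by omega)
theorem pk1 : allR (ckPerm (nat_lit 100) X1 X0) (nat_lit 0) (nat_lit 100) = true := by
  apply allR_of_forall
  intro i hi
  have hi : i < 100 := hi
  rcases Nat.lt_or_ge i 50 with h0 | h0
  · exact allR_spec _ (0 : ℕ) (50 : ℕ) pk1_0 i (by omega) (by omega)
  exact allR_spec _ (50 : ℕ) (50 : ℕ) pk1_1 i (by omega) (by omega)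
theorem pk2 : allR (ckPerm (nat_lit 100) X2 X3) (nat_lit 0) (nat_lit 100) = true := by
  apply allR_of_forall
  intro i hi
  have hi : i < 100 := hi
  rcases Nat.lt_or_ge i 50 with h0 | h0
  · exact allR_spec _ (0 : ℕ) (50 : ℕ) pk2_0 i (by omega) (by omega)
  exact allR_spec _ (50 : ℕ) (50 : ℕ) pk2_1 i (by omega) (by omega)
theorem pk3 : allR (ckPerm (nat_lit 100) X3 X2) (nat_lit 0) (nat_lit 100) = true := by
  apply allR_of_forall
  intro i hi
  have hi : i < 100 := hi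
  rcases Nat.lt_or_ge i 50 with h0 | h0
  · exact allR_spec _ (0 : ℕ) (50 : ℕ) pk3_0 i (by omega) (by omega)
  exact allR_spec _ (50 : ℕ) (50 : ℕ) pk3_1 i (by omega) (by omega)
theorem pk4 : allR (ckPerm (nat_lit 100) X4 X5) (nat_lit 0) (nat_lit 100) = true := by
  apply allR_of_forall
  intro i hi
  have hi : i < 100 := hi
  rcases Nat.lt_or_ge i 50 with h0 | h0
  · exact allR_spec _ (0 : ℕ) (50 : ℕ) pk4_0 i (by omega) (by omega)
  exact allR_spec _ (50 : ℕ) (50 : ℕ) pk4_1 i (by omega) (by omega)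
theorem pk5 : allR (ckPerm (nat_lit 100) X5 X4) (nat_lit 0) (nat_lit 100) = true := by
  apply allR_of_forall
  intro i hi
  have hi : i < 100 := hi
  rcases Nat.lt_or_ge i 50 with h0 | h0
  · exact allR_spec _ (0 : ℕ) (50 : ℕ) pk5_0 i (by omega) (by omega)
  exact allR_spec _ (50 : ℕ) (50 : ℕ) pk5_1 i (by omega) (by omega)
theorem pk6 : allR (ckPerm (nat_lit 100) X6 X7) (nat_lit 0) (nat_lit 100) = true := by
  apply allR_of_forall
  intro i hi
  have hi : i < 100 := hi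
  rcases Nat.lt_or_ge i 50 with h0 | h0
  · exact allR_spec _ (0 : ℕ) (50 : ℕ) pk6_0 i (by omega) (by omega)
  exact allR_spec _ (50 : ℕ) (50 : ℕ) pk6_1 i (by omega) (by omega)
theorem pk7 : allR (ckPerm (nat_lit 100) X7 X6) (nat_lit 0) (nat_lit 100) = true := by
  apply allR_of_forall
  intro i hi
  have hi : i < 100 := hi
  rcases Nat.lt_or_ge i 50 with h0 | h0
  · exact allR_spec _ (0 : ℕ) (50 : ℕ) pk7_0 i (by omega) (by omega)
  exact allR_spec _ (50 : ℕ) (50 : ℕ) pk7_1 i (by omega) (by omega)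
theorem pk8 : allR (ckPerm (nat_lit 100) X8 X9) (nat_lit 0) (nat_lit 100) = true := by
  apply allR_of_forall
  intro i hi
  have hi : i < 100 := hi
  rcases Nat.lt_or_ge i 50 with h0 | h0
  · exact allR_spec _ (0 : ℕ) (50 : ℕ) pk8_0 i (by omega) (by omega)
  exact allR_spec _ (50 : ℕ) (50 : ℕ) pk8_1 i (by omega) (by omega)
theorem pk9 : allR (ckPerm (nat_lit 100) X9 X8) (nat_lit 0) (nat_lit 100) = true := by
  apply allR_of_forall
  intro i hi
  have hi : i < 100 := hi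
  rcases Nat.lt_or_ge i 50 with h0 | h0
  · exact allR_spec _ (0 : ℕ) (50 : ℕ) pk9_0 i (by omega) (by omega)
  exact allR_spec _ (50 : ℕ) (50 : ℕ) pk9_1 i (by omega) (by omega)
theorem pk10 : allR (ckPerm (nat_lit 100) X10 X11) (nat_lit 0) (nat_lit 100) = true := by
  apply allR_of_forall
  intro i hi
  have hi : i < 100 := hi
  rcases Nat.lt_or_ge i 50 with h0 | h0
  · exact allR_spec _ (0 : ℕ) (50 : ℕ) pk10_0 i (by omega) (by omega)
  exact allR_spec _ (50 : ℕ) (50 : ℕ) pk10_1 i (by omega) (by omega)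
theorem pk11 : allR (ckPerm (nat_lit 100) X11 X10) (nat_lit 0) (nat_lit 100) = true := by
  apply allR_of_forall
  intro i hi
  have hi : i < 100 := hi
  rcases Nat.lt_or_ge i 50 with h0 | h0
  · exact allR_spec _ (0 : ℕ) (50 : ℕ) pk11_0 i (by omega) (by omega)
  exact allR_spec _ (50 : ℕ) (50 : ℕ) pk11_1 i (by omega) (by omega)
theorem pk12 : allR (ckPerm (nat_lit 100) X12 X13) (nat_lit 0) (nat_lit 100) = true := by
  apply allR_of_forall
  intro i hi
  have hi : i < 100 := hi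
  rcases Nat.lt_or_ge i 50 with h0 | h0
  · exact allR_spec _ (0 : ℕ) (50 : ℕ) pk12_0 i (by omega) (by omega)
  exact allR_spec _ (50 : ℕ) (50 : ℕ) pk12_1 i (by omega) (by omega)
theorem pk13 : allR (ckPerm (nat_lit 100) X13 X12) (nat_lit 0) (nat_lit 100) = true := by
  apply allR_of_forall
  intro i hi
  have hi : i < 100 := hi
  rcases Nat.lt_or_ge i 50 with h0 | h0
  · exact allR_spec _ (0 : ℕ) (50 : ℕ) pk13_0 i (by omega) (by omega)
  exact allR_spec _ (50 : ℕ) (50 : ℕ) pk13_1 i (by omega) (by omega)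
theorem pk14 : allR (ckPerm (nat_lit 100) X14 X15) (nat_lit 0) (nat_lit 100) = true := by
  apply allR_of_forall
  intro i hi
  have hi : i < 100 := hi
  rcases Nat.lt_or_ge i 50 with h0 | h0
  · exact allR_spec _ (0 : ℕ) (50 : ℕ) pk14_0 i (by omega) (by omega)
  exact allR_spec _ (50 : ℕ) (50 : ℕ) pk14_1 i (by omega) (by omega)
theorem pk15 : allR (ckPerm (nat_lit 100) X15 X14) (nat_lit 0) (nat_lit 100) = true := by
  apply allR_of_forall
  intro i hi
  have hi : i < 100 := hi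
  rcases Nat.lt_or_ge i 50 with h0 | h0
  · exact allR_spec _ (0 : ℕ) (50 : ℕ) pk15_0 i (by omega) (by omega)
  exact allR_spec _ (50 : ℕ) (50 : ℕ) pk15_1 i (by omega) (by omega)
theorem pk16 : allR (ckPerm (nat_lit 100) X16 X17) (nat_lit 0) (nat_lit 100) = true := by
  apply allR_of_forall
  intro i hi
  have hi : i < 100 := hi
  rcases Nat.lt_or_ge i 50 with h0 | h0
  · exact allR_spec _ (0 : ℕ) (50 : ℕ) pk16_0 i (by omega) (by omega)
  exact allR_spec _ (50 : ℕ) (50 : ℕ) pk16_1 i (by omega) (by omega)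
theorem pk17 : allR (ckPerm (nat_lit 100) X17 X16) (nat_lit 0) (nat_lit 100) = true := by
  apply allR_of_forall
  intro i hi
  have hi : i < 100 := hi
  rcases Nat.lt_or_ge i 50 with h0 | h0
  · exact allR_spec _ (0 : ℕ) (50 : ℕ) pk17_0 i (by omega) (by omega)
  exact allR_spec _ (50 : ℕ) (50 : ℕ) pk17_1 i (by omega) (by omega)
theorem pk18 : allR (ckPerm (nat_lit 100) X18 X19) (nat_lit 0) (nat_lit 100) = true := by
  apply allR_of_forall
  intro i hi
  have hi : i < 100 := hi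
  rcases Nat.lt_or_ge i 50 with h0 | h0
  · exact allR_spec _ (0 : ℕ) (50 : ℕ) pk18_0 i (by omega) (by omega)
  exact allR_spec _ (50 : ℕ) (50 : ℕ) pk18_1 i (by omega) (by omega)
theorem pk19 : allR (ckPerm (nat_lit 100) X19 X18) (nat_lit 0) (nat_lit 100) = true := by
  apply allR_of_forall
  intro i hi
  have hi : i < 100 := hi
  rcases Nat.lt_or_ge i 50 with h0 | h0
  · exact allR_spec _ (0 : ℕ) (50 : ℕ) pk19_0 i (by omega) (by omega)
  exact allR_spec _ (50 : ℕ) (50 : ℕ) pk19_1 i (by omega) (by omega)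
theorem pk20 : allR (ckPerm (nat_lit 100) X20 X21) (nat_lit 0) (nat_lit 100) = true := by
  apply allR_of_forall
  intro i hi
  have hi : i < 100 := hi
  rcases Nat.lt_or_ge i 50 with h0 | h0
  · exact allR_spec _ (0 : ℕ) (50 : ℕ) pk20_0 i (by omega) (by omega)
  exact allR_spec _ (50 : ℕ) (50 : ℕ) pk20_1 i (by omega) (by omega)
theorem pk21 : allR (ckPerm (nat_lit 100) X21 X20) (nat_lit 0) (nat_lit 100) = true := by
  apply allR_of_forall
  intro i hi
  have hi : i < 100 := hi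
  rcases Nat.lt_or_ge i 50 with h0 | h0
  · exact allR_spec _ (0 : ℕ) (50 : ℕ) pk21_0 i (by omega) (by omega)
  exact allR_spec _ (50 : ℕ) (50 : ℕ) pk21_1 i (by omega) (by omega)
theorem pk22 : allR (ckPerm (nat_lit 100) X22 X23) (nat_lit 0) (nat_lit 100) = true := by
  apply allR_of_forall
  intro i hi
  have hi : i < 100 := hi
  rcases Nat.lt_or_ge i 50 with h0 | h0
  · exact allR_spec _ (0 : ℕ) (50 : ℕ) pk22_0 i (by omega) (by omega)
  exact allR_spec _ (50 : ℕ) (50 : ℕ) pk22_1 i (by omega) (by omega)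
theorem pk23 : allR (ckPerm (nat_lit 100) X23 X22) (nat_lit 0) (nat_lit 100) = true := by
  apply allR_of_forall
  intro i hi
  have hi : i < 100 := hi
  rcases Nat.lt_or_ge i 50 with h0 | h0
  · exact allR_spec _ (0 : ℕ) (50 : ℕ) pk23_0 i (by omega) (by omega)
  exact allR_spec _ (50 : ℕ) (50 : ℕ) pk23_1 i (by omega) (by omega)
theorem pk24 : allR (ckPerm (nat_lit 100) X24 X25) (nat_lit 0) (nat_lit 100) = true := by
  apply allR_of_forall
  intro i hi
  have hi : i < 100 := hi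
  rcases Nat.lt_or_ge i 50 with h0 | h0
  · exact allR_spec _ (0 : ℕ) (50 : ℕ) pk24_0 i (by omega) (by omega)
  exact allR_spec _ (50 : ℕ) (50 : ℕ) pk24_1 i (by omega) (by omega)
theorem pk25 : allR (ckPerm (nat_lit 100) X25 X24) (nat_lit 0) (nat_lit 100) = true := by
  apply allR_of_forall
  intro i hi
  have hi : i < 100 := hi
  rcases Nat.lt_or_ge i 50 with h0 | h0
  · exact allR_spec _ (0 : ℕ) (50 : ℕ) pk25_0 i (by omega) (by omega)
  exact allR_spec _ (50 : ℕ) (50 : ℕ) pk25_1 i (by omega) (by omega)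
theorem pk26 : allR (ckPerm (nat_lit 100) X26 X27) (nat_lit 0) (nat_lit 100) = true := by
  apply allR_of_forall
  intro i hi
  have hi : i < 100 := hi
  rcases Nat.lt_or_ge i 50 with h0 | h0
  · exact allR_spec _ (0 : ℕ) (50 : ℕ) pk26_0 i (by omega) (by omega)
  exact allR_spec _ (50 : ℕ) (50 : ℕ) pk26_1 i (by omega) (by omega)
theorem pk27 : allR (ckPerm (nat_lit 100) X27 X26) (nat_lit 0) (nat_lit 100) = true := by
  apply allR_of_forall
  intro i hi
  have hi : i < 100 := hi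
  rcases Nat.lt_or_ge i 50 with h0 | h0
  · exact allR_spec _ (0 : ℕ) (50 : ℕ) pk27_0 i (by omega) (by omega)
  exact allR_spec _ (50 : ℕ) (50 : ℕ) pk27_1 i (by omega) (by omega)
theorem pk28 : allR (ckPerm (nat_lit 100) X28 X29) (nat_lit 0) (nat_lit 100) = true := by
  apply allR_of_forall
  intro i hi
  have hi : i < 100 := hi
  rcases Nat.lt_or_ge i 50 with h0 | h0
  · exact allR_spec _ (0 : ℕ) (50 : ℕ) pk28_0 i (by omega) (by omega)
  exact allR_spec _ (50 : ℕ) (50 : ℕ) pk28_1 i (by omega) (by omega)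
theorem pk29 : allR (ckPerm (nat_lit 100) X29 X28) (nat_lit 0) (nat_lit 100) = true := by
  apply allR_of_forall
  intro i hi
  have hi : i < 100 := hi
  rcases Nat.lt_or_ge i 50 with h0 | h0
  · exact allR_spec _ (0 : ℕ) (50 : ℕ) pk29_0 i (by omega) (by omega)
  exact allR_spec _ (50 : ℕ) (50 : ℕ) pk29_1 i (by omega) (by omega)
theorem pk30 : allR (ckPerm (nat_lit 100) X30 X31) (nat_lit 0) (nat_lit 100) = true := by
  apply allR_of_forall
  intro i hi
  have hi : i < 100 := hi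
  rcases Nat.lt_or_ge i 50 with h0 | h0
  · exact allR_spec _ (0 : ℕ) (50 : ℕ) pk30_0 i (by omega) (by omega)
  exact allR_spec _ (50 : ℕ) (50 : ℕ) pk30_1 i (by omega) (by omega)
theorem pk31 : allR (ckPerm (nat_lit 100) X31 X30) (nat_lit 0) (nat_lit 100) = true := by
  apply allR_of_forall
  intro i hi
  have hi : i < 100 := hi
  rcases Nat.lt_or_ge i 50 with h0 | h0
  · exact allR_spec _ (0 : ℕ) (50 : ℕ) pk31_0 i (by omega) (by omega)
  exact allR_spec _ (50 : ℕ) (50 : ℕ) pk31_1 i (by omega) (by omega)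
theorem pk32 : allR (ckPerm (nat_lit 100) X32 X33) (nat_lit 0) (nat_lit 100) = true := by
  apply allR_of_forall
  intro i hi
  have hi : i < 100 := hi
  rcases Nat.lt_or_ge i 50 with h0 | h0
  · exact allR_spec _ (0 : ℕ) (50 : ℕ) pk32_0 i (by omega) (by omega)
  exact allR_spec _ (50 : ℕ) (50 : ℕ) pk32_1 i (by omega) (by omega)
theorem pk33 : allR (ckPerm (nat_lit 100) X33 X32) (nat_lit 0) (nat_lit 100) = true := by
  apply allR_of_forall
  intro i hi
  have hi : i < 100 := hi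
  rcases Nat.lt_or_ge i 50 with h0 | h0
  · exact allR_spec _ (0 : ℕ) (50 : ℕ) pk33_0 i (by omega) (by omega)
  exact allR_spec _ (50 : ℕ) (50 : ℕ) pk33_1 i (by omega) (by omega)
theorem pk34 : allR (ckPerm (nat_lit 100) X34 X35) (nat_lit 0) (nat_lit 100) = true := by
  apply allR_of_forall
  intro i hi
  have hi : i < 100 := hi
  rcases Nat.lt_or_ge i 50 with h0 | h0
  · exact allR_spec _ (0 : ℕ) (50 : ℕ) pk34_0 i (by omega) (by omega)
  exact allR_spec _ (50 : ℕ) (50 : ℕ) pk34_1 i (by omega) (by omega)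
theorem pk35 : allR (ckPerm (nat_lit 100) X35 X34) (nat_lit 0) (nat_lit 100) = true := by
  apply allR_of_forall
  intro i hi
  have hi : i < 100 := hi
  rcases Nat.lt_or_ge i 50 with h0 | h0
  · exact allR_spec _ (0 : ℕ) (50 : ℕ) pk35_0 i (by omega) (by omega)
  exact allR_spec _ (50 : ℕ) (50 : ℕ) pk35_1 i (by omega) (by omega)
theorem pk36 : allR (ckPerm (nat_lit 100) X36 X37) (nat_lit 0) (nat_lit 100) = true := by
  apply allR_of_forall
  intro i hi
  have hi : i < 100 := hi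
  rcases Nat.lt_or_ge i 50 with h0 | h0
  · exact allR_spec _ (0 : ℕ) (50 : ℕ) pk36_0 i (by omega) (by omega)
  exact allR_spec _ (50 : ℕ) (50 : ℕ) pk36_1 i (by omega) (by omega)
theorem pk37 : allR (ckPerm (nat_lit 100) X37 X36) (nat_lit 0) (nat_lit 100) = true := by
  apply allR_of_forall
  intro i hi
  have hi : i < 100 := hi
  rcases Nat.lt_or_ge i 50 with h0 | h0
  · exact allR_spec _ (0 : ℕ) (50 : ℕ) pk37_0 i (by omega) (by omega)
  exact allR_spec _ (50 : ℕ) (50 : ℕ) pk37_1 i (by omega) (by omega)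
theorem pk38 : allR (ckPerm (nat_lit 100) X38 X39) (nat_lit 0) (nat_lit 100) = true := by
  apply allR_of_forall
  intro i hi
  have hi : i < 100 := hi
  rcases Nat.lt_or_ge i 50 with h0 | h0
  · exact allR_spec _ (0 : ℕ) (50 : ℕ) pk38_0 i (by omega) (by omega)
  exact allR_spec _ (50 : ℕ) (50 : ℕ) pk38_1 i (by omega) (by omega)
theorem pk39 : allR (ckPerm (nat_lit 100) X39 X38) (nat_lit 0) (nat_lit 100) = true := by
  apply allR_of_forall
  intro i hi
  have hi : i < 100 := hi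
  rcases Nat.lt_or_ge i 50 with h0 | h0
  · exact allR_spec _ (0 : ℕ) (50 : ℕ) pk39_0 i (by omega) (by omega)
  exact allR_spec _ (50 : ℕ) (50 : ℕ) pk39_1 i (by omega) (by omega)
theorem pk40 : allR (ckPerm (nat_lit 100) X40 X41) (nat_lit 0) (nat_lit 100) = true := by
  apply allR_of_forall
  intro i hi
  have hi : i < 100 := hi
  rcases Nat.lt_or_ge i 50 with h0 | h0
  · exact allR_spec _ (0 : ℕ) (50 : ℕ) pk40_0 i (by omega) (by omega)
  exact allR_spec _ (50 : ℕ) (50 : ℕ) pk40_1 i (by omega) (by omega)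
theorem pk41 : allR (ckPerm (nat_lit 100) X41 X40) (nat_lit 0) (nat_lit 100) = true := by
  apply allR_of_forall
  intro i hi
  have hi : i < 100 := hi
  rcases Nat.lt_or_ge i 50 with h0 | h0
  · exact allR_spec _ (0 : ℕ) (50 : ℕ) pk41_0 i (by omega) (by omega)
  exact allR_spec _ (50 : ℕ) (50 : ℕ) pk41_1 i (by omega) (by omega)
theorem pk42 : allR (ckPerm (nat_lit 100) X42 X43) (nat_lit 0) (nat_lit 100) = true := by
  apply allR_of_forall
  intro i hi
  have hi : i < 100 := hi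
  rcases Nat.lt_or_ge i 50 with h0 | h0
  · exact allR_spec _ (0 : ℕ) (50 : ℕ) pk42_0 i (by omega) (by omega)
  exact allR_spec _ (50 : ℕ) (50 : ℕ) pk42_1 i (by omega) (by omega)
theorem pk43 : allR (ckPerm (nat_lit 100) X43 X42) (nat_lit 0) (nat_lit 100) = true := by
  apply allR_of_forall
  intro i hi
  have hi : i < 100 := hi
  rcases Nat.lt_or_ge i 50 with h0 | h0
  · exact allR_spec _ (0 : ℕ) (50 : ℕ) pk43_0 i (by omega) (by omega)
  exact allR_spec _ (50 : ℕ) (50 : ℕ) pk43_1 i (by omega) (by omega)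
theorem pk44 : allR (ckPerm (nat_lit 100) X44 X45) (nat_lit 0) (nat_lit 100) = true := by
  apply allR_of_forall
  intro i hi
  have hi : i < 100 := hi
  rcases Nat.lt_or_ge i 50 with h0 | h0
  · exact allR_spec _ (0 : ℕ) (50 : ℕ) pk44_0 i (by omega) (by omega)
  exact allR_spec _ (50 : ℕ) (50 : ℕ) pk44_1 i (by omega) (by omega)
theorem pk45 : allR (ckPerm (nat_lit 100) X45 X44) (nat_lit 0) (nat_lit 100) = true := by
  apply allR_of_forall
  intro i hi
  have hi : i < 100 := hi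
  rcases Nat.lt_or_ge i 50 with h0 | h0
  · exact allR_spec _ (0 : ℕ) (50 : ℕ) pk45_0 i (by omega) (by omega)
  exact allR_spec _ (50 : ℕ) (50 : ℕ) pk45_1 i (by omega) (by omega)
theorem pk46 : allR (ckPerm (nat_lit 100) X46 X47) (nat_lit 0) (nat_lit 100) = true := by
  apply allR_of_forall
  intro i hi
  have hi : i < 100 := hi
  rcases Nat.lt_or_ge i 50 with h0 | h0
  · exact allR_spec _ (0 : ℕ) (50 : ℕ) pk46_0 i (by omega) (by omega)
  exact allR_spec _ (50 : ℕ) (50 : ℕ) pk46_1 i (by omega) (by omega)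
theorem pk47 : allR (ckPerm (nat_lit 100) X47 X46) (nat_lit 0) (nat_lit 100) = true := by
  apply allR_of_forall
  intro i hi
  have hi : i < 100 := hi
  rcases Nat.lt_or_ge i 50 with h0 | h0
  · exact allR_spec _ (0 : ℕ) (50 : ℕ) pk47_0 i (by omega) (by omega)
  exact allR_spec _ (50 : ℕ) (50 : ℕ) pk47_1 i (by omega) (by omega)
theorem pk48 : allR (ckPerm (nat_lit 100) X48 X49) (nat_lit 0) (nat_lit 100) = true := by
  apply allR_of_forall
  intro i hi
  have hi : i < 100 := hi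
  rcases Nat.lt_or_ge i 50 with h0 | h0
  · exact allR_spec _ (0 : ℕ) (50 : ℕ) pk48_0 i (by omega) (by omega)
  exact allR_spec _ (50 : ℕ) (50 : ℕ) pk48_1 i (by omega) (by omega)
theorem pk49 : allR (ckPerm (nat_lit 100) X49 X48) (nat_lit 0) (nat_lit 100) = true := by
  apply allR_of_forall
  intro i hi
  have hi : i < 100 := hi
  rcases Nat.lt_or_ge i 50 with h0 | h0
  · exact allR_spec _ (0 : ℕ) (50 : ℕ) pk49_0 i (by omega) (by omega)
  exact allR_spec _ (50 : ℕ) (50 : ℕ) pk49_1 i (by omega) (by omega)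
theorem wk0 : allR (OT.ckEqW [T0, T1, T2, T0, T2, T1, T2] [X0]) (nat_lit 0) (nat_lit 100) = true := by
  apply allR_of_forall
  intro i hi
  have hi : i < 100 := hi
  rcases Nat.lt_or_ge i 12 with h0 | h0
  · exact allR_spec _ (0 : ℕ) (12 : ℕ) wk0_0 i (by omega) (by omega)
  rcases Nat.lt_or_ge i 24 with h1 | h1
  · exact allR_spec _ (12 : ℕ) (12 : ℕ) wk0_1 i (by omega) (by omega)
  rcases Nat.lt_or_ge i 36 with h2 | h2
  · exact allR_spec _ (24 : ℕ) (12 : ℕ) wk0_2 i (by omega) (by omega)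
  rcases Nat.lt_or_ge i 48 with h3 | h3
  · exact allR_spec _ (36 : ℕ) (12 : ℕ) wk0_3 i (by omega) (by omega)
  rcases Nat.lt_or_ge i 60 with h4 | h4
  · exact allR_spec _ (48 : ℕ) (12 : ℕ) wk0_4 i (by omega) (by omega)
  rcases Nat.lt_or_ge i 72 with h5 | h5
  · exact allR_spec _ (60 : ℕ) (12 : ℕ) wk0_5 i (by omega) (by omega)
  rcases Nat.lt_or_ge i 84 with h6 | h6
  · exact allR_spec _ (72 : ℕ) (12 : ℕ) wk0_6 i (by omega) (by omega)
  rcases Nat.lt_or_ge i 96 with h7 | h7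
  · exact allR_spec _ (84 : ℕ) (12 : ℕ) wk0_7 i (by omega) (by omega)
  exact allR_spec _ (96 : ℕ) (4 : ℕ) wk0_8 i (by omega) (by omega)
theorem wk1 : allR (OT.ckEqW [X1, T0, T2, X0, X0, X0] [X2]) (nat_lit 0) (nat_lit 100) = true := by
  apply allR_of_forall
  intro i hi
  have hi : i < 100 := hi
  rcases Nat.lt_or_ge i 14 with h0 | h0
  · exact allR_spec _ (0 : ℕ) (14 : ℕ) wk1_0 i (by omega) (by omega)
  rcases Nat.lt_or_ge i 28 with h1 | h1
  · exact allR_spec _ (14 : ℕ) (14 : ℕ) wk1_1 i (by omega) (by omega)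
  rcases Nat.lt_or_ge i 42 with h2 | h2
  · exact allR_spec _ (28 : ℕ) (14 : ℕ) wk1_2 i (by omega) (by omega)
  rcases Nat.lt_or_ge i 56 with h3 | h3
  · exact allR_spec _ (42 : ℕ) (14 : ℕ) wk1_3 i (by omega) (by omega)
  rcases Nat.lt_or_ge i 70 with h4 | h4
  · exact allR_spec _ (56 : ℕ) (14 : ℕ) wk1_4 i (by omega) (by omega)
  rcases Nat.lt_or_ge i 84 with h5 | h5
  · exact allR_spec _ (70 : ℕ) (14 : ℕ) wk1_5 i (by omega) (by omega)
  rcases Nat.lt_or_ge i 98 with h6 | h6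
  · exact allR_spec _ (84 : ℕ) (14 : ℕ) wk1_6 i (by omega) (by omega)
  exact allR_spec _ (98 : ℕ) (2 : ℕ) wk1_7 i (by omega) (by omega)
theorem wk2 : allR (OT.ckEqW [T2, X1, T2, T0, T2] [X4]) (nat_lit 0) (nat_lit 100) = true := by
  apply allR_of_forall
  intro i hi
  have hi : i < 100 := hi
  rcases Nat.lt_or_ge i 16 with h0 | h0
  · exact allR_spec _ (0 : ℕ) (16 : ℕ) wk2_0 i (by omega) (by omega)
  rcases Nat.lt_or_ge i 32 with h1 | h1
  · exact allR_spec _ (16 : ℕ) (16 : ℕ) wk2_1 i (by omega) (by omega)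
  rcases Nat.lt_or_ge i 48 with h2 | h2
  · exact allR_spec _ (32 : ℕ) (16 : ℕ) wk2_2 i (by omega) (by omega)
  rcases Nat.lt_or_ge i 64 with h3 | h3
  · exact allR_spec _ (48 : ℕ) (16 : ℕ) wk2_3 i (by omega) (by omega)
  rcases Nat.lt_or_ge i 80 with h4 | h4
  · exact allR_spec _ (64 : ℕ) (16 : ℕ) wk2_4 i (by omega) (by omega)
  rcases Nat.lt_or_ge i 96 with h5 | h5
  · exact allR_spec _ (80 : ℕ) (16 : ℕ) wk2_5 i (by omega) (by omega)
  exact allR_spec _ (96 : ℕ) (4 : ℕ) wk2_6 i (by omega) (by omega)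
theorem wk3 : allR (OT.ckEqW [X5, X2, X5, X2, X2] [X6]) (nat_lit 0) (nat_lit 100) = true := by
  apply allR_of_forall
  intro i hi
  have hi : i < 100 := hi
  rcases Nat.lt_or_ge i 16 with h0 | h0
  · exact allR_spec _ (0 : ℕ) (16 : ℕ) wk3_0 i (by omega) (by omega)
  rcases Nat.lt_or_ge i 32 with h1 | h1
  · exact allR_spec _ (16 : ℕ) (16 : ℕ) wk3_1 i (by omega) (by omega)
  rcases Nat.lt_or_ge i 48 with h2 | h2
  · exact allR_spec _ (32 : ℕ) (16 : ℕ) wk3_2 i (by omega) (by omega)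
  rcases Nat.lt_or_ge i 64 with h3 | h3
  · exact allR_spec _ (48 : ℕ) (16 : ℕ) wk3_3 i (by omega) (by omega)
  rcases Nat.lt_or_ge i 80 with h4 | h4
  · exact allR_spec _ (64 : ℕ) (16 : ℕ) wk3_4 i (by omega) (by omega)
  rcases Nat.lt_or_ge i 96 with h5 | h5
  · exact allR_spec _ (80 : ℕ) (16 : ℕ) wk3_5 i (by omega) (by omega)
  exact allR_spec _ (96 : ℕ) (4 : ℕ) wk3_6 i (by omega) (by omega)
theorem wk4 : allR (OT.ckEqW [X5, X2, X4, X4, X4, X4] [X8]) (nat_lit 0) (nat_lit 100) = true := by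
  apply allR_of_forall
  intro i hi
  have hi : i < 100 := hi
  rcases Nat.lt_or_ge i 14 with h0 | h0
  · exact allR_spec _ (0 : ℕ) (14 : ℕ) wk4_0 i (by omega) (by omega)
  rcases Nat.lt_or_ge i 28 with h1 | h1
  · exact allR_spec _ (14 : ℕ) (14 : ℕ) wk4_1 i (by omega) (by omega)
  rcases Nat.lt_or_ge i 42 with h2 | h2
  · exact allR_spec _ (28 : ℕ) (14 : ℕ) wk4_2 i (by omega) (by omega)
  rcases Nat.lt_or_ge i 56 with h3 | h3
  · exact allR_spec _ (42 : ℕ) (14 : ℕ) wk4_3 i (by omega) (by omega)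
  rcases Nat.lt_or_ge i 70 with h4 | h4
  · exact allR_spec _ (56 : ℕ) (14 : ℕ) wk4_4 i (by omega) (by omega)
  rcases Nat.lt_or_ge i 84 with h5 | h5
  · exact allR_spec _ (70 : ℕ) (14 : ℕ) wk4_5 i (by omega) (by omega)
  rcases Nat.lt_or_ge i 98 with h6 | h6
  · exact allR_spec _ (84 : ℕ) (14 : ℕ) wk4_6 i (by omega) (by omega)
  exact allR_spec _ (98 : ℕ) (2 : ℕ) wk4_7 i (by omega) (by omega)
theorem wk5 : allR (OT.ckEqW [X6, X9, X7, X7, X9, X7, X9, X6, X9, X6, X6] [X10]) (nat_lit 0) (nat_lit 100) = true := by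
  apply allR_of_forall
  intro i hi
  have hi : i < 100 := hi
  rcases Nat.lt_or_ge i 8 with h0 | h0
  · exact allR_spec _ (0 : ℕ) (8 : ℕ) wk5_0 i (by omega) (by omega)
  rcases Nat.lt_or_ge i 16 with h1 | h1
  · exact allR_spec _ (8 : ℕ) (8 : ℕ) wk5_1 i (by omega) (by omega)
  rcases Nat.lt_or_ge i 24 with h2 | h2
  · exact allR_spec _ (16 : ℕ) (8 : ℕ) wk5_2 i (by omega) (by omega)
  rcases Nat.lt_or_ge i 32 with h3 | h3
  · exact allR_spec _ (24 : ℕ) (8 : ℕ) wk5_3 i (by omega) (by omega)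
  rcases Nat.lt_or_ge i 40 with h4 | h4
  · exact allR_spec _ (32 : ℕ) (8 : ℕ) wk5_4 i (by omega) (by omega)
  rcases Nat.lt_or_ge i 48 with h5 | h5
  · exact allR_spec _ (40 : ℕ) (8 : ℕ) wk5_5 i (by omega) (by omega)
  rcases Nat.lt_or_ge i 56 with h6 | h6
  · exact allR_spec _ (48 : ℕ) (8 : ℕ) wk5_6 i (by omega) (by omega)
  rcases Nat.lt_or_ge i 64 with h7 | h7
  · exact allR_spec _ (56 : ℕ) (8 : ℕ) wk5_7 i (by omega) (by omega)
  rcases Nat.lt_or_ge i 72 with h8 | h8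
  · exact allR_spec _ (64 : ℕ) (8 : ℕ) wk5_8 i (by omega) (by omega)
  rcases Nat.lt_or_ge i 80 with h9 | h9
  · exact allR_spec _ (72 : ℕ) (8 : ℕ) wk5_9 i (by omega) (by omega)
  rcases Nat.lt_or_ge i 88 with h10 | h10
  · exact allR_spec _ (80 : ℕ) (8 : ℕ) wk5_10 i (by omega) (by omega)
  rcases Nat.lt_or_ge i 96 with h11 | h11
  · exact allR_spec _ (88 : ℕ) (8 : ℕ) wk5_11 i (by omega) (by omega)
  exact allR_spec _ (96 : ℕ) (4 : ℕ) wk5_12 i (by omega) (by omega)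
theorem wk6 : allR (OT.ckEqW [X8, X6, X9, X7, X9, X9] [X12]) (nat_lit 0) (nat_lit 100) = true := by
  apply allR_of_forall
  intro i hi
  have hi : i < 100 := hi
  rcases Nat.lt_or_ge i 14 with h0 | h0
  · exact allR_spec _ (0 : ℕ) (14 : ℕ) wk6_0 i (by omega) (by omega)
  rcases Nat.lt_or_ge i 28 with h1 | h1
  · exact allR_spec _ (14 : ℕ) (14 : ℕ) wk6_1 i (by omega) (by omega)
  rcases Nat.lt_or_ge i 42 with h2 | h2
  · exact allR_spec _ (28 : ℕ) (14 : ℕ) wk6_2 i (by omega) (by omega)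
  rcases Nat.lt_or_ge i 56 with h3 | h3
  · exact allR_spec _ (42 : ℕ) (14 : ℕ) wk6_3 i (by omega) (by omega)
  rcases Nat.lt_or_ge i 70 with h4 | h4
  · exact allR_spec _ (56 : ℕ) (14 : ℕ) wk6_4 i (by omega) (by omega)
  rcases Nat.lt_or_ge i 84 with h5 | h5
  · exact allR_spec _ (70 : ℕ) (14 : ℕ) wk6_5 i (by omega) (by omega)
  rcases Nat.lt_or_ge i 98 with h6 | h6
  · exact allR_spec _ (84 : ℕ) (14 : ℕ) wk6_6 i (by omega) (by omega)
  exact allR_spec _ (98 : ℕ) (2 : ℕ) wk6_7 i (by omega) (by omega)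
theorem wk7 : allR (OT.ckEqW [X11, X12, X12, X11] [X14]) (nat_lit 0) (nat_lit 100) = true := by
  apply allR_of_forall
  intro i hi
  have hi : i < 100 := hi
  rcases Nat.lt_or_ge i 20 with h0 | h0
  · exact allR_spec _ (0 : ℕ) (20 : ℕ) wk7_0 i (by omega) (by omega)
  rcases Nat.lt_or_ge i 40 with h1 | h1
  · exact allR_spec _ (20 : ℕ) (20 : ℕ) wk7_1 i (by omega) (by omega)
  rcases Nat.lt_or_ge i 60 with h2 | h2
  · exact allR_spec _ (40 : ℕ) (20 : ℕ) wk7_2 i (by omega) (by omega)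
  rcases Nat.lt_or_ge i 80 with h3 | h3
  · exact allR_spec _ (60 : ℕ) (20 : ℕ) wk7_3 i (by omega) (by omega)
  exact allR_spec _ (80 : ℕ) (20 : ℕ) wk7_4 i (by omega) (by omega)
theorem wk8 : allR (OT.ckEqW [X13, X11, X13, X6, X9, X9, X2, X5, X5, T0, X1, X1] [X16]) (nat_lit 0) (nat_lit 100) = true := by
  apply allR_of_forall
  intro i hi
  have hi : i < 100 := hi
  rcases Nat.lt_or_ge i 7 with h0 | h0
  · exact allR_spec _ (0 : ℕ) (7 : ℕ) wk8_0 i (by omega) (by omega)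
  rcases Nat.lt_or_ge i 14 with h1 | h1
  · exact allR_spec _ (7 : ℕ) (7 : ℕ) wk8_1 i (by omega) (by omega)
  rcases Nat.lt_or_ge i 21 with h2 | h2
  · exact allR_spec _ (14 : ℕ) (7 : ℕ) wk8_2 i (by omega) (by omega)
  rcases Nat.lt_or_ge i 28 with h3 | h3
  · exact allR_spec _ (21 : ℕ) (7 : ℕ) wk8_3 i (by omega) (by omega)
  rcases Nat.lt_or_ge i 35 with h4 | h4
  · exact allR_spec _ (28 : ℕ) (7 : ℕ) wk8_4 i (by omega) (by omega)
  rcases Nat.lt_or_ge i 42 with h5 | h5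
  · exact allR_spec _ (35 : ℕ) (7 : ℕ) wk8_5 i (by omega) (by omega)
  rcases Nat.lt_or_ge i 49 with h6 | h6
  · exact allR_spec _ (42 : ℕ) (7 : ℕ) wk8_6 i (by omega) (by omega)
  rcases Nat.lt_or_ge i 56 with h7 | h7
  · exact allR_spec _ (49 : ℕ) (7 : ℕ) wk8_7 i (by omega) (by omega)
  rcases Nat.lt_or_ge i 63 with h8 | h8
  · exact allR_spec _ (56 : ℕ) (7 : ℕ) wk8_8 i (by omega) (by omega)
  rcases Nat.lt_or_ge i 70 with h9 | h9
  · exact allR_spec _ (63 : ℕ) (7 : ℕ) wk8_9 i (by omega) (by omega)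
  rcases Nat.lt_or_ge i 77 with h10 | h10
  · exact allR_spec _ (70 : ℕ) (7 : ℕ) wk8_10 i (by omega) (by omega)
  rcases Nat.lt_or_ge i 84 with h11 | h11
  · exact allR_spec _ (77 : ℕ) (7 : ℕ) wk8_11 i (by omega) (by omega)
  rcases Nat.lt_or_ge i 91 with h12 | h12
  · exact allR_spec _ (84 : ℕ) (7 : ℕ) wk8_12 i (by omega) (by omega)
  rcases Nat.lt_or_ge i 98 with h13 | h13
  · exact allR_spec _ (91 : ℕ) (7 : ℕ) wk8_13 i (by omega) (by omega)
  exact allR_spec _ (98 : ℕ) (2 : ℕ) wk8_14 i (by omega) (by omega)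
theorem wk9 : allR (OT.ckEqW [X12, X10, X6, X9, X6, X8, X3, X5, X3, X4, X1, T0, X1, T1, X1] [X18]) (nat_lit 0) (nat_lit 100) = true := by
  apply allR_of_forall
  intro i hi
  have hi : i < 100 := hi
  rcases Nat.lt_or_ge i 6 with h0 | h0
  · exact allR_spec _ (0 : ℕ) (6 : ℕ) wk9_0 i (by omega) (by omega)
  rcases Nat.lt_or_ge i 12 with h1 | h1
  · exact allR_spec _ (6 : ℕ) (6 : ℕ) wk9_1 i (by omega) (by omega)
  rcases Nat.lt_or_ge i 18 with h2 | h2
  · exact allR_spec _ (12 : ℕ) (6 : ℕ) wk9_2 i (by omega) (by omega)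
  rcases Nat.lt_or_ge i 24 with h3 | h3
  · exact allR_spec _ (18 : ℕ) (6 : ℕ) wk9_3 i (by omega) (by omega)
  rcases Nat.lt_or_ge i 30 with h4 | h4
  · exact allR_spec _ (24 : ℕ) (6 : ℕ) wk9_4 i (by omega) (by omega)
  rcases Nat.lt_or_ge i 36 with h5 | h5
  · exact allR_spec _ (30 : ℕ) (6 : ℕ) wk9_5 i (by omega) (by omega)
  rcases Nat.lt_or_ge i 42 with h6 | h6
  · exact allR_spec _ (36 : ℕ) (6 : ℕ) wk9_6 i (by omega) (by omega)
  rcases Nat.lt_or_ge i 48 with h7 | h7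
  · exact allR_spec _ (42 : ℕ) (6 : ℕ) wk9_7 i (by omega) (by omega)
  rcases Nat.lt_or_ge i 54 with h8 | h8
  · exact allR_spec _ (48 : ℕ) (6 : ℕ) wk9_8 i (by omega) (by omega)
  rcases Nat.lt_or_ge i 60 with h9 | h9
  · exact allR_spec _ (54 : ℕ) (6 : ℕ) wk9_9 i (by omega) (by omega)
  rcases Nat.lt_or_ge i 66 with h10 | h10
  · exact allR_spec _ (60 : ℕ) (6 : ℕ) wk9_10 i (by omega) (by omega)
  rcases Nat.lt_or_ge i 72 with h11 | h11
  · exact allR_spec _ (66 : ℕ) (6 : ℕ) wk9_11 i (by omega) (by omega)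
  rcases Nat.lt_or_ge i 78 with h12 | h12
  · exact allR_spec _ (72 : ℕ) (6 : ℕ) wk9_12 i (by omega) (by omega)
  rcases Nat.lt_or_ge i 84 with h13 | h13
  · exact allR_spec _ (78 : ℕ) (6 : ℕ) wk9_13 i (by omega) (by omega)
  rcases Nat.lt_or_ge i 90 with h14 | h14
  · exact allR_spec _ (84 : ℕ) (6 : ℕ) wk9_14 i (by omega) (by omega)
  rcases Nat.lt_or_ge i 96 with h15 | h15
  · exact allR_spec _ (90 : ℕ) (6 : ℕ) wk9_15 i (by omega) (by omega)
  exact allR_spec _ (96 : ℕ) (4 : ℕ) wk9_16 i (by omega) (by omega)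
theorem wk10 : allR (OT.ckEqW [X16] [X20]) (nat_lit 0) (nat_lit 100) = true := by
  apply allR_of_forall
  intro i hi
  have hi : i < 100 := hi
  rcases Nat.lt_or_ge i 50 with h0 | h0
  · exact allR_spec _ (0 : ℕ) (50 : ℕ) wk10_0 i (by omega) (by omega)
  exact allR_spec _ (50 : ℕ) (50 : ℕ) wk10_1 i (by omega) (by omega)
theorem wk11 : allR (OT.ckEqW [X16, X0, X16, X16] [X22]) (nat_lit 0) (nat_lit 100) = true := by
  apply allR_of_forall
  intro i hi
  have hi : i < 100 := hi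
  rcases Nat.lt_or_ge i 20 with h0 | h0
  · exact allR_spec _ (0 : ℕ) (20 : ℕ) wk11_0 i (by omega) (by omega)
  rcases Nat.lt_or_ge i 40 with h1 | h1
  · exact allR_spec _ (20 : ℕ) (20 : ℕ) wk11_1 i (by omega) (by omega)
  rcases Nat.lt_or_ge i 60 with h2 | h2
  · exact allR_spec _ (40 : ℕ) (20 : ℕ) wk11_2 i (by omega) (by omega)
  rcases Nat.lt_or_ge i 80 with h3 | h3
  · exact allR_spec _ (60 : ℕ) (20 : ℕ) wk11_3 i (by omega) (by omega)
  exact allR_spec _ (80 : ℕ) (20 : ℕ) wk11_4 i (by omega) (by omega)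
theorem wk12 : allR (OT.ckEqW [X19, X1, X18, X18] [X24]) (nat_lit 0) (nat_lit 100) = true := by
  apply allR_of_forall
  intro i hi
  have hi : i < 100 := hi
  rcases Nat.lt_or_ge i 20 with h0 | h0
  · exact allR_spec _ (0 : ℕ) (20 : ℕ) wk12_0 i (by omega) (by omega)
  rcases Nat.lt_or_ge i 40 with h1 | h1
  · exact allR_spec _ (20 : ℕ) (20 : ℕ) wk12_1 i (by omega) (by omega)
  rcases Nat.lt_or_ge i 60 with h2 | h2
  · exact allR_spec _ (40 : ℕ) (20 : ℕ) wk12_2 i (by omega) (by omega)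
  rcases Nat.lt_or_ge i 80 with h3 | h3
  · exact allR_spec _ (60 : ℕ) (20 : ℕ) wk12_3 i (by omega) (by omega)
  exact allR_spec _ (80 : ℕ) (20 : ℕ) wk12_4 i (by omega) (by omega)
theorem wk13 : allR (OT.ckEqW [X24, X23, X25, X25] [X26]) (nat_lit 0) (nat_lit 100) = true := by
  apply allR_of_forall
  intro i hi
  have hi : i < 100 := hi
  rcases Nat.lt_or_ge i 20 with h0 | h0
  · exact allR_spec _ (0 : ℕ) (20 : ℕ) wk13_0 i (by omega) (by omega)
  rcases Nat.lt_or_ge i 40 with h1 | h1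
  · exact allR_spec _ (20 : ℕ) (20 : ℕ) wk13_1 i (by omega) (by omega)
  rcases Nat.lt_or_ge i 60 with h2 | h2
  · exact allR_spec _ (40 : ℕ) (20 : ℕ) wk13_2 i (by omega) (by omega)
  rcases Nat.lt_or_ge i 80 with h3 | h3
  · exact allR_spec _ (60 : ℕ) (20 : ℕ) wk13_3 i (by omega) (by omega)
  exact allR_spec _ (80 : ℕ) (20 : ℕ) wk13_4 i (by omega) (by omega)
theorem wk14 : allR (OT.ckEqW [X22, X24, X24] [X28]) (nat_lit 0) (nat_lit 100) = true := by
  apply allR_of_forall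
  intro i hi
  have hi : i < 100 := hi
  rcases Nat.lt_or_ge i 25 with h0 | h0
  · exact allR_spec _ (0 : ℕ) (25 : ℕ) wk14_0 i (by omega) (by omega)
  rcases Nat.lt_or_ge i 50 with h1 | h1
  · exact allR_spec _ (25 : ℕ) (25 : ℕ) wk14_1 i (by omega) (by omega)
  rcases Nat.lt_or_ge i 75 with h2 | h2
  · exact allR_spec _ (50 : ℕ) (25 : ℕ) wk14_2 i (by omega) (by omega)
  exact allR_spec _ (75 : ℕ) (25 : ℕ) wk14_3 i (by omega) (by omega)
theorem wk15 : allR (OT.ckEqW [X26, X29, X27, X27, X28, X26, X28] [X30]) (nat_lit 0) (nat_lit 100) = true := by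
  apply allR_of_forall
  intro i hi
  have hi : i < 100 := hi
  rcases Nat.lt_or_ge i 12 with h0 | h0
  · exact allR_spec _ (0 : ℕ) (12 : ℕ) wk15_0 i (by omega) (by omega)
  rcases Nat.lt_or_ge i 24 with h1 | h1
  · exact allR_spec _ (12 : ℕ) (12 : ℕ) wk15_1 i (by omega) (by omega)
  rcases Nat.lt_or_ge i 36 with h2 | h2
  · exact allR_spec _ (24 : ℕ) (12 : ℕ) wk15_2 i (by omega) (by omega)
  rcases Nat.lt_or_ge i 48 with h3 | h3
  · exact allR_spec _ (36 : ℕ) (12 : ℕ) wk15_3 i (by omega) (by omega)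
  rcases Nat.lt_or_ge i 60 with h4 | h4
  · exact allR_spec _ (48 : ℕ) (12 : ℕ) wk15_4 i (by omega) (by omega)
  rcases Nat.lt_or_ge i 72 with h5 | h5
  · exact allR_spec _ (60 : ℕ) (12 : ℕ) wk15_5 i (by omega) (by omega)
  rcases Nat.lt_or_ge i 84 with h6 | h6
  · exact allR_spec _ (72 : ℕ) (12 : ℕ) wk15_6 i (by omega) (by omega)
  rcases Nat.lt_or_ge i 96 with h7 | h7
  · exact allR_spec _ (84 : ℕ) (12 : ℕ) wk15_7 i (by omega) (by omega)
  exact allR_spec _ (96 : ℕ) (4 : ℕ) wk15_8 i (by omega) (by omega)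
theorem wk16 : allR (OT.ckEqW [X29, X29, X29, X27, X27, X27, X29, X27] [X32]) (nat_lit 0) (nat_lit 100) = true := by
  apply allR_of_forall
  intro i hi
  have hi : i < 100 := hi
  rcases Nat.lt_or_ge i 11 with h0 | h0
  · exact allR_spec _ (0 : ℕ) (11 : ℕ) wk16_0 i (by omega) (by omega)
  rcases Nat.lt_or_ge i 22 with h1 | h1
  · exact allR_spec _ (11 : ℕ) (11 : ℕ) wk16_1 i (by omega) (by omega)
  rcases Nat.lt_or_ge i 33 with h2 | h2
  · exact allR_spec _ (22 : ℕ) (11 : ℕ) wk16_2 i (by omega) (by omega)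
  rcases Nat.lt_or_ge i 44 with h3 | h3
  · exact allR_spec _ (33 : ℕ) (11 : ℕ) wk16_3 i (by omega) (by omega)
  rcases Nat.lt_or_ge i 55 with h4 | h4
  · exact allR_spec _ (44 : ℕ) (11 : ℕ) wk16_4 i (by omega) (by omega)
  rcases Nat.lt_or_ge i 66 with h5 | h5
  · exact allR_spec _ (55 : ℕ) (11 : ℕ) wk16_5 i (by omega) (by omega)
  rcases Nat.lt_or_ge i 77 with h6 | h6
  · exact allR_spec _ (66 : ℕ) (11 : ℕ) wk16_6 i (by omega) (by omega)
  rcases Nat.lt_or_ge i 88 with h7 | h7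
  · exact allR_spec _ (77 : ℕ) (11 : ℕ) wk16_7 i (by omega) (by omega)
  rcases Nat.lt_or_ge i 99 with h8 | h8
  · exact allR_spec _ (88 : ℕ) (11 : ℕ) wk16_8 i (by omega) (by omega)
  exact allR_spec _ (99 : ℕ) (1 : ℕ) wk16_9 i (by omega) (by omega)
theorem wk17 : allR (OT.ckEqW [X30, X33, X30] [X34]) (nat_lit 0) (nat_lit 100) = true := by
  apply allR_of_forall
  intro i hi
  have hi : i < 100 := hi
  rcases Nat.lt_or_ge i 25 with h0 | h0
  · exact allR_spec _ (0 : ℕ) (25 : ℕ) wk17_0 i (by omega) (by omega)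
  rcases Nat.lt_or_ge i 50 with h1 | h1
  · exact allR_spec _ (25 : ℕ) (25 : ℕ) wk17_1 i (by omega) (by omega)
  rcases Nat.lt_or_ge i 75 with h2 | h2
  · exact allR_spec _ (50 : ℕ) (25 : ℕ) wk17_2 i (by omega) (by omega)
  exact allR_spec _ (75 : ℕ) (25 : ℕ) wk17_3 i (by omega) (by omega)
theorem wk18 : allR (OT.ckEqW [X17, X17, X0] [X36]) (nat_lit 0) (nat_lit 100) = true := by
  apply allR_of_forall
  intro i hi
  have hi : i < 100 := hi
  rcases Nat.lt_or_ge i 25 with h0 | h0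
  · exact allR_spec _ (0 : ℕ) (25 : ℕ) wk18_0 i (by omega) (by omega)
  rcases Nat.lt_or_ge i 50 with h1 | h1
  · exact allR_spec _ (25 : ℕ) (25 : ℕ) wk18_1 i (by omega) (by omega)
  rcases Nat.lt_or_ge i 75 with h2 | h2
  · exact allR_spec _ (50 : ℕ) (25 : ℕ) wk18_2 i (by omega) (by omega)
  exact allR_spec _ (75 : ℕ) (25 : ℕ) wk18_3 i (by omega) (by omega)
theorem wk19 : allR (OT.ckEqW [X18, X16, X18, X0, X18, X1] [X38]) (nat_lit 0) (nat_lit 100) = true := by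
  apply allR_of_forall
  intro i hi
  have hi : i < 100 := hi
  rcases Nat.lt_or_ge i 14 with h0 | h0
  · exact allR_spec _ (0 : ℕ) (14 : ℕ) wk19_0 i (by omega) (by omega)
  rcases Nat.lt_or_ge i 28 with h1 | h1
  · exact allR_spec _ (14 : ℕ) (14 : ℕ) wk19_1 i (by omega) (by omega)
  rcases Nat.lt_or_ge i 42 with h2 | h2
  · exact allR_spec _ (28 : ℕ) (14 : ℕ) wk19_2 i (by omega) (by omega)
  rcases Nat.lt_or_ge i 56 with h3 | h3
  · exact allR_spec _ (42 : ℕ) (14 : ℕ) wk19_3 i (by omega) (by omega)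
  rcases Nat.lt_or_ge i 70 with h4 | h4
  · exact allR_spec _ (56 : ℕ) (14 : ℕ) wk19_4 i (by omega) (by omega)
  rcases Nat.lt_or_ge i 84 with h5 | h5
  · exact allR_spec _ (70 : ℕ) (14 : ℕ) wk19_5 i (by omega) (by omega)
  rcases Nat.lt_or_ge i 98 with h6 | h6
  · exact allR_spec _ (84 : ℕ) (14 : ℕ) wk19_6 i (by omega) (by omega)
  exact allR_spec _ (98 : ℕ) (2 : ℕ) wk19_7 i (by omega) (by omega)
theorem wk20 : allR (OT.ckEqW [X37, X38, X37, X38, X36, X36, X38] [X40]) (nat_lit 0) (nat_lit 100) = true := by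
  apply allR_of_forall
  intro i hi
  have hi : i < 100 := hi
  rcases Nat.lt_or_ge i 12 with h0 | h0
  · exact allR_spec _ (0 : ℕ) (12 : ℕ) wk20_0 i (by omega) (by omega)
  rcases Nat.lt_or_ge i 24 with h1 | h1
  · exact allR_spec _ (12 : ℕ) (12 : ℕ) wk20_1 i (by omega) (by omega)
  rcases Nat.lt_or_ge i 36 with h2 | h2
  · exact allR_spec _ (24 : ℕ) (12 : ℕ) wk20_2 i (by omega) (by omega)
  rcases Nat.lt_or_ge i 48 with h3 | h3
  · exact allR_spec _ (36 : ℕ) (12 : ℕ) wk20_3 i (by omega) (by omega)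
  rcases Nat.lt_or_ge i 60 with h4 | h4
  · exact allR_spec _ (48 : ℕ) (12 : ℕ) wk20_4 i (by omega) (by omega)
  rcases Nat.lt_or_ge i 72 with h5 | h5
  · exact allR_spec _ (60 : ℕ) (12 : ℕ) wk20_5 i (by omega) (by omega)
  rcases Nat.lt_or_ge i 84 with h6 | h6
  · exact allR_spec _ (72 : ℕ) (12 : ℕ) wk20_6 i (by omega) (by omega)
  rcases Nat.lt_or_ge i 96 with h7 | h7
  · exact allR_spec _ (84 : ℕ) (12 : ℕ) wk20_7 i (by omega) (by omega)
  exact allR_spec _ (96 : ℕ) (4 : ℕ) wk20_8 i (by omega) (by omega)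
theorem wk21 : allR (OT.ckEqW [X36, X38, X36, X36] [X42]) (nat_lit 0) (nat_lit 100) = true := by
  apply allR_of_forall
  intro i hi
  have hi : i < 100 := hi
  rcases Nat.lt_or_ge i 20 with h0 | h0
  · exact allR_spec _ (0 : ℕ) (20 : ℕ) wk21_0 i (by omega) (by omega)
  rcases Nat.lt_or_ge i 40 with h1 | h1
  · exact allR_spec _ (20 : ℕ) (20 : ℕ) wk21_1 i (by omega) (by omega)
  rcases Nat.lt_or_ge i 60 with h2 | h2
  · exact allR_spec _ (40 : ℕ) (20 : ℕ) wk21_2 i (by omega) (by omega)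
  rcases Nat.lt_or_ge i 80 with h3 | h3
  · exact allR_spec _ (60 : ℕ) (20 : ℕ) wk21_3 i (by omega) (by omega)
  exact allR_spec _ (80 : ℕ) (20 : ℕ) wk21_4 i (by omega) (by omega)
theorem wk22 : allR (OT.ckEqW [X42, X41, X43, X43, X40, X43, X41] [X44]) (nat_lit 0) (nat_lit 100) = true := by
  apply allR_of_forall
  intro i hi
  have hi : i < 100 := hi
  rcases Nat.lt_or_ge i 12 with h0 | h0
  · exact allR_spec _ (0 : ℕ) (12 : ℕ) wk22_0 i (by omega) (by omega)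
  rcases Nat.lt_or_ge i 24 with h1 | h1
  · exact allR_spec _ (12 : ℕ) (12 : ℕ) wk22_1 i (by omega) (by omega)
  rcases Nat.lt_or_ge i 36 with h2 | h2
  · exact allR_spec _ (24 : ℕ) (12 : ℕ) wk22_2 i (by omega) (by omega)
  rcases Nat.lt_or_ge i 48 with h3 | h3
  · exact allR_spec _ (36 : ℕ) (12 : ℕ) wk22_3 i (by omega) (by omega)
  rcases Nat.lt_or_ge i 60 with h4 | h4
  · exact allR_spec _ (48 : ℕ) (12 : ℕ) wk22_4 i (by omega) (by omega)
  rcases Nat.lt_or_ge i 72 with h5 | h5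
  · exact allR_spec _ (60 : ℕ) (12 : ℕ) wk22_5 i (by omega) (by omega)
  rcases Nat.lt_or_ge i 84 with h6 | h6
  · exact allR_spec _ (72 : ℕ) (12 : ℕ) wk22_6 i (by omega) (by omega)
  rcases Nat.lt_or_ge i 96 with h7 | h7
  · exact allR_spec _ (84 : ℕ) (12 : ℕ) wk22_7 i (by omega) (by omega)
  exact allR_spec _ (96 : ℕ) (4 : ℕ) wk22_8 i (by omega) (by omega)
theorem wk23 : allR (OT.ckEqW [X41, X43, X43, X40, X40] [X46]) (nat_lit 0) (nat_lit 100) = true := by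
  apply allR_of_forall
  intro i hi
  have hi : i < 100 := hi
  rcases Nat.lt_or_ge i 16 with h0 | h0
  · exact allR_spec _ (0 : ℕ) (16 : ℕ) wk23_0 i (by omega) (by omega)
  rcases Nat.lt_or_ge i 32 with h1 | h1
  · exact allR_spec _ (16 : ℕ) (16 : ℕ) wk23_1 i (by omega) (by omega)
  rcases Nat.lt_or_ge i 48 with h2 | h2
  · exact allR_spec _ (32 : ℕ) (16 : ℕ) wk23_2 i (by omega) (by omega)
  rcases Nat.lt_or_ge i 64 with h3 | h3
  · exact allR_spec _ (48 : ℕ) (16 : ℕ) wk23_3 i (by omega) (by omega)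
  rcases Nat.lt_or_ge i 80 with h4 | h4
  · exact allR_spec _ (64 : ℕ) (16 : ℕ) wk23_4 i (by omega) (by omega)
  rcases Nat.lt_or_ge i 96 with h5 | h5
  · exact allR_spec _ (80 : ℕ) (16 : ℕ) wk23_5 i (by omega) (by omega)
  exact allR_spec _ (96 : ℕ) (4 : ℕ) wk23_6 i (by omega) (by omega)
theorem wk24 : allR (OT.ckEqW [X46, X45, X47, X44] [X48]) (nat_lit 0) (nat_lit 100) = true := by
  apply allR_of_forall
  intro i hi
  have hi : i < 100 := hi
  rcases Nat.lt_or_ge i 20 with h0 | h0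
  · exact allR_spec _ (0 : ℕ) (20 : ℕ) wk24_0 i (by omega) (by omega)
  rcases Nat.lt_or_ge i 40 with h1 | h1
  · exact allR_spec _ (20 : ℕ) (20 : ℕ) wk24_1 i (by omega) (by omega)
  rcases Nat.lt_or_ge i 60 with h2 | h2
  · exact allR_spec _ (40 : ℕ) (20 : ℕ) wk24_2 i (by omega) (by omega)
  rcases Nat.lt_or_ge i 80 with h3 | h3
  · exact allR_spec _ (60 : ℕ) (20 : ℕ) wk24_3 i (by omega) (by omega)
  exact allR_spec _ (80 : ℕ) (20 : ℕ) wk24_4 i (by omega) (by omega)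
def bws : List (List Nat) := [[0, 1, 2, 0, 2, 1, 2], [4, 0, 2, 3, 3, 3], [2, 4, 2, 0, 2], [8, 5, 8, 5, 5], [8, 5, 7, 7, 7, 7], [9, 12, 10, 10, 12, 10, 12, 9, 12, 9, 9], [11, 9, 12, 10, 12, 12], [14, 15, 15, 14], [16, 14, 16, 9, 12, 12, 5, 8, 8, 0, 4, 4], [15, 13, 9, 12, 9, 11, 6, 8, 6, 7, 4, 0, 4, 1, 4], [19], [19, 3, 19, 19], [22, 4, 21, 21], [27, 26, 28, 28], [25, 27, 27], [29, 32, 30, 30, 31, 29, 31], [32, 32, 32, 30, 30, 30, 32, 30], [33, 36, 33], [20, 20, 3], [21, 19, 21, 3, 21, 4], [40, 41, 40, 41, 39, 39, 41], [39, 41, 39, 39], [45, 44, 46, 46, 43, 46, 44], [44, 46, 46, 43, 43], [49, 48, 50, 47]]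
noncomputable def T' : Nat → Nat → Nat := fun l => (@Nat.rec (fun _ => Nat → Nat) T0 (fun l _ => (@Nat.rec (fun _ => Nat → Nat) T1 (fun l _ => (@Nat.rec (fun _ => Nat → Nat) T2 (fun l _ => (@Nat.rec (fun _ => Nat → Nat) X0 (fun l _ => (@Nat.rec (fun _ => Nat → Nat) X1 (fun l _ => (@Nat.rec (fun _ => Nat → Nat) X2 (fun l _ => (@Nat.rec (fun _ => Nat → Nat) X3 (fun l _ => (@Nat.rec (fun _ => Nat → Nat) X4 (fun l _ => (@Nat.rec (fun _ => Nat → Nat) X5 (fun l _ => (@Nat.rec (fun _ => Nat → Nat) X6 (fun l _ => (@Nat.rec (fun _ => Nat → Nat) X7 (fun l _ => (@Nat.rec (fun _ => Nat → Nat) X8 (fun l _ => (@Nat.rec (fun _ => Nat → Nat) X9 (fun l _ => (@Nat.rec (fun _ => Nat → Nat) X10 (fun l _ => (@Nat.rec (fun _ => Nat → Nat) X11 (fun l _ => (@Nat.rec (fun _ => Nat → Nat) X12 (fun l _ => (@Nat.rec (fun _ => Nat → Nat) X13 (fun l _ => (@Nat.rec (fun _ => Nat → Nat) X14 (fun l _ => (@Nat.rec (fun _ => Nat → Nat) X15 (fun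 l _ => (@Nat.rec (fun _ => Nat → Nat) X16 (fun l _ => (@Nat.rec (fun _ => Nat → Nat) X17 (fun l _ => (@Nat.rec (fun _ => Nat → Nat) X18 (fun l _ => (@Nat.rec (fun _ => Nat → Nat) X19 (fun l _ => (@Nat.rec (fun _ => Nat → Nat) X20 (fun l _ => (@Nat.rec (fun _ => Nat → Nat) X21 (fun l _ => (@Nat.rec (fun _ => Nat → Nat) X22 (fun l _ => (@Nat.rec (fun _ => Nat → Nat) X23 (fun l _ => (@Nat.rec (fun _ => Nat → Nat) X24 (fun l _ => (@Nat.rec (fun _ => Nat → Nat) X25 (fun l _ => (@Nat.rec (fun _ => Nat → Nat) X26 (fun l _ => (@Nat.rec (fun _ => Nat → Nat) X27 (fun l _ => (@Nat.rec (fun _ => Nat → Nat) X28 (fun l _ => (@Nat.rec (fun _ => Nat → Nat) X29 (fun l _ => (@Nat.rec (fun _ => Nat → Nat) X30 (fun l _ => (@Nat.rec (fun _ => Nat → Nat) X31 (fun l _ => (@Nat.rec (fun _ => Nat → Nat) X32 (fun l _ => (@Nat.rec (fun _ => Nat → Nat) X33 (fun l _ => (@Nat.rec (fun _ => Nat → Nat) X34 (fun l _ => (@Nat.rec (fun _ => Nat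 → Nat) X35 (fun l _ => (@Nat.rec (fun _ => Nat → Nat) X36 (fun l _ => (@Nat.rec (fun _ => Nat → Nat) X37 (fun l _ => (@Nat.rec (fun _ => Nat → Nat) X38 (fun l _ => (@Nat.rec (fun _ => Nat → Nat) X39 (fun l _ => (@Nat.rec (fun _ => Nat → Nat) X40 (fun l _ => (@Nat.rec (fun _ => Nat → Nat) X41 (fun l _ => (@Nat.rec (fun _ => Nat → Nat) X42 (fun l _ => (@Nat.rec (fun _ => Nat → Nat) X43 (fun l _ => (@Nat.rec (fun _ => Nat → Nat) X44 (fun l _ => (@Nat.rec (fun _ => Nat → Nat) X45 (fun l _ => (@Nat.rec (fun _ => Nat → Nat) X46 (fun l _ => (@Nat.rec (fun _ => Nat → Nat) X47 (fun l _ => (@Nat.rec (fun _ => Nat → Nat) X48 (fun l _ => X49) l)) l)) l)) l)) l)) l)) l)) l)) l)) l)) l)) l)) l)) l)) l)) l)) l)) l)) l)) l)) l)) l)) l)) l)) l)) l)) l)) l)) l)) l)) l)) l)) l)) l)) l)) l)) l)) l)) l)) l)) l)) l)) l)) l)) l)) l)) l)) l)) l)) l)) l)) l)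
def inv' : Nat → Nat := fun l => [0, 1, 2, 4, 3, 6, 5, 8, 7, 10, 9, 12, 11, 14, 13, 16, 15, 18, 17, 20, 19, 22, 21, 24, 23, 26, 25, 28, 27, 30, 29, 32, 31, 34, 33, 36, 35, 38, 37, 40, 39, 42, 41, 44, 43, 46, 45, 48, 47, 50, 49, 52, 51].getD l 0

theorem hTT : ∀ l < 3, T' l = Cfsg.Agent.H8.LtH.T l := by
  intro l hl
  interval_cases l <;> rfl

theorem hii : ∀ l < 3, inv' l = Cfsg.Agent.H8.LtH.inv l := by
  intro l hl
  interval_cases l <;> rfl

theorem h1 : ∀ l, 3 ≤ l → l < 53 → inv' l < 53 ∧ inv' (inv' l) = l := by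
  intro l h1 h2
  interval_cases l <;> decide

theorem h2 : ∀ l, 3 ≤ l → l < 53 → ∀ i < 100, T' l i < 100 ∧ T' (inv' l) (T' l i) = i := by
  intro l h1 h2 i hi
  interval_cases l
  · exact ckPerm_sound _ _ _ _ (allR_zero _ _ pk0 i hi)
  · exact ckPerm_sound _ _ _ _ (allR_zero _ _ pk1 i hi)
  · exact ckPerm_sound _ _ _ _ (allR_zero _ _ pk2 i hi)
  · exact ckPerm_sound _ _ _ _ (allR_zero _ _ pk3 i hi)
  · exact ckPerm_sound _ _ _ _ (allR_zero _ _ pk4 i hi)
  · exact ckPerm_sound _ _ _ _ (allR_zero _ _ pk5 i hi)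
  · exact ckPerm_sound _ _ _ _ (allR_zero _ _ pk6 i hi)
  · exact ckPerm_sound _ _ _ _ (allR_zero _ _ pk7 i hi)
  · exact ckPerm_sound _ _ _ _ (allR_zero _ _ pk8 i hi)
  · exact ckPerm_sound _ _ _ _ (allR_zero _ _ pk9 i hi)
  · exact ckPerm_sound _ _ _ _ (allR_zero _ _ pk10 i hi)
  · exact ckPerm_sound _ _ _ _ (allR_zero _ _ pk11 i hi)
  · exact ckPerm_sound _ _ _ _ (allR_zero _ _ pk12 i hi)
  · exact ckPerm_sound _ _ _ _ (allR_zero _ _ pk13 i hi)
  · exact ckPerm_sound _ _ _ _ (allR_zero _ _ pk14 i hi)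
  · exact ckPerm_sound _ _ _ _ (allR_zero _ _ pk15 i hi)
  · exact ckPerm_sound _ _ _ _ (allR_zero _ _ pk16 i hi)
  · exact ckPerm_sound _ _ _ _ (allR_zero _ _ pk17 i hi)
  · exact ckPerm_sound _ _ _ _ (allR_zero _ _ pk18 i hi)
  · exact ckPerm_sound _ _ _ _ (allR_zero _ _ pk19 i hi)
  · exact ckPerm_sound _ _ _ _ (allR_zero _ _ pk20 i hi)
  · exact ckPerm_sound _ _ _ _ (allR_zero _ _ pk21 i hi)
  · exact ckPerm_sound _ _ _ _ (allR_zero _ _ pk22 i hi)
  · exact ckPerm_sound _ _ _ _ (allR_zero _ _ pk23 i hi)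
  · exact ckPerm_sound _ _ _ _ (allR_zero _ _ pk24 i hi)
  · exact ckPerm_sound _ _ _ _ (allR_zero _ _ pk25 i hi)
  · exact ckPerm_sound _ _ _ _ (allR_zero _ _ pk26 i hi)
  · exact ckPerm_sound _ _ _ _ (allR_zero _ _ pk27 i hi)
  · exact ckPerm_sound _ _ _ _ (allR_zero _ _ pk28 i hi)
  · exact ckPerm_sound _ _ _ _ (allR_zero _ _ pk29 i hi)
  · exact ckPerm_sound _ _ _ _ (allR_zero _ _ pk30 i hi)
  · exact ckPerm_sound _ _ _ _ (allR_zero _ _ pk31 i hi)
  · exact ckPerm_sound _ _ _ _ (allR_zero _ _ pk32 i hi)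
  · exact ckPerm_sound _ _ _ _ (allR_zero _ _ pk33 i hi)
  · exact ckPerm_sound _ _ _ _ (allR_zero _ _ pk34 i hi)
  · exact ckPerm_sound _ _ _ _ (allR_zero _ _ pk35 i hi)
  · exact ckPerm_sound _ _ _ _ (allR_zero _ _ pk36 i hi)
  · exact ckPerm_sound _ _ _ _ (allR_zero _ _ pk37 i hi)
  · exact ckPerm_sound _ _ _ _ (allR_zero _ _ pk38 i hi)
  · exact ckPerm_sound _ _ _ _ (allR_zero _ _ pk39 i hi)
  · exact ckPerm_sound _ _ _ _ (allR_zero _ _ pk40 i hi)
  · exact ckPerm_sound _ _ _ _ (allR_zero _ _ pk41 i hi)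
  · exact ckPerm_sound _ _ _ _ (allR_zero _ _ pk42 i hi)
  · exact ckPerm_sound _ _ _ _ (allR_zero _ _ pk43 i hi)
  · exact ckPerm_sound _ _ _ _ (allR_zero _ _ pk44 i hi)
  · exact ckPerm_sound _ _ _ _ (allR_zero _ _ pk45 i hi)
  · exact ckPerm_sound _ _ _ _ (allR_zero _ _ pk46 i hi)
  · exact ckPerm_sound _ _ _ _ (allR_zero _ _ pk47 i hi)
  · exact ckPerm_sound _ _ _ _ (allR_zero _ _ pk48 i hi)
  · exact ckPerm_sound _ _ _ _ (allR_zero _ _ pk49 i hi)

theorem tok : TableOK 100 53 T' inv' :=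
  OT.tableOK_ext Cfsg.Agent.H8.LtH.tok (by decide) hTT hii h1 h2

theorem hwb : ∀ i < bws.length, (∀ l ∈ bws.getD i [], l < 3 + 2 * i) ∧ inv' (3 + 2 * i) = 3 + 2 * i + 1 ∧
    ∀ j < 100, trN T' (bws.getD i []) j = T' (3 + 2 * i) j := by
  intro i hi
  have hl : bws.length = 25 := by decide
  rw [hl] at hi
  interval_cases i
  · exact ⟨by decide, by decide, fun j hj => OT.ckEqW_sound (T := T') [0, 1, 2, 0, 2, 1, 2] [3] j (allR_zero _ _ wk0 j hj)⟩
  · exact ⟨by decide, by decide, fun j hj => OT.ckEqW_sound (T := T') [4, 0, 2, 3, 3, 3] [5] j (allR_zero _ _ wk1 j hj)⟩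
  · exact ⟨by decide, by decide, fun j hj => OT.ckEqW_sound (T := T') [2, 4, 2, 0, 2] [7] j (allR_zero _ _ wk2 j hj)⟩
  · exact ⟨by decide, by decide, fun j hj => OT.ckEqW_sound (T := T') [8, 5, 8, 5, 5] [9] j (allR_zero _ _ wk3 j hj)⟩
  · exact ⟨by decide, by decide, fun j hj => OT.ckEqW_sound (T := T') [8, 5, 7, 7, 7, 7] [11] j (allR_zero _ _ wk4 j hj)⟩
  · exact ⟨by decide, by decide, fun j hj => OT.ckEqW_sound (T := T') [9, 12, 10, 10, 12, 10, 12, 9, 12, 9, 9] [13] j (allR_zero _ _ wk5 j hj)⟩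
  · exact ⟨by decide, by decide, fun j hj => OT.ckEqW_sound (T := T') [11, 9, 12, 10, 12, 12] [15] j (allR_zero _ _ wk6 j hj)⟩
  · exact ⟨by decide, by decide, fun j hj => OT.ckEqW_sound (T := T') [14, 15, 15, 14] [17] j (allR_zero _ _ wk7 j hj)⟩
  · exact ⟨by decide, by decide, fun j hj => OT.ckEqW_sound (T := T') [16, 14, 16, 9, 12, 12, 5, 8, 8, 0, 4, 4] [19] j (allR_zero _ _ wk8 j hj)⟩
  · exact ⟨by decide, by decide, fun j hj => OT.ckEqW_sound (T := T') [15, 13, 9, 12, 9, 11, 6, 8, 6, 7, 4, 0, 4, 1, 4] [21] j (allR_zero _ _ wk9 j hj)⟩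
  · exact ⟨by decide, by decide, fun j hj => OT.ckEqW_sound (T := T') [19] [23] j (allR_zero _ _ wk10 j hj)⟩
  · exact ⟨by decide, by decide, fun j hj => OT.ckEqW_sound (T := T') [19, 3, 19, 19] [25] j (allR_zero _ _ wk11 j hj)⟩
  · exact ⟨by decide, by decide, fun j hj => OT.ckEqW_sound (T := T') [22, 4, 21, 21] [27] j (allR_zero _ _ wk12 j hj)⟩
  · exact ⟨by decide, by decide, fun j hj => OT.ckEqW_sound (T := T') [27, 26, 28, 28] [29] j (allR_zero _ _ wk13 j hj)⟩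
  · exact ⟨by decide, by decide, fun j hj => OT.ckEqW_sound (T := T') [25, 27, 27] [31] j (allR_zero _ _ wk14 j hj)⟩
  · exact ⟨by decide, by decide, fun j hj => OT.ckEqW_sound (T := T') [29, 32, 30, 30, 31, 29, 31] [33] j (allR_zero _ _ wk15 j hj)⟩
  · exact ⟨by decide, by decide, fun j hj => OT.ckEqW_sound (T := T') [32, 32, 32, 30, 30, 30, 32, 30] [35] j (allR_zero _ _ wk16 j hj)⟩
  · exact ⟨by decide, by decide, fun j hj => OT.ckEqW_sound (T := T') [33, 36, 33] [37] j (allR_zero _ _ wk17 j hj)⟩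
  · exact ⟨by decide, by decide, fun j hj => OT.ckEqW_sound (T := T') [20, 20, 3] [39] j (allR_zero _ _ wk18 j hj)⟩
  · exact ⟨by decide, by decide, fun j hj => OT.ckEqW_sound (T := T') [21, 19, 21, 3, 21, 4] [41] j (allR_zero _ _ wk19 j hj)⟩
  · exact ⟨by decide, by decide, fun j hj => OT.ckEqW_sound (T := T') [40, 41, 40, 41, 39, 39, 41] [43] j (allR_zero _ _ wk20 j hj)⟩
  · exact ⟨by decide, by decide, fun j hj => OT.ckEqW_sound (T := T') [39, 41, 39, 39] [45] j (allR_zero _ _ wk21 j hj)⟩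
  · exact ⟨by decide, by decide, fun j hj => OT.ckEqW_sound (T := T') [45, 44, 46, 46, 43, 46, 44] [47] j (allR_zero _ _ wk22 j hj)⟩
  · exact ⟨by decide, by decide, fun j hj => OT.ckEqW_sound (T := T') [44, 46, 46, 43, 43] [49] j (allR_zero _ _ wk23 j hj)⟩
  · exact ⟨by decide, by decide, fun j hj => OT.ckEqW_sound (T := T') [49, 48, 50, 47] [51] j (allR_zero _ _ wk24 j hj)⟩

end Cfsg.Agent.H8.HSO
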