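import Cfsg.Agent.H8.CosetCls
import Cfsg.Agent.H8.T.Sp4tP

set_option autoImplicit false
set_option linter.all false
set_option maxRecDepth 100000

namespace Cfsg.Agent.H8.Sp4t
noncomputable def chQ0c0 : Nat := nat_lit 0x53a7468ca916ad55b32a451b1262e4ad9a961cd86be38d5b35aa7629598f563c78cde8d0a3521d3890603aa70a1d68546541af463d7a70a8c8cf2b3a6b0e6934b0c2d5aaf62b90cd633c6
noncomputable def chQ0 : Nat → Nat := (fun i => Nat.land (Nat.shiftRight chQ0c0 (Nat.mul (nat_lit 7) (Nat.land i (nat_lit 127)))) (nat_lit 127))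
theorem ch_r0 : allR (ckReach chQ0 [[T0], [T1], [T2], [T3], [T4], [T5], [T6], [T6, T4, T6, T2, T1, T2, T4, T6, T5, T2, T1, T2, T4, T6], [T3, T2, T1, T2, T3], [T5, T4, T0], [T3, T2, T4, T1, T2, T1, T2, T4, T1, T2, T3]] (nat_lit 4)) (nat_lit 0) (nat_lit 85) = true := by decide +kernel
theorem ch_c0 : cntT chQ0 (nat_lit 85) (nat_lit 85) (nat_lit 0) = true := by decide +kernel
noncomputable def chQ1c0 : Nat := nat_lit 0x51a9562538142851c38285569161000000000000000000000000000064a346b468ac6153a75a9c4a3021c043021c0a04293360ca13384820c4831a0c3a9569d1c546a526d4e3000000000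
noncomputable def chQ1 : Nat → Nat := (fun i => Nat.land (Nat.shiftRight chQ1c0 (Nat.mul (nat_lit 7) (Nat.land i (nat_lit 127)))) (nat_lit 127))
theorem ch_r1 : allR (ckReach chQ1 [[T1], [T2], [T5], [T6, T4, T6, T2, T1, T2, T4, T6, T5, T2, T1, T2, T4, T6], [T3, T2, T1, T2, T3], [T5, T4, T0], [T3, T2, T4, T1, T2, T1, T2, T4, T1, T2, T3]] (nat_lit 30)) (nat_lit 0) (nat_lit 85) = true := by decide +kernel
theorem ch_c1 : cntT chQ1 (nat_lit 64) (nat_lit 85) (nat_lit 0) = true := by decide +kernel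
noncomputable def chQ2c0 : Nat := nat_lit 0x4263868d1a6c1980000003361831800000000000000000000000000000000005465891218312261878204001118800000000890a0d0a104052a5459544190800000005481461800000000
noncomputable def chQ2 : Nat → Nat := (fun i => Nat.land (Nat.shiftRight chQ2c0 (Nat.mul (nat_lit 7) (Nat.land i (nat_lit 127)))) (nat_lit 127))
theorem ch_r2 : allR (ckReach chQ2 [[T5], [T3, T2, T1, T2, T3], [T6, T4, T6, T2, T1, T2, T4, T6, T5, T2, T1, T2, T4, T6], [T5, T4, T0], [T3, T2, T4, T1, T2, T1, T2, T4, T1, T2, T3]] (nat_lit 13)) (nat_lit 0) (nat_lit 85) = true := by decide +kernel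
theorem ch_c2 : cntT chQ2 (nat_lit 45) (nat_lit 85) (nat_lit 0) = true := by decide +kernel
noncomputable def chQ3c0 : Nat := nat_lit 0x41008400000c28c0000188000000000000000000000000000000000000000000000000000000000000000000000000000000000000000000004040000
noncomputable def chQ3 : Nat → Nat := (fun i => Nat.land (Nat.shiftRight chQ3c0 (Nat.mul (nat_lit 7) (Nat.land i (nat_lit 127)))) (nat_lit 127))
theorem ch_r3 : allR (ckReach chQ3 [[T5, T4, T0], [T3, T2, T4, T1, T2, T1, T2, T4, T1, T2, T3]] (nat_lit 2)) (nat_lit 0) (nat_lit 85) = true := by decide +kernel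
theorem ch_c3 : cntT chQ3 (nat_lit 8) (nat_lit 85) (nat_lit 0) = true := by decide +kernel
def chG0 : List (List Nat) := [[0], [1], [2], [3], [4], [5], [6], [6, 4, 6, 2, 1, 2, 4, 6, 5, 2, 1, 2, 4, 6], [3, 2, 1, 2, 3], [5, 4, 0], [3, 2, 4, 1, 2, 1, 2, 4, 1, 2, 3]]
def chG1 : List (List Nat) := [[1], [2], [5], [6, 4, 6, 2, 1, 2, 4, 6, 5, 2, 1, 2, 4, 6], [3, 2, 1, 2, 3], [5, 4, 0], [3, 2, 4, 1, 2, 1, 2, 4, 1, 2, 3]]
def chG2 : List (List Nat) := [[5], [3, 2, 1, 2, 3], [6, 4, 6, 2, 1, 2, 4, 6, 5, 2, 1, 2, 4, 6], [5, 4, 0], [3, 2, 4, 1, 2, 1, 2, 4, 1, 2, 3]]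
def chG3 : List (List Nat) := [[5, 4, 0], [3, 2, 4, 1, 2, 1, 2, 4, 1, 2, 3]]
def chG4 : List (List Nat) := []

theorem ch_lower {G : Type*} [Group G] [Finite G] (s : Nat → G) (ρ : G →* Equiv.Perm (Fin 85))
    (hρ : ∀ l < 7, ρ (s l) = permL tok l) :
    85 * (64 * (45 * (8 * (1)))) ≤ Nat.card (wordGroup s chG0) := by
  have h0 := card_step s tok ρ hρ chQ0 85 chG0 chG1 (by decide) ⟨4, by decide⟩ ch_r0 ch_c0
    (by decide) (by decide +kernel) inferInstance
  have h1 := card_step s tok ρ hρ chQ1 64 chG1 chG2 (by decide) ⟨30, by decide⟩ ch_r1 ch_c1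
    (by decide) (by decide +kernel) inferInstance
  have h2 := card_step s tok ρ hρ chQ2 45 chG2 chG3 (by decide) ⟨13, by decide⟩ ch_r2 ch_c2
    (by decide) (by decide +kernel) inferInstance
  have h3 := card_step s tok ρ hρ chQ3 8 chG3 chG4 (by decide) ⟨2, by decide⟩ ch_r3 ch_c3
    (by decide) (by decide +kernel) inferInstance
  have e4 : 1 ≤ Nat.card (wordGroup s chG4) := Nat.card_pos
  have e3 := le_trans (Nat.mul_le_mul_left 8 e4) h3
  have e2 := le_trans (Nat.mul_le_mul_left 45 e3) h2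
  have e1 := le_trans (Nat.mul_le_mul_left 64 e2) h1
  have e0 := le_trans (Nat.mul_le_mul_left 85 e1) h0
  exact e0

end Cfsg.Agent.H8.Sp4t
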