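import Cfsg.Agent.H8.CosetPres

/-! # The conjugation action on the 315 reflections of the icosian Leech lattice (tables) -/

set_option autoImplicit false
set_option linter.all false
set_option maxRecDepth 100000

namespace Cfsg.Agent.H8.IcoT
noncomputable def C0 : Nat := nat_lit 0x4e675379c4d66d339a4c6652f984b65d2b96472371e8ec823f2290c92472692ca24f2a94c6635178c4562d138a446250f884361d0b863f1f6fe7ec01ff0280c12070682c220f0a84badd8ed773bde0f1793cde8f57b3ddf0f97d36db8dd6f37dc0e17138dc8e57339dd0e97526d389d4f27d40a15128d48a55329d50a9552ad58ad572bd60b1592cd68b55b2dd70b95d2ed78bd5f2fd80c16130d88c56331d90c96532d98cd6733da0d16934da8d56b35db0d96d16cb85d2f17cc0613118cc8653319cd069351acd86d371bce071391cce8753b1dcf0793d1ecf87d3f1fd00814120d08854321d10894522d188d4723d20914924d28954b25d30994d14ca8552b15cb0592d12c984d2713ca0512910c88452311c9049250ec783d1f0fc8041210cc68351b0dc70391d0ac582d170bc60311908c48251309c50291506c381d0f07c40211106832180b8582a140982c180d0703c20110900c08050301c1009050080200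
noncomputable def C1 : Nat := nat_lit 0x988028228021242230884930769043c1d24b30345d70055361959a15c277748598cdd32048863e083462a0e11aea22110e43944c7858066a872e20cce5f319e912623c9e0d0ee7dad540027bae59ad24e3296cc84f3f25ece648fe3e04349800c08440aa432725086380a3b0dcdebd47ac12eaa0c3d22c471ebb1eb2a12bc9d6f08647436271e1494a8b402c9b09a0a449ec440fbc5f43b91af94cd61905cd68248350b28138ac582134a43490f914bbc40f392af0a0986a95416a31d0c522ab6b930720c601d202e384196445e832b150bf069f8ac2e27409fefe9036cc28a351694e706c8b41e38569cdcefd8296d0d1b81c00eae6822125107331c9524f181f52c0919b085e992c1ec688e02b7e56a1684ce6eb88ccd25d39754619ec35a24d1a6c6d00c584d29abd2457289f0dc3503b893f38624e9973189cc9bc9d5bcb6590f62ca648d35747a4cbb5246a211736c50fe8c4ab70a8e415b9496e81b3e21536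
noncomputable def C2 : Nat := nat_lit 0x4b2572e96cc25f3298cd267369ace26f3a9cca65527944964d2392486451f904763d1b8e42e190d8743e21118944e29158b45e31198d3edf8fd7f3fe01018140e09058341e1109853e5f4f77c3d5ecf37a3c5e4ef783b5dceb76371b6de6eb81bee270b91c6e672ba1ceea74a8942a04fa793a9c4daa952a853a994aa451ac962b057ab95aac55ae972b85bad96ab459b0982c05faf97abc5db2992c863b198ac461b49a2d067b399acc65b69b2d86bb59aad469a4d28954b25d30994d22d188d4723d20914920d08854321d1089451ecf87d3f1fd0081411cce8753b1dcf0793d1acd86d371bce0713918cc8653319cd0693516cb85d2f17cc0613106c381d0f07c40211108c48251309c5029150ac582d170bc6031190cc68351b0dc70391d0ec783d1f0fc80412110c88452311c90492512c984d2713ca0512914ca8552b15cb0592d04c28150b05c30190d0482210078381a0c0580c08050301c1009050080200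
noncomputable def C3 : Nat := nat_lit 0x4e6753499cda6b389bc5e31158b44e291a8cc7215287f4920526804820d228247a112a7e4b25731994be612d974361d0f88446250c85ca6131d7ec86031f7fc960b2381c9e0f1b7da792ea448b00ea8a55b28d6805a991a25e6ba7cbea934af4fa725930d06785c23198966b1ecca6075b6d40a55d9d1daa162210c2dd5a3c91ebf63a1cfecf7124d54f664221cc6a69a8916df36ab5decb3138d4c76372b96c6679b05d09438ac5a8f840ae9a0d5753e92a903d1cd1a987cb713aa8611f1ee9c649b132de5cbd0cebe631bceece7096d46f0629c1ca926d26cc6e042ac1ead24d3914e7e432bd6e8e78af1ce5c44ab1b2ee3cacd9ad874bb0ba68410200803038181409028e86a391b0dc6838199108647241148c4a248a04626148904e2a12948a04c2713ca24d258b45c2b160c4642f180f07e421e900763e20840180b078382411068042a140b85832180107438220f878362110154a85a2b958a6592c04c3400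
noncomputable def C4 : Nat := nat_lit 0x4e6752e96cda6b31994ce693097ce26f2b964763d1b8e492472692c823f2290ca65527944421f138a43217178c4361d1a8cc4625168ac2a12fe7ebfe0103824060505834220efc7dbe5f4f87bbbde0f278bd1e6f57b3b9daeb76389c2e57339dd0dc6dba9d2dd6f37dc0e471b097ebd5e30580be5db298ec56232590c661b499ccd68b31a0cf65b69acd56cb51b0d769a893c9d50a71409f4daa94ca554a9150a751ac95ead562c560ae55ae96eb55a2e570b659a3d1a9145a4918904725930944d24d32954b9d0f4763c1d4ee733c9c4d66f369c0dc7236225068742a210c8a421f1047e401f4fe7b40978c05c3116cc25d2f99cca69319a8c868330b8642c180b4622b178dc66391a8e0683a1b0843a1f0d8883c200e09050261508c4e2514930a04e2912c9e4d28964aa5729968ac582a0fc76411e90078421f1189444241149243238582a140986832180b844240e068401e0b060200e0a048100606028080200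
noncomputable def C5 : Nat := nat_lit 0x2acf724082d9009e179f9a82d6105a5a32649e16e9f2392989380b83642b2399d9b2bb228a5f8df323f86881830b1c2e938c0cb25c74090c2393644dd8ef871a4a87424c59db197a388888975231c0fb28b9d2821820f1fb053cbde210b7924438313e3ea22f58c1313284208823a62171fc473146b4998cd6733da0d1659ea568e1c1b43f2521cbcbc3b3a92114278e1f4664f94cd92c721848104853315c802b9d0040a030301c14080012cee58944d0ca464d26dba2541ad432f14804dcc9344321a6f62d2f5f08f0c0dd60dc4bac629356b4c974e39cb29d72a50c797f008fad21e1e079b98d072704604521eabd3b1731b62126021304250c0ea2e1aa0570d45501061a1e6145c1ac9ade51499febe93a7236f96197db6ad1f854ceee6009a10c743038ad155ccb1c8b399b5e611256156340b5e0e9310a6a889e0da629c0b6e50d06d2a8791cb87c5049174d537378da44531429404a45329d52045402554a3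
noncomputable def CD : Nat := nat_lit 0x3a426861091068616c69121a7069333b3a33343c7a73837c7b74726b3c44322b2c346973231b73747b7a222a7a712c242a194b4a7a736169686a7a734352222061592830625b6a6168695b632921606862633b414c4464746c6c444c42395b6a63514b7372526072702b635969633a7270626334446c51726c715a596853707b73695361605a747471586a3c3c6b5a6969326b62606a33696a59526b6b4b586b7358445951446074593b606b6b6039617368734b527a6974626a52747b4b6359606b4b7a7352726a6c6a724a436b6173683a596a6359336072594458603c516b6439425b534a405c645b61495068635c4443525b5a5a4b3c6c73495a62506b6c6c69585b53517064445253535b4b4a4c64637248416a626c6438435a623b31643b8b79444481833b34296b636b6c303c53495c544c54434b313100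
noncomputable def T0 : Nat → Nat := fun i => Nat.land (Nat.shiftRight C0 (Nat.mul (nat_lit 9) i)) (nat_lit 511)
noncomputable def T1 : Nat → Nat := fun i => Nat.land (Nat.shiftRight C1 (Nat.mul (nat_lit 9) i)) (nat_lit 511)
noncomputable def T2 : Nat → Nat := fun i => Nat.land (Nat.shiftRight C2 (Nat.mul (nat_lit 9) i)) (nat_lit 511)
noncomputable def T3 : Nat → Nat := fun i => Nat.land (Nat.shiftRight C3 (Nat.mul (nat_lit 9) i)) (nat_lit 511)
noncomputable def T4 : Nat → Nat := fun i => Nat.land (Nat.shiftRight C4 (Nat.mul (nat_lit 9) i)) (nat_lit 511)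
noncomputable def T5 : Nat → Nat := fun i => Nat.land (Nat.shiftRight C5 (Nat.mul (nat_lit 9) i)) (nat_lit 511)
noncomputable def DL : Nat → Nat := fun i => Nat.land (Nat.shiftRight CD (Nat.mul (nat_lit 8) i)) (nat_lit 255)
noncomputable def T : Nat → Nat → Nat := fun l => (@Nat.rec (fun _ => Nat → Nat) T0 (fun l _ => (@Nat.rec (fun _ => Nat → Nat) T1 (fun l _ => (@Nat.rec (fun _ => Nat → Nat) T2 (fun l _ => (@Nat.rec (fun _ => Nat → Nat) T3 (fun l _ => (@Nat.rec (fun _ => Nat → Nat) T4 (fun l _ => T5) l)) l)) l)) l)) l)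
def inv : Nat → Nat := fun l => l
def relsX : List (List Nat × Nat) := [([0, 1], 5), ([0, 2], 2), ([0, 3], 2), ([0, 4], 2), ([1, 2], 3), ([1, 3], 2), ([1, 4], 2), ([2, 3], 8), ([2, 4], 2), ([3, 4], 3), ([0, 2, 3, 2, 3, 2, 3, 2, 3], 1), ([1, 2, 3, 2, 3, 1, 2, 3, 2, 3, 1, 2, 3, 2, 3, 1, 2, 3, 2, 3, 1, 2, 3, 2, 3, 4], 3), ([2, 1, 5, 0, 1, 5, 2, 1, 5, 0, 1, 0, 2, 1, 5, 3], 1), ([5, 0, 1, 5, 2, 1, 5, 0, 1, 5, 2, 1, 5, 0, 1, 2, 5, 4], 1)]
def dW : List Nat := [2, 1, 5, 0, 1, 5, 2, 1, 5, 0, 1, 0, 2, 1, 5]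
def eW : List Nat := [5, 0, 1, 5, 2, 1, 5, 0, 1, 5, 2, 1, 5, 0, 1, 2, 5]
theorem pk0 : allR (ckPerm (nat_lit 315) T0 T0) (nat_lit 0) (nat_lit 315) = true := by decide +kernel
theorem pk1 : allR (ckPerm (nat_lit 315) T1 T1) (nat_lit 0) (nat_lit 315) = true := by decide +kernel
theorem pk2 : allR (ckPerm (nat_lit 315) T2 T2) (nat_lit 0) (nat_lit 315) = true := by decide +kernel
theorem pk3 : allR (ckPerm (nat_lit 315) T3 T3) (nat_lit 0) (nat_lit 315) = true := by decide +kernel
theorem pk4 : allR (ckPerm (nat_lit 315) T4 T4) (nat_lit 0) (nat_lit 315) = true := by decide +kernel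
theorem pk5 : allR (ckPerm (nat_lit 315) T5 T5) (nat_lit 0) (nat_lit 315) = true := by decide +kernel

theorem tok : TableOK 315 6 T (fun l => l) where
  lt := by
    intro l hl i hi
    interval_cases l
    · exact (ckPerm_sound _ _ _ _ (allR_zero _ _ pk0 i hi)).1
    · exact (ckPerm_sound _ _ _ _ (allR_zero _ _ pk1 i hi)).1
    · exact (ckPerm_sound _ _ _ _ (allR_zero _ _ pk2 i hi)).1
    · exact (ckPerm_sound _ _ _ _ (allR_zero _ _ pk3 i hi)).1
    · exact (ckPerm_sound _ _ _ _ (allR_zero _ _ pk4 i hi)).1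
    · exact (ckPerm_sound _ _ _ _ (allR_zero _ _ pk5 i hi)).1
  inv_lt := fun l hl => hl
  inv_inv := fun _ _ => rfl
  inv_apply := by
    intro l hl i hi
    interval_cases l
    · exact (ckPerm_sound _ _ _ _ (allR_zero _ _ pk0 i hi)).2
    · exact (ckPerm_sound _ _ _ _ (allR_zero _ _ pk1 i hi)).2
    · exact (ckPerm_sound _ _ _ _ (allR_zero _ _ pk2 i hi)).2
    · exact (ckPerm_sound _ _ _ _ (allR_zero _ _ pk3 i hi)).2
    · exact (ckPerm_sound _ _ _ _ (allR_zero _ _ pk4 i hi)).2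
    · exact (ckPerm_sound _ _ _ _ (allR_zero _ _ pk5 i hi)).2

theorem rk0 : allR (fun i => powT [T0, T1] i (nat_lit 5) i) (nat_lit 0) (nat_lit 315) = true := by decide +kernel
theorem rk1 : allR (fun i => powT [T0, T2] i (nat_lit 2) i) (nat_lit 0) (nat_lit 315) = true := by decide +kernel
theorem rk2 : allR (fun i => powT [T0, T3] i (nat_lit 2) i) (nat_lit 0) (nat_lit 315) = true := by decide +kernel
theorem rk3 : allR (fun i => powT [T0, T4] i (nat_lit 2) i) (nat_lit 0) (nat_lit 315) = true := by decide +kernel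
theorem rk4 : allR (fun i => powT [T1, T2] i (nat_lit 3) i) (nat_lit 0) (nat_lit 315) = true := by decide +kernel
theorem rk5 : allR (fun i => powT [T1, T3] i (nat_lit 2) i) (nat_lit 0) (nat_lit 315) = true := by decide +kernel
theorem rk6 : allR (fun i => powT [T1, T4] i (nat_lit 2) i) (nat_lit 0) (nat_lit 315) = true := by decide +kernel
theorem rk7 : allR (fun i => powT [T2, T3] i (nat_lit 8) i) (nat_lit 0) (nat_lit 315) = true := by decide +kernel
theorem rk8 : allR (fun i => powT [T2, T4] i (nat_lit 2) i) (nat_lit 0) (nat_lit 315) = true := by decide +kernel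
theorem rk9 : allR (fun i => powT [T3, T4] i (nat_lit 3) i) (nat_lit 0) (nat_lit 315) = true := by decide +kernel
theorem rk10 : allR (fun i => powT [T0, T2, T3, T2, T3, T2, T3, T2, T3] i (nat_lit 1) i) (nat_lit 0) (nat_lit 315) = true := by decide +kernel
theorem rk11 : allR (fun i => powT [T1, T2, T3, T2, T3, T1, T2, T3, T2, T3, T1, T2, T3, T2, T3, T1, T2, T3, T2, T3, T1, T2, T3, T2, T3, T4] i (nat_lit 3) i) (nat_lit 0) (nat_lit 315) = true := by decide +kernel
theorem rk12 : allR (fun i => powT [T2, T1, T5, T0, T1, T5, T2, T1, T5, T0, T1, T0, T2, T1, T5, T3] i (nat_lit 1) i) (nat_lit 0) (nat_lit 315) = true := by decide +kernel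
theorem rk13 : allR (fun i => powT [T5, T0, T1, T5, T2, T1, T5, T0, T1, T5, T2, T1, T5, T0, T1, T2, T5, T4] i (nat_lit 1) i) (nat_lit 0) (nat_lit 315) = true := by decide +kernel
theorem relp : ∀ p ∈ relsX, ((p.1.map (permL tok)).prod) ^ p.2 = 1 := by
  refine List.forall_mem_cons.2 ⟨pow_eq_one_of_powT tok [0, 1] (by decide) 5 (fun i hi => allR_zero _ _ rk0 i hi), ?_⟩
  refine List.forall_mem_cons.2 ⟨pow_eq_one_of_powT tok [0, 2] (by decide) 2 (fun i hi => allR_zero _ _ rk1 i hi), ?_⟩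
  refine List.forall_mem_cons.2 ⟨pow_eq_one_of_powT tok [0, 3] (by decide) 2 (fun i hi => allR_zero _ _ rk2 i hi), ?_⟩
  refine List.forall_mem_cons.2 ⟨pow_eq_one_of_powT tok [0, 4] (by decide) 2 (fun i hi => allR_zero _ _ rk3 i hi), ?_⟩
  refine List.forall_mem_cons.2 ⟨pow_eq_one_of_powT tok [1, 2] (by decide) 3 (fun i hi => allR_zero _ _ rk4 i hi), ?_⟩
  refine List.forall_mem_cons.2 ⟨pow_eq_one_of_powT tok [1, 3] (by decide) 2 (fun i hi => allR_zero _ _ rk5 i hi), ?_⟩
  refine List.forall_mem_cons.2 ⟨pow_eq_one_of_powT tok [1, 4] (by decide) 2 (fun i hi => allR_zero _ _ rk6 i hi), ?_⟩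
  refine List.forall_mem_cons.2 ⟨pow_eq_one_of_powT tok [2, 3] (by decide) 8 (fun i hi => allR_zero _ _ rk7 i hi), ?_⟩
  refine List.forall_mem_cons.2 ⟨pow_eq_one_of_powT tok [2, 4] (by decide) 2 (fun i hi => allR_zero _ _ rk8 i hi), ?_⟩
  refine List.forall_mem_cons.2 ⟨pow_eq_one_of_powT tok [3, 4] (by decide) 3 (fun i hi => allR_zero _ _ rk9 i hi), ?_⟩
  refine List.forall_mem_cons.2 ⟨pow_eq_one_of_powT tok [0, 2, 3, 2, 3, 2, 3, 2, 3] (by decide) 1 (fun i hi => allR_zero _ _ rk10 i hi), ?_⟩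
  refine List.forall_mem_cons.2 ⟨pow_eq_one_of_powT tok [1, 2, 3, 2, 3, 1, 2, 3, 2, 3, 1, 2, 3, 2, 3, 1, 2, 3, 2, 3, 1, 2, 3, 2, 3, 4] (by decide) 3 (fun i hi => allR_zero _ _ rk11 i hi), ?_⟩
  refine List.forall_mem_cons.2 ⟨pow_eq_one_of_powT tok [2, 1, 5, 0, 1, 5, 2, 1, 5, 0, 1, 0, 2, 1, 5, 3] (by decide) 1 (fun i hi => allR_zero _ _ rk12 i hi), ?_⟩
  refine List.forall_mem_cons.2 ⟨pow_eq_one_of_powT tok [5, 0, 1, 5, 2, 1, 5, 0, 1, 5, 2, 1, 5, 0, 1, 2, 5, 4] (by decide) 1 (fun i hi => allR_zero _ _ rk13 i hi), ?_⟩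
  intro c hc
  exact absurd hc List.not_mem_nil

theorem word_d : ((dW ++ [3]).map (permL tok)).prod = 1 := by
  have := relp (dW ++ [3], 1) (by decide)
  rwa [pow_one] at this

theorem word_e : ((eW ++ [4]).map (permL tok)).prod = 1 := by
  have := relp (eW ++ [4], 1) (by decide)
  rwa [pow_one] at this

/-- check of one point: depth decreases along the given letter. -/
noncomputable def ckDL (i : Nat) : Bool :=
  @Bool.rec (fun _ => Bool) (force (DL i) fun x => force (Nat.land x (nat_lit 7)) fun l =>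
    band (Nat.ble (Nat.succ l) (nat_lit 5)) (Nat.ble (Nat.succ (Nat.div (DL (T l i)) (nat_lit 8))) (Nat.div x (nat_lit 8)))) true (Nat.beq i 0)

theorem ckDL_all : allR ckDL (nat_lit 0) (nat_lit 315) = true := by decide +kernel

theorem dl_spec (i : Nat) (hi : i < 315) : i = 0 ∨ ∃ l < 5, DL (T l i) / 8 < DL i / 8 := by
  have h := allR_zero _ _ ckDL_all i hi
  unfold ckDL at h
  cases hb : Nat.beq i 0 with
  | true => exact Or.inl (Nat.eq_of_beq_eq_true hb)
  | false =>
    rw [hb] at h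
    refine Or.inr ⟨Nat.land (DL i) 7, ?_⟩
    simp only [force_eq, band_eq_true] at h
    exact ⟨Nat.le_of_ble_eq_true h.1, Nat.le_of_ble_eq_true h.2⟩

end Cfsg.Agent.H8.IcoT
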