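import Cfsg.Agent.H8.CosetCls
import Cfsg.Agent.H8.T.J2tP

set_option autoImplicit false
set_option linter.all false
set_option maxRecDepth 100000

namespace Cfsg.Agent.H8.J2t
noncomputable def chQ0c0 : Nat := nat_lit 0x91c8a41228a44e23148944e211489c4629138944e231289c4227108a44e291289c4e231189442251388c4a271188412050381c0607028140e01048140e030481c02070080c02050380c12050380c0e010080c06070081c0202f3793cde4f3793c1e4f0793cde2f179bd1e0f479bc1e6f179bc5e4f179bc1e8f3783cde2f1793c1e6f179bc5e4e270389c6e170b8dc0e47138dc0e370b8dc2e27138dc8e37038dc2e370b89c4e370b89c4e37238da2d368341a6d169b45a4d269b4da8d268b49a4d369b51a4d369b51a4c061b0582c26130d86c46230d84c361b1188c361b1188c358ac964b359ad168b358acd68b459ac168b358a8946a35229146a05228d42a45124d289449a45289249a1106844120d0074391cce26431980a651210cc4810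
noncomputable def chQ0c1 : Nat := nat_lit 0xa14ce673199cce67239248e492390c82492291c86472391c924923
noncomputable def chQ0 : Nat → Nat := (fun h => @Nat.rec (fun _ => Nat → Nat)
 (fun i => Nat.land (Nat.shiftRight chQ0c0 (Nat.mul (nat_lit 9) (Nat.land i (nat_lit 255)))) (nat_lit 511))
 (fun _ _ => (fun i => Nat.land (Nat.shiftRight chQ0c1 (Nat.mul (nat_lit 9) (Nat.land i (nat_lit 255)))) (nat_lit 511))) (Nat.land h (nat_lit 256)) h)
theorem ch_r0 : allR (ckReach chQ0 [[T0], [T1], [T2], [T3], [T4]] (nat_lit 0)) (nat_lit 0) (nat_lit 280) = true := by decide +kernel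
theorem ch_c0 : cntT chQ0 (nat_lit 280) (nat_lit 280) (nat_lit 0) = true := by decide +kernel
noncomputable def chQ1c0 : Nat := nat_lit 0x141a0c8a4120890000121000020312a84c401319800000008840aa532a80000112a85c40000004862332004ca23210000000000000000f28050284d100002454200584000000401e341b1000010200500000089488010299000000000001c1500000000c050b0800e278544000099444015200001e2e2a900000d2004c400009140400f1a080000006800000b058a496400003860400908000000a100000d268001840079002200000001c4000030400005120400f200448000070001820068801c4008000000d200000e40048002040080001a20059001c40078802240030000c40040001e2000030800a1000020400001440071002480000580000111001080082000014000000c40091000000020000000010000000000000000000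
noncomputable def chQ1c1 : Nat := nat_lit 0x5880000a95840152a84ca6000000026321a8d068400914cac362
noncomputable def chQ1 : Nat → Nat := (fun h => @Nat.rec (fun _ => Nat → Nat)
 (fun i => Nat.land (Nat.shiftRight chQ1c0 (Nat.mul (nat_lit 9) (Nat.land i (nat_lit 255)))) (nat_lit 511))
 (fun _ _ => (fun i => Nat.land (Nat.shiftRight chQ1c1 (Nat.mul (nat_lit 9) (Nat.land i (nat_lit 255)))) (nat_lit 511))) (Nat.land h (nat_lit 256)) h)
theorem ch_r1 : allR (ckReach chQ1 [[T1], [T2], [T3]] (nat_lit 8)) (nat_lit 0) (nat_lit 280) = true := by decide +kernel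
theorem ch_c1 : cntT chQ1 (nat_lit 135) (nat_lit 280) (nat_lit 0) = true := by decide +kernel
noncomputable def chQ2c0 : Nat := nat_lit 0x500000000000410061000000307000002181001000000000
noncomputable def chQ2c1 : Nat := nat_lit 0x0
noncomputable def chQ2 : Nat → Nat := (fun h => @Nat.rec (fun _ => Nat → Nat)
 (fun i => Nat.land (Nat.shiftRight chQ2c0 (Nat.mul (nat_lit 8) (Nat.land i (nat_lit 255)))) (nat_lit 255))
 (fun _ _ => (fun i => Nat.land (Nat.shiftRight chQ2c1 (Nat.mul (nat_lit 8) (Nat.land i (nat_lit 255)))) (nat_lit 255))) (Nat.land h (nat_lit 256)) h)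
theorem ch_r2 : allR (ckReach chQ2 [[T2], [T3]] (nat_lit 4)) (nat_lit 0) (nat_lit 280) = true := by decide +kernel
theorem ch_c2 : cntT chQ2 (nat_lit 8) (nat_lit 280) (nat_lit 0) = true := by decide +kernel
noncomputable def chQ3c0 : Nat := nat_lit 0x810000
noncomputable def chQ3c1 : Nat := nat_lit 0x0
noncomputable def chQ3 : Nat → Nat := (fun h => @Nat.rec (fun _ => Nat → Nat)
 (fun i => Nat.land (Nat.shiftRight chQ3c0 (Nat.mul (nat_lit 6) (Nat.land i (nat_lit 255)))) (nat_lit 63))
 (fun _ _ => (fun i => Nat.land (Nat.shiftRight chQ3c1 (Nat.mul (nat_lit 6) (Nat.land i (nat_lit 255)))) (nat_lit 63))) (Nat.land h (nat_lit 256)) h)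
theorem ch_r3 : allR (ckReach chQ3 [[T2]] (nat_lit 2)) (nat_lit 0) (nat_lit 280) = true := by decide +kernel
theorem ch_c3 : cntT chQ3 (nat_lit 2) (nat_lit 280) (nat_lit 0) = true := by decide +kernel
def chG0 : List (List Nat) := [[0], [1], [2], [3], [4]]
def chG1 : List (List Nat) := [[1], [2], [3]]
def chG2 : List (List Nat) := [[2], [3]]
def chG3 : List (List Nat) := [[2]]
def chG4 : List (List Nat) := []

theorem ch_lower {G : Type*} [Group G] [Finite G] (s : Nat → G) (ρ : G →* Equiv.Perm (Fin 280))
    (hρ : ∀ l < 5, ρ (s l) = permL tok l) :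
    280 * (135 * (8 * (2 * (1)))) ≤ Nat.card (wordGroup s chG0) := by
  have h0 := card_step s tok ρ hρ chQ0 280 chG0 chG1 (by decide) ⟨0, by decide⟩ ch_r0 ch_c0
    (by decide) (by decide +kernel) inferInstance
  have h1 := card_step s tok ρ hρ chQ1 135 chG1 chG2 (by decide) ⟨8, by decide⟩ ch_r1 ch_c1
    (by decide) (by decide +kernel) inferInstance
  have h2 := card_step s tok ρ hρ chQ2 8 chG2 chG3 (by decide) ⟨4, by decide⟩ ch_r2 ch_c2
    (by decide) (by decide +kernel) inferInstance
  have h3 := card_step s tok ρ hρ chQ3 2 chG3 chG4 (by decide) ⟨2, by decide⟩ ch_r3 ch_c3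
    (by decide) (by decide +kernel) inferInstance
  have e4 : 1 ≤ Nat.card (wordGroup s chG4) := Nat.card_pos
  have e3 := le_trans (Nat.mul_le_mul_left 2 e4) h3
  have e2 := le_trans (Nat.mul_le_mul_left 8 e3) h2
  have e1 := le_trans (Nat.mul_le_mul_left 135 e2) h1
  have e0 := le_trans (Nat.mul_le_mul_left 280 e1) h0
  exact e0

end Cfsg.Agent.H8.J2t
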