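import Cfsg.Agent.H8.CosetCls
import Cfsg.Agent.H8.T.J2tP

set_option autoImplicit false
set_option linter.all false
set_option maxRecDepth 100000

namespace Cfsg.Agent.H8.J2t
noncomputable def clCc0 : Nat := nat_lit 0xfeaabefaaebfaabeafeaeafffeaafaefeabeefaebffafeaeafaefabeefaebfbeabebbdbebbbbdbefaeedbbbbb6fbbb9bb9b9bbb96e596ee5966e596656565554
noncomputable def clCc1 : Nat := nat_lit 0xefaeabfaabaa
noncomputable def clC : Nat → Nat := (fun h => @Nat.rec (fun _ => Nat → Nat)
 (fun i => Nat.land (Nat.shiftRight clCc0 (Nat.mul (nat_lit 2) (Nat.land i (nat_lit 255)))) (nat_lit 3))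
 (fun _ _ => (fun i => Nat.land (Nat.shiftRight clCc1 (Nat.mul (nat_lit 2) (Nat.land i (nat_lit 255)))) (nat_lit 3))) (Nat.land h (nat_lit 256)) h)
noncomputable def clQc0 : Nat := nat_lit 0x50ac586d27930d82d36124d20d049a4584c36130d22c261a4122b36930da0c261a8962c161301269259b0986c151b8d64b341a0506824120d00b3592cd62b041a0166b040ac1068251b0564b358a4944b0582c544a359ac126a3511cce473391c144a0391cce2a151a84e0c351a80e67151a84e4a14924d60a35028546a160a8162a251a85069248188c6614898cc0b34924d206330a4d22624918cc4d348285469348acd24d348ac9249339b4d025328200a65141a04a48229a0ca2c240acd04c341b0104a341a09847021904e2423910ce64038acce4b339ac4e0b339a44e2b3308c8c433318c4c0a35098d406151a80c4a35094846531014526902924d22504910c204241a048282418c8e630391cce0213118cc2102994086411908c2010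
noncomputable def clQc1 : Nat := nat_lit 0x6140566b171b8160f080b4dc4a350a81c2d269b45a6a068b49c4d3
noncomputable def clQ : Nat → Nat := (fun h => @Nat.rec (fun _ => Nat → Nat)
 (fun i => Nat.land (Nat.shiftRight clQc0 (Nat.mul (nat_lit 9) (Nat.land i (nat_lit 255)))) (nat_lit 511))
 (fun _ _ => (fun i => Nat.land (Nat.shiftRight clQc1 (Nat.mul (nat_lit 9) (Nat.land i (nat_lit 255)))) (nat_lit 511))) (Nat.land h (nat_lit 256)) h)
def clG : List (List Nat) := [[0], [1], [2], [3]]
def clR : List Nat := [0, 1, 8, 25]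
theorem cl_i0 : allR (ckCls clC [T0]) (nat_lit 0) (nat_lit 280) = true := by decide +kernel
theorem cl_i1 : allR (ckCls clC [T1]) (nat_lit 0) (nat_lit 280) = true := by decide +kernel
theorem cl_i2 : allR (ckCls clC [T2]) (nat_lit 0) (nat_lit 280) = true := by decide +kernel
theorem cl_i3 : allR (ckCls clC [T3]) (nat_lit 0) (nat_lit 280) = true := by decide +kernel
theorem cl_rt : allR (ckRt (nat_lit 280) clC clQ [[T0], [T1], [T2], [T3]] clR) (nat_lit 0) (nat_lit 280) = true := by decide +kernel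
theorem cl_n0 : cntC clC (nat_lit 0) (nat_lit 1) (nat_lit 280) (nat_lit 0) = true := by decide +kernel
theorem cl_n1 : cntC clC (nat_lit 1) (nat_lit 36) (nat_lit 280) (nat_lit 0) = true := by decide +kernel
theorem cl_n2 : cntC clC (nat_lit 2) (nat_lit 135) (nat_lit 280) (nat_lit 0) = true := by decide +kernel
theorem cl_n3 : cntC clC (nat_lit 3) (nat_lit 108) (nat_lit 280) (nat_lit 0) = true := by decide +kernel
theorem clOK : ClsOK 280 T clC clQ clG clR where
  inv := by
    refine List.forall_mem_cons.2 ⟨cl_i0, ?_⟩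
    refine List.forall_mem_cons.2 ⟨cl_i1, ?_⟩
    refine List.forall_mem_cons.2 ⟨cl_i2, ?_⟩
    refine List.forall_mem_cons.2 ⟨cl_i3, ?_⟩
    intro c hc
    exact absurd hc List.not_mem_nil
  rt := cl_rt
theorem cl_lt : ∀ i < 280, clC i < 4 := by
  intro i hi
  have h : allR (fun i => Nat.ble (Nat.succ (clC i)) (nat_lit 4)) (nat_lit 0) (nat_lit 280) = true := by decide +kernel
  exact Nat.le_of_ble_eq_true (allR_zero _ _ h i hi)
def clS : Fin 4 → Nat := ![1, 36, 135, 108]
theorem cl_size : ∀ c : Fin 4, cntC clC c (clS c) 280 0 = true := by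
  intro c
  fin_cases c
  · exact cl_n0
  · exact cl_n1
  · exact cl_n2
  · exact cl_n3

theorem cl_coatom {G : Type*} [Group G] (s : Nat → G) (ρ : G →* Equiv.Perm (Fin 280))
    (hρ : ∀ l < 5, ρ (s l) = permL tok l)
    (hH : stabOf ρ ⟨0, by decide⟩ = wordGroup s clG) : IsCoatom (stabOf ρ ⟨0, by decide⟩) := by
  refine isCoatom_of_cls s tok ρ hρ clC clQ clG clR (by decide) clOK (by decide) (rho_tr s ρ hρ) hH 4
    clS (fun i => cl_lt i i.2) cl_size ?_
  have h0 : (⟨clC 0, cl_lt 0 (by decide)⟩ : Fin 4) = 0 := by decide +kernel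
  rw [h0]
  have key : ∀ S : Finset (Fin 4), (0 : Fin 4) ∈ S → (∑ c ∈ S, clS c) ∣ 280 →
      (∑ c ∈ S, clS c) = 1 ∨ (∑ c ∈ S, clS c) = 280 := by decide +kernel
  intro S hS1 hS2
  rcases key S hS1 hS2 with h | h
  · exact Or.inl h
  · exact Or.inr (Or.inl h)


end Cfsg.Agent.H8.J2t
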