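import Cfsg.Agent.H8.T.J2Oa

set_option Elab.async false
set_option autoImplicit false
set_option linter.all false
set_option maxRecDepth 100000
set_option maxHeartbeats 400000

namespace Cfsg.Agent.H8.J2O
open Cfsg.Agent.H8.J2t (T0 T1 T2 T3 T4)

noncomputable def FQ0c0 : Nat := nat_lit 0x41705560632341524343515255857460445555458264746052206461315174617130708433816584714352446573415561635330755051418440534271705450427460658043648445514265545060614570423185446240505563556261707045704471526444506052603131503454356545317145447153648475422252406135727462504443458465707151518055625255414560526455655460408532514462346454506051755171425464646270344161444353614551305441753373434575405152455250638454426472504444435541505440502455723365634461556210655451506054514521423060834164414042325054437372616155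
noncomputable def FQ0c1 : Nat := nat_lit 0x407541855061545183525460644032512555546130614050
noncomputable def FQ0 : Nat → Nat := (fun h => @Nat.rec (fun _ => Nat → Nat)
 (fun i => Nat.land (Nat.shiftRight FQ0c0 (Nat.mul (nat_lit 8) (Nat.land i (nat_lit 255)))) (nat_lit 255))
 (fun _ _ => (fun i => Nat.land (Nat.shiftRight FQ0c1 (Nat.mul (nat_lit 8) (Nat.land i (nat_lit 255)))) (nat_lit 255))) (Nat.land h (nat_lit 256)) h)
theorem Fr0 : allR (ckReach FQ0 [[X0], [X1], [X10], [X11], [X12], [X13], [X16], [X17], [X18], [X19], [X20], [X21], [X22], [X23]] (nat_lit 27)) (nat_lit 0) (nat_lit 280) = true := by decide +kernel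
theorem Fc0 : cntT FQ0 (nat_lit 280) (nat_lit 280) (nat_lit 0) = true := by decide +kernel
def FG0 : List (List Nat) := [[5], [6], [15], [16], [17], [18], [21], [22], [23], [24], [25], [26], [27], [28]]
noncomputable def FQ1c0 : Nat := nat_lit 0x1050000000000000000000300000537051400032320000000000610022507200004242005000526300000051004061004000009250005000000000007000000000000063630000000052730000000051200033000000005030316200004200603200000000000000006063000000510000004200006100625053527300000000000000000042005343530052006243000040530000614183000000420000000000000000000043522360720000725300000000820030334060004000005100000000410000500000000000004272007000003100410000006253005000000000000081500052000060710000007100000000600031005300730000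
noncomputable def FQ1c1 : Nat := nat_lit 0x61835200000060616000000021330000437061000000
noncomputable def FQ1 : Nat → Nat := (fun h => @Nat.rec (fun _ => Nat → Nat)
 (fun i => Nat.land (Nat.shiftRight FQ1c0 (Nat.mul (nat_lit 8) (Nat.land i (nat_lit 255)))) (nat_lit 255))
 (fun _ _ => (fun i => Nat.land (Nat.shiftRight FQ1c1 (Nat.mul (nat_lit 8) (Nat.land i (nat_lit 255)))) (nat_lit 255))) (Nat.land h (nat_lit 256)) h)
theorem Fr1 : allR (ckReach FQ1 [[X16], [X17], [X18], [X19], [X20], [X21], [X22], [X23]] (nat_lit 250)) (nat_lit 0) (nat_lit 280) = true := by decide +kernel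
theorem Fc1 : cntT FQ1 (nat_lit 108) (nat_lit 280) (nat_lit 0) = true := by decide +kernel
def FG1 : List (List Nat) := [[21], [22], [23], [24], [25], [26], [27], [28]]
noncomputable def FQ2c0 : Nat := nat_lit 0x1880000000000000000000000000000000000000000000000000000028c001080000000000a40000001040000000000000000000000000000000000000000000000000000000000000000000000032000000000000000000000000005000000320000000000000000c00000000000000000000000000001080c4000420003900000006200000000000000000000000000000000000000000000000000000000000001000000000000020000000000000000000000a4000000000000000000000000000000000000000000000000000000000000000000000000000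
noncomputable def FQ2c1 : Nat := nat_lit 0x6000000000000000000000000000004400000
noncomputable def FQ2 : Nat → Nat := (fun h => @Nat.rec (fun _ => Nat → Nat)
 (fun i => Nat.land (Nat.shiftRight FQ2c0 (Nat.mul (nat_lit 7) (Nat.land i (nat_lit 255)))) (nat_lit 127))
 (fun _ _ => (fun i => Nat.land (Nat.shiftRight FQ2c1 (Nat.mul (nat_lit 7) (Nat.land i (nat_lit 255)))) (nat_lit 127))) (Nat.land h (nat_lit 256)) h)
theorem Fr2 : allR (ckReach FQ2 [[X20], [X21], [X22], [X23]] (nat_lit 64)) (nat_lit 0) (nat_lit 280) = true := by decide +kernel
theorem Fc2 : cntT FQ2 (nat_lit 20) (nat_lit 280) (nat_lit 0) = true := by decide +kernel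
def FG2 : List (List Nat) := [[25], [26], [27], [28]]
noncomputable def FK2 : List Nat → Bool := levF FQ2 [[X20], [X21], [X22], [X23]] (nat_lit 64) (fun _ => false) (nat_lit 10)
noncomputable def FK1 : List Nat → Bool := levF FQ1 [[X16], [X17], [X18], [X19], [X20], [X21], [X22], [X23]] (nat_lit 250) FK2 (nat_lit 10)
noncomputable def FK0 : List Nat → Bool := levF FQ0 [[X0], [X1], [X10], [X11], [X12], [X13], [X16], [X17], [X18], [X19], [X20], [X21], [X22], [X23]] (nat_lit 27) FK1 (nat_lit 10)
theorem FS : allR (OT.ckCand [X14] (nat_lit 5) FK0 [27, 37]) (nat_lit 0) (nat_lit 280) = true := by decide +kernel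

end Cfsg.Agent.H8.J2O
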