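import Cfsg.Agent.H8.T.J2Oc0
import Cfsg.Agent.H8.CosetGlue
import Cfsg.Agent.H8.T.J2tP

set_option Elab.async false
set_option autoImplicit false
set_option linter.all false
set_option maxRecDepth 100000
set_option maxHeartbeats 400000

namespace Cfsg.Agent.H8.J2O
open Cfsg.Agent.H8.J2t (T0 T1 T2 T3 T4)

theorem pk0 : allR (ckPerm (nat_lit 280) X0 X1) (nat_lit 0) (nat_lit 280) = true := by
  apply allR_of_forall
  intro i hi
  have hi : i < 280 := hi
  rcases Nat.lt_or_ge i 140 with h0 | h0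
  · exact allR_spec _ (0 : ℕ) (140 : ℕ) pk0_0 i (by omega) (by omega)
  exact allR_spec _ (140 : ℕ) (140 : ℕ) pk0_1 i (by omega) (by omega)
theorem pk1 : allR (ckPerm (nat_lit 280) X1 X0) (nat_lit 0) (nat_lit 280) = true := by
  apply allR_of_forall
  intro i hi
  have hi : i < 280 := hi
  rcases Nat.lt_or_ge i 140 with h0 | h0
  · exact allR_spec _ (0 : ℕ) (140 : ℕ) pk1_0 i (by omega) (by omega)
  exact allR_spec _ (140 : ℕ) (140 : ℕ) pk1_1 i (by omega) (by omega)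
theorem pk2 : allR (ckPerm (nat_lit 280) X2 X3) (nat_lit 0) (nat_lit 280) = true := by
  apply allR_of_forall
  intro i hi
  have hi : i < 280 := hi
  rcases Nat.lt_or_ge i 140 with h0 | h0
  · exact allR_spec _ (0 : ℕ) (140 : ℕ) pk2_0 i (by omega) (by omega)
  exact allR_spec _ (140 : ℕ) (140 : ℕ) pk2_1 i (by omega) (by omega)
theorem pk3 : allR (ckPerm (nat_lit 280) X3 X2) (nat_lit 0) (nat_lit 280) = true := by
  apply allR_of_forall
  intro i hi
  have hi : i < 280 := hi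
  rcases Nat.lt_or_ge i 140 with h0 | h0
  · exact allR_spec _ (0 : ℕ) (140 : ℕ) pk3_0 i (by omega) (by omega)
  exact allR_spec _ (140 : ℕ) (140 : ℕ) pk3_1 i (by omega) (by omega)
theorem pk4 : allR (ckPerm (nat_lit 280) X4 X5) (nat_lit 0) (nat_lit 280) = true := by
  apply allR_of_forall
  intro i hi
  have hi : i < 280 := hi
  rcases Nat.lt_or_ge i 140 with h0 | h0
  · exact allR_spec _ (0 : ℕ) (140 : ℕ) pk4_0 i (by omega) (by omega)
  exact allR_spec _ (140 : ℕ) (140 : ℕ) pk4_1 i (by omega) (by omega)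
theorem pk5 : allR (ckPerm (nat_lit 280) X5 X4) (nat_lit 0) (nat_lit 280) = true := by
  apply allR_of_forall
  intro i hi
  have hi : i < 280 := hi
  rcases Nat.lt_or_ge i 140 with h0 | h0
  · exact allR_spec _ (0 : ℕ) (140 : ℕ) pk5_0 i (by omega) (by omega)
  exact allR_spec _ (140 : ℕ) (140 : ℕ) pk5_1 i (by omega) (by omega)
theorem pk6 : allR (ckPerm (nat_lit 280) X6 X7) (nat_lit 0) (nat_lit 280) = true := by
  apply allR_of_forall
  intro i hi
  have hi : i < 280 := hi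
  rcases Nat.lt_or_ge i 140 with h0 | h0
  · exact allR_spec _ (0 : ℕ) (140 : ℕ) pk6_0 i (by omega) (by omega)
  exact allR_spec _ (140 : ℕ) (140 : ℕ) pk6_1 i (by omega) (by omega)
theorem pk7 : allR (ckPerm (nat_lit 280) X7 X6) (nat_lit 0) (nat_lit 280) = true := by
  apply allR_of_forall
  intro i hi
  have hi : i < 280 := hi
  rcases Nat.lt_or_ge i 140 with h0 | h0
  · exact allR_spec _ (0 : ℕ) (140 : ℕ) pk7_0 i (by omega) (by omega)
  exact allR_spec _ (140 : ℕ) (140 : ℕ) pk7_1 i (by omega) (by omega)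
theorem pk8 : allR (ckPerm (nat_lit 280) X8 X9) (nat_lit 0) (nat_lit 280) = true := by
  apply allR_of_forall
  intro i hi
  have hi : i < 280 := hi
  rcases Nat.lt_or_ge i 140 with h0 | h0
  · exact allR_spec _ (0 : ℕ) (140 : ℕ) pk8_0 i (by omega) (by omega)
  exact allR_spec _ (140 : ℕ) (140 : ℕ) pk8_1 i (by omega) (by omega)
theorem pk9 : allR (ckPerm (nat_lit 280) X9 X8) (nat_lit 0) (nat_lit 280) = true := by
  apply allR_of_forall
  intro i hi
  have hi : i < 280 := hi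
  rcases Nat.lt_or_ge i 140 with h0 | h0
  · exact allR_spec _ (0 : ℕ) (140 : ℕ) pk9_0 i (by omega) (by omega)
  exact allR_spec _ (140 : ℕ) (140 : ℕ) pk9_1 i (by omega) (by omega)
theorem pk10 : allR (ckPerm (nat_lit 280) X10 X11) (nat_lit 0) (nat_lit 280) = true := by
  apply allR_of_forall
  intro i hi
  have hi : i < 280 := hi
  rcases Nat.lt_or_ge i 140 with h0 | h0
  · exact allR_spec _ (0 : ℕ) (140 : ℕ) pk10_0 i (by omega) (by omega)
  exact allR_spec _ (140 : ℕ) (140 : ℕ) pk10_1 i (by omega) (by omega)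
theorem pk11 : allR (ckPerm (nat_lit 280) X11 X10) (nat_lit 0) (nat_lit 280) = true := by
  apply allR_of_forall
  intro i hi
  have hi : i < 280 := hi
  rcases Nat.lt_or_ge i 140 with h0 | h0
  · exact allR_spec _ (0 : ℕ) (140 : ℕ) pk11_0 i (by omega) (by omega)
  exact allR_spec _ (140 : ℕ) (140 : ℕ) pk11_1 i (by omega) (by omega)
theorem pk12 : allR (ckPerm (nat_lit 280) X12 X13) (nat_lit 0) (nat_lit 280) = true := by
  apply allR_of_forall
  intro i hi
  have hi : i < 280 := hi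
  rcases Nat.lt_or_ge i 140 with h0 | h0
  · exact allR_spec _ (0 : ℕ) (140 : ℕ) pk12_0 i (by omega) (by omega)
  exact allR_spec _ (140 : ℕ) (140 : ℕ) pk12_1 i (by omega) (by omega)
theorem pk13 : allR (ckPerm (nat_lit 280) X13 X12) (nat_lit 0) (nat_lit 280) = true := by
  apply allR_of_forall
  intro i hi
  have hi : i < 280 := hi
  rcases Nat.lt_or_ge i 140 with h0 | h0
  · exact allR_spec _ (0 : ℕ) (140 : ℕ) pk13_0 i (by omega) (by omega)
  exact allR_spec _ (140 : ℕ) (140 : ℕ) pk13_1 i (by omega) (by omega)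
theorem pk14 : allR (ckPerm (nat_lit 280) X14 X15) (nat_lit 0) (nat_lit 280) = true := by
  apply allR_of_forall
  intro i hi
  have hi : i < 280 := hi
  rcases Nat.lt_or_ge i 140 with h0 | h0
  · exact allR_spec _ (0 : ℕ) (140 : ℕ) pk14_0 i (by omega) (by omega)
  exact allR_spec _ (140 : ℕ) (140 : ℕ) pk14_1 i (by omega) (by omega)
theorem pk15 : allR (ckPerm (nat_lit 280) X15 X14) (nat_lit 0) (nat_lit 280) = true := by
  apply allR_of_forall
  intro i hi
  have hi : i < 280 := hi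
  rcases Nat.lt_or_ge i 140 with h0 | h0
  · exact allR_spec _ (0 : ℕ) (140 : ℕ) pk15_0 i (by omega) (by omega)
  exact allR_spec _ (140 : ℕ) (140 : ℕ) pk15_1 i (by omega) (by omega)
theorem pk16 : allR (ckPerm (nat_lit 280) X16 X17) (nat_lit 0) (nat_lit 280) = true := by
  apply allR_of_forall
  intro i hi
  have hi : i < 280 := hi
  rcases Nat.lt_or_ge i 140 with h0 | h0
  · exact allR_spec _ (0 : ℕ) (140 : ℕ) pk16_0 i (by omega) (by omega)
  exact allR_spec _ (140 : ℕ) (140 : ℕ) pk16_1 i (by omega) (by omega)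
theorem pk17 : allR (ckPerm (nat_lit 280) X17 X16) (nat_lit 0) (nat_lit 280) = true := by
  apply allR_of_forall
  intro i hi
  have hi : i < 280 := hi
  rcases Nat.lt_or_ge i 140 with h0 | h0
  · exact allR_spec _ (0 : ℕ) (140 : ℕ) pk17_0 i (by omega) (by omega)
  exact allR_spec _ (140 : ℕ) (140 : ℕ) pk17_1 i (by omega) (by omega)
theorem pk18 : allR (ckPerm (nat_lit 280) X18 X19) (nat_lit 0) (nat_lit 280) = true := by
  apply allR_of_forall
  intro i hi
  have hi : i < 280 := hi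
  rcases Nat.lt_or_ge i 140 with h0 | h0
  · exact allR_spec _ (0 : ℕ) (140 : ℕ) pk18_0 i (by omega) (by omega)
  exact allR_spec _ (140 : ℕ) (140 : ℕ) pk18_1 i (by omega) (by omega)
theorem pk19 : allR (ckPerm (nat_lit 280) X19 X18) (nat_lit 0) (nat_lit 280) = true := by
  apply allR_of_forall
  intro i hi
  have hi : i < 280 := hi
  rcases Nat.lt_or_ge i 140 with h0 | h0
  · exact allR_spec _ (0 : ℕ) (140 : ℕ) pk19_0 i (by omega) (by omega)
  exact allR_spec _ (140 : ℕ) (140 : ℕ) pk19_1 i (by omega) (by omega)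
theorem pk20 : allR (ckPerm (nat_lit 280) X20 X21) (nat_lit 0) (nat_lit 280) = true := by
  apply allR_of_forall
  intro i hi
  have hi : i < 280 := hi
  rcases Nat.lt_or_ge i 140 with h0 | h0
  · exact allR_spec _ (0 : ℕ) (140 : ℕ) pk20_0 i (by omega) (by omega)
  exact allR_spec _ (140 : ℕ) (140 : ℕ) pk20_1 i (by omega) (by omega)
theorem pk21 : allR (ckPerm (nat_lit 280) X21 X20) (nat_lit 0) (nat_lit 280) = true := by
  apply allR_of_forall
  intro i hi
  have hi : i < 280 := hi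
  rcases Nat.lt_or_ge i 140 with h0 | h0
  · exact allR_spec _ (0 : ℕ) (140 : ℕ) pk21_0 i (by omega) (by omega)
  exact allR_spec _ (140 : ℕ) (140 : ℕ) pk21_1 i (by omega) (by omega)
theorem pk22 : allR (ckPerm (nat_lit 280) X22 X23) (nat_lit 0) (nat_lit 280) = true := by
  apply allR_of_forall
  intro i hi
  have hi : i < 280 := hi
  rcases Nat.lt_or_ge i 140 with h0 | h0
  · exact allR_spec _ (0 : ℕ) (140 : ℕ) pk22_0 i (by omega) (by omega)
  exact allR_spec _ (140 : ℕ) (140 : ℕ) pk22_1 i (by omega) (by omega)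
theorem pk23 : allR (ckPerm (nat_lit 280) X23 X22) (nat_lit 0) (nat_lit 280) = true := by
  apply allR_of_forall
  intro i hi
  have hi : i < 280 := hi
  rcases Nat.lt_or_ge i 140 with h0 | h0
  · exact allR_spec _ (0 : ℕ) (140 : ℕ) pk23_0 i (by omega) (by omega)
  exact allR_spec _ (140 : ℕ) (140 : ℕ) pk23_1 i (by omega) (by omega)
theorem pk24 : allR (ckPerm (nat_lit 280) X24 X25) (nat_lit 0) (nat_lit 280) = true := by
  apply allR_of_forall
  intro i hi
  have hi : i < 280 := hi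
  rcases Nat.lt_or_ge i 140 with h0 | h0
  · exact allR_spec _ (0 : ℕ) (140 : ℕ) pk24_0 i (by omega) (by omega)
  exact allR_spec _ (140 : ℕ) (140 : ℕ) pk24_1 i (by omega) (by omega)
theorem pk25 : allR (ckPerm (nat_lit 280) X25 X24) (nat_lit 0) (nat_lit 280) = true := by
  apply allR_of_forall
  intro i hi
  have hi : i < 280 := hi
  rcases Nat.lt_or_ge i 140 with h0 | h0
  · exact allR_spec _ (0 : ℕ) (140 : ℕ) pk25_0 i (by omega) (by omega)
  exact allR_spec _ (140 : ℕ) (140 : ℕ) pk25_1 i (by omega) (by omega)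
theorem pk26 : allR (ckPerm (nat_lit 280) X26 X27) (nat_lit 0) (nat_lit 280) = true := by
  apply allR_of_forall
  intro i hi
  have hi : i < 280 := hi
  rcases Nat.lt_or_ge i 140 with h0 | h0
  · exact allR_spec _ (0 : ℕ) (140 : ℕ) pk26_0 i (by omega) (by omega)
  exact allR_spec _ (140 : ℕ) (140 : ℕ) pk26_1 i (by omega) (by omega)
theorem pk27 : allR (ckPerm (nat_lit 280) X27 X26) (nat_lit 0) (nat_lit 280) = true := by
  apply allR_of_forall
  intro i hi
  have hi : i < 280 := hi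
  rcases Nat.lt_or_ge i 140 with h0 | h0
  · exact allR_spec _ (0 : ℕ) (140 : ℕ) pk27_0 i (by omega) (by omega)
  exact allR_spec _ (140 : ℕ) (140 : ℕ) pk27_1 i (by omega) (by omega)
theorem pk28 : allR (ckPerm (nat_lit 280) X28 X29) (nat_lit 0) (nat_lit 280) = true := by
  apply allR_of_forall
  intro i hi
  have hi : i < 280 := hi
  rcases Nat.lt_or_ge i 140 with h0 | h0
  · exact allR_spec _ (0 : ℕ) (140 : ℕ) pk28_0 i (by omega) (by omega)
  exact allR_spec _ (140 : ℕ) (140 : ℕ) pk28_1 i (by omega) (by omega)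
theorem pk29 : allR (ckPerm (nat_lit 280) X29 X28) (nat_lit 0) (nat_lit 280) = true := by
  apply allR_of_forall
  intro i hi
  have hi : i < 280 := hi
  rcases Nat.lt_or_ge i 140 with h0 | h0
  · exact allR_spec _ (0 : ℕ) (140 : ℕ) pk29_0 i (by omega) (by omega)
  exact allR_spec _ (140 : ℕ) (140 : ℕ) pk29_1 i (by omega) (by omega)
theorem pk30 : allR (ckPerm (nat_lit 280) X30 X31) (nat_lit 0) (nat_lit 280) = true := by
  apply allR_of_forall
  intro i hi
  have hi : i < 280 := hi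
  rcases Nat.lt_or_ge i 140 with h0 | h0
  · exact allR_spec _ (0 : ℕ) (140 : ℕ) pk30_0 i (by omega) (by omega)
  exact allR_spec _ (140 : ℕ) (140 : ℕ) pk30_1 i (by omega) (by omega)
theorem pk31 : allR (ckPerm (nat_lit 280) X31 X30) (nat_lit 0) (nat_lit 280) = true := by
  apply allR_of_forall
  intro i hi
  have hi : i < 280 := hi
  rcases Nat.lt_or_ge i 140 with h0 | h0
  · exact allR_spec _ (0 : ℕ) (140 : ℕ) pk31_0 i (by omega) (by omega)
  exact allR_spec _ (140 : ℕ) (140 : ℕ) pk31_1 i (by omega) (by omega)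
theorem wk0 : allR (OT.ckEqW [T0, T1, T2, T1, T3, T2, T1, T3, T4] [X0]) (nat_lit 0) (nat_lit 280) = true := by
  apply allR_of_forall
  intro i hi
  have hi : i < 280 := hi
  rcases Nat.lt_or_ge i 28 with h0 | h0
  · exact allR_spec _ (0 : ℕ) (28 : ℕ) wk0_0 i (by omega) (by omega)
  rcases Nat.lt_or_ge i 56 with h1 | h1
  · exact allR_spec _ (28 : ℕ) (28 : ℕ) wk0_1 i (by omega) (by omega)
  rcases Nat.lt_or_ge i 84 with h2 | h2
  · exact allR_spec _ (56 : ℕ) (28 : ℕ) wk0_2 i (by omega) (by omega)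
  rcases Nat.lt_or_ge i 112 with h3 | h3
  · exact allR_spec _ (84 : ℕ) (28 : ℕ) wk0_3 i (by omega) (by omega)
  rcases Nat.lt_or_ge i 140 with h4 | h4
  · exact allR_spec _ (112 : ℕ) (28 : ℕ) wk0_4 i (by omega) (by omega)
  rcases Nat.lt_or_ge i 168 with h5 | h5
  · exact allR_spec _ (140 : ℕ) (28 : ℕ) wk0_5 i (by omega) (by omega)
  rcases Nat.lt_or_ge i 196 with h6 | h6
  · exact allR_spec _ (168 : ℕ) (28 : ℕ) wk0_6 i (by omega) (by omega)
  rcases Nat.lt_or_ge i 224 with h7 | h7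
  · exact allR_spec _ (196 : ℕ) (28 : ℕ) wk0_7 i (by omega) (by omega)
  rcases Nat.lt_or_ge i 252 with h8 | h8
  · exact allR_spec _ (224 : ℕ) (28 : ℕ) wk0_8 i (by omega) (by omega)
  exact allR_spec _ (252 : ℕ) (28 : ℕ) wk0_9 i (by omega) (by omega)
theorem wk1 : allR (OT.ckEqW [T1, T2, T3] [X2]) (nat_lit 0) (nat_lit 280) = true := by
  apply allR_of_forall
  intro i hi
  have hi : i < 280 := hi
  rcases Nat.lt_or_ge i 70 with h0 | h0
  · exact allR_spec _ (0 : ℕ) (70 : ℕ) wk1_0 i (by omega) (by omega)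
  rcases Nat.lt_or_ge i 140 with h1 | h1
  · exact allR_spec _ (70 : ℕ) (70 : ℕ) wk1_1 i (by omega) (by omega)
  rcases Nat.lt_or_ge i 210 with h2 | h2
  · exact allR_spec _ (140 : ℕ) (70 : ℕ) wk1_2 i (by omega) (by omega)
  exact allR_spec _ (210 : ℕ) (70 : ℕ) wk1_3 i (by omega) (by omega)
theorem wk2 : allR (OT.ckEqW [T0, T3] [X4]) (nat_lit 0) (nat_lit 280) = true := by
  apply allR_of_forall
  intro i hi
  have hi : i < 280 := hi
  rcases Nat.lt_or_ge i 93 with h0 | h0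
  · exact allR_spec _ (0 : ℕ) (93 : ℕ) wk2_0 i (by omega) (by omega)
  rcases Nat.lt_or_ge i 186 with h1 | h1
  · exact allR_spec _ (93 : ℕ) (93 : ℕ) wk2_1 i (by omega) (by omega)
  rcases Nat.lt_or_ge i 279 with h2 | h2
  · exact allR_spec _ (186 : ℕ) (93 : ℕ) wk2_2 i (by omega) (by omega)
  exact allR_spec _ (279 : ℕ) (1 : ℕ) wk2_3 i (by omega) (by omega)
theorem wk3 : allR (OT.ckEqW [X4, X2, X2, X2, X4, X2, X2, X5, X3, X4, X2, X2, X2, X2, X5, X3, X5, X2, X2, X2] [X6]) (nat_lit 0) (nat_lit 280) = true := by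
  apply allR_of_forall
  intro i hi
  have hi : i < 280 := hi
  rcases Nat.lt_or_ge i 13 with h0 | h0
  · exact allR_spec _ (0 : ℕ) (13 : ℕ) wk3_0 i (by omega) (by omega)
  rcases Nat.lt_or_ge i 26 with h1 | h1
  · exact allR_spec _ (13 : ℕ) (13 : ℕ) wk3_1 i (by omega) (by omega)
  rcases Nat.lt_or_ge i 39 with h2 | h2
  · exact allR_spec _ (26 : ℕ) (13 : ℕ) wk3_2 i (by omega) (by omega)
  rcases Nat.lt_or_ge i 52 with h3 | h3
  · exact allR_spec _ (39 : ℕ) (13 : ℕ) wk3_3 i (by omega) (by omega)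
  rcases Nat.lt_or_ge i 65 with h4 | h4
  · exact allR_spec _ (52 : ℕ) (13 : ℕ) wk3_4 i (by omega) (by omega)
  rcases Nat.lt_or_ge i 78 with h5 | h5
  · exact allR_spec _ (65 : ℕ) (13 : ℕ) wk3_5 i (by omega) (by omega)
  rcases Nat.lt_or_ge i 91 with h6 | h6
  · exact allR_spec _ (78 : ℕ) (13 : ℕ) wk3_6 i (by omega) (by omega)
  rcases Nat.lt_or_ge i 104 with h7 | h7
  · exact allR_spec _ (91 : ℕ) (13 : ℕ) wk3_7 i (by omega) (by omega)
  rcases Nat.lt_or_ge i 117 with h8 | h8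
  · exact allR_spec _ (104 : ℕ) (13 : ℕ) wk3_8 i (by omega) (by omega)
  rcases Nat.lt_or_ge i 130 with h9 | h9
  · exact allR_spec _ (117 : ℕ) (13 : ℕ) wk3_9 i (by omega) (by omega)
  rcases Nat.lt_or_ge i 143 with h10 | h10
  · exact allR_spec _ (130 : ℕ) (13 : ℕ) wk3_10 i (by omega) (by omega)
  rcases Nat.lt_or_ge i 156 with h11 | h11
  · exact allR_spec _ (143 : ℕ) (13 : ℕ) wk3_11 i (by omega) (by omega)
  rcases Nat.lt_or_ge i 169 with h12 | h12
  · exact allR_spec _ (156 : ℕ) (13 : ℕ) wk3_12 i (by omega) (by omega)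
  rcases Nat.lt_or_ge i 182 with h13 | h13
  · exact allR_spec _ (169 : ℕ) (13 : ℕ) wk3_13 i (by omega) (by omega)
  rcases Nat.lt_or_ge i 195 with h14 | h14
  · exact allR_spec _ (182 : ℕ) (13 : ℕ) wk3_14 i (by omega) (by omega)
  rcases Nat.lt_or_ge i 208 with h15 | h15
  · exact allR_spec _ (195 : ℕ) (13 : ℕ) wk3_15 i (by omega) (by omega)
  rcases Nat.lt_or_ge i 221 with h16 | h16
  · exact allR_spec _ (208 : ℕ) (13 : ℕ) wk3_16 i (by omega) (by omega)
  rcases Nat.lt_or_ge i 234 with h17 | h17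
  · exact allR_spec _ (221 : ℕ) (13 : ℕ) wk3_17 i (by omega) (by omega)
  rcases Nat.lt_or_ge i 247 with h18 | h18
  · exact allR_spec _ (234 : ℕ) (13 : ℕ) wk3_18 i (by omega) (by omega)
  rcases Nat.lt_or_ge i 260 with h19 | h19
  · exact allR_spec _ (247 : ℕ) (13 : ℕ) wk3_19 i (by omega) (by omega)
  rcases Nat.lt_or_ge i 273 with h20 | h20
  · exact allR_spec _ (260 : ℕ) (13 : ℕ) wk3_20 i (by omega) (by omega)
  exact allR_spec _ (273 : ℕ) (7 : ℕ) wk3_21 i (by omega) (by omega)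
theorem wk4 : allR (OT.ckEqW [X4] [X8]) (nat_lit 0) (nat_lit 280) = true := by
  apply allR_of_forall
  intro i hi
  have hi : i < 280 := hi
  rcases Nat.lt_or_ge i 140 with h0 | h0
  · exact allR_spec _ (0 : ℕ) (140 : ℕ) wk4_0 i (by omega) (by omega)
  exact allR_spec _ (140 : ℕ) (140 : ℕ) wk4_1 i (by omega) (by omega)
theorem wk5 : allR (OT.ckEqW [X6, X8, X6, X8, X3, X3, X4, X1, T0, X1, T1, T2] [X10]) (nat_lit 0) (nat_lit 280) = true := by
  apply allR_of_forall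
  intro i hi
  have hi : i < 280 := hi
  rcases Nat.lt_or_ge i 21 with h0 | h0
  · exact allR_spec _ (0 : ℕ) (21 : ℕ) wk5_0 i (by omega) (by omega)
  rcases Nat.lt_or_ge i 42 with h1 | h1
  · exact allR_spec _ (21 : ℕ) (21 : ℕ) wk5_1 i (by omega) (by omega)
  rcases Nat.lt_or_ge i 63 with h2 | h2
  · exact allR_spec _ (42 : ℕ) (21 : ℕ) wk5_2 i (by omega) (by omega)
  rcases Nat.lt_or_ge i 84 with h3 | h3
  · exact allR_spec _ (63 : ℕ) (21 : ℕ) wk5_3 i (by omega) (by omega)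
  rcases Nat.lt_or_ge i 105 with h4 | h4
  · exact allR_spec _ (84 : ℕ) (21 : ℕ) wk5_4 i (by omega) (by omega)
  rcases Nat.lt_or_ge i 126 with h5 | h5
  · exact allR_spec _ (105 : ℕ) (21 : ℕ) wk5_5 i (by omega) (by omega)
  rcases Nat.lt_or_ge i 147 with h6 | h6
  · exact allR_spec _ (126 : ℕ) (21 : ℕ) wk5_6 i (by omega) (by omega)
  rcases Nat.lt_or_ge i 168 with h7 | h7
  · exact allR_spec _ (147 : ℕ) (21 : ℕ) wk5_7 i (by omega) (by omega)
  rcases Nat.lt_or_ge i 189 with h8 | h8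
  · exact allR_spec _ (168 : ℕ) (21 : ℕ) wk5_8 i (by omega) (by omega)
  rcases Nat.lt_or_ge i 210 with h9 | h9
  · exact allR_spec _ (189 : ℕ) (21 : ℕ) wk5_9 i (by omega) (by omega)
  rcases Nat.lt_or_ge i 231 with h10 | h10
  · exact allR_spec _ (210 : ℕ) (21 : ℕ) wk5_10 i (by omega) (by omega)
  rcases Nat.lt_or_ge i 252 with h11 | h11
  · exact allR_spec _ (231 : ℕ) (21 : ℕ) wk5_11 i (by omega) (by omega)
  rcases Nat.lt_or_ge i 273 with h12 | h12
  · exact allR_spec _ (252 : ℕ) (21 : ℕ) wk5_12 i (by omega) (by omega)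
  exact allR_spec _ (273 : ℕ) (7 : ℕ) wk5_13 i (by omega) (by omega)
theorem wk6 : allR (OT.ckEqW [X6, X8, X6, X3, X3, X3, X4, X2, X4, X3, X1, T3] [X12]) (nat_lit 0) (nat_lit 280) = true := by
  apply allR_of_forall
  intro i hi
  have hi : i < 280 := hi
  rcases Nat.lt_or_ge i 21 with h0 | h0
  · exact allR_spec _ (0 : ℕ) (21 : ℕ) wk6_0 i (by omega) (by omega)
  rcases Nat.lt_or_ge i 42 with h1 | h1
  · exact allR_spec _ (21 : ℕ) (21 : ℕ) wk6_1 i (by omega) (by omega)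
  rcases Nat.lt_or_ge i 63 with h2 | h2
  · exact allR_spec _ (42 : ℕ) (21 : ℕ) wk6_2 i (by omega) (by omega)
  rcases Nat.lt_or_ge i 84 with h3 | h3
  · exact allR_spec _ (63 : ℕ) (21 : ℕ) wk6_3 i (by omega) (by omega)
  rcases Nat.lt_or_ge i 105 with h4 | h4
  · exact allR_spec _ (84 : ℕ) (21 : ℕ) wk6_4 i (by omega) (by omega)
  rcases Nat.lt_or_ge i 126 with h5 | h5
  · exact allR_spec _ (105 : ℕ) (21 : ℕ) wk6_5 i (by omega) (by omega)
  rcases Nat.lt_or_ge i 147 with h6 | h6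
  · exact allR_spec _ (126 : ℕ) (21 : ℕ) wk6_6 i (by omega) (by omega)
  rcases Nat.lt_or_ge i 168 with h7 | h7
  · exact allR_spec _ (147 : ℕ) (21 : ℕ) wk6_7 i (by omega) (by omega)
  rcases Nat.lt_or_ge i 189 with h8 | h8
  · exact allR_spec _ (168 : ℕ) (21 : ℕ) wk6_8 i (by omega) (by omega)
  rcases Nat.lt_or_ge i 210 with h9 | h9
  · exact allR_spec _ (189 : ℕ) (21 : ℕ) wk6_9 i (by omega) (by omega)
  rcases Nat.lt_or_ge i 231 with h10 | h10
  · exact allR_spec _ (210 : ℕ) (21 : ℕ) wk6_10 i (by omega) (by omega)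
  rcases Nat.lt_or_ge i 252 with h11 | h11
  · exact allR_spec _ (231 : ℕ) (21 : ℕ) wk6_11 i (by omega) (by omega)
  rcases Nat.lt_or_ge i 273 with h12 | h12
  · exact allR_spec _ (252 : ℕ) (21 : ℕ) wk6_12 i (by omega) (by omega)
  exact allR_spec _ (273 : ℕ) (7 : ℕ) wk6_13 i (by omega) (by omega)
theorem wk7 : allR (OT.ckEqW [X10] [X14]) (nat_lit 0) (nat_lit 280) = true := by
  apply allR_of_forall
  intro i hi
  have hi : i < 280 := hi
  rcases Nat.lt_or_ge i 140 with h0 | h0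
  · exact allR_spec _ (0 : ℕ) (140 : ℕ) wk7_0 i (by omega) (by omega)
  exact allR_spec _ (140 : ℕ) (140 : ℕ) wk7_1 i (by omega) (by omega)
theorem wk8 : allR (OT.ckEqW [X11, X0, X13, X10, X0, X0, X12, X1, X1] [X16]) (nat_lit 0) (nat_lit 280) = true := by
  apply allR_of_forall
  intro i hi
  have hi : i < 280 := hi
  rcases Nat.lt_or_ge i 28 with h0 | h0
  · exact allR_spec _ (0 : ℕ) (28 : ℕ) wk8_0 i (by omega) (by omega)
  rcases Nat.lt_or_ge i 56 with h1 | h1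
  · exact allR_spec _ (28 : ℕ) (28 : ℕ) wk8_1 i (by omega) (by omega)
  rcases Nat.lt_or_ge i 84 with h2 | h2
  · exact allR_spec _ (56 : ℕ) (28 : ℕ) wk8_2 i (by omega) (by omega)
  rcases Nat.lt_or_ge i 112 with h3 | h3
  · exact allR_spec _ (84 : ℕ) (28 : ℕ) wk8_3 i (by omega) (by omega)
  rcases Nat.lt_or_ge i 140 with h4 | h4
  · exact allR_spec _ (112 : ℕ) (28 : ℕ) wk8_4 i (by omega) (by omega)
  rcases Nat.lt_or_ge i 168 with h5 | h5
  · exact allR_spec _ (140 : ℕ) (28 : ℕ) wk8_5 i (by omega) (by omega)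
  rcases Nat.lt_or_ge i 196 with h6 | h6
  · exact allR_spec _ (168 : ℕ) (28 : ℕ) wk8_6 i (by omega) (by omega)
  rcases Nat.lt_or_ge i 224 with h7 | h7
  · exact allR_spec _ (196 : ℕ) (28 : ℕ) wk8_7 i (by omega) (by omega)
  rcases Nat.lt_or_ge i 252 with h8 | h8
  · exact allR_spec _ (224 : ℕ) (28 : ℕ) wk8_8 i (by omega) (by omega)
  exact allR_spec _ (252 : ℕ) (28 : ℕ) wk8_9 i (by omega) (by omega)
theorem wk9 : allR (OT.ckEqW [X11, X13, X1, X13, X0, X10, X0, X11] [X18]) (nat_lit 0) (nat_lit 280) = true := by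
  apply allR_of_forall
  intro i hi
  have hi : i < 280 := hi
  rcases Nat.lt_or_ge i 31 with h0 | h0
  · exact allR_spec _ (0 : ℕ) (31 : ℕ) wk9_0 i (by omega) (by omega)
  rcases Nat.lt_or_ge i 62 with h1 | h1
  · exact allR_spec _ (31 : ℕ) (31 : ℕ) wk9_1 i (by omega) (by omega)
  rcases Nat.lt_or_ge i 93 with h2 | h2
  · exact allR_spec _ (62 : ℕ) (31 : ℕ) wk9_2 i (by omega) (by omega)
  rcases Nat.lt_or_ge i 124 with h3 | h3
  · exact allR_spec _ (93 : ℕ) (31 : ℕ) wk9_3 i (by omega) (by omega)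
  rcases Nat.lt_or_ge i 155 with h4 | h4
  · exact allR_spec _ (124 : ℕ) (31 : ℕ) wk9_4 i (by omega) (by omega)
  rcases Nat.lt_or_ge i 186 with h5 | h5
  · exact allR_spec _ (155 : ℕ) (31 : ℕ) wk9_5 i (by omega) (by omega)
  rcases Nat.lt_or_ge i 217 with h6 | h6
  · exact allR_spec _ (186 : ℕ) (31 : ℕ) wk9_6 i (by omega) (by omega)
  rcases Nat.lt_or_ge i 248 with h7 | h7
  · exact allR_spec _ (217 : ℕ) (31 : ℕ) wk9_7 i (by omega) (by omega)
  rcases Nat.lt_or_ge i 279 with h8 | h8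
  · exact allR_spec _ (248 : ℕ) (31 : ℕ) wk9_8 i (by omega) (by omega)
  exact allR_spec _ (279 : ℕ) (1 : ℕ) wk9_9 i (by omega) (by omega)
theorem wk10 : allR (OT.ckEqW [X18, X16, X18, X18, X18, X16, X16, X19, X17, X17] [X20]) (nat_lit 0) (nat_lit 280) = true := by
  apply allR_of_forall
  intro i hi
  have hi : i < 280 := hi
  rcases Nat.lt_or_ge i 25 with h0 | h0
  · exact allR_spec _ (0 : ℕ) (25 : ℕ) wk10_0 i (by omega) (by omega)
  rcases Nat.lt_or_ge i 50 with h1 | h1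
  · exact allR_spec _ (25 : ℕ) (25 : ℕ) wk10_1 i (by omega) (by omega)
  rcases Nat.lt_or_ge i 75 with h2 | h2
  · exact allR_spec _ (50 : ℕ) (25 : ℕ) wk10_2 i (by omega) (by omega)
  rcases Nat.lt_or_ge i 100 with h3 | h3
  · exact allR_spec _ (75 : ℕ) (25 : ℕ) wk10_3 i (by omega) (by omega)
  rcases Nat.lt_or_ge i 125 with h4 | h4
  · exact allR_spec _ (100 : ℕ) (25 : ℕ) wk10_4 i (by omega) (by omega)
  rcases Nat.lt_or_ge i 150 with h5 | h5
  · exact allR_spec _ (125 : ℕ) (25 : ℕ) wk10_5 i (by omega) (by omega)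
  rcases Nat.lt_or_ge i 175 with h6 | h6
  · exact allR_spec _ (150 : ℕ) (25 : ℕ) wk10_6 i (by omega) (by omega)
  rcases Nat.lt_or_ge i 200 with h7 | h7
  · exact allR_spec _ (175 : ℕ) (25 : ℕ) wk10_7 i (by omega) (by omega)
  rcases Nat.lt_or_ge i 225 with h8 | h8
  · exact allR_spec _ (200 : ℕ) (25 : ℕ) wk10_8 i (by omega) (by omega)
  rcases Nat.lt_or_ge i 250 with h9 | h9
  · exact allR_spec _ (225 : ℕ) (25 : ℕ) wk10_9 i (by omega) (by omega)
  rcases Nat.lt_or_ge i 275 with h10 | h10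
  · exact allR_spec _ (250 : ℕ) (25 : ℕ) wk10_10 i (by omega) (by omega)
  exact allR_spec _ (275 : ℕ) (5 : ℕ) wk10_11 i (by omega) (by omega)
theorem wk11 : allR (OT.ckEqW [X16, X18, X16, X16, X19, X16, X19, X19] [X22]) (nat_lit 0) (nat_lit 280) = true := by
  apply allR_of_forall
  intro i hi
  have hi : i < 280 := hi
  rcases Nat.lt_or_ge i 31 with h0 | h0
  · exact allR_spec _ (0 : ℕ) (31 : ℕ) wk11_0 i (by omega) (by omega)
  rcases Nat.lt_or_ge i 62 with h1 | h1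
  · exact allR_spec _ (31 : ℕ) (31 : ℕ) wk11_1 i (by omega) (by omega)
  rcases Nat.lt_or_ge i 93 with h2 | h2
  · exact allR_spec _ (62 : ℕ) (31 : ℕ) wk11_2 i (by omega) (by omega)
  rcases Nat.lt_or_ge i 124 with h3 | h3
  · exact allR_spec _ (93 : ℕ) (31 : ℕ) wk11_3 i (by omega) (by omega)
  rcases Nat.lt_or_ge i 155 with h4 | h4
  · exact allR_spec _ (124 : ℕ) (31 : ℕ) wk11_4 i (by omega) (by omega)
  rcases Nat.lt_or_ge i 186 with h5 | h5
  · exact allR_spec _ (155 : ℕ) (31 : ℕ) wk11_5 i (by omega) (by omega)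
  rcases Nat.lt_or_ge i 217 with h6 | h6
  · exact allR_spec _ (186 : ℕ) (31 : ℕ) wk11_6 i (by omega) (by omega)
  rcases Nat.lt_or_ge i 248 with h7 | h7
  · exact allR_spec _ (217 : ℕ) (31 : ℕ) wk11_7 i (by omega) (by omega)
  rcases Nat.lt_or_ge i 279 with h8 | h8
  · exact allR_spec _ (248 : ℕ) (31 : ℕ) wk11_8 i (by omega) (by omega)
  exact allR_spec _ (279 : ℕ) (1 : ℕ) wk11_9 i (by omega) (by omega)
theorem wk12 : allR (OT.ckEqW [X0, X12, X11, X1, X12, X1] [X24]) (nat_lit 0) (nat_lit 280) = true := by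
  apply allR_of_forall
  intro i hi
  have hi : i < 280 := hi
  rcases Nat.lt_or_ge i 40 with h0 | h0
  · exact allR_spec _ (0 : ℕ) (40 : ℕ) wk12_0 i (by omega) (by omega)
  rcases Nat.lt_or_ge i 80 with h1 | h1
  · exact allR_spec _ (40 : ℕ) (40 : ℕ) wk12_1 i (by omega) (by omega)
  rcases Nat.lt_or_ge i 120 with h2 | h2
  · exact allR_spec _ (80 : ℕ) (40 : ℕ) wk12_2 i (by omega) (by omega)
  rcases Nat.lt_or_ge i 160 with h3 | h3
  · exact allR_spec _ (120 : ℕ) (40 : ℕ) wk12_3 i (by omega) (by omega)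
  rcases Nat.lt_or_ge i 200 with h4 | h4
  · exact allR_spec _ (160 : ℕ) (40 : ℕ) wk12_4 i (by omega) (by omega)
  rcases Nat.lt_or_ge i 240 with h5 | h5
  · exact allR_spec _ (200 : ℕ) (40 : ℕ) wk12_5 i (by omega) (by omega)
  exact allR_spec _ (240 : ℕ) (40 : ℕ) wk12_6 i (by omega) (by omega)
theorem wk13 : allR (OT.ckEqW [X12, X0, X11, X12, X0, X0, X12, X1, X1] [X26]) (nat_lit 0) (nat_lit 280) = true := by
  apply allR_of_forall
  intro i hi
  have hi : i < 280 := hi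
  rcases Nat.lt_or_ge i 28 with h0 | h0
  · exact allR_spec _ (0 : ℕ) (28 : ℕ) wk13_0 i (by omega) (by omega)
  rcases Nat.lt_or_ge i 56 with h1 | h1
  · exact allR_spec _ (28 : ℕ) (28 : ℕ) wk13_1 i (by omega) (by omega)
  rcases Nat.lt_or_ge i 84 with h2 | h2
  · exact allR_spec _ (56 : ℕ) (28 : ℕ) wk13_2 i (by omega) (by omega)
  rcases Nat.lt_or_ge i 112 with h3 | h3
  · exact allR_spec _ (84 : ℕ) (28 : ℕ) wk13_3 i (by omega) (by omega)
  rcases Nat.lt_or_ge i 140 with h4 | h4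
  · exact allR_spec _ (112 : ℕ) (28 : ℕ) wk13_4 i (by omega) (by omega)
  rcases Nat.lt_or_ge i 168 with h5 | h5
  · exact allR_spec _ (140 : ℕ) (28 : ℕ) wk13_5 i (by omega) (by omega)
  rcases Nat.lt_or_ge i 196 with h6 | h6
  · exact allR_spec _ (168 : ℕ) (28 : ℕ) wk13_6 i (by omega) (by omega)
  rcases Nat.lt_or_ge i 224 with h7 | h7
  · exact allR_spec _ (196 : ℕ) (28 : ℕ) wk13_7 i (by omega) (by omega)
  rcases Nat.lt_or_ge i 252 with h8 | h8
  · exact allR_spec _ (224 : ℕ) (28 : ℕ) wk13_8 i (by omega) (by omega)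
  exact allR_spec _ (252 : ℕ) (28 : ℕ) wk13_9 i (by omega) (by omega)
theorem wk14 : allR (OT.ckEqW [X26, X25, X25, X25, X26, X24, X27, X25, X27] [X28]) (nat_lit 0) (nat_lit 280) = true := by
  apply allR_of_forall
  intro i hi
  have hi : i < 280 := hi
  rcases Nat.lt_or_ge i 28 with h0 | h0
  · exact allR_spec _ (0 : ℕ) (28 : ℕ) wk14_0 i (by omega) (by omega)
  rcases Nat.lt_or_ge i 56 with h1 | h1
  · exact allR_spec _ (28 : ℕ) (28 : ℕ) wk14_1 i (by omega) (by omega)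
  rcases Nat.lt_or_ge i 84 with h2 | h2
  · exact allR_spec _ (56 : ℕ) (28 : ℕ) wk14_2 i (by omega) (by omega)
  rcases Nat.lt_or_ge i 112 with h3 | h3
  · exact allR_spec _ (84 : ℕ) (28 : ℕ) wk14_3 i (by omega) (by omega)
  rcases Nat.lt_or_ge i 140 with h4 | h4
  · exact allR_spec _ (112 : ℕ) (28 : ℕ) wk14_4 i (by omega) (by omega)
  rcases Nat.lt_or_ge i 168 with h5 | h5
  · exact allR_spec _ (140 : ℕ) (28 : ℕ) wk14_5 i (by omega) (by omega)
  rcases Nat.lt_or_ge i 196 with h6 | h6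
  · exact allR_spec _ (168 : ℕ) (28 : ℕ) wk14_6 i (by omega) (by omega)
  rcases Nat.lt_or_ge i 224 with h7 | h7
  · exact allR_spec _ (196 : ℕ) (28 : ℕ) wk14_7 i (by omega) (by omega)
  rcases Nat.lt_or_ge i 252 with h8 | h8
  · exact allR_spec _ (224 : ℕ) (28 : ℕ) wk14_8 i (by omega) (by omega)
  exact allR_spec _ (252 : ℕ) (28 : ℕ) wk14_9 i (by omega) (by omega)
theorem wk15 : allR (OT.ckEqW [X24, X26, X25, X27, X27] [X30]) (nat_lit 0) (nat_lit 280) = true := by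
  apply allR_of_forall
  intro i hi
  have hi : i < 280 := hi
  rcases Nat.lt_or_ge i 46 with h0 | h0
  · exact allR_spec _ (0 : ℕ) (46 : ℕ) wk15_0 i (by omega) (by omega)
  rcases Nat.lt_or_ge i 92 with h1 | h1
  · exact allR_spec _ (46 : ℕ) (46 : ℕ) wk15_1 i (by omega) (by omega)
  rcases Nat.lt_or_ge i 138 with h2 | h2
  · exact allR_spec _ (92 : ℕ) (46 : ℕ) wk15_2 i (by omega) (by omega)
  rcases Nat.lt_or_ge i 184 with h3 | h3
  · exact allR_spec _ (138 : ℕ) (46 : ℕ) wk15_3 i (by omega) (by omega)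
  rcases Nat.lt_or_ge i 230 with h4 | h4
  · exact allR_spec _ (184 : ℕ) (46 : ℕ) wk15_4 i (by omega) (by omega)
  rcases Nat.lt_or_ge i 276 with h5 | h5
  · exact allR_spec _ (230 : ℕ) (46 : ℕ) wk15_5 i (by omega) (by omega)
  exact allR_spec _ (276 : ℕ) (4 : ℕ) wk15_6 i (by omega) (by omega)
def bws : List (List Nat) := [[0, 1, 2, 1, 3, 2, 1, 3, 4], [1, 2, 3], [0, 3], [9, 7, 7, 7, 9, 7, 7, 10, 8, 9, 7, 7, 7, 7, 10, 8, 10, 7, 7, 7], [9], [11, 13, 11, 13, 8, 8, 9, 6, 0, 6, 1, 2], [11, 13, 11, 8, 8, 8, 9, 7, 9, 8, 6, 3], [15], [16, 5, 18, 15, 5, 5, 17, 6, 6], [16, 18, 6, 18, 5, 15, 5, 16], [23, 21, 23, 23, 23, 21, 21, 24, 22, 22], [21, 23, 21, 21, 24, 21, 24, 24], [5, 17, 16, 6, 17, 6], [17, 5, 16, 17, 5, 5, 17, 6, 6], [31, 30, 30, 30, 31, 29, 32, 30, 32], [29, 31, 30, 32, 32]]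
noncomputable def T' : Nat → Nat → Nat := fun l => (@Nat.rec (fun _ => Nat → Nat) T0 (fun l _ => (@Nat.rec (fun _ => Nat → Nat) T1 (fun l _ => (@Nat.rec (fun _ => Nat → Nat) T2 (fun l _ => (@Nat.rec (fun _ => Nat → Nat) T3 (fun l _ => (@Nat.rec (fun _ => Nat → Nat) T4 (fun l _ => (@Nat.rec (fun _ => Nat → Nat) X0 (fun l _ => (@Nat.rec (fun _ => Nat → Nat) X1 (fun l _ => (@Nat.rec (fun _ => Nat → Nat) X2 (fun l _ => (@Nat.rec (fun _ => Nat → Nat) X3 (fun l _ => (@Nat.rec (fun _ => Nat → Nat) X4 (fun l _ => (@Nat.rec (fun _ => Nat → Nat) X5 (fun l _ => (@Nat.rec (fun _ => Nat → Nat) X6 (fun l _ => (@Nat.rec (fun _ => Nat → Nat) X7 (fun l _ => (@Nat.rec (fun _ => Nat → Nat) X8 (fun l _ => (@Nat.rec (fun _ => Nat → Nat) X9 (fun l _ => (@Nat.rec (fun _ => Nat → Nat) X10 (fun l _ => (@Nat.rec (fun _ => Nat → Nat) X11 (fun l _ => (@Nat.rec (fun _ => Nat → Nat) X12 (fun l _ => (@Nat.rec (fun _ => Nat → Nat) X13 (fun l _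 => (@Nat.rec (fun _ => Nat → Nat) X14 (fun l _ => (@Nat.rec (fun _ => Nat → Nat) X15 (fun l _ => (@Nat.rec (fun _ => Nat → Nat) X16 (fun l _ => (@Nat.rec (fun _ => Nat → Nat) X17 (fun l _ => (@Nat.rec (fun _ => Nat → Nat) X18 (fun l _ => (@Nat.rec (fun _ => Nat → Nat) X19 (fun l _ => (@Nat.rec (fun _ => Nat → Nat) X20 (fun l _ => (@Nat.rec (fun _ => Nat → Nat) X21 (fun l _ => (@Nat.rec (fun _ => Nat → Nat) X22 (fun l _ => (@Nat.rec (fun _ => Nat → Nat) X23 (fun l _ => (@Nat.rec (fun _ => Nat → Nat) X24 (fun l _ => (@Nat.rec (fun _ => Nat → Nat) X25 (fun l _ => (@Nat.rec (fun _ => Nat → Nat) X26 (fun l _ => (@Nat.rec (fun _ => Nat → Nat) X27 (fun l _ => (@Nat.rec (fun _ => Nat → Nat) X28 (fun l _ => (@Nat.rec (fun _ => Nat → Nat) X29 (fun l _ => (@Nat.rec (fun _ => Nat → Nat) X30 (fun l _ => X31) l)) l)) l)) l)) l)) l)) l)) l)) l)) l)) l)) l)) l)) l)) l)) l)) l)) l)) l)) l)) l)) l)) l)) l)) l)) l)) l)) l)) l)) l))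 l)) l)) l)) l)) l)) l)
def inv' : Nat → Nat := fun l => [0, 1, 2, 3, 4, 6, 5, 8, 7, 10, 9, 12, 11, 14, 13, 16, 15, 18, 17, 20, 19, 22, 21, 24, 23, 26, 25, 28, 27, 30, 29, 32, 31, 34, 33, 36, 35].getD l 0

theorem hTT : ∀ l < 5, T' l = Cfsg.Agent.H8.J2t.T l := by
  intro l hl
  interval_cases l <;> rfl

theorem hii : ∀ l < 5, inv' l = Cfsg.Agent.H8.J2t.inv l := by
  intro l hl
  interval_cases l <;> rfl

theorem h1 : ∀ l, 5 ≤ l → l < 37 → inv' l < 37 ∧ inv' (inv' l) = l := by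
  intro l h1 h2
  interval_cases l <;> decide

theorem h2 : ∀ l, 5 ≤ l → l < 37 → ∀ i < 280, T' l i < 280 ∧ T' (inv' l) (T' l i) = i := by
  intro l h1 h2 i hi
  interval_cases l
  · exact ckPerm_sound _ _ _ _ (allR_zero _ _ pk0 i hi)
  · exact ckPerm_sound _ _ _ _ (allR_zero _ _ pk1 i hi)
  · exact ckPerm_sound _ _ _ _ (allR_zero _ _ pk2 i hi)
  · exact ckPerm_sound _ _ _ _ (allR_zero _ _ pk3 i hi)
  · exact ckPerm_sound _ _ _ _ (allR_zero _ _ pk4 i hi)
  · exact ckPerm_sound _ _ _ _ (allR_zero _ _ pk5 i hi)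
  · exact ckPerm_sound _ _ _ _ (allR_zero _ _ pk6 i hi)
  · exact ckPerm_sound _ _ _ _ (allR_zero _ _ pk7 i hi)
  · exact ckPerm_sound _ _ _ _ (allR_zero _ _ pk8 i hi)
  · exact ckPerm_sound _ _ _ _ (allR_zero _ _ pk9 i hi)
  · exact ckPerm_sound _ _ _ _ (allR_zero _ _ pk10 i hi)
  · exact ckPerm_sound _ _ _ _ (allR_zero _ _ pk11 i hi)
  · exact ckPerm_sound _ _ _ _ (allR_zero _ _ pk12 i hi)
  · exact ckPerm_sound _ _ _ _ (allR_zero _ _ pk13 i hi)
  · exact ckPerm_sound _ _ _ _ (allR_zero _ _ pk14 i hi)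
  · exact ckPerm_sound _ _ _ _ (allR_zero _ _ pk15 i hi)
  · exact ckPerm_sound _ _ _ _ (allR_zero _ _ pk16 i hi)
  · exact ckPerm_sound _ _ _ _ (allR_zero _ _ pk17 i hi)
  · exact ckPerm_sound _ _ _ _ (allR_zero _ _ pk18 i hi)
  · exact ckPerm_sound _ _ _ _ (allR_zero _ _ pk19 i hi)
  · exact ckPerm_sound _ _ _ _ (allR_zero _ _ pk20 i hi)
  · exact ckPerm_sound _ _ _ _ (allR_zero _ _ pk21 i hi)
  · exact ckPerm_sound _ _ _ _ (allR_zero _ _ pk22 i hi)
  · exact ckPerm_sound _ _ _ _ (allR_zero _ _ pk23 i hi)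
  · exact ckPerm_sound _ _ _ _ (allR_zero _ _ pk24 i hi)
  · exact ckPerm_sound _ _ _ _ (allR_zero _ _ pk25 i hi)
  · exact ckPerm_sound _ _ _ _ (allR_zero _ _ pk26 i hi)
  · exact ckPerm_sound _ _ _ _ (allR_zero _ _ pk27 i hi)
  · exact ckPerm_sound _ _ _ _ (allR_zero _ _ pk28 i hi)
  · exact ckPerm_sound _ _ _ _ (allR_zero _ _ pk29 i hi)
  · exact ckPerm_sound _ _ _ _ (allR_zero _ _ pk30 i hi)
  · exact ckPerm_sound _ _ _ _ (allR_zero _ _ pk31 i hi)

theorem tok : TableOK 280 37 T' inv' :=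
  OT.tableOK_ext Cfsg.Agent.H8.J2t.tok (by decide) hTT hii h1 h2

theorem hwb : ∀ i < bws.length, (∀ l ∈ bws.getD i [], l < 5 + 2 * i) ∧ inv' (5 + 2 * i) = 5 + 2 * i + 1 ∧
    ∀ j < 280, trN T' (bws.getD i []) j = T' (5 + 2 * i) j := by
  intro i hi
  have hl : bws.length = 16 := by decide
  rw [hl] at hi
  interval_cases i
  · exact ⟨by decide, by decide, fun j hj => OT.ckEqW_sound (T := T') [0, 1, 2, 1, 3, 2, 1, 3, 4] [5] j (allR_zero _ _ wk0 j hj)⟩
  · exact ⟨by decide, by decide, fun j hj => OT.ckEqW_sound (T := T') [1, 2, 3] [7] j (allR_zero _ _ wk1 j hj)⟩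
  · exact ⟨by decide, by decide, fun j hj => OT.ckEqW_sound (T := T') [0, 3] [9] j (allR_zero _ _ wk2 j hj)⟩
  · exact ⟨by decide, by decide, fun j hj => OT.ckEqW_sound (T := T') [9, 7, 7, 7, 9, 7, 7, 10, 8, 9, 7, 7, 7, 7, 10, 8, 10, 7, 7, 7] [11] j (allR_zero _ _ wk3 j hj)⟩
  · exact ⟨by decide, by decide, fun j hj => OT.ckEqW_sound (T := T') [9] [13] j (allR_zero _ _ wk4 j hj)⟩
  · exact ⟨by decide, by decide, fun j hj => OT.ckEqW_sound (T := T') [11, 13, 11, 13, 8, 8, 9, 6, 0, 6, 1, 2] [15] j (allR_zero _ _ wk5 j hj)⟩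
  · exact ⟨by decide, by decide, fun j hj => OT.ckEqW_sound (T := T') [11, 13, 11, 8, 8, 8, 9, 7, 9, 8, 6, 3] [17] j (allR_zero _ _ wk6 j hj)⟩
  · exact ⟨by decide, by decide, fun j hj => OT.ckEqW_sound (T := T') [15] [19] j (allR_zero _ _ wk7 j hj)⟩
  · exact ⟨by decide, by decide, fun j hj => OT.ckEqW_sound (T := T') [16, 5, 18, 15, 5, 5, 17, 6, 6] [21] j (allR_zero _ _ wk8 j hj)⟩
  · exact ⟨by decide, by decide, fun j hj => OT.ckEqW_sound (T := T') [16, 18, 6, 18, 5, 15, 5, 16] [23] j (allR_zero _ _ wk9 j hj)⟩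
  · exact ⟨by decide, by decide, fun j hj => OT.ckEqW_sound (T := T') [23, 21, 23, 23, 23, 21, 21, 24, 22, 22] [25] j (allR_zero _ _ wk10 j hj)⟩
  · exact ⟨by decide, by decide, fun j hj => OT.ckEqW_sound (T := T') [21, 23, 21, 21, 24, 21, 24, 24] [27] j (allR_zero _ _ wk11 j hj)⟩
  · exact ⟨by decide, by decide, fun j hj => OT.ckEqW_sound (T := T') [5, 17, 16, 6, 17, 6] [29] j (allR_zero _ _ wk12 j hj)⟩
  · exact ⟨by decide, by decide, fun j hj => OT.ckEqW_sound (T := T') [17, 5, 16, 17, 5, 5, 17, 6, 6] [31] j (allR_zero _ _ wk13 j hj)⟩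
  · exact ⟨by decide, by decide, fun j hj => OT.ckEqW_sound (T := T') [31, 30, 30, 30, 31, 29, 32, 30, 32] [33] j (allR_zero _ _ wk14 j hj)⟩
  · exact ⟨by decide, by decide, fun j hj => OT.ckEqW_sound (T := T') [29, 31, 30, 32, 32] [35] j (allR_zero _ _ wk15 j hj)⟩

end Cfsg.Agent.H8.J2O
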