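import Cfsg.Agent.H8.T.McLOa

set_option Elab.async false
set_option autoImplicit false
set_option linter.all false
set_option maxRecDepth 100000
set_option maxHeartbeats 400000

namespace Cfsg.Agent.H8.McLO
open Cfsg.Agent.H8.LtM (T0 T1 T2)

noncomputable def FQ0c0 : Nat := nat_lit 0xa102ab3a8ca15087858428b469c58b0e0d4c35125284d7253ab5225188d2ad1c34e842c3420d4a302032c1160d0870d864c1072d2a9418d5a3520b5ab0a2658746ac0a916864a9432d1a3130c1a98dae0a9422546bd61d58352a638b130d581911e5a3560c0ab132618b53242c186ad4a951851ab16ad14182831a94b045a592862a9898d08303044619592263860d2cb4b241a3462c1a1130b0ab5605487862c0aace0d58b4ea518946ad1c145a4469121c08b428d5a9472d56902ac5a9108608b4f2508b459a5a34eae481550c4ab468e4a94b2d4c956251c752ae1cad6254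
noncomputable def FQ0c1 : Nat := nat_lit 0x192153a1029d1ab570d2e542a64a6d22d3
noncomputable def FQ0 : Nat → Nat := (fun h => @Nat.rec (fun _ => Nat → Nat)
 (fun i => Nat.land (Nat.shiftRight FQ0c0 (Nat.mul (nat_lit 7) (Nat.land i (nat_lit 255)))) (nat_lit 127))
 (fun _ _ => (fun i => Nat.land (Nat.shiftRight FQ0c1 (Nat.mul (nat_lit 7) (Nat.land i (nat_lit 255)))) (nat_lit 127))) (Nat.land h (nat_lit 256)) h)
theorem Fr0 : allR (ckReach FQ0 [[X0], [X1], [X18], [X19], [X20], [X21], [X24], [X25], [X26], [X27], [X28], [X29], [X30], [X31], [X32], [X33], [X34], [X35], [X36], [X37], [X38], [X39]] (nat_lit 37)) (nat_lit 0) (nat_lit 275) = true := by decide +kernel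
theorem Fc0 : cntT FQ0 (nat_lit 275) (nat_lit 275) (nat_lit 0) = true := by decide +kernel
def FG0 : List (List Nat) := [[3], [4], [21], [22], [23], [24], [27], [28], [29], [30], [31], [32], [33], [34], [35], [36], [37], [38], [39], [40], [41], [42]]
noncomputable def FQ1c0 : Nat := nat_lit 0x18a863c504000e4029d200000000000051018a88000c40000000051a00000000028e1a74b0d201480610000042c38b1e101ce00084ca1d2c70e9e30181800a40305300000000103141830b1e3c1431d1a1419400000063474710001440000000800c60310001800000000053c686053c544060c104000a1079d00144062620318060030d300019d200019b101828a200029e30100072a6800610000000e60000001080508100073c40000001821c1854a9e0a54f180a740000c78a800c140032c543862a543163a588000c18b1e3a34f15085ca9510147900874a9c100021c3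
noncomputable def FQ1c1 : Nat := nat_lit 0x43000310000031800184030014c000
noncomputable def FQ1 : Nat → Nat := (fun h => @Nat.rec (fun _ => Nat → Nat)
 (fun i => Nat.land (Nat.shiftRight FQ1c0 (Nat.mul (nat_lit 7) (Nat.land i (nat_lit 255)))) (nat_lit 127))
 (fun _ _ => (fun i => Nat.land (Nat.shiftRight FQ1c1 (Nat.mul (nat_lit 7) (Nat.land i (nat_lit 255)))) (nat_lit 127))) (Nat.land h (nat_lit 256)) h)
theorem Fr1 : allR (ckReach FQ1 [[X24], [X25], [X26], [X27], [X28], [X29], [X30], [X31], [X32], [X33], [X34], [X35], [X36], [X37], [X38], [X39]] (nat_lit 145)) (nat_lit 0) (nat_lit 275) = true := by decide +kernel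
theorem Fc1 : cntT FQ1 (nat_lit 162) (nat_lit 275) (nat_lit 0) = true := by decide +kernel
def FG1 : List (List Nat) := [[27], [28], [29], [30], [31], [32], [33], [34], [35], [36], [37], [38], [39], [40], [41], [42]]
noncomputable def FQ2c0 : Nat := nat_lit 0x53018c00000020f100000000000043010208001480000000041000000000028b100000630180042000000087400000003180a348000a002850014800000029c300000000108000010f08000019e3a34d8500000000a003080014c0000000000a40310001440000000000a28c051c400000018800081830800000050c201800800305000010510002951000005000030400000000c54804200000008400000004000000000220000000010605364038520188000a544000a140000a18000000000610002840a108000c50e151000308060c69b2010698000c80520001080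
noncomputable def FQ2c1 : Nat := nat_lit 0x52000188000029000188041018c000
noncomputable def FQ2 : Nat → Nat := (fun h => @Nat.rec (fun _ => Nat → Nat)
 (fun i => Nat.land (Nat.shiftRight FQ2c0 (Nat.mul (nat_lit 7) (Nat.land i (nat_lit 255)))) (nat_lit 127))
 (fun _ _ => (fun i => Nat.land (Nat.shiftRight FQ2c1 (Nat.mul (nat_lit 7) (Nat.land i (nat_lit 255)))) (nat_lit 127))) (Nat.land h (nat_lit 256)) h)
theorem Fr2 : allR (ckReach FQ2 [[X28], [X29], [X30], [X31], [X32], [X33], [X34], [X35], [X36], [X37], [X38], [X39]] (nat_lit 70)) (nat_lit 0) (nat_lit 275) = true := by decide +kernel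
theorem Fc2 : cntT FQ2 (nat_lit 105) (nat_lit 275) (nat_lit 0) = true := by decide +kernel
def FG2 : List (List Nat) := [[31], [32], [33], [34], [35], [36], [37], [38], [39], [40], [41], [42]]
noncomputable def FQ3c0 : Nat := nat_lit 0x215000000000000033010a90001400000000022000000000000000000000010803100000000000000000220001040006201a0000c000000029d0000000000000000002080000004001020520000000880000000000000000000000100000000000000000a80000000000000000000869180000000518202100660224100020b4000083400000430000053000000001080430000000a8000000000000000000000000000084040800003200000000000000870c000a5080000000000000184147500000002000000208062c80000002880010c0000002200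
noncomputable def FQ3c1 : Nat := nat_lit 0x3200000000000000000004400d0000
noncomputable def FQ3 : Nat → Nat := (fun h => @Nat.rec (fun _ => Nat → Nat)
 (fun i => Nat.land (Nat.shiftRight FQ3c0 (Nat.mul (nat_lit 7) (Nat.land i (nat_lit 255)))) (nat_lit 127))
 (fun _ _ => (fun i => Nat.land (Nat.shiftRight FQ3c1 (Nat.mul (nat_lit 7) (Nat.land i (nat_lit 255)))) (nat_lit 127))) (Nat.land h (nat_lit 256)) h)
theorem Fr3 : allR (ckReach FQ3 [[X32], [X33], [X34], [X35], [X36], [X37], [X38], [X39]] (nat_lit 97)) (nat_lit 0) (nat_lit 275) = true := by decide +kernel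
theorem Fc3 : cntT FQ3 (nat_lit 64) (nat_lit 275) (nat_lit 0) = true := by decide +kernel
def FG3 : List (List Nat) := [[35], [36], [37], [38], [39], [40], [41], [42]]
noncomputable def FQ4c0 : Nat := nat_lit 0x10000000000000000000000000000000000000000000000000000000000000000020000000000000000000000000000000000000000000000000000000000000000000000000000000
noncomputable def FQ4c1 : Nat := nat_lit 0x21000000
noncomputable def FQ4 : Nat → Nat := (fun h => @Nat.rec (fun _ => Nat → Nat)
 (fun i => Nat.land (Nat.shiftRight FQ4c0 (Nat.mul (nat_lit 6) (Nat.land i (nat_lit 255)))) (nat_lit 63))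
 (fun _ _ => (fun i => Nat.land (Nat.shiftRight FQ4c1 (Nat.mul (nat_lit 6) (Nat.land i (nat_lit 255)))) (nat_lit 63))) (Nat.land h (nat_lit 256)) h)
theorem Fr4 : allR (ckReach FQ4 [[X38], [X39]] (nat_lit 96)) (nat_lit 0) (nat_lit 275) = true := by decide +kernel
theorem Fc4 : cntT FQ4 (nat_lit 3) (nat_lit 275) (nat_lit 0) = true := by decide +kernel
def FG4 : List (List Nat) := [[41], [42]]
noncomputable def FK4 : List Nat → Bool := levF FQ4 [[X38], [X39]] (nat_lit 96) (fun _ => false) (nat_lit 8)
noncomputable def FK3 : List Nat → Bool := levF FQ3 [[X32], [X33], [X34], [X35], [X36], [X37], [X38], [X39]] (nat_lit 97) FK4 (nat_lit 8)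
noncomputable def FK2 : List Nat → Bool := levF FQ2 [[X28], [X29], [X30], [X31], [X32], [X33], [X34], [X35], [X36], [X37], [X38], [X39]] (nat_lit 70) FK3 (nat_lit 8)
noncomputable def FK1 : List Nat → Bool := levF FQ1 [[X24], [X25], [X26], [X27], [X28], [X29], [X30], [X31], [X32], [X33], [X34], [X35], [X36], [X37], [X38], [X39]] (nat_lit 145) FK2 (nat_lit 8)
noncomputable def FK0 : List Nat → Bool := levF FQ0 [[X0], [X1], [X18], [X19], [X20], [X21], [X24], [X25], [X26], [X27], [X28], [X29], [X30], [X31], [X32], [X33], [X34], [X35], [X36], [X37], [X38], [X39]] (nat_lit 37) FK1 (nat_lit 8)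
theorem FS : allR (OT.ckCand [X22] (nat_lit 5) FK0 [1, 2, 9, 28, 37]) (nat_lit 0) (nat_lit 275) = true := by decide +kernel

end Cfsg.Agent.H8.McLO
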