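import Cfsg.Agent.H8.T.McLOc0
import Cfsg.Agent.H8.CosetGlue
import Cfsg.Agent.H8.T.LtM

set_option Elab.async false
set_option autoImplicit false
set_option linter.all false
set_option maxRecDepth 100000
set_option maxHeartbeats 400000

namespace Cfsg.Agent.H8.McLO
open Cfsg.Agent.H8.LtM (T0 T1 T2)

theorem pk0 : allR (ckPerm (nat_lit 275) X0 X1) (nat_lit 0) (nat_lit 275) = true := by
  apply allR_of_forall
  intro i hi
  have hi : i < 275 := hi
  rcases Nat.lt_or_ge i 137 with h0 | h0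
  · exact allR_spec _ (0 : ℕ) (137 : ℕ) pk0_0 i (by omega) (by omega)
  rcases Nat.lt_or_ge i 274 with h1 | h1
  · exact allR_spec _ (137 : ℕ) (137 : ℕ) pk0_1 i (by omega) (by omega)
  exact allR_spec _ (274 : ℕ) (1 : ℕ) pk0_2 i (by omega) (by omega)
theorem pk1 : allR (ckPerm (nat_lit 275) X1 X0) (nat_lit 0) (nat_lit 275) = true := by
  apply allR_of_forall
  intro i hi
  have hi : i < 275 := hi
  rcases Nat.lt_or_ge i 137 with h0 | h0
  · exact allR_spec _ (0 : ℕ) (137 : ℕ) pk1_0 i (by omega) (by omega)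
  rcases Nat.lt_or_ge i 274 with h1 | h1
  · exact allR_spec _ (137 : ℕ) (137 : ℕ) pk1_1 i (by omega) (by omega)
  exact allR_spec _ (274 : ℕ) (1 : ℕ) pk1_2 i (by omega) (by omega)
theorem pk2 : allR (ckPerm (nat_lit 275) X2 X3) (nat_lit 0) (nat_lit 275) = true := by
  apply allR_of_forall
  intro i hi
  have hi : i < 275 := hi
  rcases Nat.lt_or_ge i 137 with h0 | h0
  · exact allR_spec _ (0 : ℕ) (137 : ℕ) pk2_0 i (by omega) (by omega)
  rcases Nat.lt_or_ge i 274 with h1 | h1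
  · exact allR_spec _ (137 : ℕ) (137 : ℕ) pk2_1 i (by omega) (by omega)
  exact allR_spec _ (274 : ℕ) (1 : ℕ) pk2_2 i (by omega) (by omega)
theorem pk3 : allR (ckPerm (nat_lit 275) X3 X2) (nat_lit 0) (nat_lit 275) = true := by
  apply allR_of_forall
  intro i hi
  have hi : i < 275 := hi
  rcases Nat.lt_or_ge i 137 with h0 | h0
  · exact allR_spec _ (0 : ℕ) (137 : ℕ) pk3_0 i (by omega) (by omega)
  rcases Nat.lt_or_ge i 274 with h1 | h1
  · exact allR_spec _ (137 : ℕ) (137 : ℕ) pk3_1 i (by omega) (by omega)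
  exact allR_spec _ (274 : ℕ) (1 : ℕ) pk3_2 i (by omega) (by omega)
theorem pk4 : allR (ckPerm (nat_lit 275) X4 X5) (nat_lit 0) (nat_lit 275) = true := by
  apply allR_of_forall
  intro i hi
  have hi : i < 275 := hi
  rcases Nat.lt_or_ge i 137 with h0 | h0
  · exact allR_spec _ (0 : ℕ) (137 : ℕ) pk4_0 i (by omega) (by omega)
  rcases Nat.lt_or_ge i 274 with h1 | h1
  · exact allR_spec _ (137 : ℕ) (137 : ℕ) pk4_1 i (by omega) (by omega)
  exact allR_spec _ (274 : ℕ) (1 : ℕ) pk4_2 i (by omega) (by omega)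
theorem pk5 : allR (ckPerm (nat_lit 275) X5 X4) (nat_lit 0) (nat_lit 275) = true := by
  apply allR_of_forall
  intro i hi
  have hi : i < 275 := hi
  rcases Nat.lt_or_ge i 137 with h0 | h0
  · exact allR_spec _ (0 : ℕ) (137 : ℕ) pk5_0 i (by omega) (by omega)
  rcases Nat.lt_or_ge i 274 with h1 | h1
  · exact allR_spec _ (137 : ℕ) (137 : ℕ) pk5_1 i (by omega) (by omega)
  exact allR_spec _ (274 : ℕ) (1 : ℕ) pk5_2 i (by omega) (by omega)
theorem pk6 : allR (ckPerm (nat_lit 275) X6 X7) (nat_lit 0) (nat_lit 275) = true := by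
  apply allR_of_forall
  intro i hi
  have hi : i < 275 := hi
  rcases Nat.lt_or_ge i 137 with h0 | h0
  · exact allR_spec _ (0 : ℕ) (137 : ℕ) pk6_0 i (by omega) (by omega)
  rcases Nat.lt_or_ge i 274 with h1 | h1
  · exact allR_spec _ (137 : ℕ) (137 : ℕ) pk6_1 i (by omega) (by omega)
  exact allR_spec _ (274 : ℕ) (1 : ℕ) pk6_2 i (by omega) (by omega)
theorem pk7 : allR (ckPerm (nat_lit 275) X7 X6) (nat_lit 0) (nat_lit 275) = true := by
  apply allR_of_forall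
  intro i hi
  have hi : i < 275 := hi
  rcases Nat.lt_or_ge i 137 with h0 | h0
  · exact allR_spec _ (0 : ℕ) (137 : ℕ) pk7_0 i (by omega) (by omega)
  rcases Nat.lt_or_ge i 274 with h1 | h1
  · exact allR_spec _ (137 : ℕ) (137 : ℕ) pk7_1 i (by omega) (by omega)
  exact allR_spec _ (274 : ℕ) (1 : ℕ) pk7_2 i (by omega) (by omega)
theorem pk8 : allR (ckPerm (nat_lit 275) X8 X9) (nat_lit 0) (nat_lit 275) = true := by
  apply allR_of_forall
  intro i hi
  have hi : i < 275 := hi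
  rcases Nat.lt_or_ge i 137 with h0 | h0
  · exact allR_spec _ (0 : ℕ) (137 : ℕ) pk8_0 i (by omega) (by omega)
  rcases Nat.lt_or_ge i 274 with h1 | h1
  · exact allR_spec _ (137 : ℕ) (137 : ℕ) pk8_1 i (by omega) (by omega)
  exact allR_spec _ (274 : ℕ) (1 : ℕ) pk8_2 i (by omega) (by omega)
theorem pk9 : allR (ckPerm (nat_lit 275) X9 X8) (nat_lit 0) (nat_lit 275) = true := by
  apply allR_of_forall
  intro i hi
  have hi : i < 275 := hi
  rcases Nat.lt_or_ge i 137 with h0 | h0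
  · exact allR_spec _ (0 : ℕ) (137 : ℕ) pk9_0 i (by omega) (by omega)
  rcases Nat.lt_or_ge i 274 with h1 | h1
  · exact allR_spec _ (137 : ℕ) (137 : ℕ) pk9_1 i (by omega) (by omega)
  exact allR_spec _ (274 : ℕ) (1 : ℕ) pk9_2 i (by omega) (by omega)
theorem pk10 : allR (ckPerm (nat_lit 275) X10 X11) (nat_lit 0) (nat_lit 275) = true := by
  apply allR_of_forall
  intro i hi
  have hi : i < 275 := hi
  rcases Nat.lt_or_ge i 137 with h0 | h0
  · exact allR_spec _ (0 : ℕ) (137 : ℕ) pk10_0 i (by omega) (by omega)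
  rcases Nat.lt_or_ge i 274 with h1 | h1
  · exact allR_spec _ (137 : ℕ) (137 : ℕ) pk10_1 i (by omega) (by omega)
  exact allR_spec _ (274 : ℕ) (1 : ℕ) pk10_2 i (by omega) (by omega)
theorem pk11 : allR (ckPerm (nat_lit 275) X11 X10) (nat_lit 0) (nat_lit 275) = true := by
  apply allR_of_forall
  intro i hi
  have hi : i < 275 := hi
  rcases Nat.lt_or_ge i 137 with h0 | h0
  · exact allR_spec _ (0 : ℕ) (137 : ℕ) pk11_0 i (by omega) (by omega)
  rcases Nat.lt_or_ge i 274 with h1 | h1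
  · exact allR_spec _ (137 : ℕ) (137 : ℕ) pk11_1 i (by omega) (by omega)
  exact allR_spec _ (274 : ℕ) (1 : ℕ) pk11_2 i (by omega) (by omega)
theorem pk12 : allR (ckPerm (nat_lit 275) X12 X13) (nat_lit 0) (nat_lit 275) = true := by
  apply allR_of_forall
  intro i hi
  have hi : i < 275 := hi
  rcases Nat.lt_or_ge i 137 with h0 | h0
  · exact allR_spec _ (0 : ℕ) (137 : ℕ) pk12_0 i (by omega) (by omega)
  rcases Nat.lt_or_ge i 274 with h1 | h1
  · exact allR_spec _ (137 : ℕ) (137 : ℕ) pk12_1 i (by omega) (by omega)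
  exact allR_spec _ (274 : ℕ) (1 : ℕ) pk12_2 i (by omega) (by omega)
theorem pk13 : allR (ckPerm (nat_lit 275) X13 X12) (nat_lit 0) (nat_lit 275) = true := by
  apply allR_of_forall
  intro i hi
  have hi : i < 275 := hi
  rcases Nat.lt_or_ge i 137 with h0 | h0
  · exact allR_spec _ (0 : ℕ) (137 : ℕ) pk13_0 i (by omega) (by omega)
  rcases Nat.lt_or_ge i 274 with h1 | h1
  · exact allR_spec _ (137 : ℕ) (137 : ℕ) pk13_1 i (by omega) (by omega)
  exact allR_spec _ (274 : ℕ) (1 : ℕ) pk13_2 i (by omega) (by omega)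
theorem pk14 : allR (ckPerm (nat_lit 275) X14 X15) (nat_lit 0) (nat_lit 275) = true := by
  apply allR_of_forall
  intro i hi
  have hi : i < 275 := hi
  rcases Nat.lt_or_ge i 137 with h0 | h0
  · exact allR_spec _ (0 : ℕ) (137 : ℕ) pk14_0 i (by omega) (by omega)
  rcases Nat.lt_or_ge i 274 with h1 | h1
  · exact allR_spec _ (137 : ℕ) (137 : ℕ) pk14_1 i (by omega) (by omega)
  exact allR_spec _ (274 : ℕ) (1 : ℕ) pk14_2 i (by omega) (by omega)
theorem pk15 : allR (ckPerm (nat_lit 275) X15 X14) (nat_lit 0) (nat_lit 275) = true := by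
  apply allR_of_forall
  intro i hi
  have hi : i < 275 := hi
  rcases Nat.lt_or_ge i 137 with h0 | h0
  · exact allR_spec _ (0 : ℕ) (137 : ℕ) pk15_0 i (by omega) (by omega)
  rcases Nat.lt_or_ge i 274 with h1 | h1
  · exact allR_spec _ (137 : ℕ) (137 : ℕ) pk15_1 i (by omega) (by omega)
  exact allR_spec _ (274 : ℕ) (1 : ℕ) pk15_2 i (by omega) (by omega)
theorem pk16 : allR (ckPerm (nat_lit 275) X16 X17) (nat_lit 0) (nat_lit 275) = true := by
  apply allR_of_forall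
  intro i hi
  have hi : i < 275 := hi
  rcases Nat.lt_or_ge i 137 with h0 | h0
  · exact allR_spec _ (0 : ℕ) (137 : ℕ) pk16_0 i (by omega) (by omega)
  rcases Nat.lt_or_ge i 274 with h1 | h1
  · exact allR_spec _ (137 : ℕ) (137 : ℕ) pk16_1 i (by omega) (by omega)
  exact allR_spec _ (274 : ℕ) (1 : ℕ) pk16_2 i (by omega) (by omega)
theorem pk17 : allR (ckPerm (nat_lit 275) X17 X16) (nat_lit 0) (nat_lit 275) = true := by
  apply allR_of_forall
  intro i hi
  have hi : i < 275 := hi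
  rcases Nat.lt_or_ge i 137 with h0 | h0
  · exact allR_spec _ (0 : ℕ) (137 : ℕ) pk17_0 i (by omega) (by omega)
  rcases Nat.lt_or_ge i 274 with h1 | h1
  · exact allR_spec _ (137 : ℕ) (137 : ℕ) pk17_1 i (by omega) (by omega)
  exact allR_spec _ (274 : ℕ) (1 : ℕ) pk17_2 i (by omega) (by omega)
theorem pk18 : allR (ckPerm (nat_lit 275) X18 X19) (nat_lit 0) (nat_lit 275) = true := by
  apply allR_of_forall
  intro i hi
  have hi : i < 275 := hi
  rcases Nat.lt_or_ge i 137 with h0 | h0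
  · exact allR_spec _ (0 : ℕ) (137 : ℕ) pk18_0 i (by omega) (by omega)
  rcases Nat.lt_or_ge i 274 with h1 | h1
  · exact allR_spec _ (137 : ℕ) (137 : ℕ) pk18_1 i (by omega) (by omega)
  exact allR_spec _ (274 : ℕ) (1 : ℕ) pk18_2 i (by omega) (by omega)
theorem pk19 : allR (ckPerm (nat_lit 275) X19 X18) (nat_lit 0) (nat_lit 275) = true := by
  apply allR_of_forall
  intro i hi
  have hi : i < 275 := hi
  rcases Nat.lt_or_ge i 137 with h0 | h0
  · exact allR_spec _ (0 : ℕ) (137 : ℕ) pk19_0 i (by omega) (by omega)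
  rcases Nat.lt_or_ge i 274 with h1 | h1
  · exact allR_spec _ (137 : ℕ) (137 : ℕ) pk19_1 i (by omega) (by omega)
  exact allR_spec _ (274 : ℕ) (1 : ℕ) pk19_2 i (by omega) (by omega)
theorem pk20 : allR (ckPerm (nat_lit 275) X20 X21) (nat_lit 0) (nat_lit 275) = true := by
  apply allR_of_forall
  intro i hi
  have hi : i < 275 := hi
  rcases Nat.lt_or_ge i 137 with h0 | h0
  · exact allR_spec _ (0 : ℕ) (137 : ℕ) pk20_0 i (by omega) (by omega)
  rcases Nat.lt_or_ge i 274 with h1 | h1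
  · exact allR_spec _ (137 : ℕ) (137 : ℕ) pk20_1 i (by omega) (by omega)
  exact allR_spec _ (274 : ℕ) (1 : ℕ) pk20_2 i (by omega) (by omega)
theorem pk21 : allR (ckPerm (nat_lit 275) X21 X20) (nat_lit 0) (nat_lit 275) = true := by
  apply allR_of_forall
  intro i hi
  have hi : i < 275 := hi
  rcases Nat.lt_or_ge i 137 with h0 | h0
  · exact allR_spec _ (0 : ℕ) (137 : ℕ) pk21_0 i (by omega) (by omega)
  rcases Nat.lt_or_ge i 274 with h1 | h1
  · exact allR_spec _ (137 : ℕ) (137 : ℕ) pk21_1 i (by omega) (by omega)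
  exact allR_spec _ (274 : ℕ) (1 : ℕ) pk21_2 i (by omega) (by omega)
theorem pk22 : allR (ckPerm (nat_lit 275) X22 X23) (nat_lit 0) (nat_lit 275) = true := by
  apply allR_of_forall
  intro i hi
  have hi : i < 275 := hi
  rcases Nat.lt_or_ge i 137 with h0 | h0
  · exact allR_spec _ (0 : ℕ) (137 : ℕ) pk22_0 i (by omega) (by omega)
  rcases Nat.lt_or_ge i 274 with h1 | h1
  · exact allR_spec _ (137 : ℕ) (137 : ℕ) pk22_1 i (by omega) (by omega)
  exact allR_spec _ (274 : ℕ) (1 : ℕ) pk22_2 i (by omega) (by omega)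
theorem pk23 : allR (ckPerm (nat_lit 275) X23 X22) (nat_lit 0) (nat_lit 275) = true := by
  apply allR_of_forall
  intro i hi
  have hi : i < 275 := hi
  rcases Nat.lt_or_ge i 137 with h0 | h0
  · exact allR_spec _ (0 : ℕ) (137 : ℕ) pk23_0 i (by omega) (by omega)
  rcases Nat.lt_or_ge i 274 with h1 | h1
  · exact allR_spec _ (137 : ℕ) (137 : ℕ) pk23_1 i (by omega) (by omega)
  exact allR_spec _ (274 : ℕ) (1 : ℕ) pk23_2 i (by omega) (by omega)
theorem pk24 : allR (ckPerm (nat_lit 275) X24 X25) (nat_lit 0) (nat_lit 275) = true := by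
  apply allR_of_forall
  intro i hi
  have hi : i < 275 := hi
  rcases Nat.lt_or_ge i 137 with h0 | h0
  · exact allR_spec _ (0 : ℕ) (137 : ℕ) pk24_0 i (by omega) (by omega)
  rcases Nat.lt_or_ge i 274 with h1 | h1
  · exact allR_spec _ (137 : ℕ) (137 : ℕ) pk24_1 i (by omega) (by omega)
  exact allR_spec _ (274 : ℕ) (1 : ℕ) pk24_2 i (by omega) (by omega)
theorem pk25 : allR (ckPerm (nat_lit 275) X25 X24) (nat_lit 0) (nat_lit 275) = true := by
  apply allR_of_forall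
  intro i hi
  have hi : i < 275 := hi
  rcases Nat.lt_or_ge i 137 with h0 | h0
  · exact allR_spec _ (0 : ℕ) (137 : ℕ) pk25_0 i (by omega) (by omega)
  rcases Nat.lt_or_ge i 274 with h1 | h1
  · exact allR_spec _ (137 : ℕ) (137 : ℕ) pk25_1 i (by omega) (by omega)
  exact allR_spec _ (274 : ℕ) (1 : ℕ) pk25_2 i (by omega) (by omega)
theorem pk26 : allR (ckPerm (nat_lit 275) X26 X27) (nat_lit 0) (nat_lit 275) = true := by
  apply allR_of_forall
  intro i hi
  have hi : i < 275 := hi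
  rcases Nat.lt_or_ge i 137 with h0 | h0
  · exact allR_spec _ (0 : ℕ) (137 : ℕ) pk26_0 i (by omega) (by omega)
  rcases Nat.lt_or_ge i 274 with h1 | h1
  · exact allR_spec _ (137 : ℕ) (137 : ℕ) pk26_1 i (by omega) (by omega)
  exact allR_spec _ (274 : ℕ) (1 : ℕ) pk26_2 i (by omega) (by omega)
theorem pk27 : allR (ckPerm (nat_lit 275) X27 X26) (nat_lit 0) (nat_lit 275) = true := by
  apply allR_of_forall
  intro i hi
  have hi : i < 275 := hi
  rcases Nat.lt_or_ge i 137 with h0 | h0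
  · exact allR_spec _ (0 : ℕ) (137 : ℕ) pk27_0 i (by omega) (by omega)
  rcases Nat.lt_or_ge i 274 with h1 | h1
  · exact allR_spec _ (137 : ℕ) (137 : ℕ) pk27_1 i (by omega) (by omega)
  exact allR_spec _ (274 : ℕ) (1 : ℕ) pk27_2 i (by omega) (by omega)
theorem pk28 : allR (ckPerm (nat_lit 275) X28 X29) (nat_lit 0) (nat_lit 275) = true := by
  apply allR_of_forall
  intro i hi
  have hi : i < 275 := hi
  rcases Nat.lt_or_ge i 137 with h0 | h0
  · exact allR_spec _ (0 : ℕ) (137 : ℕ) pk28_0 i (by omega) (by omega)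
  rcases Nat.lt_or_ge i 274 with h1 | h1
  · exact allR_spec _ (137 : ℕ) (137 : ℕ) pk28_1 i (by omega) (by omega)
  exact allR_spec _ (274 : ℕ) (1 : ℕ) pk28_2 i (by omega) (by omega)
theorem pk29 : allR (ckPerm (nat_lit 275) X29 X28) (nat_lit 0) (nat_lit 275) = true := by
  apply allR_of_forall
  intro i hi
  have hi : i < 275 := hi
  rcases Nat.lt_or_ge i 137 with h0 | h0
  · exact allR_spec _ (0 : ℕ) (137 : ℕ) pk29_0 i (by omega) (by omega)
  rcases Nat.lt_or_ge i 274 with h1 | h1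
  · exact allR_spec _ (137 : ℕ) (137 : ℕ) pk29_1 i (by omega) (by omega)
  exact allR_spec _ (274 : ℕ) (1 : ℕ) pk29_2 i (by omega) (by omega)
theorem pk30 : allR (ckPerm (nat_lit 275) X30 X31) (nat_lit 0) (nat_lit 275) = true := by
  apply allR_of_forall
  intro i hi
  have hi : i < 275 := hi
  rcases Nat.lt_or_ge i 137 with h0 | h0
  · exact allR_spec _ (0 : ℕ) (137 : ℕ) pk30_0 i (by omega) (by omega)
  rcases Nat.lt_or_ge i 274 with h1 | h1
  · exact allR_spec _ (137 : ℕ) (137 : ℕ) pk30_1 i (by omega) (by omega)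
  exact allR_spec _ (274 : ℕ) (1 : ℕ) pk30_2 i (by omega) (by omega)
theorem pk31 : allR (ckPerm (nat_lit 275) X31 X30) (nat_lit 0) (nat_lit 275) = true := by
  apply allR_of_forall
  intro i hi
  have hi : i < 275 := hi
  rcases Nat.lt_or_ge i 137 with h0 | h0
  · exact allR_spec _ (0 : ℕ) (137 : ℕ) pk31_0 i (by omega) (by omega)
  rcases Nat.lt_or_ge i 274 with h1 | h1
  · exact allR_spec _ (137 : ℕ) (137 : ℕ) pk31_1 i (by omega) (by omega)
  exact allR_spec _ (274 : ℕ) (1 : ℕ) pk31_2 i (by omega) (by omega)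
theorem pk32 : allR (ckPerm (nat_lit 275) X32 X33) (nat_lit 0) (nat_lit 275) = true := by
  apply allR_of_forall
  intro i hi
  have hi : i < 275 := hi
  rcases Nat.lt_or_ge i 137 with h0 | h0
  · exact allR_spec _ (0 : ℕ) (137 : ℕ) pk32_0 i (by omega) (by omega)
  rcases Nat.lt_or_ge i 274 with h1 | h1
  · exact allR_spec _ (137 : ℕ) (137 : ℕ) pk32_1 i (by omega) (by omega)
  exact allR_spec _ (274 : ℕ) (1 : ℕ) pk32_2 i (by omega) (by omega)
theorem pk33 : allR (ckPerm (nat_lit 275) X33 X32) (nat_lit 0) (nat_lit 275) = true := by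
  apply allR_of_forall
  intro i hi
  have hi : i < 275 := hi
  rcases Nat.lt_or_ge i 137 with h0 | h0
  · exact allR_spec _ (0 : ℕ) (137 : ℕ) pk33_0 i (by omega) (by omega)
  rcases Nat.lt_or_ge i 274 with h1 | h1
  · exact allR_spec _ (137 : ℕ) (137 : ℕ) pk33_1 i (by omega) (by omega)
  exact allR_spec _ (274 : ℕ) (1 : ℕ) pk33_2 i (by omega) (by omega)
theorem pk34 : allR (ckPerm (nat_lit 275) X34 X35) (nat_lit 0) (nat_lit 275) = true := by
  apply allR_of_forall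
  intro i hi
  have hi : i < 275 := hi
  rcases Nat.lt_or_ge i 137 with h0 | h0
  · exact allR_spec _ (0 : ℕ) (137 : ℕ) pk34_0 i (by omega) (by omega)
  rcases Nat.lt_or_ge i 274 with h1 | h1
  · exact allR_spec _ (137 : ℕ) (137 : ℕ) pk34_1 i (by omega) (by omega)
  exact allR_spec _ (274 : ℕ) (1 : ℕ) pk34_2 i (by omega) (by omega)
theorem pk35 : allR (ckPerm (nat_lit 275) X35 X34) (nat_lit 0) (nat_lit 275) = true := by
  apply allR_of_forall
  intro i hi
  have hi : i < 275 := hi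
  rcases Nat.lt_or_ge i 137 with h0 | h0
  · exact allR_spec _ (0 : ℕ) (137 : ℕ) pk35_0 i (by omega) (by omega)
  rcases Nat.lt_or_ge i 274 with h1 | h1
  · exact allR_spec _ (137 : ℕ) (137 : ℕ) pk35_1 i (by omega) (by omega)
  exact allR_spec _ (274 : ℕ) (1 : ℕ) pk35_2 i (by omega) (by omega)
theorem pk36 : allR (ckPerm (nat_lit 275) X36 X37) (nat_lit 0) (nat_lit 275) = true := by
  apply allR_of_forall
  intro i hi
  have hi : i < 275 := hi
  rcases Nat.lt_or_ge i 137 with h0 | h0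
  · exact allR_spec _ (0 : ℕ) (137 : ℕ) pk36_0 i (by omega) (by omega)
  rcases Nat.lt_or_ge i 274 with h1 | h1
  · exact allR_spec _ (137 : ℕ) (137 : ℕ) pk36_1 i (by omega) (by omega)
  exact allR_spec _ (274 : ℕ) (1 : ℕ) pk36_2 i (by omega) (by omega)
theorem pk37 : allR (ckPerm (nat_lit 275) X37 X36) (nat_lit 0) (nat_lit 275) = true := by
  apply allR_of_forall
  intro i hi
  have hi : i < 275 := hi
  rcases Nat.lt_or_ge i 137 with h0 | h0
  · exact allR_spec _ (0 : ℕ) (137 : ℕ) pk37_0 i (by omega) (by omega)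
  rcases Nat.lt_or_ge i 274 with h1 | h1
  · exact allR_spec _ (137 : ℕ) (137 : ℕ) pk37_1 i (by omega) (by omega)
  exact allR_spec _ (274 : ℕ) (1 : ℕ) pk37_2 i (by omega) (by omega)
theorem pk38 : allR (ckPerm (nat_lit 275) X38 X39) (nat_lit 0) (nat_lit 275) = true := by
  apply allR_of_forall
  intro i hi
  have hi : i < 275 := hi
  rcases Nat.lt_or_ge i 137 with h0 | h0
  · exact allR_spec _ (0 : ℕ) (137 : ℕ) pk38_0 i (by omega) (by omega)
  rcases Nat.lt_or_ge i 274 with h1 | h1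
  · exact allR_spec _ (137 : ℕ) (137 : ℕ) pk38_1 i (by omega) (by omega)
  exact allR_spec _ (274 : ℕ) (1 : ℕ) pk38_2 i (by omega) (by omega)
theorem pk39 : allR (ckPerm (nat_lit 275) X39 X38) (nat_lit 0) (nat_lit 275) = true := by
  apply allR_of_forall
  intro i hi
  have hi : i < 275 := hi
  rcases Nat.lt_or_ge i 137 with h0 | h0
  · exact allR_spec _ (0 : ℕ) (137 : ℕ) pk39_0 i (by omega) (by omega)
  rcases Nat.lt_or_ge i 274 with h1 | h1
  · exact allR_spec _ (137 : ℕ) (137 : ℕ) pk39_1 i (by omega) (by omega)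
  exact allR_spec _ (274 : ℕ) (1 : ℕ) pk39_2 i (by omega) (by omega)
theorem pk40 : allR (ckPerm (nat_lit 275) X40 X41) (nat_lit 0) (nat_lit 275) = true := by
  apply allR_of_forall
  intro i hi
  have hi : i < 275 := hi
  rcases Nat.lt_or_ge i 137 with h0 | h0
  · exact allR_spec _ (0 : ℕ) (137 : ℕ) pk40_0 i (by omega) (by omega)
  rcases Nat.lt_or_ge i 274 with h1 | h1
  · exact allR_spec _ (137 : ℕ) (137 : ℕ) pk40_1 i (by omega) (by omega)
  exact allR_spec _ (274 : ℕ) (1 : ℕ) pk40_2 i (by omega) (by omega)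
theorem pk41 : allR (ckPerm (nat_lit 275) X41 X40) (nat_lit 0) (nat_lit 275) = true := by
  apply allR_of_forall
  intro i hi
  have hi : i < 275 := hi
  rcases Nat.lt_or_ge i 137 with h0 | h0
  · exact allR_spec _ (0 : ℕ) (137 : ℕ) pk41_0 i (by omega) (by omega)
  rcases Nat.lt_or_ge i 274 with h1 | h1
  · exact allR_spec _ (137 : ℕ) (137 : ℕ) pk41_1 i (by omega) (by omega)
  exact allR_spec _ (274 : ℕ) (1 : ℕ) pk41_2 i (by omega) (by omega)
theorem pk42 : allR (ckPerm (nat_lit 275) X42 X43) (nat_lit 0) (nat_lit 275) = true := by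
  apply allR_of_forall
  intro i hi
  have hi : i < 275 := hi
  rcases Nat.lt_or_ge i 137 with h0 | h0
  · exact allR_spec _ (0 : ℕ) (137 : ℕ) pk42_0 i (by omega) (by omega)
  rcases Nat.lt_or_ge i 274 with h1 | h1
  · exact allR_spec _ (137 : ℕ) (137 : ℕ) pk42_1 i (by omega) (by omega)
  exact allR_spec _ (274 : ℕ) (1 : ℕ) pk42_2 i (by omega) (by omega)
theorem pk43 : allR (ckPerm (nat_lit 275) X43 X42) (nat_lit 0) (nat_lit 275) = true := by
  apply allR_of_forall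
  intro i hi
  have hi : i < 275 := hi
  rcases Nat.lt_or_ge i 137 with h0 | h0
  · exact allR_spec _ (0 : ℕ) (137 : ℕ) pk43_0 i (by omega) (by omega)
  rcases Nat.lt_or_ge i 274 with h1 | h1
  · exact allR_spec _ (137 : ℕ) (137 : ℕ) pk43_1 i (by omega) (by omega)
  exact allR_spec _ (274 : ℕ) (1 : ℕ) pk43_2 i (by omega) (by omega)
theorem pk44 : allR (ckPerm (nat_lit 275) X44 X45) (nat_lit 0) (nat_lit 275) = true := by
  apply allR_of_forall
  intro i hi
  have hi : i < 275 := hi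
  rcases Nat.lt_or_ge i 137 with h0 | h0
  · exact allR_spec _ (0 : ℕ) (137 : ℕ) pk44_0 i (by omega) (by omega)
  rcases Nat.lt_or_ge i 274 with h1 | h1
  · exact allR_spec _ (137 : ℕ) (137 : ℕ) pk44_1 i (by omega) (by omega)
  exact allR_spec _ (274 : ℕ) (1 : ℕ) pk44_2 i (by omega) (by omega)
theorem pk45 : allR (ckPerm (nat_lit 275) X45 X44) (nat_lit 0) (nat_lit 275) = true := by
  apply allR_of_forall
  intro i hi
  have hi : i < 275 := hi
  rcases Nat.lt_or_ge i 137 with h0 | h0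
  · exact allR_spec _ (0 : ℕ) (137 : ℕ) pk45_0 i (by omega) (by omega)
  rcases Nat.lt_or_ge i 274 with h1 | h1
  · exact allR_spec _ (137 : ℕ) (137 : ℕ) pk45_1 i (by omega) (by omega)
  exact allR_spec _ (274 : ℕ) (1 : ℕ) pk45_2 i (by omega) (by omega)
theorem pk46 : allR (ckPerm (nat_lit 275) X46 X47) (nat_lit 0) (nat_lit 275) = true := by
  apply allR_of_forall
  intro i hi
  have hi : i < 275 := hi
  rcases Nat.lt_or_ge i 137 with h0 | h0
  · exact allR_spec _ (0 : ℕ) (137 : ℕ) pk46_0 i (by omega) (by omega)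
  rcases Nat.lt_or_ge i 274 with h1 | h1
  · exact allR_spec _ (137 : ℕ) (137 : ℕ) pk46_1 i (by omega) (by omega)
  exact allR_spec _ (274 : ℕ) (1 : ℕ) pk46_2 i (by omega) (by omega)
theorem pk47 : allR (ckPerm (nat_lit 275) X47 X46) (nat_lit 0) (nat_lit 275) = true := by
  apply allR_of_forall
  intro i hi
  have hi : i < 275 := hi
  rcases Nat.lt_or_ge i 137 with h0 | h0
  · exact allR_spec _ (0 : ℕ) (137 : ℕ) pk47_0 i (by omega) (by omega)
  rcases Nat.lt_or_ge i 274 with h1 | h1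
  · exact allR_spec _ (137 : ℕ) (137 : ℕ) pk47_1 i (by omega) (by omega)
  exact allR_spec _ (274 : ℕ) (1 : ℕ) pk47_2 i (by omega) (by omega)
theorem pk48 : allR (ckPerm (nat_lit 275) X48 X49) (nat_lit 0) (nat_lit 275) = true := by
  apply allR_of_forall
  intro i hi
  have hi : i < 275 := hi
  rcases Nat.lt_or_ge i 137 with h0 | h0
  · exact allR_spec _ (0 : ℕ) (137 : ℕ) pk48_0 i (by omega) (by omega)
  rcases Nat.lt_or_ge i 274 with h1 | h1
  · exact allR_spec _ (137 : ℕ) (137 : ℕ) pk48_1 i (by omega) (by omega)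
  exact allR_spec _ (274 : ℕ) (1 : ℕ) pk48_2 i (by omega) (by omega)
theorem pk49 : allR (ckPerm (nat_lit 275) X49 X48) (nat_lit 0) (nat_lit 275) = true := by
  apply allR_of_forall
  intro i hi
  have hi : i < 275 := hi
  rcases Nat.lt_or_ge i 137 with h0 | h0
  · exact allR_spec _ (0 : ℕ) (137 : ℕ) pk49_0 i (by omega) (by omega)
  rcases Nat.lt_or_ge i 274 with h1 | h1
  · exact allR_spec _ (137 : ℕ) (137 : ℕ) pk49_1 i (by omega) (by omega)
  exact allR_spec _ (274 : ℕ) (1 : ℕ) pk49_2 i (by omega) (by omega)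
theorem pk50 : allR (ckPerm (nat_lit 275) X50 X51) (nat_lit 0) (nat_lit 275) = true := by
  apply allR_of_forall
  intro i hi
  have hi : i < 275 := hi
  rcases Nat.lt_or_ge i 137 with h0 | h0
  · exact allR_spec _ (0 : ℕ) (137 : ℕ) pk50_0 i (by omega) (by omega)
  rcases Nat.lt_or_ge i 274 with h1 | h1
  · exact allR_spec _ (137 : ℕ) (137 : ℕ) pk50_1 i (by omega) (by omega)
  exact allR_spec _ (274 : ℕ) (1 : ℕ) pk50_2 i (by omega) (by omega)
theorem pk51 : allR (ckPerm (nat_lit 275) X51 X50) (nat_lit 0) (nat_lit 275) = true := by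
  apply allR_of_forall
  intro i hi
  have hi : i < 275 := hi
  rcases Nat.lt_or_ge i 137 with h0 | h0
  · exact allR_spec _ (0 : ℕ) (137 : ℕ) pk51_0 i (by omega) (by omega)
  rcases Nat.lt_or_ge i 274 with h1 | h1
  · exact allR_spec _ (137 : ℕ) (137 : ℕ) pk51_1 i (by omega) (by omega)
  exact allR_spec _ (274 : ℕ) (1 : ℕ) pk51_2 i (by omega) (by omega)
theorem pk52 : allR (ckPerm (nat_lit 275) X52 X53) (nat_lit 0) (nat_lit 275) = true := by
  apply allR_of_forall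
  intro i hi
  have hi : i < 275 := hi
  rcases Nat.lt_or_ge i 137 with h0 | h0
  · exact allR_spec _ (0 : ℕ) (137 : ℕ) pk52_0 i (by omega) (by omega)
  rcases Nat.lt_or_ge i 274 with h1 | h1
  · exact allR_spec _ (137 : ℕ) (137 : ℕ) pk52_1 i (by omega) (by omega)
  exact allR_spec _ (274 : ℕ) (1 : ℕ) pk52_2 i (by omega) (by omega)
theorem pk53 : allR (ckPerm (nat_lit 275) X53 X52) (nat_lit 0) (nat_lit 275) = true := by
  apply allR_of_forall
  intro i hi
  have hi : i < 275 := hi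
  rcases Nat.lt_or_ge i 137 with h0 | h0
  · exact allR_spec _ (0 : ℕ) (137 : ℕ) pk53_0 i (by omega) (by omega)
  rcases Nat.lt_or_ge i 274 with h1 | h1
  · exact allR_spec _ (137 : ℕ) (137 : ℕ) pk53_1 i (by omega) (by omega)
  exact allR_spec _ (274 : ℕ) (1 : ℕ) pk53_2 i (by omega) (by omega)
theorem pk54 : allR (ckPerm (nat_lit 275) X54 X55) (nat_lit 0) (nat_lit 275) = true := by
  apply allR_of_forall
  intro i hi
  have hi : i < 275 := hi
  rcases Nat.lt_or_ge i 137 with h0 | h0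
  · exact allR_spec _ (0 : ℕ) (137 : ℕ) pk54_0 i (by omega) (by omega)
  rcases Nat.lt_or_ge i 274 with h1 | h1
  · exact allR_spec _ (137 : ℕ) (137 : ℕ) pk54_1 i (by omega) (by omega)
  exact allR_spec _ (274 : ℕ) (1 : ℕ) pk54_2 i (by omega) (by omega)
theorem pk55 : allR (ckPerm (nat_lit 275) X55 X54) (nat_lit 0) (nat_lit 275) = true := by
  apply allR_of_forall
  intro i hi
  have hi : i < 275 := hi
  rcases Nat.lt_or_ge i 137 with h0 | h0
  · exact allR_spec _ (0 : ℕ) (137 : ℕ) pk55_0 i (by omega) (by omega)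
  rcases Nat.lt_or_ge i 274 with h1 | h1
  · exact allR_spec _ (137 : ℕ) (137 : ℕ) pk55_1 i (by omega) (by omega)
  exact allR_spec _ (274 : ℕ) (1 : ℕ) pk55_2 i (by omega) (by omega)
theorem wk0 : allR (OT.ckEqW [T0, T2, T1] [X0]) (nat_lit 0) (nat_lit 275) = true := by
  apply allR_of_forall
  intro i hi
  have hi : i < 275 := hi
  rcases Nat.lt_or_ge i 68 with h0 | h0
  · exact allR_spec _ (0 : ℕ) (68 : ℕ) wk0_0 i (by omega) (by omega)
  rcases Nat.lt_or_ge i 136 with h1 | h1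
  · exact allR_spec _ (68 : ℕ) (68 : ℕ) wk0_1 i (by omega) (by omega)
  rcases Nat.lt_or_ge i 204 with h2 | h2
  · exact allR_spec _ (136 : ℕ) (68 : ℕ) wk0_2 i (by omega) (by omega)
  rcases Nat.lt_or_ge i 272 with h3 | h3
  · exact allR_spec _ (204 : ℕ) (68 : ℕ) wk0_3 i (by omega) (by omega)
  exact allR_spec _ (272 : ℕ) (3 : ℕ) wk0_4 i (by omega) (by omega)
theorem wk1 : allR (OT.ckEqW [T2, X0] [X2]) (nat_lit 0) (nat_lit 275) = true := by
  apply allR_of_forall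
  intro i hi
  have hi : i < 275 := hi
  rcases Nat.lt_or_ge i 91 with h0 | h0
  · exact allR_spec _ (0 : ℕ) (91 : ℕ) wk1_0 i (by omega) (by omega)
  rcases Nat.lt_or_ge i 182 with h1 | h1
  · exact allR_spec _ (91 : ℕ) (91 : ℕ) wk1_1 i (by omega) (by omega)
  rcases Nat.lt_or_ge i 273 with h2 | h2
  · exact allR_spec _ (182 : ℕ) (91 : ℕ) wk1_2 i (by omega) (by omega)
  exact allR_spec _ (273 : ℕ) (2 : ℕ) wk1_3 i (by omega) (by omega)
theorem wk2 : allR (OT.ckEqW [T2, T1, T2, X1, T0, T1, T2, X1] [X4]) (nat_lit 0) (nat_lit 275) = true := by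
  apply allR_of_forall
  intro i hi
  have hi : i < 275 := hi
  rcases Nat.lt_or_ge i 30 with h0 | h0
  · exact allR_spec _ (0 : ℕ) (30 : ℕ) wk2_0 i (by omega) (by omega)
  rcases Nat.lt_or_ge i 60 with h1 | h1
  · exact allR_spec _ (30 : ℕ) (30 : ℕ) wk2_1 i (by omega) (by omega)
  rcases Nat.lt_or_ge i 90 with h2 | h2
  · exact allR_spec _ (60 : ℕ) (30 : ℕ) wk2_2 i (by omega) (by omega)
  rcases Nat.lt_or_ge i 120 with h3 | h3
  · exact allR_spec _ (90 : ℕ) (30 : ℕ) wk2_3 i (by omega) (by omega)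
  rcases Nat.lt_or_ge i 150 with h4 | h4
  · exact allR_spec _ (120 : ℕ) (30 : ℕ) wk2_4 i (by omega) (by omega)
  rcases Nat.lt_or_ge i 180 with h5 | h5
  · exact allR_spec _ (150 : ℕ) (30 : ℕ) wk2_5 i (by omega) (by omega)
  rcases Nat.lt_or_ge i 210 with h6 | h6
  · exact allR_spec _ (180 : ℕ) (30 : ℕ) wk2_6 i (by omega) (by omega)
  rcases Nat.lt_or_ge i 240 with h7 | h7
  · exact allR_spec _ (210 : ℕ) (30 : ℕ) wk2_7 i (by omega) (by omega)
  rcases Nat.lt_or_ge i 270 with h8 | h8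
  · exact allR_spec _ (240 : ℕ) (30 : ℕ) wk2_8 i (by omega) (by omega)
  exact allR_spec _ (270 : ℕ) (5 : ℕ) wk2_9 i (by omega) (by omega)
theorem wk3 : allR (OT.ckEqW [X5, X5, X2, X5, X2, X4, X2, X2, X4, X4] [X6]) (nat_lit 0) (nat_lit 275) = true := by
  apply allR_of_forall
  intro i hi
  have hi : i < 275 := hi
  rcases Nat.lt_or_ge i 25 with h0 | h0
  · exact allR_spec _ (0 : ℕ) (25 : ℕ) wk3_0 i (by omega) (by omega)
  rcases Nat.lt_or_ge i 50 with h1 | h1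
  · exact allR_spec _ (25 : ℕ) (25 : ℕ) wk3_1 i (by omega) (by omega)
  rcases Nat.lt_or_ge i 75 with h2 | h2
  · exact allR_spec _ (50 : ℕ) (25 : ℕ) wk3_2 i (by omega) (by omega)
  rcases Nat.lt_or_ge i 100 with h3 | h3
  · exact allR_spec _ (75 : ℕ) (25 : ℕ) wk3_3 i (by omega) (by omega)
  rcases Nat.lt_or_ge i 125 with h4 | h4
  · exact allR_spec _ (100 : ℕ) (25 : ℕ) wk3_4 i (by omega) (by omega)
  rcases Nat.lt_or_ge i 150 with h5 | h5
  · exact allR_spec _ (125 : ℕ) (25 : ℕ) wk3_5 i (by omega) (by omega)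
  rcases Nat.lt_or_ge i 175 with h6 | h6
  · exact allR_spec _ (150 : ℕ) (25 : ℕ) wk3_6 i (by omega) (by omega)
  rcases Nat.lt_or_ge i 200 with h7 | h7
  · exact allR_spec _ (175 : ℕ) (25 : ℕ) wk3_7 i (by omega) (by omega)
  rcases Nat.lt_or_ge i 225 with h8 | h8
  · exact allR_spec _ (200 : ℕ) (25 : ℕ) wk3_8 i (by omega) (by omega)
  rcases Nat.lt_or_ge i 250 with h9 | h9
  · exact allR_spec _ (225 : ℕ) (25 : ℕ) wk3_9 i (by omega) (by omega)
  exact allR_spec _ (250 : ℕ) (25 : ℕ) wk3_10 i (by omega) (by omega)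
theorem wk4 : allR (OT.ckEqW [X3, X5] [X8]) (nat_lit 0) (nat_lit 275) = true := by
  apply allR_of_forall
  intro i hi
  have hi : i < 275 := hi
  rcases Nat.lt_or_ge i 91 with h0 | h0
  · exact allR_spec _ (0 : ℕ) (91 : ℕ) wk4_0 i (by omega) (by omega)
  rcases Nat.lt_or_ge i 182 with h1 | h1
  · exact allR_spec _ (91 : ℕ) (91 : ℕ) wk4_1 i (by omega) (by omega)
  rcases Nat.lt_or_ge i 273 with h2 | h2
  · exact allR_spec _ (182 : ℕ) (91 : ℕ) wk4_2 i (by omega) (by omega)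
  exact allR_spec _ (273 : ℕ) (2 : ℕ) wk4_3 i (by omega) (by omega)
theorem wk5 : allR (OT.ckEqW [X6, X9, X9, X6, X6, X9, X7, X9, X6, X9, X7] [X10]) (nat_lit 0) (nat_lit 275) = true := by
  apply allR_of_forall
  intro i hi
  have hi : i < 275 := hi
  rcases Nat.lt_or_ge i 22 with h0 | h0
  · exact allR_spec _ (0 : ℕ) (22 : ℕ) wk5_0 i (by omega) (by omega)
  rcases Nat.lt_or_ge i 44 with h1 | h1
  · exact allR_spec _ (22 : ℕ) (22 : ℕ) wk5_1 i (by omega) (by omega)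
  rcases Nat.lt_or_ge i 66 with h2 | h2
  · exact allR_spec _ (44 : ℕ) (22 : ℕ) wk5_2 i (by omega) (by omega)
  rcases Nat.lt_or_ge i 88 with h3 | h3
  · exact allR_spec _ (66 : ℕ) (22 : ℕ) wk5_3 i (by omega) (by omega)
  rcases Nat.lt_or_ge i 110 with h4 | h4
  · exact allR_spec _ (88 : ℕ) (22 : ℕ) wk5_4 i (by omega) (by omega)
  rcases Nat.lt_or_ge i 132 with h5 | h5
  · exact allR_spec _ (110 : ℕ) (22 : ℕ) wk5_5 i (by omega) (by omega)
  rcases Nat.lt_or_ge i 154 with h6 | h6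
  · exact allR_spec _ (132 : ℕ) (22 : ℕ) wk5_6 i (by omega) (by omega)
  rcases Nat.lt_or_ge i 176 with h7 | h7
  · exact allR_spec _ (154 : ℕ) (22 : ℕ) wk5_7 i (by omega) (by omega)
  rcases Nat.lt_or_ge i 198 with h8 | h8
  · exact allR_spec _ (176 : ℕ) (22 : ℕ) wk5_8 i (by omega) (by omega)
  rcases Nat.lt_or_ge i 220 with h9 | h9
  · exact allR_spec _ (198 : ℕ) (22 : ℕ) wk5_9 i (by omega) (by omega)
  rcases Nat.lt_or_ge i 242 with h10 | h10
  · exact allR_spec _ (220 : ℕ) (22 : ℕ) wk5_10 i (by omega) (by omega)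
  rcases Nat.lt_or_ge i 264 with h11 | h11
  · exact allR_spec _ (242 : ℕ) (22 : ℕ) wk5_11 i (by omega) (by omega)
  exact allR_spec _ (264 : ℕ) (11 : ℕ) wk5_12 i (by omega) (by omega)
theorem wk6 : allR (OT.ckEqW [X7, X7, X8, X7, X9, X9, X6, X8, X7] [X12]) (nat_lit 0) (nat_lit 275) = true := by
  apply allR_of_forall
  intro i hi
  have hi : i < 275 := hi
  rcases Nat.lt_or_ge i 27 with h0 | h0
  · exact allR_spec _ (0 : ℕ) (27 : ℕ) wk6_0 i (by omega) (by omega)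
  rcases Nat.lt_or_ge i 54 with h1 | h1
  · exact allR_spec _ (27 : ℕ) (27 : ℕ) wk6_1 i (by omega) (by omega)
  rcases Nat.lt_or_ge i 81 with h2 | h2
  · exact allR_spec _ (54 : ℕ) (27 : ℕ) wk6_2 i (by omega) (by omega)
  rcases Nat.lt_or_ge i 108 with h3 | h3
  · exact allR_spec _ (81 : ℕ) (27 : ℕ) wk6_3 i (by omega) (by omega)
  rcases Nat.lt_or_ge i 135 with h4 | h4
  · exact allR_spec _ (108 : ℕ) (27 : ℕ) wk6_4 i (by omega) (by omega)
  rcases Nat.lt_or_ge i 162 with h5 | h5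
  · exact allR_spec _ (135 : ℕ) (27 : ℕ) wk6_5 i (by omega) (by omega)
  rcases Nat.lt_or_ge i 189 with h6 | h6
  · exact allR_spec _ (162 : ℕ) (27 : ℕ) wk6_6 i (by omega) (by omega)
  rcases Nat.lt_or_ge i 216 with h7 | h7
  · exact allR_spec _ (189 : ℕ) (27 : ℕ) wk6_7 i (by omega) (by omega)
  rcases Nat.lt_or_ge i 243 with h8 | h8
  · exact allR_spec _ (216 : ℕ) (27 : ℕ) wk6_8 i (by omega) (by omega)
  rcases Nat.lt_or_ge i 270 with h9 | h9
  · exact allR_spec _ (243 : ℕ) (27 : ℕ) wk6_9 i (by omega) (by omega)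
  exact allR_spec _ (270 : ℕ) (5 : ℕ) wk6_10 i (by omega) (by omega)
theorem wk7 : allR (OT.ckEqW [X9, X7, X7, X8, X8, X6, X9, X6] [X14]) (nat_lit 0) (nat_lit 275) = true := by
  apply allR_of_forall
  intro i hi
  have hi : i < 275 := hi
  rcases Nat.lt_or_ge i 30 with h0 | h0
  · exact allR_spec _ (0 : ℕ) (30 : ℕ) wk7_0 i (by omega) (by omega)
  rcases Nat.lt_or_ge i 60 with h1 | h1
  · exact allR_spec _ (30 : ℕ) (30 : ℕ) wk7_1 i (by omega) (by omega)
  rcases Nat.lt_or_ge i 90 with h2 | h2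
  · exact allR_spec _ (60 : ℕ) (30 : ℕ) wk7_2 i (by omega) (by omega)
  rcases Nat.lt_or_ge i 120 with h3 | h3
  · exact allR_spec _ (90 : ℕ) (30 : ℕ) wk7_3 i (by omega) (by omega)
  rcases Nat.lt_or_ge i 150 with h4 | h4
  · exact allR_spec _ (120 : ℕ) (30 : ℕ) wk7_4 i (by omega) (by omega)
  rcases Nat.lt_or_ge i 180 with h5 | h5
  · exact allR_spec _ (150 : ℕ) (30 : ℕ) wk7_5 i (by omega) (by omega)
  rcases Nat.lt_or_ge i 210 with h6 | h6
  · exact allR_spec _ (180 : ℕ) (30 : ℕ) wk7_6 i (by omega) (by omega)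
  rcases Nat.lt_or_ge i 240 with h7 | h7
  · exact allR_spec _ (210 : ℕ) (30 : ℕ) wk7_7 i (by omega) (by omega)
  rcases Nat.lt_or_ge i 270 with h8 | h8
  · exact allR_spec _ (240 : ℕ) (30 : ℕ) wk7_8 i (by omega) (by omega)
  exact allR_spec _ (270 : ℕ) (5 : ℕ) wk7_9 i (by omega) (by omega)
theorem wk8 : allR (OT.ckEqW [X14, X11, X12, X10] [X16]) (nat_lit 0) (nat_lit 275) = true := by
  apply allR_of_forall
  intro i hi
  have hi : i < 275 := hi
  rcases Nat.lt_or_ge i 55 with h0 | h0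
  · exact allR_spec _ (0 : ℕ) (55 : ℕ) wk8_0 i (by omega) (by omega)
  rcases Nat.lt_or_ge i 110 with h1 | h1
  · exact allR_spec _ (55 : ℕ) (55 : ℕ) wk8_1 i (by omega) (by omega)
  rcases Nat.lt_or_ge i 165 with h2 | h2
  · exact allR_spec _ (110 : ℕ) (55 : ℕ) wk8_2 i (by omega) (by omega)
  rcases Nat.lt_or_ge i 220 with h3 | h3
  · exact allR_spec _ (165 : ℕ) (55 : ℕ) wk8_3 i (by omega) (by omega)
  exact allR_spec _ (220 : ℕ) (55 : ℕ) wk8_4 i (by omega) (by omega)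
theorem wk9 : allR (OT.ckEqW [X16, X11, X14, X10, X6, X8, X7, X8, X2, X2, X4, X4, X3, X5, X0, X0, T0, T1, T0, T2] [X18]) (nat_lit 0) (nat_lit 275) = true := by
  apply allR_of_forall
  intro i hi
  have hi : i < 275 := hi
  rcases Nat.lt_or_ge i 13 with h0 | h0
  · exact allR_spec _ (0 : ℕ) (13 : ℕ) wk9_0 i (by omega) (by omega)
  rcases Nat.lt_or_ge i 26 with h1 | h1
  · exact allR_spec _ (13 : ℕ) (13 : ℕ) wk9_1 i (by omega) (by omega)
  rcases Nat.lt_or_ge i 39 with h2 | h2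
  · exact allR_spec _ (26 : ℕ) (13 : ℕ) wk9_2 i (by omega) (by omega)
  rcases Nat.lt_or_ge i 52 with h3 | h3
  · exact allR_spec _ (39 : ℕ) (13 : ℕ) wk9_3 i (by omega) (by omega)
  rcases Nat.lt_or_ge i 65 with h4 | h4
  · exact allR_spec _ (52 : ℕ) (13 : ℕ) wk9_4 i (by omega) (by omega)
  rcases Nat.lt_or_ge i 78 with h5 | h5
  · exact allR_spec _ (65 : ℕ) (13 : ℕ) wk9_5 i (by omega) (by omega)
  rcases Nat.lt_or_ge i 91 with h6 | h6
  · exact allR_spec _ (78 : ℕ) (13 : ℕ) wk9_6 i (by omega) (by omega)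
  rcases Nat.lt_or_ge i 104 with h7 | h7
  · exact allR_spec _ (91 : ℕ) (13 : ℕ) wk9_7 i (by omega) (by omega)
  rcases Nat.lt_or_ge i 117 with h8 | h8
  · exact allR_spec _ (104 : ℕ) (13 : ℕ) wk9_8 i (by omega) (by omega)
  rcases Nat.lt_or_ge i 130 with h9 | h9
  · exact allR_spec _ (117 : ℕ) (13 : ℕ) wk9_9 i (by omega) (by omega)
  rcases Nat.lt_or_ge i 143 with h10 | h10
  · exact allR_spec _ (130 : ℕ) (13 : ℕ) wk9_10 i (by omega) (by omega)
  rcases Nat.lt_or_ge i 156 with h11 | h11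
  · exact allR_spec _ (143 : ℕ) (13 : ℕ) wk9_11 i (by omega) (by omega)
  rcases Nat.lt_or_ge i 169 with h12 | h12
  · exact allR_spec _ (156 : ℕ) (13 : ℕ) wk9_12 i (by omega) (by omega)
  rcases Nat.lt_or_ge i 182 with h13 | h13
  · exact allR_spec _ (169 : ℕ) (13 : ℕ) wk9_13 i (by omega) (by omega)
  rcases Nat.lt_or_ge i 195 with h14 | h14
  · exact allR_spec _ (182 : ℕ) (13 : ℕ) wk9_14 i (by omega) (by omega)
  rcases Nat.lt_or_ge i 208 with h15 | h15
  · exact allR_spec _ (195 : ℕ) (13 : ℕ) wk9_15 i (by omega) (by omega)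
  rcases Nat.lt_or_ge i 221 with h16 | h16
  · exact allR_spec _ (208 : ℕ) (13 : ℕ) wk9_16 i (by omega) (by omega)
  rcases Nat.lt_or_ge i 234 with h17 | h17
  · exact allR_spec _ (221 : ℕ) (13 : ℕ) wk9_17 i (by omega) (by omega)
  rcases Nat.lt_or_ge i 247 with h18 | h18
  · exact allR_spec _ (234 : ℕ) (13 : ℕ) wk9_18 i (by omega) (by omega)
  rcases Nat.lt_or_ge i 260 with h19 | h19
  · exact allR_spec _ (247 : ℕ) (13 : ℕ) wk9_19 i (by omega) (by omega)
  rcases Nat.lt_or_ge i 273 with h20 | h20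
  · exact allR_spec _ (260 : ℕ) (13 : ℕ) wk9_20 i (by omega) (by omega)
  exact allR_spec _ (273 : ℕ) (2 : ℕ) wk9_21 i (by omega) (by omega)
theorem wk10 : allR (OT.ckEqW [X16, X15, X12, X7, X9, X7, X7, X9, X2, X2, X5, X5, X2, X4, X4, T2, X1, T1, X0, X0, T2, X1] [X20]) (nat_lit 0) (nat_lit 275) = true := by
  apply allR_of_forall
  intro i hi
  have hi : i < 275 := hi
  rcases Nat.lt_or_ge i 11 with h0 | h0
  · exact allR_spec _ (0 : ℕ) (11 : ℕ) wk10_0 i (by omega) (by omega)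
  rcases Nat.lt_or_ge i 22 with h1 | h1
  · exact allR_spec _ (11 : ℕ) (11 : ℕ) wk10_1 i (by omega) (by omega)
  rcases Nat.lt_or_ge i 33 with h2 | h2
  · exact allR_spec _ (22 : ℕ) (11 : ℕ) wk10_2 i (by omega) (by omega)
  rcases Nat.lt_or_ge i 44 with h3 | h3
  · exact allR_spec _ (33 : ℕ) (11 : ℕ) wk10_3 i (by omega) (by omega)
  rcases Nat.lt_or_ge i 55 with h4 | h4
  · exact allR_spec _ (44 : ℕ) (11 : ℕ) wk10_4 i (by omega) (by omega)
  rcases Nat.lt_or_ge i 66 with h5 | h5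
  · exact allR_spec _ (55 : ℕ) (11 : ℕ) wk10_5 i (by omega) (by omega)
  rcases Nat.lt_or_ge i 77 with h6 | h6
  · exact allR_spec _ (66 : ℕ) (11 : ℕ) wk10_6 i (by omega) (by omega)
  rcases Nat.lt_or_ge i 88 with h7 | h7
  · exact allR_spec _ (77 : ℕ) (11 : ℕ) wk10_7 i (by omega) (by omega)
  rcases Nat.lt_or_ge i 99 with h8 | h8
  · exact allR_spec _ (88 : ℕ) (11 : ℕ) wk10_8 i (by omega) (by omega)
  rcases Nat.lt_or_ge i 110 with h9 | h9
  · exact allR_spec _ (99 : ℕ) (11 : ℕ) wk10_9 i (by omega) (by omega)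
  rcases Nat.lt_or_ge i 121 with h10 | h10
  · exact allR_spec _ (110 : ℕ) (11 : ℕ) wk10_10 i (by omega) (by omega)
  rcases Nat.lt_or_ge i 132 with h11 | h11
  · exact allR_spec _ (121 : ℕ) (11 : ℕ) wk10_11 i (by omega) (by omega)
  rcases Nat.lt_or_ge i 143 with h12 | h12
  · exact allR_spec _ (132 : ℕ) (11 : ℕ) wk10_12 i (by omega) (by omega)
  rcases Nat.lt_or_ge i 154 with h13 | h13
  · exact allR_spec _ (143 : ℕ) (11 : ℕ) wk10_13 i (by omega) (by omega)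
  rcases Nat.lt_or_ge i 165 with h14 | h14
  · exact allR_spec _ (154 : ℕ) (11 : ℕ) wk10_14 i (by omega) (by omega)
  rcases Nat.lt_or_ge i 176 with h15 | h15
  · exact allR_spec _ (165 : ℕ) (11 : ℕ) wk10_15 i (by omega) (by omega)
  rcases Nat.lt_or_ge i 187 with h16 | h16
  · exact allR_spec _ (176 : ℕ) (11 : ℕ) wk10_16 i (by omega) (by omega)
  rcases Nat.lt_or_ge i 198 with h17 | h17
  · exact allR_spec _ (187 : ℕ) (11 : ℕ) wk10_17 i (by omega) (by omega)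
  rcases Nat.lt_or_ge i 209 with h18 | h18
  · exact allR_spec _ (198 : ℕ) (11 : ℕ) wk10_18 i (by omega) (by omega)
  rcases Nat.lt_or_ge i 220 with h19 | h19
  · exact allR_spec _ (209 : ℕ) (11 : ℕ) wk10_19 i (by omega) (by omega)
  rcases Nat.lt_or_ge i 231 with h20 | h20
  · exact allR_spec _ (220 : ℕ) (11 : ℕ) wk10_20 i (by omega) (by omega)
  rcases Nat.lt_or_ge i 242 with h21 | h21
  · exact allR_spec _ (231 : ℕ) (11 : ℕ) wk10_21 i (by omega) (by omega)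
  rcases Nat.lt_or_ge i 253 with h22 | h22
  · exact allR_spec _ (242 : ℕ) (11 : ℕ) wk10_22 i (by omega) (by omega)
  rcases Nat.lt_or_ge i 264 with h23 | h23
  · exact allR_spec _ (253 : ℕ) (11 : ℕ) wk10_23 i (by omega) (by omega)
  exact allR_spec _ (264 : ℕ) (11 : ℕ) wk10_24 i (by omega) (by omega)
theorem wk11 : allR (OT.ckEqW [X18] [X22]) (nat_lit 0) (nat_lit 275) = true := by
  apply allR_of_forall
  intro i hi
  have hi : i < 275 := hi
  rcases Nat.lt_or_ge i 137 with h0 | h0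
  · exact allR_spec _ (0 : ℕ) (137 : ℕ) wk11_0 i (by omega) (by omega)
  rcases Nat.lt_or_ge i 274 with h1 | h1
  · exact allR_spec _ (137 : ℕ) (137 : ℕ) wk11_1 i (by omega) (by omega)
  exact allR_spec _ (274 : ℕ) (1 : ℕ) wk11_2 i (by omega) (by omega)
theorem wk12 : allR (OT.ckEqW [X20, X0, X0, X0, X20, X18, X1, X21, X1] [X24]) (nat_lit 0) (nat_lit 275) = true := by
  apply allR_of_forall
  intro i hi
  have hi : i < 275 := hi
  rcases Nat.lt_or_ge i 27 with h0 | h0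
  · exact allR_spec _ (0 : ℕ) (27 : ℕ) wk12_0 i (by omega) (by omega)
  rcases Nat.lt_or_ge i 54 with h1 | h1
  · exact allR_spec _ (27 : ℕ) (27 : ℕ) wk12_1 i (by omega) (by omega)
  rcases Nat.lt_or_ge i 81 with h2 | h2
  · exact allR_spec _ (54 : ℕ) (27 : ℕ) wk12_2 i (by omega) (by omega)
  rcases Nat.lt_or_ge i 108 with h3 | h3
  · exact allR_spec _ (81 : ℕ) (27 : ℕ) wk12_3 i (by omega) (by omega)
  rcases Nat.lt_or_ge i 135 with h4 | h4
  · exact allR_spec _ (108 : ℕ) (27 : ℕ) wk12_4 i (by omega) (by omega)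
  rcases Nat.lt_or_ge i 162 with h5 | h5
  · exact allR_spec _ (135 : ℕ) (27 : ℕ) wk12_5 i (by omega) (by omega)
  rcases Nat.lt_or_ge i 189 with h6 | h6
  · exact allR_spec _ (162 : ℕ) (27 : ℕ) wk12_6 i (by omega) (by omega)
  rcases Nat.lt_or_ge i 216 with h7 | h7
  · exact allR_spec _ (189 : ℕ) (27 : ℕ) wk12_7 i (by omega) (by omega)
  rcases Nat.lt_or_ge i 243 with h8 | h8
  · exact allR_spec _ (216 : ℕ) (27 : ℕ) wk12_8 i (by omega) (by omega)
  rcases Nat.lt_or_ge i 270 with h9 | h9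
  · exact allR_spec _ (243 : ℕ) (27 : ℕ) wk12_9 i (by omega) (by omega)
  exact allR_spec _ (270 : ℕ) (5 : ℕ) wk12_10 i (by omega) (by omega)
theorem wk13 : allR (OT.ckEqW [X20, X0, X21, X19] [X26]) (nat_lit 0) (nat_lit 275) = true := by
  apply allR_of_forall
  intro i hi
  have hi : i < 275 := hi
  rcases Nat.lt_or_ge i 55 with h0 | h0
  · exact allR_spec _ (0 : ℕ) (55 : ℕ) wk13_0 i (by omega) (by omega)
  rcases Nat.lt_or_ge i 110 with h1 | h1
  · exact allR_spec _ (55 : ℕ) (55 : ℕ) wk13_1 i (by omega) (by omega)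
  rcases Nat.lt_or_ge i 165 with h2 | h2
  · exact allR_spec _ (110 : ℕ) (55 : ℕ) wk13_2 i (by omega) (by omega)
  rcases Nat.lt_or_ge i 220 with h3 | h3
  · exact allR_spec _ (165 : ℕ) (55 : ℕ) wk13_3 i (by omega) (by omega)
  exact allR_spec _ (220 : ℕ) (55 : ℕ) wk13_4 i (by omega) (by omega)
theorem wk14 : allR (OT.ckEqW [X25, X26, X25, X27, X24, X27, X25, X26, X24] [X28]) (nat_lit 0) (nat_lit 275) = true := by
  apply allR_of_forall
  intro i hi
  have hi : i < 275 := hi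
  rcases Nat.lt_or_ge i 27 with h0 | h0
  · exact allR_spec _ (0 : ℕ) (27 : ℕ) wk14_0 i (by omega) (by omega)
  rcases Nat.lt_or_ge i 54 with h1 | h1
  · exact allR_spec _ (27 : ℕ) (27 : ℕ) wk14_1 i (by omega) (by omega)
  rcases Nat.lt_or_ge i 81 with h2 | h2
  · exact allR_spec _ (54 : ℕ) (27 : ℕ) wk14_2 i (by omega) (by omega)
  rcases Nat.lt_or_ge i 108 with h3 | h3
  · exact allR_spec _ (81 : ℕ) (27 : ℕ) wk14_3 i (by omega) (by omega)
  rcases Nat.lt_or_ge i 135 with h4 | h4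
  · exact allR_spec _ (108 : ℕ) (27 : ℕ) wk14_4 i (by omega) (by omega)
  rcases Nat.lt_or_ge i 162 with h5 | h5
  · exact allR_spec _ (135 : ℕ) (27 : ℕ) wk14_5 i (by omega) (by omega)
  rcases Nat.lt_or_ge i 189 with h6 | h6
  · exact allR_spec _ (162 : ℕ) (27 : ℕ) wk14_6 i (by omega) (by omega)
  rcases Nat.lt_or_ge i 216 with h7 | h7
  · exact allR_spec _ (189 : ℕ) (27 : ℕ) wk14_7 i (by omega) (by omega)
  rcases Nat.lt_or_ge i 243 with h8 | h8
  · exact allR_spec _ (216 : ℕ) (27 : ℕ) wk14_8 i (by omega) (by omega)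
  rcases Nat.lt_or_ge i 270 with h9 | h9
  · exact allR_spec _ (243 : ℕ) (27 : ℕ) wk14_9 i (by omega) (by omega)
  exact allR_spec _ (270 : ℕ) (5 : ℕ) wk14_10 i (by omega) (by omega)
theorem wk15 : allR (OT.ckEqW [X26, X25, X27, X24, X26, X25] [X30]) (nat_lit 0) (nat_lit 275) = true := by
  apply allR_of_forall
  intro i hi
  have hi : i < 275 := hi
  rcases Nat.lt_or_ge i 39 with h0 | h0
  · exact allR_spec _ (0 : ℕ) (39 : ℕ) wk15_0 i (by omega) (by omega)
  rcases Nat.lt_or_ge i 78 with h1 | h1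
  · exact allR_spec _ (39 : ℕ) (39 : ℕ) wk15_1 i (by omega) (by omega)
  rcases Nat.lt_or_ge i 117 with h2 | h2
  · exact allR_spec _ (78 : ℕ) (39 : ℕ) wk15_2 i (by omega) (by omega)
  rcases Nat.lt_or_ge i 156 with h3 | h3
  · exact allR_spec _ (117 : ℕ) (39 : ℕ) wk15_3 i (by omega) (by omega)
  rcases Nat.lt_or_ge i 195 with h4 | h4
  · exact allR_spec _ (156 : ℕ) (39 : ℕ) wk15_4 i (by omega) (by omega)
  rcases Nat.lt_or_ge i 234 with h5 | h5
  · exact allR_spec _ (195 : ℕ) (39 : ℕ) wk15_5 i (by omega) (by omega)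
  rcases Nat.lt_or_ge i 273 with h6 | h6
  · exact allR_spec _ (234 : ℕ) (39 : ℕ) wk15_6 i (by omega) (by omega)
  exact allR_spec _ (273 : ℕ) (2 : ℕ) wk15_7 i (by omega) (by omega)
theorem wk16 : allR (OT.ckEqW [X30, X30, X28, X30, X30, X30, X30, X28, X30, X29, X30, X29, X30] [X32]) (nat_lit 0) (nat_lit 275) = true := by
  apply allR_of_forall
  intro i hi
  have hi : i < 275 := hi
  rcases Nat.lt_or_ge i 19 with h0 | h0
  · exact allR_spec _ (0 : ℕ) (19 : ℕ) wk16_0 i (by omega) (by omega)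
  rcases Nat.lt_or_ge i 38 with h1 | h1
  · exact allR_spec _ (19 : ℕ) (19 : ℕ) wk16_1 i (by omega) (by omega)
  rcases Nat.lt_or_ge i 57 with h2 | h2
  · exact allR_spec _ (38 : ℕ) (19 : ℕ) wk16_2 i (by omega) (by omega)
  rcases Nat.lt_or_ge i 76 with h3 | h3
  · exact allR_spec _ (57 : ℕ) (19 : ℕ) wk16_3 i (by omega) (by omega)
  rcases Nat.lt_or_ge i 95 with h4 | h4
  · exact allR_spec _ (76 : ℕ) (19 : ℕ) wk16_4 i (by omega) (by omega)
  rcases Nat.lt_or_ge i 114 with h5 | h5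
  · exact allR_spec _ (95 : ℕ) (19 : ℕ) wk16_5 i (by omega) (by omega)
  rcases Nat.lt_or_ge i 133 with h6 | h6
  · exact allR_spec _ (114 : ℕ) (19 : ℕ) wk16_6 i (by omega) (by omega)
  rcases Nat.lt_or_ge i 152 with h7 | h7
  · exact allR_spec _ (133 : ℕ) (19 : ℕ) wk16_7 i (by omega) (by omega)
  rcases Nat.lt_or_ge i 171 with h8 | h8
  · exact allR_spec _ (152 : ℕ) (19 : ℕ) wk16_8 i (by omega) (by omega)
  rcases Nat.lt_or_ge i 190 with h9 | h9
  · exact allR_spec _ (171 : ℕ) (19 : ℕ) wk16_9 i (by omega) (by omega)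
  rcases Nat.lt_or_ge i 209 with h10 | h10
  · exact allR_spec _ (190 : ℕ) (19 : ℕ) wk16_10 i (by omega) (by omega)
  rcases Nat.lt_or_ge i 228 with h11 | h11
  · exact allR_spec _ (209 : ℕ) (19 : ℕ) wk16_11 i (by omega) (by omega)
  rcases Nat.lt_or_ge i 247 with h12 | h12
  · exact allR_spec _ (228 : ℕ) (19 : ℕ) wk16_12 i (by omega) (by omega)
  rcases Nat.lt_or_ge i 266 with h13 | h13
  · exact allR_spec _ (247 : ℕ) (19 : ℕ) wk16_13 i (by omega) (by omega)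
  exact allR_spec _ (266 : ℕ) (9 : ℕ) wk16_14 i (by omega) (by omega)
theorem wk17 : allR (OT.ckEqW [X30, X29, X30, X30, X30, X28, X28] [X34]) (nat_lit 0) (nat_lit 275) = true := by
  apply allR_of_forall
  intro i hi
  have hi : i < 275 := hi
  rcases Nat.lt_or_ge i 34 with h0 | h0
  · exact allR_spec _ (0 : ℕ) (34 : ℕ) wk17_0 i (by omega) (by omega)
  rcases Nat.lt_or_ge i 68 with h1 | h1
  · exact allR_spec _ (34 : ℕ) (34 : ℕ) wk17_1 i (by omega) (by omega)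
  rcases Nat.lt_or_ge i 102 with h2 | h2
  · exact allR_spec _ (68 : ℕ) (34 : ℕ) wk17_2 i (by omega) (by omega)
  rcases Nat.lt_or_ge i 136 with h3 | h3
  · exact allR_spec _ (102 : ℕ) (34 : ℕ) wk17_3 i (by omega) (by omega)
  rcases Nat.lt_or_ge i 170 with h4 | h4
  · exact allR_spec _ (136 : ℕ) (34 : ℕ) wk17_4 i (by omega) (by omega)
  rcases Nat.lt_or_ge i 204 with h5 | h5
  · exact allR_spec _ (170 : ℕ) (34 : ℕ) wk17_5 i (by omega) (by omega)
  rcases Nat.lt_or_ge i 238 with h6 | h6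
  · exact allR_spec _ (204 : ℕ) (34 : ℕ) wk17_6 i (by omega) (by omega)
  rcases Nat.lt_or_ge i 272 with h7 | h7
  · exact allR_spec _ (238 : ℕ) (34 : ℕ) wk17_7 i (by omega) (by omega)
  exact allR_spec _ (272 : ℕ) (3 : ℕ) wk17_8 i (by omega) (by omega)
theorem wk18 : allR (OT.ckEqW [X28, X31, X31, X29] [X36]) (nat_lit 0) (nat_lit 275) = true := by
  apply allR_of_forall
  intro i hi
  have hi : i < 275 := hi
  rcases Nat.lt_or_ge i 55 with h0 | h0
  · exact allR_spec _ (0 : ℕ) (55 : ℕ) wk18_0 i (by omega) (by omega)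
  rcases Nat.lt_or_ge i 110 with h1 | h1
  · exact allR_spec _ (55 : ℕ) (55 : ℕ) wk18_1 i (by omega) (by omega)
  rcases Nat.lt_or_ge i 165 with h2 | h2
  · exact allR_spec _ (110 : ℕ) (55 : ℕ) wk18_2 i (by omega) (by omega)
  rcases Nat.lt_or_ge i 220 with h3 | h3
  · exact allR_spec _ (165 : ℕ) (55 : ℕ) wk18_3 i (by omega) (by omega)
  exact allR_spec _ (220 : ℕ) (55 : ℕ) wk18_4 i (by omega) (by omega)
theorem wk19 : allR (OT.ckEqW [X36, X34, X33, X35] [X38]) (nat_lit 0) (nat_lit 275) = true := by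
  apply allR_of_forall
  intro i hi
  have hi : i < 275 := hi
  rcases Nat.lt_or_ge i 55 with h0 | h0
  · exact allR_spec _ (0 : ℕ) (55 : ℕ) wk19_0 i (by omega) (by omega)
  rcases Nat.lt_or_ge i 110 with h1 | h1
  · exact allR_spec _ (55 : ℕ) (55 : ℕ) wk19_1 i (by omega) (by omega)
  rcases Nat.lt_or_ge i 165 with h2 | h2
  · exact allR_spec _ (110 : ℕ) (55 : ℕ) wk19_2 i (by omega) (by omega)
  rcases Nat.lt_or_ge i 220 with h3 | h3
  · exact allR_spec _ (165 : ℕ) (55 : ℕ) wk19_3 i (by omega) (by omega)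
  exact allR_spec _ (220 : ℕ) (55 : ℕ) wk19_4 i (by omega) (by omega)
theorem wk20 : allR (OT.ckEqW [X19, X19, X1, X21, X19, X0, X19, X19, X1] [X40]) (nat_lit 0) (nat_lit 275) = true := by
  apply allR_of_forall
  intro i hi
  have hi : i < 275 := hi
  rcases Nat.lt_or_ge i 27 with h0 | h0
  · exact allR_spec _ (0 : ℕ) (27 : ℕ) wk20_0 i (by omega) (by omega)
  rcases Nat.lt_or_ge i 54 with h1 | h1
  · exact allR_spec _ (27 : ℕ) (27 : ℕ) wk20_1 i (by omega) (by omega)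
  rcases Nat.lt_or_ge i 81 with h2 | h2
  · exact allR_spec _ (54 : ℕ) (27 : ℕ) wk20_2 i (by omega) (by omega)
  rcases Nat.lt_or_ge i 108 with h3 | h3
  · exact allR_spec _ (81 : ℕ) (27 : ℕ) wk20_3 i (by omega) (by omega)
  rcases Nat.lt_or_ge i 135 with h4 | h4
  · exact allR_spec _ (108 : ℕ) (27 : ℕ) wk20_4 i (by omega) (by omega)
  rcases Nat.lt_or_ge i 162 with h5 | h5
  · exact allR_spec _ (135 : ℕ) (27 : ℕ) wk20_5 i (by omega) (by omega)
  rcases Nat.lt_or_ge i 189 with h6 | h6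
  · exact allR_spec _ (162 : ℕ) (27 : ℕ) wk20_6 i (by omega) (by omega)
  rcases Nat.lt_or_ge i 216 with h7 | h7
  · exact allR_spec _ (189 : ℕ) (27 : ℕ) wk20_7 i (by omega) (by omega)
  rcases Nat.lt_or_ge i 243 with h8 | h8
  · exact allR_spec _ (216 : ℕ) (27 : ℕ) wk20_8 i (by omega) (by omega)
  rcases Nat.lt_or_ge i 270 with h9 | h9
  · exact allR_spec _ (243 : ℕ) (27 : ℕ) wk20_9 i (by omega) (by omega)
  exact allR_spec _ (270 : ℕ) (5 : ℕ) wk20_10 i (by omega) (by omega)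
theorem wk21 : allR (OT.ckEqW [X0, X19, X1, X18, X0, X21, X0, X21] [X42]) (nat_lit 0) (nat_lit 275) = true := by
  apply allR_of_forall
  intro i hi
  have hi : i < 275 := hi
  rcases Nat.lt_or_ge i 30 with h0 | h0
  · exact allR_spec _ (0 : ℕ) (30 : ℕ) wk21_0 i (by omega) (by omega)
  rcases Nat.lt_or_ge i 60 with h1 | h1
  · exact allR_spec _ (30 : ℕ) (30 : ℕ) wk21_1 i (by omega) (by omega)
  rcases Nat.lt_or_ge i 90 with h2 | h2
  · exact allR_spec _ (60 : ℕ) (30 : ℕ) wk21_2 i (by omega) (by omega)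
  rcases Nat.lt_or_ge i 120 with h3 | h3
  · exact allR_spec _ (90 : ℕ) (30 : ℕ) wk21_3 i (by omega) (by omega)
  rcases Nat.lt_or_ge i 150 with h4 | h4
  · exact allR_spec _ (120 : ℕ) (30 : ℕ) wk21_4 i (by omega) (by omega)
  rcases Nat.lt_or_ge i 180 with h5 | h5
  · exact allR_spec _ (150 : ℕ) (30 : ℕ) wk21_5 i (by omega) (by omega)
  rcases Nat.lt_or_ge i 210 with h6 | h6
  · exact allR_spec _ (180 : ℕ) (30 : ℕ) wk21_6 i (by omega) (by omega)
  rcases Nat.lt_or_ge i 240 with h7 | h7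
  · exact allR_spec _ (210 : ℕ) (30 : ℕ) wk21_7 i (by omega) (by omega)
  rcases Nat.lt_or_ge i 270 with h8 | h8
  · exact allR_spec _ (240 : ℕ) (30 : ℕ) wk21_8 i (by omega) (by omega)
  exact allR_spec _ (270 : ℕ) (5 : ℕ) wk21_9 i (by omega) (by omega)
theorem wk22 : allR (OT.ckEqW [X42, X42, X40, X42] [X44]) (nat_lit 0) (nat_lit 275) = true := by
  apply allR_of_forall
  intro i hi
  have hi : i < 275 := hi
  rcases Nat.lt_or_ge i 55 with h0 | h0
  · exact allR_spec _ (0 : ℕ) (55 : ℕ) wk22_0 i (by omega) (by omega)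
  rcases Nat.lt_or_ge i 110 with h1 | h1
  · exact allR_spec _ (55 : ℕ) (55 : ℕ) wk22_1 i (by omega) (by omega)
  rcases Nat.lt_or_ge i 165 with h2 | h2
  · exact allR_spec _ (110 : ℕ) (55 : ℕ) wk22_2 i (by omega) (by omega)
  rcases Nat.lt_or_ge i 220 with h3 | h3
  · exact allR_spec _ (165 : ℕ) (55 : ℕ) wk22_3 i (by omega) (by omega)
  exact allR_spec _ (220 : ℕ) (55 : ℕ) wk22_4 i (by omega) (by omega)
theorem wk23 : allR (OT.ckEqW [X41, X41, X42, X41] [X46]) (nat_lit 0) (nat_lit 275) = true := by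
  apply allR_of_forall
  intro i hi
  have hi : i < 275 := hi
  rcases Nat.lt_or_ge i 55 with h0 | h0
  · exact allR_spec _ (0 : ℕ) (55 : ℕ) wk23_0 i (by omega) (by omega)
  rcases Nat.lt_or_ge i 110 with h1 | h1
  · exact allR_spec _ (55 : ℕ) (55 : ℕ) wk23_1 i (by omega) (by omega)
  rcases Nat.lt_or_ge i 165 with h2 | h2
  · exact allR_spec _ (110 : ℕ) (55 : ℕ) wk23_2 i (by omega) (by omega)
  rcases Nat.lt_or_ge i 220 with h3 | h3
  · exact allR_spec _ (165 : ℕ) (55 : ℕ) wk23_3 i (by omega) (by omega)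
  exact allR_spec _ (220 : ℕ) (55 : ℕ) wk23_4 i (by omega) (by omega)
theorem wk24 : allR (OT.ckEqW [X46, X44, X47, X45, X45, X47] [X48]) (nat_lit 0) (nat_lit 275) = true := by
  apply allR_of_forall
  intro i hi
  have hi : i < 275 := hi
  rcases Nat.lt_or_ge i 39 with h0 | h0
  · exact allR_spec _ (0 : ℕ) (39 : ℕ) wk24_0 i (by omega) (by omega)
  rcases Nat.lt_or_ge i 78 with h1 | h1
  · exact allR_spec _ (39 : ℕ) (39 : ℕ) wk24_1 i (by omega) (by omega)
  rcases Nat.lt_or_ge i 117 with h2 | h2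
  · exact allR_spec _ (78 : ℕ) (39 : ℕ) wk24_2 i (by omega) (by omega)
  rcases Nat.lt_or_ge i 156 with h3 | h3
  · exact allR_spec _ (117 : ℕ) (39 : ℕ) wk24_3 i (by omega) (by omega)
  rcases Nat.lt_or_ge i 195 with h4 | h4
  · exact allR_spec _ (156 : ℕ) (39 : ℕ) wk24_4 i (by omega) (by omega)
  rcases Nat.lt_or_ge i 234 with h5 | h5
  · exact allR_spec _ (195 : ℕ) (39 : ℕ) wk24_5 i (by omega) (by omega)
  rcases Nat.lt_or_ge i 273 with h6 | h6
  · exact allR_spec _ (234 : ℕ) (39 : ℕ) wk24_6 i (by omega) (by omega)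
  exact allR_spec _ (273 : ℕ) (2 : ℕ) wk24_7 i (by omega) (by omega)
theorem wk25 : allR (OT.ckEqW [X45, X47, X44, X47, X44, X46, X45] [X50]) (nat_lit 0) (nat_lit 275) = true := by
  apply allR_of_forall
  intro i hi
  have hi : i < 275 := hi
  rcases Nat.lt_or_ge i 34 with h0 | h0
  · exact allR_spec _ (0 : ℕ) (34 : ℕ) wk25_0 i (by omega) (by omega)
  rcases Nat.lt_or_ge i 68 with h1 | h1
  · exact allR_spec _ (34 : ℕ) (34 : ℕ) wk25_1 i (by omega) (by omega)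
  rcases Nat.lt_or_ge i 102 with h2 | h2
  · exact allR_spec _ (68 : ℕ) (34 : ℕ) wk25_2 i (by omega) (by omega)
  rcases Nat.lt_or_ge i 136 with h3 | h3
  · exact allR_spec _ (102 : ℕ) (34 : ℕ) wk25_3 i (by omega) (by omega)
  rcases Nat.lt_or_ge i 170 with h4 | h4
  · exact allR_spec _ (136 : ℕ) (34 : ℕ) wk25_4 i (by omega) (by omega)
  rcases Nat.lt_or_ge i 204 with h5 | h5
  · exact allR_spec _ (170 : ℕ) (34 : ℕ) wk25_5 i (by omega) (by omega)
  rcases Nat.lt_or_ge i 238 with h6 | h6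
  · exact allR_spec _ (204 : ℕ) (34 : ℕ) wk25_6 i (by omega) (by omega)
  rcases Nat.lt_or_ge i 272 with h7 | h7
  · exact allR_spec _ (238 : ℕ) (34 : ℕ) wk25_7 i (by omega) (by omega)
  exact allR_spec _ (272 : ℕ) (3 : ℕ) wk25_8 i (by omega) (by omega)
theorem wk26 : allR (OT.ckEqW [X51, X51, X48, X51, X49] [X52]) (nat_lit 0) (nat_lit 275) = true := by
  apply allR_of_forall
  intro i hi
  have hi : i < 275 := hi
  rcases Nat.lt_or_ge i 45 with h0 | h0
  · exact allR_spec _ (0 : ℕ) (45 : ℕ) wk26_0 i (by omega) (by omega)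
  rcases Nat.lt_or_ge i 90 with h1 | h1
  · exact allR_spec _ (45 : ℕ) (45 : ℕ) wk26_1 i (by omega) (by omega)
  rcases Nat.lt_or_ge i 135 with h2 | h2
  · exact allR_spec _ (90 : ℕ) (45 : ℕ) wk26_2 i (by omega) (by omega)
  rcases Nat.lt_or_ge i 180 with h3 | h3
  · exact allR_spec _ (135 : ℕ) (45 : ℕ) wk26_3 i (by omega) (by omega)
  rcases Nat.lt_or_ge i 225 with h4 | h4
  · exact allR_spec _ (180 : ℕ) (45 : ℕ) wk26_4 i (by omega) (by omega)
  rcases Nat.lt_or_ge i 270 with h5 | h5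
  · exact allR_spec _ (225 : ℕ) (45 : ℕ) wk26_5 i (by omega) (by omega)
  exact allR_spec _ (270 : ℕ) (5 : ℕ) wk26_6 i (by omega) (by omega)
theorem wk27 : allR (OT.ckEqW [X51, X49, X51, X49, X50, X48, X48] [X54]) (nat_lit 0) (nat_lit 275) = true := by
  apply allR_of_forall
  intro i hi
  have hi : i < 275 := hi
  rcases Nat.lt_or_ge i 34 with h0 | h0
  · exact allR_spec _ (0 : ℕ) (34 : ℕ) wk27_0 i (by omega) (by omega)
  rcases Nat.lt_or_ge i 68 with h1 | h1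
  · exact allR_spec _ (34 : ℕ) (34 : ℕ) wk27_1 i (by omega) (by omega)
  rcases Nat.lt_or_ge i 102 with h2 | h2
  · exact allR_spec _ (68 : ℕ) (34 : ℕ) wk27_2 i (by omega) (by omega)
  rcases Nat.lt_or_ge i 136 with h3 | h3
  · exact allR_spec _ (102 : ℕ) (34 : ℕ) wk27_3 i (by omega) (by omega)
  rcases Nat.lt_or_ge i 170 with h4 | h4
  · exact allR_spec _ (136 : ℕ) (34 : ℕ) wk27_4 i (by omega) (by omega)
  rcases Nat.lt_or_ge i 204 with h5 | h5
  · exact allR_spec _ (170 : ℕ) (34 : ℕ) wk27_5 i (by omega) (by omega)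
  rcases Nat.lt_or_ge i 238 with h6 | h6
  · exact allR_spec _ (204 : ℕ) (34 : ℕ) wk27_6 i (by omega) (by omega)
  rcases Nat.lt_or_ge i 272 with h7 | h7
  · exact allR_spec _ (238 : ℕ) (34 : ℕ) wk27_7 i (by omega) (by omega)
  exact allR_spec _ (272 : ℕ) (3 : ℕ) wk27_8 i (by omega) (by omega)
def bws : List (List Nat) := [[0, 2, 1], [2, 3], [2, 1, 2, 4, 0, 1, 2, 4], [8, 8, 5, 8, 5, 7, 5, 5, 7, 7], [6, 8], [9, 12, 12, 9, 9, 12, 10, 12, 9, 12, 10], [10, 10, 11, 10, 12, 12, 9, 11, 10], [12, 10, 10, 11, 11, 9, 12, 9], [17, 14, 15, 13], [19, 14, 17, 13, 9, 11, 10, 11, 5, 5, 7, 7, 6, 8, 3, 3, 0, 1, 0, 2], [19, 18, 15, 10, 12, 10, 10, 12, 5, 5, 8, 8, 5, 7, 7, 2, 4, 1, 3, 3, 2, 4], [21], [23, 3, 3, 3, 23, 21, 4, 24, 4], [23, 3, 24, 22], [28, 29, 28, 30, 27, 30, 28, 29, 27], [29, 28, 30, 27, 29, 28], [33, 33, 31, 33, 33, 33, 33, 31, 33, 32, 33, 32, 33], [33, 32, 33, 33, 33, 31, 31], [31, 34, 34, 32], [39, 37, 36, 38], [22,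 22, 4, 24, 22, 3, 22, 22, 4], [3, 22, 4, 21, 3, 24, 3, 24], [45, 45, 43, 45], [44, 44, 45, 44], [49, 47, 50, 48, 48, 50], [48, 50, 47, 50, 47, 49, 48], [54, 54, 51, 54, 52], [54, 52, 54, 52, 53, 51, 51]]
noncomputable def T' : Nat → Nat → Nat := fun l => (@Nat.rec (fun _ => Nat → Nat) T0 (fun l _ => (@Nat.rec (fun _ => Nat → Nat) T1 (fun l _ => (@Nat.rec (fun _ => Nat → Nat) T2 (fun l _ => (@Nat.rec (fun _ => Nat → Nat) X0 (fun l _ => (@Nat.rec (fun _ => Nat → Nat) X1 (fun l _ => (@Nat.rec (fun _ => Nat → Nat) X2 (fun l _ => (@Nat.rec (fun _ => Nat → Nat) X3 (fun l _ => (@Nat.rec (fun _ => Nat → Nat) X4 (fun l _ => (@Nat.rec (fun _ => Nat → Nat) X5 (fun l _ => (@Nat.rec (fun _ => Nat → Nat) X6 (fun l _ => (@Nat.rec (fun _ => Nat → Nat) X7 (fun l _ => (@Nat.rec (fun _ => Nat → Nat) X8 (fun l _ => (@Nat.rec (fun _ => Nat → Nat) X9 (fun l _ => (@Nat.rec (fun _ => Nat → Nat) X10 (fun l _ => (@Nat.rec (fun _ => Nat → Nat)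 X11 (fun l _ => (@Nat.rec (fun _ => Nat → Nat) X12 (fun l _ => (@Nat.rec (fun _ => Nat → Nat) X13 (fun l _ => (@Nat.rec (fun _ => Nat → Nat) X14 (fun l _ => (@Nat.rec (fun _ => Nat → Nat) X15 (fun l _ => (@Nat.rec (fun _ => Nat → Nat) X16 (fun l _ => (@Nat.rec (fun _ => Nat → Nat) X17 (fun l _ => (@Nat.rec (fun _ => Nat → Nat) X18 (fun l _ => (@Nat.rec (fun _ => Nat → Nat) X19 (fun l _ => (@Nat.rec (fun _ => Nat → Nat) X20 (fun l _ => (@Nat.rec (fun _ => Nat → Nat) X21 (fun l _ => (@Nat.rec (fun _ => Nat → Nat) X22 (fun l _ => (@Nat.rec (fun _ => Nat → Nat) X23 (fun l _ => (@Nat.rec (fun _ => Nat → Nat) X24 (fun l _ => (@Nat.rec (fun _ => Nat → Nat) X25 (fun l _ => (@Nat.rec (fun _ => Nat → Nat) X26 (fun l _ => (@Nat.rec (fun _ => Nat → Nat) X27 (fun l _ => (@Nat.rec (fun _ => Nat → Nat) X28 (fun l _ => (@Nat.rec (fun _ => Nat → Nat) X29 (fun l _ => (@Nat.rec (fun _ => Nat → Nat) X30 (fun l _ => (@Nat.rec (fun _ =>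 Nat → Nat) X31 (fun l _ => (@Nat.rec (fun _ => Nat → Nat) X32 (fun l _ => (@Nat.rec (fun _ => Nat → Nat) X33 (fun l _ => (@Nat.rec (fun _ => Nat → Nat) X34 (fun l _ => (@Nat.rec (fun _ => Nat → Nat) X35 (fun l _ => (@Nat.rec (fun _ => Nat → Nat) X36 (fun l _ => (@Nat.rec (fun _ => Nat → Nat) X37 (fun l _ => (@Nat.rec (fun _ => Nat → Nat) X38 (fun l _ => (@Nat.rec (fun _ => Nat → Nat) X39 (fun l _ => (@Nat.rec (fun _ => Nat → Nat) X40 (fun l _ => (@Nat.rec (fun _ => Nat → Nat) X41 (fun l _ => (@Nat.rec (fun _ => Nat → Nat) X42 (fun l _ => (@Nat.rec (fun _ => Nat → Nat) X43 (fun l _ => (@Nat.rec (fun _ => Nat → Nat) X44 (fun l _ => (@Nat.rec (fun _ => Nat → Nat) X45 (fun l _ => (@Nat.rec (fun _ => Nat → Nat) X46 (fun l _ => (@Nat.rec (fun _ => Nat → Nat) X47 (fun l _ => (@Nat.rec (fun _ => Nat → Nat) X48 (fun l _ => (@Nat.rec (fun _ => Nat → Nat) X49 (fun l _ => (@Nat.rec (fun _ => Nat → Nat) X50 (fun l _ => (@Nat.rec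 (fun _ => Nat → Nat) X51 (fun l _ => (@Nat.rec (fun _ => Nat → Nat) X52 (fun l _ => (@Nat.rec (fun _ => Nat → Nat) X53 (fun l _ => (@Nat.rec (fun _ => Nat → Nat) X54 (fun l _ => X55) l)) l)) l)) l)) l)) l)) l)) l)) l)) l)) l)) l)) l)) l)) l)) l)) l)) l)) l)) l)) l)) l)) l)) l)) l)) l)) l)) l)) l)) l)) l)) l)) l)) l)) l)) l)) l)) l)) l)) l)) l)) l)) l)) l)) l)) l)) l)) l)) l)) l)) l)) l)) l)) l)) l)) l)) l)) l)
def inv' : Nat → Nat := fun l => [0, 1, 2, 4, 3, 6, 5, 8, 7, 10, 9, 12, 11, 14, 13, 16, 15, 18, 17, 20, 19, 22, 21, 24, 23, 26, 25, 28, 27, 30, 29, 32, 31, 34, 33, 36, 35, 38, 37, 40, 39, 42, 41, 44, 43, 46, 45, 48, 47, 50, 49, 52, 51, 54, 53, 56, 55, 58, 57].getD l 0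

theorem hTT : ∀ l < 3, T' l = Cfsg.Agent.H8.LtM.T l := by
  intro l hl
  interval_cases l <;> rfl

theorem hii : ∀ l < 3, inv' l = Cfsg.Agent.H8.LtM.inv l := by
  intro l hl
  interval_cases l <;> rfl

theorem h1 : ∀ l, 3 ≤ l → l < 59 → inv' l < 59 ∧ inv' (inv' l) = l := by
  intro l h1 h2
  interval_cases l <;> decide

theorem h2 : ∀ l, 3 ≤ l → l < 59 → ∀ i < 275, T' l i < 275 ∧ T' (inv' l) (T' l i) = i := by
  intro l h1 h2 i hi
  interval_cases l
  · exact ckPerm_sound _ _ _ _ (allR_zero _ _ pk0 i hi)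
  · exact ckPerm_sound _ _ _ _ (allR_zero _ _ pk1 i hi)
  · exact ckPerm_sound _ _ _ _ (allR_zero _ _ pk2 i hi)
  · exact ckPerm_sound _ _ _ _ (allR_zero _ _ pk3 i hi)
  · exact ckPerm_sound _ _ _ _ (allR_zero _ _ pk4 i hi)
  · exact ckPerm_sound _ _ _ _ (allR_zero _ _ pk5 i hi)
  · exact ckPerm_sound _ _ _ _ (allR_zero _ _ pk6 i hi)
  · exact ckPerm_sound _ _ _ _ (allR_zero _ _ pk7 i hi)
  · exact ckPerm_sound _ _ _ _ (allR_zero _ _ pk8 i hi)
  · exact ckPerm_sound _ _ _ _ (allR_zero _ _ pk9 i hi)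
  · exact ckPerm_sound _ _ _ _ (allR_zero _ _ pk10 i hi)
  · exact ckPerm_sound _ _ _ _ (allR_zero _ _ pk11 i hi)
  · exact ckPerm_sound _ _ _ _ (allR_zero _ _ pk12 i hi)
  · exact ckPerm_sound _ _ _ _ (allR_zero _ _ pk13 i hi)
  · exact ckPerm_sound _ _ _ _ (allR_zero _ _ pk14 i hi)
  · exact ckPerm_sound _ _ _ _ (allR_zero _ _ pk15 i hi)
  · exact ckPerm_sound _ _ _ _ (allR_zero _ _ pk16 i hi)
  · exact ckPerm_sound _ _ _ _ (allR_zero _ _ pk17 i hi)
  · exact ckPerm_sound _ _ _ _ (allR_zero _ _ pk18 i hi)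
  · exact ckPerm_sound _ _ _ _ (allR_zero _ _ pk19 i hi)
  · exact ckPerm_sound _ _ _ _ (allR_zero _ _ pk20 i hi)
  · exact ckPerm_sound _ _ _ _ (allR_zero _ _ pk21 i hi)
  · exact ckPerm_sound _ _ _ _ (allR_zero _ _ pk22 i hi)
  · exact ckPerm_sound _ _ _ _ (allR_zero _ _ pk23 i hi)
  · exact ckPerm_sound _ _ _ _ (allR_zero _ _ pk24 i hi)
  · exact ckPerm_sound _ _ _ _ (allR_zero _ _ pk25 i hi)
  · exact ckPerm_sound _ _ _ _ (allR_zero _ _ pk26 i hi)
  · exact ckPerm_sound _ _ _ _ (allR_zero _ _ pk27 i hi)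
  · exact ckPerm_sound _ _ _ _ (allR_zero _ _ pk28 i hi)
  · exact ckPerm_sound _ _ _ _ (allR_zero _ _ pk29 i hi)
  · exact ckPerm_sound _ _ _ _ (allR_zero _ _ pk30 i hi)
  · exact ckPerm_sound _ _ _ _ (allR_zero _ _ pk31 i hi)
  · exact ckPerm_sound _ _ _ _ (allR_zero _ _ pk32 i hi)
  · exact ckPerm_sound _ _ _ _ (allR_zero _ _ pk33 i hi)
  · exact ckPerm_sound _ _ _ _ (allR_zero _ _ pk34 i hi)
  · exact ckPerm_sound _ _ _ _ (allR_zero _ _ pk35 i hi)
  · exact ckPerm_sound _ _ _ _ (allR_zero _ _ pk36 i hi)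
  · exact ckPerm_sound _ _ _ _ (allR_zero _ _ pk37 i hi)
  · exact ckPerm_sound _ _ _ _ (allR_zero _ _ pk38 i hi)
  · exact ckPerm_sound _ _ _ _ (allR_zero _ _ pk39 i hi)
  · exact ckPerm_sound _ _ _ _ (allR_zero _ _ pk40 i hi)
  · exact ckPerm_sound _ _ _ _ (allR_zero _ _ pk41 i hi)
  · exact ckPerm_sound _ _ _ _ (allR_zero _ _ pk42 i hi)
  · exact ckPerm_sound _ _ _ _ (allR_zero _ _ pk43 i hi)
  · exact ckPerm_sound _ _ _ _ (allR_zero _ _ pk44 i hi)
  · exact ckPerm_sound _ _ _ _ (allR_zero _ _ pk45 i hi)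
  · exact ckPerm_sound _ _ _ _ (allR_zero _ _ pk46 i hi)
  · exact ckPerm_sound _ _ _ _ (allR_zero _ _ pk47 i hi)
  · exact ckPerm_sound _ _ _ _ (allR_zero _ _ pk48 i hi)
  · exact ckPerm_sound _ _ _ _ (allR_zero _ _ pk49 i hi)
  · exact ckPerm_sound _ _ _ _ (allR_zero _ _ pk50 i hi)
  · exact ckPerm_sound _ _ _ _ (allR_zero _ _ pk51 i hi)
  · exact ckPerm_sound _ _ _ _ (allR_zero _ _ pk52 i hi)
  · exact ckPerm_sound _ _ _ _ (allR_zero _ _ pk53 i hi)
  · exact ckPerm_sound _ _ _ _ (allR_zero _ _ pk54 i hi)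
  · exact ckPerm_sound _ _ _ _ (allR_zero _ _ pk55 i hi)

theorem tok : TableOK 275 59 T' inv' :=
  OT.tableOK_ext Cfsg.Agent.H8.LtM.tok (by decide) hTT hii h1 h2

theorem hwb : ∀ i < bws.length, (∀ l ∈ bws.getD i [], l < 3 + 2 * i) ∧ inv' (3 + 2 * i) = 3 + 2 * i + 1 ∧
    ∀ j < 275, trN T' (bws.getD i []) j = T' (3 + 2 * i) j := by
  intro i hi
  have hl : bws.length = 28 := by decide
  rw [hl] at hi
  interval_cases i
  · exact ⟨by decide, by decide, fun j hj => OT.ckEqW_sound (T := T') [0, 2, 1] [3] j (allR_zero _ _ wk0 j hj)⟩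
  · exact ⟨by decide, by decide, fun j hj => OT.ckEqW_sound (T := T') [2, 3] [5] j (allR_zero _ _ wk1 j hj)⟩
  · exact ⟨by decide, by decide, fun j hj => OT.ckEqW_sound (T := T') [2, 1, 2, 4, 0, 1, 2, 4] [7] j (allR_zero _ _ wk2 j hj)⟩
  · exact ⟨by decide, by decide, fun j hj => OT.ckEqW_sound (T := T') [8, 8, 5, 8, 5, 7, 5, 5, 7, 7] [9] j (allR_zero _ _ wk3 j hj)⟩
  · exact ⟨by decide, by decide, fun j hj => OT.ckEqW_sound (T := T') [6, 8] [11] j (allR_zero _ _ wk4 j hj)⟩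
  · exact ⟨by decide, by decide, fun j hj => OT.ckEqW_sound (T := T') [9, 12, 12, 9, 9, 12, 10, 12, 9, 12, 10] [13] j (allR_zero _ _ wk5 j hj)⟩
  · exact ⟨by decide, by decide, fun j hj => OT.ckEqW_sound (T := T') [10, 10, 11, 10, 12, 12, 9, 11, 10] [15] j (allR_zero _ _ wk6 j hj)⟩
  · exact ⟨by decide, by decide, fun j hj => OT.ckEqW_sound (T := T') [12, 10, 10, 11, 11, 9, 12, 9] [17] j (allR_zero _ _ wk7 j hj)⟩
  · exact ⟨by decide, by decide, fun j hj => OT.ckEqW_sound (T := T') [17, 14, 15, 13] [19] j (allR_zero _ _ wk8 j hj)⟩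
  · exact ⟨by decide, by decide, fun j hj => OT.ckEqW_sound (T := T') [19, 14, 17, 13, 9, 11, 10, 11, 5, 5, 7, 7, 6, 8, 3, 3, 0, 1, 0, 2] [21] j (allR_zero _ _ wk9 j hj)⟩
  · exact ⟨by decide, by decide, fun j hj => OT.ckEqW_sound (T := T') [19, 18, 15, 10, 12, 10, 10, 12, 5, 5, 8, 8, 5, 7, 7, 2, 4, 1, 3, 3, 2, 4] [23] j (allR_zero _ _ wk10 j hj)⟩
  · exact ⟨by decide, by decide, fun j hj => OT.ckEqW_sound (T := T') [21] [25] j (allR_zero _ _ wk11 j hj)⟩
  · exact ⟨by decide, by decide, fun j hj => OT.ckEqW_sound (T := T') [23, 3, 3, 3, 23, 21, 4, 24, 4] [27] j (allR_zero _ _ wk12 j hj)⟩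
  · exact ⟨by decide, by decide, fun j hj => OT.ckEqW_sound (T := T') [23, 3, 24, 22] [29] j (allR_zero _ _ wk13 j hj)⟩
  · exact ⟨by decide, by decide, fun j hj => OT.ckEqW_sound (T := T') [28, 29, 28, 30, 27, 30, 28, 29, 27] [31] j (allR_zero _ _ wk14 j hj)⟩
  · exact ⟨by decide, by decide, fun j hj => OT.ckEqW_sound (T := T') [29, 28, 30, 27, 29, 28] [33] j (allR_zero _ _ wk15 j hj)⟩
  · exact ⟨by decide, by decide, fun j hj => OT.ckEqW_sound (T := T') [33, 33, 31, 33, 33, 33, 33, 31, 33, 32, 33, 32, 33] [35] j (allR_zero _ _ wk16 j hj)⟩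
  · exact ⟨by decide, by decide, fun j hj => OT.ckEqW_sound (T := T') [33, 32, 33, 33, 33, 31, 31] [37] j (allR_zero _ _ wk17 j hj)⟩
  · exact ⟨by decide, by decide, fun j hj => OT.ckEqW_sound (T := T') [31, 34, 34, 32] [39] j (allR_zero _ _ wk18 j hj)⟩
  · exact ⟨by decide, by decide, fun j hj => OT.ckEqW_sound (T := T') [39, 37, 36, 38] [41] j (allR_zero _ _ wk19 j hj)⟩
  · exact ⟨by decide, by decide, fun j hj => OT.ckEqW_sound (T := T') [22, 22, 4, 24, 22, 3, 22, 22, 4] [43] j (allR_zero _ _ wk20 j hj)⟩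
  · exact ⟨by decide, by decide, fun j hj => OT.ckEqW_sound (T := T') [3, 22, 4, 21, 3, 24, 3, 24] [45] j (allR_zero _ _ wk21 j hj)⟩
  · exact ⟨by decide, by decide, fun j hj => OT.ckEqW_sound (T := T') [45, 45, 43, 45] [47] j (allR_zero _ _ wk22 j hj)⟩
  · exact ⟨by decide, by decide, fun j hj => OT.ckEqW_sound (T := T') [44, 44, 45, 44] [49] j (allR_zero _ _ wk23 j hj)⟩
  · exact ⟨by decide, by decide, fun j hj => OT.ckEqW_sound (T := T') [49, 47, 50, 48, 48, 50] [51] j (allR_zero _ _ wk24 j hj)⟩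
  · exact ⟨by decide, by decide, fun j hj => OT.ckEqW_sound (T := T') [48, 50, 47, 50, 47, 49, 48] [53] j (allR_zero _ _ wk25 j hj)⟩
  · exact ⟨by decide, by decide, fun j hj => OT.ckEqW_sound (T := T') [54, 54, 51, 54, 52] [55] j (allR_zero _ _ wk26 j hj)⟩
  · exact ⟨by decide, by decide, fun j hj => OT.ckEqW_sound (T := T') [54, 52, 54, 52, 53, 51, 51] [57] j (allR_zero _ _ wk27 j hj)⟩

end Cfsg.Agent.H8.McLO
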