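import Cfsg.Agent.H8.CosetCls

set_option autoImplicit false
set_option linter.all false
set_option maxRecDepth 100000

namespace Cfsg.Agent.H8.ONLt
noncomputable def T0c0 : Nat := nat_lit 0x1c376cd5a3364c582f5cb562b54a54274c95223448501f3c74e1b3464c172c54a13244480f1c3460b14244070c142030404071e1bf76dd9af569d19f365c98f161c17ef5db96ed59b15eb55a94e951a13e74d992e549911e345890e14180fdf3d78edd39
noncomputable def T0 : Nat → Nat := (fun i => Nat.land (Nat.shiftRight T0c0 (Nat.mul (nat_lit 7) (Nat.land i (nat_lit 127)))) (nat_lit 127))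
noncomputable def T1c0 : Nat := nat_lit 0x11203c8d09f3addab370d9a323664b9c3460b305cb18af5aaca1220549911ea53a554a13241a2c48e18284040e0c3020a04067d59b4e5d192cdcb16ebdaad2e74a9b26648ddc76f0d9bf5e0c77f15ec376955a3528539f123c38d0a2c17ef5dc07cf1d39
noncomputable def T1 : Nat → Nat := (fun i => Nat.land (Nat.shiftRight T1c0 (Nat.mul (nat_lit 7) (Nat.land i (nat_lit 127)))) (nat_lit 127))
noncomputable def T2c0 : Nat := nat_lit 0x1c3300c9a376a541265c78b0d026940c5e4d08e44908195a0ce12527c40458c4525361900f46ad3852824c07222cb9d60a9b71d8e75ede1ba73bbf9ebcf8cea9e18ba265a8f6eec9a599e55978ac417b97543bd51fd991732607d36151812a250ada71ef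
noncomputable def T2 : Nat → Nat := (fun i => Nat.land (Nat.shiftRight T2c0 (Nat.mul (nat_lit 7) (Nat.land i (nat_lit 127)))) (nat_lit 127))
noncomputable def T3c0 : Nat := nat_lit 0xaa75a6d0b30e7091f52d960446b88b734941aa32d0a2f3c198b54c889970ae101860a08021c2c50d18240323a595a41e0444ec19aa5ad902acbb18b7e57b733cae14ef3cc74b6cdd15dfeadd7edcca0fb8d9a3a70c9771e2438d16139d75a7e4bb21d41
noncomputable def T3 : Nat → Nat := (fun i => Nat.land (Nat.shiftRight T3c0 (Nat.mul (nat_lit 7) (Nat.land i (nat_lit 127)))) (nat_lit 127))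
noncomputable def T4c0 : Nat := nat_lit 0x1c376cd5a33648119f447909d3068e17326cb305cb18af5aad425529952748408922650a8f040c2050c1c089142c60d1c20071e1bf76dd9aecdcb16ebdaad469d5a14aa4fd39f2ead19b261bd8afe3c1764ca97326ce90ede3d7cfe03a850e2458d1e0b9
noncomputable def T4 : Nat → Nat := (fun i => Nat.land (Nat.shiftRight T4c0 (Nat.mul (nat_lit 7) (Nat.land i (nat_lit 127)))) (nat_lit 127))
noncomputable def T5c0 : Nat := nat_lit 0x1c2030c141004c5aa6444cb855465a145e783235c45b9a4a0ce123ea5b2c08553ad36859871c2c50d182400f48acb1d6404471b3474e192ef56ebf6e6507d8e96d9ba2bbfb99e570a779e55976316fcaf6760cd52d6c811e2438d16139917724fadadd41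
noncomputable def T5 : Nat → Nat := (fun i => Nat.land (Nat.shiftRight T5c0 (Nat.mul (nat_lit 7) (Nat.land i (nat_lit 127)))) (nat_lit 127))
noncomputable def T : Nat → Nat → Nat := fun l => (@Nat.rec (fun _ => Nat → Nat) T0 (fun l _ => (@Nat.rec (fun _ => Nat → Nat) T1 (fun l _ => (@Nat.rec (fun _ => Nat → Nat) T2 (fun l _ => (@Nat.rec (fun _ => Nat → Nat) T3 (fun l _ => (@Nat.rec (fun _ => Nat → Nat) T4 (fun l _ => T5) l)) l)) l)) l)) l)
noncomputable def inv : Nat → Nat := fun l => l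
theorem pk0 : allR (ckPerm (nat_lit 114) T0 T0) (nat_lit 0) (nat_lit 114) = true := by decide +kernel
theorem pk1 : allR (ckPerm (nat_lit 114) T1 T1) (nat_lit 0) (nat_lit 114) = true := by decide +kernel
theorem pk2 : allR (ckPerm (nat_lit 114) T2 T2) (nat_lit 0) (nat_lit 114) = true := by decide +kernel
theorem pk3 : allR (ckPerm (nat_lit 114) T3 T3) (nat_lit 0) (nat_lit 114) = true := by decide +kernel
theorem pk4 : allR (ckPerm (nat_lit 114) T4 T4) (nat_lit 0) (nat_lit 114) = true := by decide +kernel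
theorem pk5 : allR (ckPerm (nat_lit 114) T5 T5) (nat_lit 0) (nat_lit 114) = true := by decide +kernel

theorem tok : TableOK 114 6 T inv where
  lt := by
    intro l hl i hi
    interval_cases l
    · exact (ckPerm_sound _ _ _ _ (allR_zero _ _ pk0 i hi)).1
    · exact (ckPerm_sound _ _ _ _ (allR_zero _ _ pk1 i hi)).1
    · exact (ckPerm_sound _ _ _ _ (allR_zero _ _ pk2 i hi)).1
    · exact (ckPerm_sound _ _ _ _ (allR_zero _ _ pk3 i hi)).1
    · exact (ckPerm_sound _ _ _ _ (allR_zero _ _ pk4 i hi)).1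
    · exact (ckPerm_sound _ _ _ _ (allR_zero _ _ pk5 i hi)).1
  inv_lt := fun l hl => hl
  inv_inv := fun _ _ => rfl
  inv_apply := by
    intro l hl i hi
    interval_cases l
    · exact (ckPerm_sound _ _ _ _ (allR_zero _ _ pk0 i hi)).2
    · exact (ckPerm_sound _ _ _ _ (allR_zero _ _ pk1 i hi)).2
    · exact (ckPerm_sound _ _ _ _ (allR_zero _ _ pk2 i hi)).2
    · exact (ckPerm_sound _ _ _ _ (allR_zero _ _ pk3 i hi)).2
    · exact (ckPerm_sound _ _ _ _ (allR_zero _ _ pk4 i hi)).2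
    · exact (ckPerm_sound _ _ _ _ (allR_zero _ _ pk5 i hi)).2
/-- the relations of the Coxeter type presentation. -/
def rels2 : List (List Nat × Nat) := [([0, 1], 3), ([0, 2], 2), ([0, 3], 2), ([0, 4], 2), ([0, 5], 2), ([1, 2], 3), ([1, 3], 2), ([1, 4], 2), ([1, 5], 2), ([2, 3], 8), ([2, 4], 2), ([2, 5], 2), ([3, 4], 3), ([3, 5], 2), ([4, 5], 3), ([0, 5, 3, 2, 3, 2, 3, 2, 3, 2], 1)]
theorem rk0 : allR (fun i => powT [T0, T1] i (nat_lit 3) i) (nat_lit 0) (nat_lit 114) = true := by decide +kernel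
theorem rk1 : allR (fun i => powT [T0, T2] i (nat_lit 2) i) (nat_lit 0) (nat_lit 114) = true := by decide +kernel
theorem rk2 : allR (fun i => powT [T0, T3] i (nat_lit 2) i) (nat_lit 0) (nat_lit 114) = true := by decide +kernel
theorem rk3 : allR (fun i => powT [T0, T4] i (nat_lit 2) i) (nat_lit 0) (nat_lit 114) = true := by decide +kernel
theorem rk4 : allR (fun i => powT [T0, T5] i (nat_lit 2) i) (nat_lit 0) (nat_lit 114) = true := by decide +kernel
theorem rk5 : allR (fun i => powT [T1, T2] i (nat_lit 3) i) (nat_lit 0) (nat_lit 114) = true := by decide +kernel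
theorem rk6 : allR (fun i => powT [T1, T3] i (nat_lit 2) i) (nat_lit 0) (nat_lit 114) = true := by decide +kernel
theorem rk7 : allR (fun i => powT [T1, T4] i (nat_lit 2) i) (nat_lit 0) (nat_lit 114) = true := by decide +kernel
theorem rk8 : allR (fun i => powT [T1, T5] i (nat_lit 2) i) (nat_lit 0) (nat_lit 114) = true := by decide +kernel
theorem rk9 : allR (fun i => powT [T2, T3] i (nat_lit 8) i) (nat_lit 0) (nat_lit 114) = true := by decide +kernel
theorem rk10 : allR (fun i => powT [T2, T4] i (nat_lit 2) i) (nat_lit 0) (nat_lit 114) = true := by decide +kernel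
theorem rk11 : allR (fun i => powT [T2, T5] i (nat_lit 2) i) (nat_lit 0) (nat_lit 114) = true := by decide +kernel
theorem rk12 : allR (fun i => powT [T3, T4] i (nat_lit 3) i) (nat_lit 0) (nat_lit 114) = true := by decide +kernel
theorem rk13 : allR (fun i => powT [T3, T5] i (nat_lit 2) i) (nat_lit 0) (nat_lit 114) = true := by decide +kernel
theorem rk14 : allR (fun i => powT [T4, T5] i (nat_lit 3) i) (nat_lit 0) (nat_lit 114) = true := by decide +kernel
theorem rk15 : allR (fun i => powT [T0, T5, T3, T2, T3, T2, T3, T2, T3, T2] i (nat_lit 1) i) (nat_lit 0) (nat_lit 114) = true := by decide +kernel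
theorem relp : ∀ p ∈ rels2, ((p.1.map (permL tok)).prod) ^ p.2 = 1 := by
  refine List.forall_mem_cons.2 ⟨pow_eq_one_of_powT tok [0, 1] (by decide) 3 (fun i hi => allR_zero _ _ rk0 i hi), ?_⟩
  refine List.forall_mem_cons.2 ⟨pow_eq_one_of_powT tok [0, 2] (by decide) 2 (fun i hi => allR_zero _ _ rk1 i hi), ?_⟩
  refine List.forall_mem_cons.2 ⟨pow_eq_one_of_powT tok [0, 3] (by decide) 2 (fun i hi => allR_zero _ _ rk2 i hi), ?_⟩
  refine List.forall_mem_cons.2 ⟨pow_eq_one_of_powT tok [0, 4] (by decide) 2 (fun i hi => allR_zero _ _ rk3 i hi), ?_⟩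
  refine List.forall_mem_cons.2 ⟨pow_eq_one_of_powT tok [0, 5] (by decide) 2 (fun i hi => allR_zero _ _ rk4 i hi), ?_⟩
  refine List.forall_mem_cons.2 ⟨pow_eq_one_of_powT tok [1, 2] (by decide) 3 (fun i hi => allR_zero _ _ rk5 i hi), ?_⟩
  refine List.forall_mem_cons.2 ⟨pow_eq_one_of_powT tok [1, 3] (by decide) 2 (fun i hi => allR_zero _ _ rk6 i hi), ?_⟩
  refine List.forall_mem_cons.2 ⟨pow_eq_one_of_powT tok [1, 4] (by decide) 2 (fun i hi => allR_zero _ _ rk7 i hi), ?_⟩
  refine List.forall_mem_cons.2 ⟨pow_eq_one_of_powT tok [1, 5] (by decide) 2 (fun i hi => allR_zero _ _ rk8 i hi), ?_⟩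
  refine List.forall_mem_cons.2 ⟨pow_eq_one_of_powT tok [2, 3] (by decide) 8 (fun i hi => allR_zero _ _ rk9 i hi), ?_⟩
  refine List.forall_mem_cons.2 ⟨pow_eq_one_of_powT tok [2, 4] (by decide) 2 (fun i hi => allR_zero _ _ rk10 i hi), ?_⟩
  refine List.forall_mem_cons.2 ⟨pow_eq_one_of_powT tok [2, 5] (by decide) 2 (fun i hi => allR_zero _ _ rk11 i hi), ?_⟩
  refine List.forall_mem_cons.2 ⟨pow_eq_one_of_powT tok [3, 4] (by decide) 3 (fun i hi => allR_zero _ _ rk12 i hi), ?_⟩
  refine List.forall_mem_cons.2 ⟨pow_eq_one_of_powT tok [3, 5] (by decide) 2 (fun i hi => allR_zero _ _ rk13 i hi), ?_⟩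
  refine List.forall_mem_cons.2 ⟨pow_eq_one_of_powT tok [4, 5] (by decide) 3 (fun i hi => allR_zero _ _ rk14 i hi), ?_⟩
  refine List.forall_mem_cons.2 ⟨pow_eq_one_of_powT tok [0, 5, 3, 2, 3, 2, 3, 2, 3, 2] (by decide) 1 (fun i hi => allR_zero _ _ rk15 i hi), ?_⟩
  intro c hc
  exact absurd hc List.not_mem_nil
noncomputable def vcc0 : Nat := nat_lit 0x3637198bc5627118ea6d32974aa4d229d0d8642e1509844399acc65b2992c867235188b45225108e26930964a249209c0d0602c1409040388a442190882402081b1b8cc5e2b1388c7536994ba5526914e86c32170a84c221ccd6632d94c9643391a8c45a29128847134984b25124904e06830160a048201c452210c8441201040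
noncomputable def vc : Nat → Nat := (fun i => Nat.land (Nat.shiftRight vcc0 (Nat.mul (nat_lit 9) (Nat.land i (nat_lit 127)))) (nat_lit 511))
def mb : List Nat := [67117057, 27956369, 798912, 100663816, 286784]
def ms : Nat := 16781313
def msi : Nat := 16781313

end Cfsg.Agent.H8.ONLt
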