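import Cfsg.Agent.H8.CosetCls
import Cfsg.Agent.H8.T.ONLtP

set_option autoImplicit false
set_option linter.all false
set_option maxRecDepth 100000

namespace Cfsg.Agent.H8.ONLt
noncomputable def chQ0c0 : Nat := nat_lit 0x2b3ac38e4b6af1ed20918a949d2e2dd945928da7756421d4e9cd987134d1955e367b32e2d7ad2ad4ba39f256a54e352adaed56859f4db63461da211b35b838e44492cb258b52eac8676a049b4d595aad2a3c1d1a65c6b546dca95630e7ad0e9da8566d5a
noncomputable def chQ0 : Nat → Nat := (fun i => Nat.land (Nat.shiftRight chQ0c0 (Nat.mul (nat_lit 7) (Nat.land i (nat_lit 127)))) (nat_lit 127))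
theorem ch_r0 : allR (ckReach chQ0 [[T0], [T1], [T2], [T3], [T4], [T5], [T3, T1], [T4, T1], [T5, T2], [T3, T4, T5, T2, T3, T1], [T5, T2, T3, T4, T3, T2, T3, T1, T2, T3, T0, T1, T2, T3, T4, T5, T3, T2], [T4, T5, T3, T4, T2, T3]] (nat_lit 47)) (nat_lit 0) (nat_lit 114) = true := by decide +kernel
theorem ch_c0 : cntT chQ0 (nat_lit 114) (nat_lit 114) (nat_lit 0) = true := by decide +kernel
noncomputable def chQ1c0 : Nat := nat_lit 0x3189469b4a1461540042840854d9c186d71e2a88a0d18512250a8c50548b15833a5829c1a98b2c26912860a10e9c4834ea54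
noncomputable def chQ1 : Nat → Nat := (fun i => Nat.land (Nat.shiftRight chQ1c0 (Nat.mul (nat_lit 7) (Nat.land i (nat_lit 127)))) (nat_lit 127))
theorem ch_r1 : allR (ckReach chQ1 [[T3, T1], [T4, T1], [T5, T2], [T3, T4, T5, T2, T3, T1], [T5, T2, T3, T4, T3, T2, T3, T1, T2, T3, T0, T1, T2, T3, T4, T5, T3, T2], [T4, T5, T3, T4, T2, T3]] (nat_lit 46)) (nat_lit 0) (nat_lit 114) = true := by decide +kernel
theorem ch_c1 : cntT chQ1 (nat_lit 56) (nat_lit 114) (nat_lit 0) = true := by decide +kernel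
noncomputable def chQ2c0 : Nat := nat_lit 0x53c3428d0e18000000000000186032c78a89087060f0c306960434f0b3a546940c38b8b241cf851c38f061e50f0d2a78a980
noncomputable def chQ2 : Nat → Nat := (fun i => Nat.land (Nat.shiftRight chQ2c0 (Nat.mul (nat_lit 7) (Nat.land i (nat_lit 127)))) (nat_lit 127))
theorem ch_r2 : allR (ckReach chQ2 [[T4, T1], [T3, T4, T5, T2, T3, T1], [T5, T2, T3, T4, T3, T2, T3, T1, T2, T3, T0, T1, T2, T3, T4, T5, T3, T2], [T4, T5, T3, T4, T2, T3]] (nat_lit 36)) (nat_lit 0) (nat_lit 114) = true := by decide +kernel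
theorem ch_c2 : cntT chQ2 (nat_lit 49) (nat_lit 114) (nat_lit 0) = true := by decide +kernel
noncomputable def chQ3c0 : Nat := nat_lit 0x514200000c0000000080000600005000018800000041800000000000000184000e200800
noncomputable def chQ3 : Nat → Nat := (fun i => Nat.land (Nat.shiftRight chQ3c0 (Nat.mul (nat_lit 7) (Nat.land i (nat_lit 127)))) (nat_lit 127))
theorem ch_r3 : allR (ckReach chQ3 [[T4, T5, T3, T4, T2, T3], [T5, T2, T3, T4, T3, T2, T3, T1, T2, T3, T0, T1, T2, T3, T4, T5, T3, T2]] (nat_lit 1)) (nat_lit 0) (nat_lit 114) = true := by decide +kernel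
theorem ch_c3 : cntT chQ3 (nat_lit 12) (nat_lit 114) (nat_lit 0) = true := by decide +kernel
def chG0 : List (List Nat) := [[0], [1], [2], [3], [4], [5], [3, 1], [4, 1], [5, 2], [3, 4, 5, 2, 3, 1], [5, 2, 3, 4, 3, 2, 3, 1, 2, 3, 0, 1, 2, 3, 4, 5, 3, 2], [4, 5, 3, 4, 2, 3]]
def chG1 : List (List Nat) := [[3, 1], [4, 1], [5, 2], [3, 4, 5, 2, 3, 1], [5, 2, 3, 4, 3, 2, 3, 1, 2, 3, 0, 1, 2, 3, 4, 5, 3, 2], [4, 5, 3, 4, 2, 3]]
def chG2 : List (List Nat) := [[4, 1], [3, 4, 5, 2, 3, 1], [5, 2, 3, 4, 3, 2, 3, 1, 2, 3, 0, 1, 2, 3, 4, 5, 3, 2], [4, 5, 3, 4, 2, 3]]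
def chG3 : List (List Nat) := [[4, 5, 3, 4, 2, 3], [5, 2, 3, 4, 3, 2, 3, 1, 2, 3, 0, 1, 2, 3, 4, 5, 3, 2]]
def chG4 : List (List Nat) := []

theorem ch_lower {G : Type*} [Group G] [Finite G] (s : Nat → G) (ρ : G →* Equiv.Perm (Fin 114))
    (hρ : ∀ l < 6, ρ (s l) = permL tok l) :
    114 * (56 * (49 * (12 * (1)))) ≤ Nat.card (wordGroup s chG0) := by
  have h0 := card_step s tok ρ hρ chQ0 114 chG0 chG1 (by decide) ⟨47, by decide⟩ ch_r0 ch_c0
    (by decide) (by decide +kernel) inferInstance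
  have h1 := card_step s tok ρ hρ chQ1 56 chG1 chG2 (by decide) ⟨46, by decide⟩ ch_r1 ch_c1
    (by decide) (by decide +kernel) inferInstance
  have h2 := card_step s tok ρ hρ chQ2 49 chG2 chG3 (by decide) ⟨36, by decide⟩ ch_r2 ch_c2
    (by decide) (by decide +kernel) inferInstance
  have h3 := card_step s tok ρ hρ chQ3 12 chG3 chG4 (by decide) ⟨1, by decide⟩ ch_r3 ch_c3
    (by decide) (by decide +kernel) inferInstance
  have e4 : 1 ≤ Nat.card (wordGroup s chG4) := Nat.card_pos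
  have e3 := le_trans (Nat.mul_le_mul_left 12 e4) h3
  have e2 := le_trans (Nat.mul_le_mul_left 49 e3) h2
  have e1 := le_trans (Nat.mul_le_mul_left 56 e2) h1
  have e0 := le_trans (Nat.mul_le_mul_left 114 e1) h0
  exact e0

end Cfsg.Agent.H8.ONLt
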