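import Cfsg.Agent.H8.T.ONtOT

set_option autoImplicit false
set_option linter.all false
set_option maxRecDepth 100000

namespace Cfsg.Agent.H8.ONt
theorem cl_i0_0 : allR (ckCls clC [T0]) (nat_lit 0) (nat_lit 16384) = true := by decide +kernel
theorem cl_i0_1 : allR (ckCls clC [T0]) (nat_lit 16384) (nat_lit 16384) = true := by decide +kernel
theorem cl_i0_2 : allR (ckCls clC [T0]) (nat_lit 32768) (nat_lit 16384) = true := by decide +kernel
theorem cl_i0_3 : allR (ckCls clC [T0]) (nat_lit 49152) (nat_lit 16384) = true := by decide +kernel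
theorem cl_i0_4 : allR (ckCls clC [T0]) (nat_lit 65536) (nat_lit 16384) = true := by decide +kernel
theorem cl_i0_5 : allR (ckCls clC [T0]) (nat_lit 81920) (nat_lit 16384) = true := by decide +kernel
theorem cl_i0_6 : allR (ckCls clC [T0]) (nat_lit 98304) (nat_lit 16384) = true := by decide +kernel
theorem cl_i0_7 : allR (ckCls clC [T0]) (nat_lit 114688) (nat_lit 8072) = true := by decide +kernel
theorem cl_i0 : allR (ckCls clC [T0]) (nat_lit 0) (nat_lit 122760) = true := by
  apply allR_of_forall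
  intro i hi
  have hi : i < 122760 := hi
  rcases Nat.lt_or_ge i 16384 with h0 | h0
  · exact allR_spec _ (0 : ℕ) (16384 : ℕ) cl_i0_0 i (by omega) (by omega)
  rcases Nat.lt_or_ge i 32768 with h1 | h1
  · exact allR_spec _ (16384 : ℕ) (16384 : ℕ) cl_i0_1 i (by omega) (by omega)
  rcases Nat.lt_or_ge i 49152 with h2 | h2
  · exact allR_spec _ (32768 : ℕ) (16384 : ℕ) cl_i0_2 i (by omega) (by omega)
  rcases Nat.lt_or_ge i 65536 with h3 | h3
  · exact allR_spec _ (49152 : ℕ) (16384 : ℕ) cl_i0_3 i (by omega) (by omega)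
  rcases Nat.lt_or_ge i 81920 with h4 | h4
  · exact allR_spec _ (65536 : ℕ) (16384 : ℕ) cl_i0_4 i (by omega) (by omega)
  rcases Nat.lt_or_ge i 98304 with h5 | h5
  · exact allR_spec _ (81920 : ℕ) (16384 : ℕ) cl_i0_5 i (by omega) (by omega)
  rcases Nat.lt_or_ge i 114688 with h6 | h6
  · exact allR_spec _ (98304 : ℕ) (16384 : ℕ) cl_i0_6 i (by omega) (by omega)
  exact allR_spec _ (114688 : ℕ) (8072 : ℕ) cl_i0_7 i (by omega) (by omega)
theorem cl_i1_0 : allR (ckCls clC [T1]) (nat_lit 0) (nat_lit 16384) = true := by decide +kernel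
theorem cl_i1_1 : allR (ckCls clC [T1]) (nat_lit 16384) (nat_lit 16384) = true := by decide +kernel
theorem cl_i1_2 : allR (ckCls clC [T1]) (nat_lit 32768) (nat_lit 16384) = true := by decide +kernel
theorem cl_i1_3 : allR (ckCls clC [T1]) (nat_lit 49152) (nat_lit 16384) = true := by decide +kernel
theorem cl_i1_4 : allR (ckCls clC [T1]) (nat_lit 65536) (nat_lit 16384) = true := by decide +kernel
theorem cl_i1_5 : allR (ckCls clC [T1]) (nat_lit 81920) (nat_lit 16384) = true := by decide +kernel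
theorem cl_i1_6 : allR (ckCls clC [T1]) (nat_lit 98304) (nat_lit 16384) = true := by decide +kernel
theorem cl_i1_7 : allR (ckCls clC [T1]) (nat_lit 114688) (nat_lit 8072) = true := by decide +kernel
theorem cl_i1 : allR (ckCls clC [T1]) (nat_lit 0) (nat_lit 122760) = true := by
  apply allR_of_forall
  intro i hi
  have hi : i < 122760 := hi
  rcases Nat.lt_or_ge i 16384 with h0 | h0
  · exact allR_spec _ (0 : ℕ) (16384 : ℕ) cl_i1_0 i (by omega) (by omega)
  rcases Nat.lt_or_ge i 32768 with h1 | h1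
  · exact allR_spec _ (16384 : ℕ) (16384 : ℕ) cl_i1_1 i (by omega) (by omega)
  rcases Nat.lt_or_ge i 49152 with h2 | h2
  · exact allR_spec _ (32768 : ℕ) (16384 : ℕ) cl_i1_2 i (by omega) (by omega)
  rcases Nat.lt_or_ge i 65536 with h3 | h3
  · exact allR_spec _ (49152 : ℕ) (16384 : ℕ) cl_i1_3 i (by omega) (by omega)
  rcases Nat.lt_or_ge i 81920 with h4 | h4
  · exact allR_spec _ (65536 : ℕ) (16384 : ℕ) cl_i1_4 i (by omega) (by omega)
  rcases Nat.lt_or_ge i 98304 with h5 | h5
  · exact allR_spec _ (81920 : ℕ) (16384 : ℕ) cl_i1_5 i (by omega) (by omega)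
  rcases Nat.lt_or_ge i 114688 with h6 | h6
  · exact allR_spec _ (98304 : ℕ) (16384 : ℕ) cl_i1_6 i (by omega) (by omega)
  exact allR_spec _ (114688 : ℕ) (8072 : ℕ) cl_i1_7 i (by omega) (by omega)
theorem cl_i2_0 : allR (ckCls clC [T2]) (nat_lit 0) (nat_lit 16384) = true := by decide +kernel
theorem cl_i2_1 : allR (ckCls clC [T2]) (nat_lit 16384) (nat_lit 16384) = true := by decide +kernel
theorem cl_i2_2 : allR (ckCls clC [T2]) (nat_lit 32768) (nat_lit 16384) = true := by decide +kernel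
theorem cl_i2_3 : allR (ckCls clC [T2]) (nat_lit 49152) (nat_lit 16384) = true := by decide +kernel
theorem cl_i2_4 : allR (ckCls clC [T2]) (nat_lit 65536) (nat_lit 16384) = true := by decide +kernel
theorem cl_i2_5 : allR (ckCls clC [T2]) (nat_lit 81920) (nat_lit 16384) = true := by decide +kernel
theorem cl_i2_6 : allR (ckCls clC [T2]) (nat_lit 98304) (nat_lit 16384) = true := by decide +kernel
theorem cl_i2_7 : allR (ckCls clC [T2]) (nat_lit 114688) (nat_lit 8072) = true := by decide +kernel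
theorem cl_i2 : allR (ckCls clC [T2]) (nat_lit 0) (nat_lit 122760) = true := by
  apply allR_of_forall
  intro i hi
  have hi : i < 122760 := hi
  rcases Nat.lt_or_ge i 16384 with h0 | h0
  · exact allR_spec _ (0 : ℕ) (16384 : ℕ) cl_i2_0 i (by omega) (by omega)
  rcases Nat.lt_or_ge i 32768 with h1 | h1
  · exact allR_spec _ (16384 : ℕ) (16384 : ℕ) cl_i2_1 i (by omega) (by omega)
  rcases Nat.lt_or_ge i 49152 with h2 | h2
  · exact allR_spec _ (32768 : ℕ) (16384 : ℕ) cl_i2_2 i (by omega) (by omega)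
  rcases Nat.lt_or_ge i 65536 with h3 | h3
  · exact allR_spec _ (49152 : ℕ) (16384 : ℕ) cl_i2_3 i (by omega) (by omega)
  rcases Nat.lt_or_ge i 81920 with h4 | h4
  · exact allR_spec _ (65536 : ℕ) (16384 : ℕ) cl_i2_4 i (by omega) (by omega)
  rcases Nat.lt_or_ge i 98304 with h5 | h5
  · exact allR_spec _ (81920 : ℕ) (16384 : ℕ) cl_i2_5 i (by omega) (by omega)
  rcases Nat.lt_or_ge i 114688 with h6 | h6
  · exact allR_spec _ (98304 : ℕ) (16384 : ℕ) cl_i2_6 i (by omega) (by omega)
  exact allR_spec _ (114688 : ℕ) (8072 : ℕ) cl_i2_7 i (by omega) (by omega)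
theorem cl_i3_0 : allR (ckCls clC [T3]) (nat_lit 0) (nat_lit 16384) = true := by decide +kernel
theorem cl_i3_1 : allR (ckCls clC [T3]) (nat_lit 16384) (nat_lit 16384) = true := by decide +kernel
theorem cl_i3_2 : allR (ckCls clC [T3]) (nat_lit 32768) (nat_lit 16384) = true := by decide +kernel
theorem cl_i3_3 : allR (ckCls clC [T3]) (nat_lit 49152) (nat_lit 16384) = true := by decide +kernel
theorem cl_i3_4 : allR (ckCls clC [T3]) (nat_lit 65536) (nat_lit 16384) = true := by decide +kernel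
theorem cl_i3_5 : allR (ckCls clC [T3]) (nat_lit 81920) (nat_lit 16384) = true := by decide +kernel
theorem cl_i3_6 : allR (ckCls clC [T3]) (nat_lit 98304) (nat_lit 16384) = true := by decide +kernel
theorem cl_i3_7 : allR (ckCls clC [T3]) (nat_lit 114688) (nat_lit 8072) = true := by decide +kernel
theorem cl_i3 : allR (ckCls clC [T3]) (nat_lit 0) (nat_lit 122760) = true := by
  apply allR_of_forall
  intro i hi
  have hi : i < 122760 := hi
  rcases Nat.lt_or_ge i 16384 with h0 | h0
  · exact allR_spec _ (0 : ℕ) (16384 : ℕ) cl_i3_0 i (by omega) (by omega)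
  rcases Nat.lt_or_ge i 32768 with h1 | h1
  · exact allR_spec _ (16384 : ℕ) (16384 : ℕ) cl_i3_1 i (by omega) (by omega)
  rcases Nat.lt_or_ge i 49152 with h2 | h2
  · exact allR_spec _ (32768 : ℕ) (16384 : ℕ) cl_i3_2 i (by omega) (by omega)
  rcases Nat.lt_or_ge i 65536 with h3 | h3
  · exact allR_spec _ (49152 : ℕ) (16384 : ℕ) cl_i3_3 i (by omega) (by omega)
  rcases Nat.lt_or_ge i 81920 with h4 | h4
  · exact allR_spec _ (65536 : ℕ) (16384 : ℕ) cl_i3_4 i (by omega) (by omega)
  rcases Nat.lt_or_ge i 98304 with h5 | h5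
  · exact allR_spec _ (81920 : ℕ) (16384 : ℕ) cl_i3_5 i (by omega) (by omega)
  rcases Nat.lt_or_ge i 114688 with h6 | h6
  · exact allR_spec _ (98304 : ℕ) (16384 : ℕ) cl_i3_6 i (by omega) (by omega)
  exact allR_spec _ (114688 : ℕ) (8072 : ℕ) cl_i3_7 i (by omega) (by omega)
theorem cl_i4_0 : allR (ckCls clC [T4]) (nat_lit 0) (nat_lit 16384) = true := by decide +kernel
theorem cl_i4_1 : allR (ckCls clC [T4]) (nat_lit 16384) (nat_lit 16384) = true := by decide +kernel
theorem cl_i4_2 : allR (ckCls clC [T4]) (nat_lit 32768) (nat_lit 16384) = true := by decide +kernel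
theorem cl_i4_3 : allR (ckCls clC [T4]) (nat_lit 49152) (nat_lit 16384) = true := by decide +kernel
theorem cl_i4_4 : allR (ckCls clC [T4]) (nat_lit 65536) (nat_lit 16384) = true := by decide +kernel
theorem cl_i4_5 : allR (ckCls clC [T4]) (nat_lit 81920) (nat_lit 16384) = true := by decide +kernel
theorem cl_i4_6 : allR (ckCls clC [T4]) (nat_lit 98304) (nat_lit 16384) = true := by decide +kernel
theorem cl_i4_7 : allR (ckCls clC [T4]) (nat_lit 114688) (nat_lit 8072) = true := by decide +kernel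
theorem cl_i4 : allR (ckCls clC [T4]) (nat_lit 0) (nat_lit 122760) = true := by
  apply allR_of_forall
  intro i hi
  have hi : i < 122760 := hi
  rcases Nat.lt_or_ge i 16384 with h0 | h0
  · exact allR_spec _ (0 : ℕ) (16384 : ℕ) cl_i4_0 i (by omega) (by omega)
  rcases Nat.lt_or_ge i 32768 with h1 | h1
  · exact allR_spec _ (16384 : ℕ) (16384 : ℕ) cl_i4_1 i (by omega) (by omega)
  rcases Nat.lt_or_ge i 49152 with h2 | h2
  · exact allR_spec _ (32768 : ℕ) (16384 : ℕ) cl_i4_2 i (by omega) (by omega)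
  rcases Nat.lt_or_ge i 65536 with h3 | h3
  · exact allR_spec _ (49152 : ℕ) (16384 : ℕ) cl_i4_3 i (by omega) (by omega)
  rcases Nat.lt_or_ge i 81920 with h4 | h4
  · exact allR_spec _ (65536 : ℕ) (16384 : ℕ) cl_i4_4 i (by omega) (by omega)
  rcases Nat.lt_or_ge i 98304 with h5 | h5
  · exact allR_spec _ (81920 : ℕ) (16384 : ℕ) cl_i4_5 i (by omega) (by omega)
  rcases Nat.lt_or_ge i 114688 with h6 | h6
  · exact allR_spec _ (98304 : ℕ) (16384 : ℕ) cl_i4_6 i (by omega) (by omega)
  exact allR_spec _ (114688 : ℕ) (8072 : ℕ) cl_i4_7 i (by omega) (by omega)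
theorem cl_i5_0 : allR (ckCls clC [T5]) (nat_lit 0) (nat_lit 16384) = true := by decide +kernel
theorem cl_i5_1 : allR (ckCls clC [T5]) (nat_lit 16384) (nat_lit 16384) = true := by decide +kernel
theorem cl_i5_2 : allR (ckCls clC [T5]) (nat_lit 32768) (nat_lit 16384) = true := by decide +kernel
theorem cl_i5_3 : allR (ckCls clC [T5]) (nat_lit 49152) (nat_lit 16384) = true := by decide +kernel
theorem cl_i5_4 : allR (ckCls clC [T5]) (nat_lit 65536) (nat_lit 16384) = true := by decide +kernel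
theorem cl_i5_5 : allR (ckCls clC [T5]) (nat_lit 81920) (nat_lit 16384) = true := by decide +kernel
theorem cl_i5_6 : allR (ckCls clC [T5]) (nat_lit 98304) (nat_lit 16384) = true := by decide +kernel
theorem cl_i5_7 : allR (ckCls clC [T5]) (nat_lit 114688) (nat_lit 8072) = true := by decide +kernel
theorem cl_i5 : allR (ckCls clC [T5]) (nat_lit 0) (nat_lit 122760) = true := by
  apply allR_of_forall
  intro i hi
  have hi : i < 122760 := hi
  rcases Nat.lt_or_ge i 16384 with h0 | h0
  · exact allR_spec _ (0 : ℕ) (16384 : ℕ) cl_i5_0 i (by omega) (by omega)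
  rcases Nat.lt_or_ge i 32768 with h1 | h1
  · exact allR_spec _ (16384 : ℕ) (16384 : ℕ) cl_i5_1 i (by omega) (by omega)
  rcases Nat.lt_or_ge i 49152 with h2 | h2
  · exact allR_spec _ (32768 : ℕ) (16384 : ℕ) cl_i5_2 i (by omega) (by omega)
  rcases Nat.lt_or_ge i 65536 with h3 | h3
  · exact allR_spec _ (49152 : ℕ) (16384 : ℕ) cl_i5_3 i (by omega) (by omega)
  rcases Nat.lt_or_ge i 81920 with h4 | h4
  · exact allR_spec _ (65536 : ℕ) (16384 : ℕ) cl_i5_4 i (by omega) (by omega)
  rcases Nat.lt_or_ge i 98304 with h5 | h5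
  · exact allR_spec _ (81920 : ℕ) (16384 : ℕ) cl_i5_5 i (by omega) (by omega)
  rcases Nat.lt_or_ge i 114688 with h6 | h6
  · exact allR_spec _ (98304 : ℕ) (16384 : ℕ) cl_i5_6 i (by omega) (by omega)
  exact allR_spec _ (114688 : ℕ) (8072 : ℕ) cl_i5_7 i (by omega) (by omega)

end Cfsg.Agent.H8.ONt
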