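import Cfsg.Agent.H8.T.ONtOT

set_option autoImplicit false
set_option linter.all false
set_option maxRecDepth 100000

namespace Cfsg.Agent.H8.ONt
theorem cl_n0_0 : cntC clC (nat_lit 0) (nat_lit 1) (nat_lit 32768) (nat_lit 0) = true := by decide +kernel
theorem cl_s0_0 : cntC clC 0 1 32768 0 = true := cl_n0_0
theorem cl_n0_1 : cntC (fun i => clC (Nat.add (nat_lit 32768) i)) (nat_lit 0) (nat_lit 0) (nat_lit 32768) (nat_lit 0) = true := by decide +kernel
theorem cl_s0_1 : cntC clC 0 1 65536 0 = true := cntC_add clC 0 1 0 32768 32768 cl_s0_0 cl_n0_1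
theorem cl_n0_2 : cntC (fun i => clC (Nat.add (nat_lit 65536) i)) (nat_lit 0) (nat_lit 0) (nat_lit 32768) (nat_lit 0) = true := by decide +kernel
theorem cl_s0_2 : cntC clC 0 1 98304 0 = true := cntC_add clC 0 1 0 65536 32768 cl_s0_1 cl_n0_2
theorem cl_n0_3 : cntC (fun i => clC (Nat.add (nat_lit 98304) i)) (nat_lit 0) (nat_lit 0) (nat_lit 24456) (nat_lit 0) = true := by decide +kernel
theorem cl_s0_3 : cntC clC 0 1 122760 0 = true := cntC_add clC 0 1 0 98304 24456 cl_s0_2 cl_n0_3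
theorem cl_n0 : cntC clC 0 1 122760 0 = true := cl_s0_3
theorem cl_n1_0 : cntC clC (nat_lit 1) (nat_lit 0x399e) (nat_lit 32768) (nat_lit 0) = true := by decide +kernel
theorem cl_s1_0 : cntC clC 1 14750 32768 0 = true := cl_n1_0
theorem cl_n1_1 : cntC (fun i => clC (Nat.add (nat_lit 32768) i)) (nat_lit 1) (nat_lit 0x3c62) (nat_lit 32768) (nat_lit 0) = true := by decide +kernel
theorem cl_s1_1 : cntC clC 1 30208 65536 0 = true := cntC_add clC 1 14750 15458 32768 32768 cl_s1_0 cl_n1_1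
theorem cl_n1_2 : cntC (fun i => clC (Nat.add (nat_lit 65536) i)) (nat_lit 1) (nat_lit 0x3bdd) (nat_lit 32768) (nat_lit 0) = true := by decide +kernel
theorem cl_s1_2 : cntC clC 1 45533 98304 0 = true := cntC_add clC 1 30208 15325 65536 32768 cl_s1_1 cl_n1_2
theorem cl_n1_3 : cntC (fun i => clC (Nat.add (nat_lit 98304) i)) (nat_lit 1) (nat_lit 0x3340) (nat_lit 24456) (nat_lit 0) = true := by decide +kernel
theorem cl_s1_3 : cntC clC 1 58653 122760 0 = true := cntC_add clC 1 45533 13120 98304 24456 cl_s1_2 cl_n1_3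
theorem cl_n1 : cntC clC 1 58653 122760 0 = true := cl_s1_3
theorem cl_n2_0 : cntC clC (nat_lit 2) (nat_lit 0x6bc) (nat_lit 32768) (nat_lit 0) = true := by decide +kernel
theorem cl_s2_0 : cntC clC 2 1724 32768 0 = true := cl_n2_0
theorem cl_n2_1 : cntC (fun i => clC (Nat.add (nat_lit 32768) i)) (nat_lit 2) (nat_lit 0x563) (nat_lit 32768) (nat_lit 0) = true := by decide +kernel
theorem cl_s2_1 : cntC clC 2 3103 65536 0 = true := cntC_add clC 2 1724 1379 32768 32768 cl_s2_0 cl_n2_1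
theorem cl_n2_2 : cntC (fun i => clC (Nat.add (nat_lit 65536) i)) (nat_lit 2) (nat_lit 0x639) (nat_lit 32768) (nat_lit 0) = true := by decide +kernel
theorem cl_s2_2 : cntC clC 2 4696 98304 0 = true := cntC_add clC 2 3103 1593 65536 32768 cl_s2_1 cl_n2_2
theorem cl_n2_3 : cntC (fun i => clC (Nat.add (nat_lit 98304) i)) (nat_lit 2) (nat_lit 890) (nat_lit 24456) (nat_lit 0) = true := by decide +kernel
theorem cl_s2_3 : cntC clC 2 5586 122760 0 = true := cntC_add clC 2 4696 890 98304 24456 cl_s2_2 cl_n2_3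
theorem cl_n2 : cntC clC 2 5586 122760 0 = true := cl_s2_3
theorem cl_n3_0 : cntC clC (nat_lit 3) (nat_lit 0x373a) (nat_lit 32768) (nat_lit 0) = true := by decide +kernel
theorem cl_s3_0 : cntC clC 3 14138 32768 0 = true := cl_n3_0
theorem cl_n3_1 : cntC (fun i => clC (Nat.add (nat_lit 32768) i)) (nat_lit 3) (nat_lit 0x37ab) (nat_lit 32768) (nat_lit 0) = true := by decide +kernel
theorem cl_s3_1 : cntC clC 3 28389 65536 0 = true := cntC_add clC 3 14138 14251 32768 32768 cl_s3_0 cl_n3_1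
theorem cl_n3_2 : cntC (fun i => clC (Nat.add (nat_lit 65536) i)) (nat_lit 3) (nat_lit 0x37a2) (nat_lit 32768) (nat_lit 0) = true := by decide +kernel
theorem cl_s3_2 : cntC clC 3 42631 98304 0 = true := cntC_add clC 3 28389 14242 65536 32768 cl_s3_1 cl_n3_2
theorem cl_n3_3 : cntC (fun i => clC (Nat.add (nat_lit 98304) i)) (nat_lit 3) (nat_lit 0x2521) (nat_lit 24456) (nat_lit 0) = true := by decide +kernel
theorem cl_s3_3 : cntC clC 3 52136 122760 0 = true := cntC_add clC 3 42631 9505 98304 24456 cl_s3_2 cl_n3_3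
theorem cl_n3 : cntC clC 3 52136 122760 0 = true := cl_s3_3
theorem cl_n4_0 : cntC clC (nat_lit 4) (nat_lit 0x86b) (nat_lit 32768) (nat_lit 0) = true := by decide +kernel
theorem cl_s4_0 : cntC clC 4 2155 32768 0 = true := cl_n4_0
theorem cl_n4_1 : cntC (fun i => clC (Nat.add (nat_lit 32768) i)) (nat_lit 4) (nat_lit 0x690) (nat_lit 32768) (nat_lit 0) = true := by decide +kernel
theorem cl_s4_1 : cntC clC 4 3835 65536 0 = true := cntC_add clC 4 2155 1680 32768 32768 cl_s4_0 cl_n4_1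
theorem cl_n4_2 : cntC (fun i => clC (Nat.add (nat_lit 65536) i)) (nat_lit 4) (nat_lit 0x648) (nat_lit 32768) (nat_lit 0) = true := by decide +kernel
theorem cl_s4_2 : cntC clC 4 5443 98304 0 = true := cntC_add clC 4 3835 1608 65536 32768 cl_s4_1 cl_n4_2
theorem cl_n4_3 : cntC (fun i => clC (Nat.add (nat_lit 98304) i)) (nat_lit 4) (nat_lit 941) (nat_lit 24456) (nat_lit 0) = true := by decide +kernel
theorem cl_s4_3 : cntC clC 4 6384 122760 0 = true := cntC_add clC 4 5443 941 98304 24456 cl_s4_2 cl_n4_3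
theorem cl_n4 : cntC clC 4 6384 122760 0 = true := cl_s4_3
theorem cl_ltk_0 : allR (fun i => Nat.ble (Nat.succ (clC i)) (nat_lit 5)) (nat_lit 0) (nat_lit 16384) = true := by decide +kernel
theorem cl_ltk_1 : allR (fun i => Nat.ble (Nat.succ (clC i)) (nat_lit 5)) (nat_lit 16384) (nat_lit 16384) = true := by decide +kernel
theorem cl_ltk_2 : allR (fun i => Nat.ble (Nat.succ (clC i)) (nat_lit 5)) (nat_lit 32768) (nat_lit 16384) = true := by decide +kernel
theorem cl_ltk_3 : allR (fun i => Nat.ble (Nat.succ (clC i)) (nat_lit 5)) (nat_lit 49152) (nat_lit 16384) = true := by decide +kernel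
theorem cl_ltk_4 : allR (fun i => Nat.ble (Nat.succ (clC i)) (nat_lit 5)) (nat_lit 65536) (nat_lit 16384) = true := by decide +kernel
theorem cl_ltk_5 : allR (fun i => Nat.ble (Nat.succ (clC i)) (nat_lit 5)) (nat_lit 81920) (nat_lit 16384) = true := by decide +kernel
theorem cl_ltk_6 : allR (fun i => Nat.ble (Nat.succ (clC i)) (nat_lit 5)) (nat_lit 98304) (nat_lit 16384) = true := by decide +kernel
theorem cl_ltk_7 : allR (fun i => Nat.ble (Nat.succ (clC i)) (nat_lit 5)) (nat_lit 114688) (nat_lit 8072) = true := by decide +kernel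
theorem cl_ltk : allR (fun i => Nat.ble (Nat.succ (clC i)) (nat_lit 5)) (nat_lit 0) (nat_lit 122760) = true := by
  apply allR_of_forall
  intro i hi
  have hi : i < 122760 := hi
  rcases Nat.lt_or_ge i 16384 with h0 | h0
  · exact allR_spec _ (0 : ℕ) (16384 : ℕ) cl_ltk_0 i (by omega) (by omega)
  rcases Nat.lt_or_ge i 32768 with h1 | h1
  · exact allR_spec _ (16384 : ℕ) (16384 : ℕ) cl_ltk_1 i (by omega) (by omega)
  rcases Nat.lt_or_ge i 49152 with h2 | h2
  · exact allR_spec _ (32768 : ℕ) (16384 : ℕ) cl_ltk_2 i (by omega) (by omega)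
  rcases Nat.lt_or_ge i 65536 with h3 | h3
  · exact allR_spec _ (49152 : ℕ) (16384 : ℕ) cl_ltk_3 i (by omega) (by omega)
  rcases Nat.lt_or_ge i 81920 with h4 | h4
  · exact allR_spec _ (65536 : ℕ) (16384 : ℕ) cl_ltk_4 i (by omega) (by omega)
  rcases Nat.lt_or_ge i 98304 with h5 | h5
  · exact allR_spec _ (81920 : ℕ) (16384 : ℕ) cl_ltk_5 i (by omega) (by omega)
  rcases Nat.lt_or_ge i 114688 with h6 | h6
  · exact allR_spec _ (98304 : ℕ) (16384 : ℕ) cl_ltk_6 i (by omega) (by omega)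
  exact allR_spec _ (114688 : ℕ) (8072 : ℕ) cl_ltk_7 i (by omega) (by omega)

end Cfsg.Agent.H8.ONt
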