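import Cfsg.Agent.H8.T.ONOa

set_option Elab.async false
set_option autoImplicit false
set_option linter.all false
set_option maxRecDepth 100000
set_option maxHeartbeats 400000

namespace Cfsg.Agent.H8.ONO
open Cfsg.Agent.H8.ONt (T0 T1 T2 T3 T4 T5 T6 T7)

theorem pk0_1 : allR (ckPerm (nat_lit 122760) X0 X1) (nat_lit 61380) (nat_lit 61380) = true := by decide +kernel
theorem pk3_1 : allR (ckPerm (nat_lit 122760) X3 X2) (nat_lit 61380) (nat_lit 61380) = true := by decide +kernel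
theorem pk6_1 : allR (ckPerm (nat_lit 122760) X6 X7) (nat_lit 61380) (nat_lit 61380) = true := by decide +kernel
theorem pk9_1 : allR (ckPerm (nat_lit 122760) X9 X8) (nat_lit 61380) (nat_lit 61380) = true := by decide +kernel
theorem wk0_1 : allR (OT.ckEqW [T1, T2, T3, T4, T6] [X0]) (nat_lit 20460) (nat_lit 20460) = true := by decide +kernel
theorem wk1_1 : allR (OT.ckEqW [T2, T3, T2, T3] [X2]) (nat_lit 24552) (nat_lit 24552) = true := by decide +kernel
theorem wk4_3 : allR (OT.ckEqW [T0, T1, T0, T3, T2, T3, T4, T5, T4, T3, T2, T1, T0] [X8]) (nat_lit 26304) (nat_lit 8768) = true := by decide +kernel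
theorem wk4_9 : allR (OT.ckEqW [T0, T1, T0, T3, T2, T3, T4, T5, T4, T3, T2, T1, T0] [X8]) (nat_lit 78912) (nat_lit 8768) = true := by decide +kernel
theorem wk5_1 : allR (OT.ckEqW [T4, T5, T4, T3, T2, T1, T0, T3, T2, T1, T4, T3, T2] [X10]) (nat_lit 8768) (nat_lit 8768) = true := by decide +kernel
theorem wk5_7 : allR (OT.ckEqW [T4, T5, T4, T3, T2, T1, T0, T3, T2, T1, T4, T3, T2] [X10]) (nat_lit 61376) (nat_lit 8768) = true := by decide +kernel
theorem wk5_13 : allR (OT.ckEqW [T4, T5, T4, T3, T2, T1, T0, T3, T2, T1, T4, T3, T2] [X10]) (nat_lit 113984) (nat_lit 8768) = true := by decide +kernel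
theorem wk2_8 : allR (OT.ckEqW [T1, T2, T3, T2, T1, T0, T3, T2, T3, T4, T3, T2, T1, T0, T3, T2, T3, T4, T3, T2, T1, T3, T2, T3, T2, T1] [X4]) (nat_lit 36368) (nat_lit 4546) = true := by decide +kernel
theorem wk2_14 : allR (OT.ckEqW [T1, T2, T3, T2, T1, T0, T3, T2, T3, T4, T3, T2, T1, T0, T3, T2, T3, T4, T3, T2, T1, T3, T2, T3, T2, T1] [X4]) (nat_lit 63644) (nat_lit 4546) = true := by decide +kernel
theorem wk2_20 : allR (OT.ckEqW [T1, T2, T3, T2, T1, T0, T3, T2, T3, T4, T3, T2, T1, T0, T3, T2, T3, T4, T3, T2, T1, T3, T2, T3, T2, T1] [X4]) (nat_lit 90920) (nat_lit 4546) = true := by decide +kernel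
theorem wk2_26 : allR (OT.ckEqW [T1, T2, T3, T2, T1, T0, T3, T2, T3, T4, T3, T2, T1, T0, T3, T2, T3, T4, T3, T2, T1, T3, T2, T3, T2, T1] [X4]) (nat_lit 118196) (nat_lit 4546) = true := by decide +kernel
theorem wk3_5 : allR (OT.ckEqW [T5, X4, X3, X4, T1, T3, T4, T3, T2, T1, T3, T2, T3, T4, T3, T2, T1, T5, T4, T3, T2, T1, T3, T2, T4, T6, T4, T3, T2, T1, T3, T4, T6, T2, T3, T2, T1, T0] [X6]) (nat_lit 15735) (nat_lit 3147) = true := by decide +kernel
theorem wk3_11 : allR (OT.ckEqW [T5, X4, X3, X4, T1, T3, T4, T3, T2, T1, T3, T2, T3, T4, T3, T2, T1, T5, T4, T3, T2, T1, T3, T2, T4, T6, T4, T3, T2, T1, T3, T4, T6, T2, T3, T2, T1, T0] [X6]) (nat_lit 34617) (nat_lit 3147) = true := by decide +kernel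
theorem wk3_17 : allR (OT.ckEqW [T5, X4, X3, X4, T1, T3, T4, T3, T2, T1, T3, T2, T3, T4, T3, T2, T1, T5, T4, T3, T2, T1, T3, T2, T4, T6, T4, T3, T2, T1, T3, T4, T6, T2, T3, T2, T1, T0] [X6]) (nat_lit 53499) (nat_lit 3147) = true := by decide +kernel
theorem wk3_23 : allR (OT.ckEqW [T5, X4, X3, X4, T1, T3, T4, T3, T2, T1, T3, T2, T3, T4, T3, T2, T1, T5, T4, T3, T2, T1, T3, T2, T4, T6, T4, T3, T2, T1, T3, T4, T6, T2, T3, T2, T1, T0] [X6]) (nat_lit 72381) (nat_lit 3147) = true := by decide +kernel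
theorem wk3_29 : allR (OT.ckEqW [T5, X4, X3, X4, T1, T3, T4, T3, T2, T1, T3, T2, T3, T4, T3, T2, T1, T5, T4, T3, T2, T1, T3, T2, T4, T6, T4, T3, T2, T1, T3, T4, T6, T2, T3, T2, T1, T0] [X6]) (nat_lit 91263) (nat_lit 3147) = true := by decide +kernel
theorem wk3_35 : allR (OT.ckEqW [T5, X4, X3, X4, T1, T3, T4, T3, T2, T1, T3, T2, T3, T4, T3, T2, T1, T5, T4, T3, T2, T1, T3, T2, T4, T6, T4, T3, T2, T1, T3, T4, T6, T2, T3, T2, T1, T0] [X6]) (nat_lit 110145) (nat_lit 3147) = true := by decide +kernel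
theorem wk4_14 : allR (OT.ckEqW [T0, T1, T0, T3, T2, T3, T4, T5, T4, T3, T2, T1, T0] [X8]) (nat_lit 122752) (nat_lit 8) = true := by decide +kernel
theorem wk5_14 : allR (OT.ckEqW [T4, T5, T4, T3, T2, T1, T0, T3, T2, T1, T4, T3, T2] [X10]) (nat_lit 122752) (nat_lit 8) = true := by decide +kernel

end Cfsg.Agent.H8.ONO
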