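import Cfsg.Agent.H8.T.ONOa

set_option Elab.async false
set_option autoImplicit false
set_option linter.all false
set_option maxRecDepth 100000
set_option maxHeartbeats 400000

namespace Cfsg.Agent.H8.ONO
open Cfsg.Agent.H8.ONt (T0 T1 T2 T3 T4 T5 T6 T7)

theorem pk1_0 : allR (ckPerm (nat_lit 122760) X1 X0) (nat_lit 0) (nat_lit 61380) = true := by decide +kernel
theorem pk4_0 : allR (ckPerm (nat_lit 122760) X4 X5) (nat_lit 0) (nat_lit 61380) = true := by decide +kernel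
theorem pk7_0 : allR (ckPerm (nat_lit 122760) X7 X6) (nat_lit 0) (nat_lit 61380) = true := by decide +kernel
theorem pk10_0 : allR (ckPerm (nat_lit 122760) X10 X11) (nat_lit 0) (nat_lit 61380) = true := by decide +kernel
theorem wk0_2 : allR (OT.ckEqW [T1, T2, T3, T4, T6] [X0]) (nat_lit 40920) (nat_lit 20460) = true := by decide +kernel
theorem wk1_2 : allR (OT.ckEqW [T2, T3, T2, T3] [X2]) (nat_lit 49104) (nat_lit 24552) = true := by decide +kernel
theorem wk4_4 : allR (OT.ckEqW [T0, T1, T0, T3, T2, T3, T4, T5, T4, T3, T2, T1, T0] [X8]) (nat_lit 35072) (nat_lit 8768) = true := by decide +kernel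
theorem wk4_10 : allR (OT.ckEqW [T0, T1, T0, T3, T2, T3, T4, T5, T4, T3, T2, T1, T0] [X8]) (nat_lit 87680) (nat_lit 8768) = true := by decide +kernel
theorem wk5_2 : allR (OT.ckEqW [T4, T5, T4, T3, T2, T1, T0, T3, T2, T1, T4, T3, T2] [X10]) (nat_lit 17536) (nat_lit 8768) = true := by decide +kernel
theorem wk5_8 : allR (OT.ckEqW [T4, T5, T4, T3, T2, T1, T0, T3, T2, T1, T4, T3, T2] [X10]) (nat_lit 70144) (nat_lit 8768) = true := by decide +kernel
theorem wk2_0 : allR (OT.ckEqW [T1, T2, T3, T2, T1, T0, T3, T2, T3, T4, T3, T2, T1, T0, T3, T2, T3, T4, T3, T2, T1, T3, T2, T3, T2, T1] [X4]) (nat_lit 0) (nat_lit 4546) = true := by decide +kernel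
theorem wk2_3 : allR (OT.ckEqW [T1, T2, T3, T2, T1, T0, T3, T2, T3, T4, T3, T2, T1, T0, T3, T2, T3, T4, T3, T2, T1, T3, T2, T3, T2, T1] [X4]) (nat_lit 13638) (nat_lit 4546) = true := by decide +kernel
theorem wk2_9 : allR (OT.ckEqW [T1, T2, T3, T2, T1, T0, T3, T2, T3, T4, T3, T2, T1, T0, T3, T2, T3, T4, T3, T2, T1, T3, T2, T3, T2, T1] [X4]) (nat_lit 40914) (nat_lit 4546) = true := by decide +kernel
theorem wk2_15 : allR (OT.ckEqW [T1, T2, T3, T2, T1, T0, T3, T2, T3, T4, T3, T2, T1, T0, T3, T2, T3, T4, T3, T2, T1, T3, T2, T3, T2, T1] [X4]) (nat_lit 68190) (nat_lit 4546) = true := by decide +kernel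
theorem wk2_21 : allR (OT.ckEqW [T1, T2, T3, T2, T1, T0, T3, T2, T3, T4, T3, T2, T1, T0, T3, T2, T3, T4, T3, T2, T1, T3, T2, T3, T2, T1] [X4]) (nat_lit 95466) (nat_lit 4546) = true := by decide +kernel
theorem wk3_0 : allR (OT.ckEqW [T5, X4, X3, X4, T1, T3, T4, T3, T2, T1, T3, T2, T3, T4, T3, T2, T1, T5, T4, T3, T2, T1, T3, T2, T4, T6, T4, T3, T2, T1, T3, T4, T6, T2, T3, T2, T1, T0] [X6]) (nat_lit 0) (nat_lit 3147) = true := by decide +kernel
theorem wk3_6 : allR (OT.ckEqW [T5, X4, X3, X4, T1, T3, T4, T3, T2, T1, T3, T2, T3, T4, T3, T2, T1, T5, T4, T3, T2, T1, T3, T2, T4, T6, T4, T3, T2, T1, T3, T4, T6, T2, T3, T2, T1, T0] [X6]) (nat_lit 18882) (nat_lit 3147) = true := by decide +kernel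
theorem wk3_12 : allR (OT.ckEqW [T5, X4, X3, X4, T1, T3, T4, T3, T2, T1, T3, T2, T3, T4, T3, T2, T1, T5, T4, T3, T2, T1, T3, T2, T4, T6, T4, T3, T2, T1, T3, T4, T6, T2, T3, T2, T1, T0] [X6]) (nat_lit 37764) (nat_lit 3147) = true := by decide +kernel
theorem wk3_18 : allR (OT.ckEqW [T5, X4, X3, X4, T1, T3, T4, T3, T2, T1, T3, T2, T3, T4, T3, T2, T1, T5, T4, T3, T2, T1, T3, T2, T4, T6, T4, T3, T2, T1, T3, T4, T6, T2, T3, T2, T1, T0] [X6]) (nat_lit 56646) (nat_lit 3147) = true := by decide +kernel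
theorem wk3_24 : allR (OT.ckEqW [T5, X4, X3, X4, T1, T3, T4, T3, T2, T1, T3, T2, T3, T4, T3, T2, T1, T5, T4, T3, T2, T1, T3, T2, T4, T6, T4, T3, T2, T1, T3, T4, T6, T2, T3, T2, T1, T0] [X6]) (nat_lit 75528) (nat_lit 3147) = true := by decide +kernel
theorem wk3_30 : allR (OT.ckEqW [T5, X4, X3, X4, T1, T3, T4, T3, T2, T1, T3, T2, T3, T4, T3, T2, T1, T5, T4, T3, T2, T1, T3, T2, T4, T6, T4, T3, T2, T1, T3, T4, T6, T2, T3, T2, T1, T0] [X6]) (nat_lit 94410) (nat_lit 3147) = true := by decide +kernel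
theorem wk3_36 : allR (OT.ckEqW [T5, X4, X3, X4, T1, T3, T4, T3, T2, T1, T3, T2, T3, T4, T3, T2, T1, T5, T4, T3, T2, T1, T3, T2, T4, T6, T4, T3, T2, T1, T3, T4, T6, T2, T3, T2, T1, T0] [X6]) (nat_lit 113292) (nat_lit 3147) = true := by decide +kernel

end Cfsg.Agent.H8.ONO
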