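import Cfsg.Agent.H8.T.ONOa

set_option Elab.async false
set_option autoImplicit false
set_option linter.all false
set_option maxRecDepth 100000
set_option maxHeartbeats 400000

namespace Cfsg.Agent.H8.ONO
open Cfsg.Agent.H8.ONt (T0 T1 T2 T3 T4 T5 T6 T7)

theorem pk1_1 : allR (ckPerm (nat_lit 122760) X1 X0) (nat_lit 61380) (nat_lit 61380) = true := by decide +kernel
theorem pk4_1 : allR (ckPerm (nat_lit 122760) X4 X5) (nat_lit 61380) (nat_lit 61380) = true := by decide +kernel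
theorem pk7_1 : allR (ckPerm (nat_lit 122760) X7 X6) (nat_lit 61380) (nat_lit 61380) = true := by decide +kernel
theorem pk10_1 : allR (ckPerm (nat_lit 122760) X10 X11) (nat_lit 61380) (nat_lit 61380) = true := by decide +kernel
theorem wk0_3 : allR (OT.ckEqW [T1, T2, T3, T4, T6] [X0]) (nat_lit 61380) (nat_lit 20460) = true := by decide +kernel
theorem wk1_3 : allR (OT.ckEqW [T2, T3, T2, T3] [X2]) (nat_lit 73656) (nat_lit 24552) = true := by decide +kernel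
theorem wk4_5 : allR (OT.ckEqW [T0, T1, T0, T3, T2, T3, T4, T5, T4, T3, T2, T1, T0] [X8]) (nat_lit 43840) (nat_lit 8768) = true := by decide +kernel
theorem wk4_11 : allR (OT.ckEqW [T0, T1, T0, T3, T2, T3, T4, T5, T4, T3, T2, T1, T0] [X8]) (nat_lit 96448) (nat_lit 8768) = true := by decide +kernel
theorem wk5_3 : allR (OT.ckEqW [T4, T5, T4, T3, T2, T1, T0, T3, T2, T1, T4, T3, T2] [X10]) (nat_lit 26304) (nat_lit 8768) = true := by decide +kernel
theorem wk5_9 : allR (OT.ckEqW [T4, T5, T4, T3, T2, T1, T0, T3, T2, T1, T4, T3, T2] [X10]) (nat_lit 78912) (nat_lit 8768) = true := by decide +kernel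
theorem wk2_1 : allR (OT.ckEqW [T1, T2, T3, T2, T1, T0, T3, T2, T3, T4, T3, T2, T1, T0, T3, T2, T3, T4, T3, T2, T1, T3, T2, T3, T2, T1] [X4]) (nat_lit 4546) (nat_lit 4546) = true := by decide +kernel
theorem wk2_4 : allR (OT.ckEqW [T1, T2, T3, T2, T1, T0, T3, T2, T3, T4, T3, T2, T1, T0, T3, T2, T3, T4, T3, T2, T1, T3, T2, T3, T2, T1] [X4]) (nat_lit 18184) (nat_lit 4546) = true := by decide +kernel
theorem wk2_10 : allR (OT.ckEqW [T1, T2, T3, T2, T1, T0, T3, T2, T3, T4, T3, T2, T1, T0, T3, T2, T3, T4, T3, T2, T1, T3, T2, T3, T2, T1] [X4]) (nat_lit 45460) (nat_lit 4546) = true := by decide +kernel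
theorem wk2_16 : allR (OT.ckEqW [T1, T2, T3, T2, T1, T0, T3, T2, T3, T4, T3, T2, T1, T0, T3, T2, T3, T4, T3, T2, T1, T3, T2, T3, T2, T1] [X4]) (nat_lit 72736) (nat_lit 4546) = true := by decide +kernel
theorem wk2_22 : allR (OT.ckEqW [T1, T2, T3, T2, T1, T0, T3, T2, T3, T4, T3, T2, T1, T0, T3, T2, T3, T4, T3, T2, T1, T3, T2, T3, T2, T1] [X4]) (nat_lit 100012) (nat_lit 4546) = true := by decide +kernel
theorem wk3_1 : allR (OT.ckEqW [T5, X4, X3, X4, T1, T3, T4, T3, T2, T1, T3, T2, T3, T4, T3, T2, T1, T5, T4, T3, T2, T1, T3, T2, T4, T6, T4, T3, T2, T1, T3, T4, T6, T2, T3, T2, T1, T0] [X6]) (nat_lit 3147) (nat_lit 3147) = true := by decide +kernel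
theorem wk3_7 : allR (OT.ckEqW [T5, X4, X3, X4, T1, T3, T4, T3, T2, T1, T3, T2, T3, T4, T3, T2, T1, T5, T4, T3, T2, T1, T3, T2, T4, T6, T4, T3, T2, T1, T3, T4, T6, T2, T3, T2, T1, T0] [X6]) (nat_lit 22029) (nat_lit 3147) = true := by decide +kernel
theorem wk3_13 : allR (OT.ckEqW [T5, X4, X3, X4, T1, T3, T4, T3, T2, T1, T3, T2, T3, T4, T3, T2, T1, T5, T4, T3, T2, T1, T3, T2, T4, T6, T4, T3, T2, T1, T3, T4, T6, T2, T3, T2, T1, T0] [X6]) (nat_lit 40911) (nat_lit 3147) = true := by decide +kernel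
theorem wk3_19 : allR (OT.ckEqW [T5, X4, X3, X4, T1, T3, T4, T3, T2, T1, T3, T2, T3, T4, T3, T2, T1, T5, T4, T3, T2, T1, T3, T2, T4, T6, T4, T3, T2, T1, T3, T4, T6, T2, T3, T2, T1, T0] [X6]) (nat_lit 59793) (nat_lit 3147) = true := by decide +kernel
theorem wk3_25 : allR (OT.ckEqW [T5, X4, X3, X4, T1, T3, T4, T3, T2, T1, T3, T2, T3, T4, T3, T2, T1, T5, T4, T3, T2, T1, T3, T2, T4, T6, T4, T3, T2, T1, T3, T4, T6, T2, T3, T2, T1, T0] [X6]) (nat_lit 78675) (nat_lit 3147) = true := by decide +kernel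
theorem wk3_31 : allR (OT.ckEqW [T5, X4, X3, X4, T1, T3, T4, T3, T2, T1, T3, T2, T3, T4, T3, T2, T1, T5, T4, T3, T2, T1, T3, T2, T4, T6, T4, T3, T2, T1, T3, T4, T6, T2, T3, T2, T1, T0] [X6]) (nat_lit 97557) (nat_lit 3147) = true := by decide +kernel
theorem wk3_37 : allR (OT.ckEqW [T5, X4, X3, X4, T1, T3, T4, T3, T2, T1, T3, T2, T3, T4, T3, T2, T1, T5, T4, T3, T2, T1, T3, T2, T4, T6, T4, T3, T2, T1, T3, T4, T6, T2, T3, T2, T1, T0] [X6]) (nat_lit 116439) (nat_lit 3147) = true := by decide +kernel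

end Cfsg.Agent.H8.ONO
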