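import Cfsg.Agent.H8.T.ONOa

set_option Elab.async false
set_option autoImplicit false
set_option linter.all false
set_option maxRecDepth 100000
set_option maxHeartbeats 400000

namespace Cfsg.Agent.H8.ONO
open Cfsg.Agent.H8.ONt (T0 T1 T2 T3 T4 T5 T6 T7)

theorem pk2_0 : allR (ckPerm (nat_lit 122760) X2 X3) (nat_lit 0) (nat_lit 61380) = true := by decide +kernel
theorem pk5_0 : allR (ckPerm (nat_lit 122760) X5 X4) (nat_lit 0) (nat_lit 61380) = true := by decide +kernel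
theorem pk8_0 : allR (ckPerm (nat_lit 122760) X8 X9) (nat_lit 0) (nat_lit 61380) = true := by decide +kernel
theorem pk11_0 : allR (ckPerm (nat_lit 122760) X11 X10) (nat_lit 0) (nat_lit 61380) = true := by decide +kernel
theorem wk0_4 : allR (OT.ckEqW [T1, T2, T3, T4, T6] [X0]) (nat_lit 81840) (nat_lit 20460) = true := by decide +kernel
theorem wk1_4 : allR (OT.ckEqW [T2, T3, T2, T3] [X2]) (nat_lit 98208) (nat_lit 24552) = true := by decide +kernel
theorem wk4_6 : allR (OT.ckEqW [T0, T1, T0, T3, T2, T3, T4, T5, T4, T3, T2, T1, T0] [X8]) (nat_lit 52608) (nat_lit 8768) = true := by decide +kernel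
theorem wk4_12 : allR (OT.ckEqW [T0, T1, T0, T3, T2, T3, T4, T5, T4, T3, T2, T1, T0] [X8]) (nat_lit 105216) (nat_lit 8768) = true := by decide +kernel
theorem wk5_4 : allR (OT.ckEqW [T4, T5, T4, T3, T2, T1, T0, T3, T2, T1, T4, T3, T2] [X10]) (nat_lit 35072) (nat_lit 8768) = true := by decide +kernel
theorem wk5_10 : allR (OT.ckEqW [T4, T5, T4, T3, T2, T1, T0, T3, T2, T1, T4, T3, T2] [X10]) (nat_lit 87680) (nat_lit 8768) = true := by decide +kernel
theorem wk2_2 : allR (OT.ckEqW [T1, T2, T3, T2, T1, T0, T3, T2, T3, T4, T3, T2, T1, T0, T3, T2, T3, T4, T3, T2, T1, T3, T2, T3, T2, T1] [X4]) (nat_lit 9092) (nat_lit 4546) = true := by decide +kernel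
theorem wk2_5 : allR (OT.ckEqW [T1, T2, T3, T2, T1, T0, T3, T2, T3, T4, T3, T2, T1, T0, T3, T2, T3, T4, T3, T2, T1, T3, T2, T3, T2, T1] [X4]) (nat_lit 22730) (nat_lit 4546) = true := by decide +kernel
theorem wk2_11 : allR (OT.ckEqW [T1, T2, T3, T2, T1, T0, T3, T2, T3, T4, T3, T2, T1, T0, T3, T2, T3, T4, T3, T2, T1, T3, T2, T3, T2, T1] [X4]) (nat_lit 50006) (nat_lit 4546) = true := by decide +kernel
theorem wk2_17 : allR (OT.ckEqW [T1, T2, T3, T2, T1, T0, T3, T2, T3, T4, T3, T2, T1, T0, T3, T2, T3, T4, T3, T2, T1, T3, T2, T3, T2, T1] [X4]) (nat_lit 77282) (nat_lit 4546) = true := by decide +kernel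
theorem wk2_23 : allR (OT.ckEqW [T1, T2, T3, T2, T1, T0, T3, T2, T3, T4, T3, T2, T1, T0, T3, T2, T3, T4, T3, T2, T1, T3, T2, T3, T2, T1] [X4]) (nat_lit 104558) (nat_lit 4546) = true := by decide +kernel
theorem wk3_2 : allR (OT.ckEqW [T5, X4, X3, X4, T1, T3, T4, T3, T2, T1, T3, T2, T3, T4, T3, T2, T1, T5, T4, T3, T2, T1, T3, T2, T4, T6, T4, T3, T2, T1, T3, T4, T6, T2, T3, T2, T1, T0] [X6]) (nat_lit 6294) (nat_lit 3147) = true := by decide +kernel
theorem wk3_8 : allR (OT.ckEqW [T5, X4, X3, X4, T1, T3, T4, T3, T2, T1, T3, T2, T3, T4, T3, T2, T1, T5, T4, T3, T2, T1, T3, T2, T4, T6, T4, T3, T2, T1, T3, T4, T6, T2, T3, T2, T1, T0] [X6]) (nat_lit 25176) (nat_lit 3147) = true := by decide +kernel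
theorem wk3_14 : allR (OT.ckEqW [T5, X4, X3, X4, T1, T3, T4, T3, T2, T1, T3, T2, T3, T4, T3, T2, T1, T5, T4, T3, T2, T1, T3, T2, T4, T6, T4, T3, T2, T1, T3, T4, T6, T2, T3, T2, T1, T0] [X6]) (nat_lit 44058) (nat_lit 3147) = true := by decide +kernel
theorem wk3_20 : allR (OT.ckEqW [T5, X4, X3, X4, T1, T3, T4, T3, T2, T1, T3, T2, T3, T4, T3, T2, T1, T5, T4, T3, T2, T1, T3, T2, T4, T6, T4, T3, T2, T1, T3, T4, T6, T2, T3, T2, T1, T0] [X6]) (nat_lit 62940) (nat_lit 3147) = true := by decide +kernel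
theorem wk3_26 : allR (OT.ckEqW [T5, X4, X3, X4, T1, T3, T4, T3, T2, T1, T3, T2, T3, T4, T3, T2, T1, T5, T4, T3, T2, T1, T3, T2, T4, T6, T4, T3, T2, T1, T3, T4, T6, T2, T3, T2, T1, T0] [X6]) (nat_lit 81822) (nat_lit 3147) = true := by decide +kernel
theorem wk3_32 : allR (OT.ckEqW [T5, X4, X3, X4, T1, T3, T4, T3, T2, T1, T3, T2, T3, T4, T3, T2, T1, T5, T4, T3, T2, T1, T3, T2, T4, T6, T4, T3, T2, T1, T3, T4, T6, T2, T3, T2, T1, T0] [X6]) (nat_lit 100704) (nat_lit 3147) = true := by decide +kernel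
theorem wk3_38 : allR (OT.ckEqW [T5, X4, X3, X4, T1, T3, T4, T3, T2, T1, T3, T2, T3, T4, T3, T2, T1, T5, T4, T3, T2, T1, T3, T2, T4, T6, T4, T3, T2, T1, T3, T4, T6, T2, T3, T2, T1, T0] [X6]) (nat_lit 119586) (nat_lit 3147) = true := by decide +kernel

end Cfsg.Agent.H8.ONO
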