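import Cfsg.Agent.H8.T.ONOa

set_option Elab.async false
set_option autoImplicit false
set_option linter.all false
set_option maxRecDepth 100000
set_option maxHeartbeats 400000

namespace Cfsg.Agent.H8.ONO
open Cfsg.Agent.H8.ONt (T0 T1 T2 T3 T4 T5 T6 T7)

theorem pk2_1 : allR (ckPerm (nat_lit 122760) X2 X3) (nat_lit 61380) (nat_lit 61380) = true := by decide +kernel
theorem pk5_1 : allR (ckPerm (nat_lit 122760) X5 X4) (nat_lit 61380) (nat_lit 61380) = true := by decide +kernel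
theorem pk8_1 : allR (ckPerm (nat_lit 122760) X8 X9) (nat_lit 61380) (nat_lit 61380) = true := by decide +kernel
theorem pk11_1 : allR (ckPerm (nat_lit 122760) X11 X10) (nat_lit 61380) (nat_lit 61380) = true := by decide +kernel
theorem wk0_5 : allR (OT.ckEqW [T1, T2, T3, T4, T6] [X0]) (nat_lit 102300) (nat_lit 20460) = true := by decide +kernel
theorem wk4_0 : allR (OT.ckEqW [T0, T1, T0, T3, T2, T3, T4, T5, T4, T3, T2, T1, T0] [X8]) (nat_lit 0) (nat_lit 8768) = true := by decide +kernel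
theorem wk4_1 : allR (OT.ckEqW [T0, T1, T0, T3, T2, T3, T4, T5, T4, T3, T2, T1, T0] [X8]) (nat_lit 8768) (nat_lit 8768) = true := by decide +kernel
theorem wk4_7 : allR (OT.ckEqW [T0, T1, T0, T3, T2, T3, T4, T5, T4, T3, T2, T1, T0] [X8]) (nat_lit 61376) (nat_lit 8768) = true := by decide +kernel
theorem wk4_13 : allR (OT.ckEqW [T0, T1, T0, T3, T2, T3, T4, T5, T4, T3, T2, T1, T0] [X8]) (nat_lit 113984) (nat_lit 8768) = true := by decide +kernel
theorem wk5_5 : allR (OT.ckEqW [T4, T5, T4, T3, T2, T1, T0, T3, T2, T1, T4, T3, T2] [X10]) (nat_lit 43840) (nat_lit 8768) = true := by decide +kernel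
theorem wk5_11 : allR (OT.ckEqW [T4, T5, T4, T3, T2, T1, T0, T3, T2, T1, T4, T3, T2] [X10]) (nat_lit 96448) (nat_lit 8768) = true := by decide +kernel
theorem wk2_6 : allR (OT.ckEqW [T1, T2, T3, T2, T1, T0, T3, T2, T3, T4, T3, T2, T1, T0, T3, T2, T3, T4, T3, T2, T1, T3, T2, T3, T2, T1] [X4]) (nat_lit 27276) (nat_lit 4546) = true := by decide +kernel
theorem wk2_12 : allR (OT.ckEqW [T1, T2, T3, T2, T1, T0, T3, T2, T3, T4, T3, T2, T1, T0, T3, T2, T3, T4, T3, T2, T1, T3, T2, T3, T2, T1] [X4]) (nat_lit 54552) (nat_lit 4546) = true := by decide +kernel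
theorem wk2_18 : allR (OT.ckEqW [T1, T2, T3, T2, T1, T0, T3, T2, T3, T4, T3, T2, T1, T0, T3, T2, T3, T4, T3, T2, T1, T3, T2, T3, T2, T1] [X4]) (nat_lit 81828) (nat_lit 4546) = true := by decide +kernel
theorem wk2_24 : allR (OT.ckEqW [T1, T2, T3, T2, T1, T0, T3, T2, T3, T4, T3, T2, T1, T0, T3, T2, T3, T4, T3, T2, T1, T3, T2, T3, T2, T1] [X4]) (nat_lit 109104) (nat_lit 4546) = true := by decide +kernel
theorem wk3_3 : allR (OT.ckEqW [T5, X4, X3, X4, T1, T3, T4, T3, T2, T1, T3, T2, T3, T4, T3, T2, T1, T5, T4, T3, T2, T1, T3, T2, T4, T6, T4, T3, T2, T1, T3, T4, T6, T2, T3, T2, T1, T0] [X6]) (nat_lit 9441) (nat_lit 3147) = true := by decide +kernel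
theorem wk3_9 : allR (OT.ckEqW [T5, X4, X3, X4, T1, T3, T4, T3, T2, T1, T3, T2, T3, T4, T3, T2, T1, T5, T4, T3, T2, T1, T3, T2, T4, T6, T4, T3, T2, T1, T3, T4, T6, T2, T3, T2, T1, T0] [X6]) (nat_lit 28323) (nat_lit 3147) = true := by decide +kernel
theorem wk3_15 : allR (OT.ckEqW [T5, X4, X3, X4, T1, T3, T4, T3, T2, T1, T3, T2, T3, T4, T3, T2, T1, T5, T4, T3, T2, T1, T3, T2, T4, T6, T4, T3, T2, T1, T3, T4, T6, T2, T3, T2, T1, T0] [X6]) (nat_lit 47205) (nat_lit 3147) = true := by decide +kernel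
theorem wk3_21 : allR (OT.ckEqW [T5, X4, X3, X4, T1, T3, T4, T3, T2, T1, T3, T2, T3, T4, T3, T2, T1, T5, T4, T3, T2, T1, T3, T2, T4, T6, T4, T3, T2, T1, T3, T4, T6, T2, T3, T2, T1, T0] [X6]) (nat_lit 66087) (nat_lit 3147) = true := by decide +kernel
theorem wk3_27 : allR (OT.ckEqW [T5, X4, X3, X4, T1, T3, T4, T3, T2, T1, T3, T2, T3, T4, T3, T2, T1, T5, T4, T3, T2, T1, T3, T2, T4, T6, T4, T3, T2, T1, T3, T4, T6, T2, T3, T2, T1, T0] [X6]) (nat_lit 84969) (nat_lit 3147) = true := by decide +kernel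
theorem wk3_33 : allR (OT.ckEqW [T5, X4, X3, X4, T1, T3, T4, T3, T2, T1, T3, T2, T3, T4, T3, T2, T1, T5, T4, T3, T2, T1, T3, T2, T4, T6, T4, T3, T2, T1, T3, T4, T6, T2, T3, T2, T1, T0] [X6]) (nat_lit 103851) (nat_lit 3147) = true := by decide +kernel
theorem wk3_39 : allR (OT.ckEqW [T5, X4, X3, X4, T1, T3, T4, T3, T2, T1, T3, T2, T3, T4, T3, T2, T1, T5, T4, T3, T2, T1, T3, T2, T4, T6, T4, T3, T2, T1, T3, T4, T6, T2, T3, T2, T1, T0] [X6]) (nat_lit 122733) (nat_lit 27) = true := by decide +kernel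

end Cfsg.Agent.H8.ONO
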