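import Cfsg.Agent.H8.T.ONtTab
import Cfsg.Agent.H8.CosetPres

set_option autoImplicit false
set_option linter.all false
set_option maxRecDepth 100000

namespace Cfsg.Agent.H8.ONt
theorem rk2_0 : allR (fun i => powT [T0, T3] i (nat_lit 2) i) (nat_lit 0) (nat_lit 16384) = true := by decide +kernel
theorem rk2_1 : allR (fun i => powT [T0, T3] i (nat_lit 2) i) (nat_lit 16384) (nat_lit 16384) = true := by decide +kernel
theorem rk2_2 : allR (fun i => powT [T0, T3] i (nat_lit 2) i) (nat_lit 32768) (nat_lit 16384) = true := by decide +kernel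
theorem rk2_3 : allR (fun i => powT [T0, T3] i (nat_lit 2) i) (nat_lit 49152) (nat_lit 16384) = true := by decide +kernel
theorem rk2_4 : allR (fun i => powT [T0, T3] i (nat_lit 2) i) (nat_lit 65536) (nat_lit 16384) = true := by decide +kernel
theorem rk2_5 : allR (fun i => powT [T0, T3] i (nat_lit 2) i) (nat_lit 81920) (nat_lit 16384) = true := by decide +kernel
theorem rk2_6 : allR (fun i => powT [T0, T3] i (nat_lit 2) i) (nat_lit 98304) (nat_lit 16384) = true := by decide +kernel
theorem rk2_7 : allR (fun i => powT [T0, T3] i (nat_lit 2) i) (nat_lit 114688) (nat_lit 8072) = true := by decide +kernel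
theorem rk2 : allR (fun i => powT [T0, T3] i (nat_lit 2) i) (nat_lit 0) (nat_lit 122760) = true := by
  apply allR_of_forall
  intro i hi
  have hi : i < 122760 := hi
  rcases Nat.lt_or_ge i 16384 with h0 | h0
  · exact allR_spec _ (0 : ℕ) (16384 : ℕ) rk2_0 i (by omega) (by omega)
  rcases Nat.lt_or_ge i 32768 with h1 | h1
  · exact allR_spec _ (16384 : ℕ) (16384 : ℕ) rk2_1 i (by omega) (by omega)
  rcases Nat.lt_or_ge i 49152 with h2 | h2
  · exact allR_spec _ (32768 : ℕ) (16384 : ℕ) rk2_2 i (by omega) (by omega)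
  rcases Nat.lt_or_ge i 65536 with h3 | h3
  · exact allR_spec _ (49152 : ℕ) (16384 : ℕ) rk2_3 i (by omega) (by omega)
  rcases Nat.lt_or_ge i 81920 with h4 | h4
  · exact allR_spec _ (65536 : ℕ) (16384 : ℕ) rk2_4 i (by omega) (by omega)
  rcases Nat.lt_or_ge i 98304 with h5 | h5
  · exact allR_spec _ (81920 : ℕ) (16384 : ℕ) rk2_5 i (by omega) (by omega)
  rcases Nat.lt_or_ge i 114688 with h6 | h6
  · exact allR_spec _ (98304 : ℕ) (16384 : ℕ) rk2_6 i (by omega) (by omega)
  exact allR_spec _ (114688 : ℕ) (8072 : ℕ) rk2_7 i (by omega) (by omega)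
theorem rk7_0 : allR (fun i => powT [T1, T4] i (nat_lit 2) i) (nat_lit 0) (nat_lit 16384) = true := by decide +kernel
theorem rk7_1 : allR (fun i => powT [T1, T4] i (nat_lit 2) i) (nat_lit 16384) (nat_lit 16384) = true := by decide +kernel
theorem rk7_2 : allR (fun i => powT [T1, T4] i (nat_lit 2) i) (nat_lit 32768) (nat_lit 16384) = true := by decide +kernel
theorem rk7_3 : allR (fun i => powT [T1, T4] i (nat_lit 2) i) (nat_lit 49152) (nat_lit 16384) = true := by decide +kernel
theorem rk7_4 : allR (fun i => powT [T1, T4] i (nat_lit 2) i) (nat_lit 65536) (nat_lit 16384) = true := by decide +kernel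
theorem rk7_5 : allR (fun i => powT [T1, T4] i (nat_lit 2) i) (nat_lit 81920) (nat_lit 16384) = true := by decide +kernel
theorem rk7_6 : allR (fun i => powT [T1, T4] i (nat_lit 2) i) (nat_lit 98304) (nat_lit 16384) = true := by decide +kernel
theorem rk7_7 : allR (fun i => powT [T1, T4] i (nat_lit 2) i) (nat_lit 114688) (nat_lit 8072) = true := by decide +kernel
theorem rk7 : allR (fun i => powT [T1, T4] i (nat_lit 2) i) (nat_lit 0) (nat_lit 122760) = true := by
  apply allR_of_forall
  intro i hi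
  have hi : i < 122760 := hi
  rcases Nat.lt_or_ge i 16384 with h0 | h0
  · exact allR_spec _ (0 : ℕ) (16384 : ℕ) rk7_0 i (by omega) (by omega)
  rcases Nat.lt_or_ge i 32768 with h1 | h1
  · exact allR_spec _ (16384 : ℕ) (16384 : ℕ) rk7_1 i (by omega) (by omega)
  rcases Nat.lt_or_ge i 49152 with h2 | h2
  · exact allR_spec _ (32768 : ℕ) (16384 : ℕ) rk7_2 i (by omega) (by omega)
  rcases Nat.lt_or_ge i 65536 with h3 | h3
  · exact allR_spec _ (49152 : ℕ) (16384 : ℕ) rk7_3 i (by omega) (by omega)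
  rcases Nat.lt_or_ge i 81920 with h4 | h4
  · exact allR_spec _ (65536 : ℕ) (16384 : ℕ) rk7_4 i (by omega) (by omega)
  rcases Nat.lt_or_ge i 98304 with h5 | h5
  · exact allR_spec _ (81920 : ℕ) (16384 : ℕ) rk7_5 i (by omega) (by omega)
  rcases Nat.lt_or_ge i 114688 with h6 | h6
  · exact allR_spec _ (98304 : ℕ) (16384 : ℕ) rk7_6 i (by omega) (by omega)
  exact allR_spec _ (114688 : ℕ) (8072 : ℕ) rk7_7 i (by omega) (by omega)
theorem rk20_0 : allR (fun i => powT [T6, T1, T2, T6, T2, T1, T6, T1, T2, T6, T2] i (nat_lit 1) i) (nat_lit 0) (nat_lit 16384) = true := by decide +kernel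
theorem rk20_1 : allR (fun i => powT [T6, T1, T2, T6, T2, T1, T6, T1, T2, T6, T2] i (nat_lit 1) i) (nat_lit 16384) (nat_lit 16384) = true := by decide +kernel
theorem rk20_2 : allR (fun i => powT [T6, T1, T2, T6, T2, T1, T6, T1, T2, T6, T2] i (nat_lit 1) i) (nat_lit 32768) (nat_lit 16384) = true := by decide +kernel
theorem rk20_3 : allR (fun i => powT [T6, T1, T2, T6, T2, T1, T6, T1, T2, T6, T2] i (nat_lit 1) i) (nat_lit 49152) (nat_lit 16384) = true := by decide +kernel
theorem rk20_4 : allR (fun i => powT [T6, T1, T2, T6, T2, T1, T6, T1, T2, T6, T2] i (nat_lit 1) i) (nat_lit 65536) (nat_lit 16384) = true := by decide +kernel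
theorem rk20_5 : allR (fun i => powT [T6, T1, T2, T6, T2, T1, T6, T1, T2, T6, T2] i (nat_lit 1) i) (nat_lit 81920) (nat_lit 16384) = true := by decide +kernel
theorem rk20_6 : allR (fun i => powT [T6, T1, T2, T6, T2, T1, T6, T1, T2, T6, T2] i (nat_lit 1) i) (nat_lit 98304) (nat_lit 16384) = true := by decide +kernel
theorem rk20_7 : allR (fun i => powT [T6, T1, T2, T6, T2, T1, T6, T1, T2, T6, T2] i (nat_lit 1) i) (nat_lit 114688) (nat_lit 8072) = true := by decide +kernel
theorem rk20 : allR (fun i => powT [T6, T1, T2, T6, T2, T1, T6, T1, T2, T6, T2] i (nat_lit 1) i) (nat_lit 0) (nat_lit 122760) = true := by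
  apply allR_of_forall
  intro i hi
  have hi : i < 122760 := hi
  rcases Nat.lt_or_ge i 16384 with h0 | h0
  · exact allR_spec _ (0 : ℕ) (16384 : ℕ) rk20_0 i (by omega) (by omega)
  rcases Nat.lt_or_ge i 32768 with h1 | h1
  · exact allR_spec _ (16384 : ℕ) (16384 : ℕ) rk20_1 i (by omega) (by omega)
  rcases Nat.lt_or_ge i 49152 with h2 | h2
  · exact allR_spec _ (32768 : ℕ) (16384 : ℕ) rk20_2 i (by omega) (by omega)
  rcases Nat.lt_or_ge i 65536 with h3 | h3
  · exact allR_spec _ (49152 : ℕ) (16384 : ℕ) rk20_3 i (by omega) (by omega)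
  rcases Nat.lt_or_ge i 81920 with h4 | h4
  · exact allR_spec _ (65536 : ℕ) (16384 : ℕ) rk20_4 i (by omega) (by omega)
  rcases Nat.lt_or_ge i 98304 with h5 | h5
  · exact allR_spec _ (81920 : ℕ) (16384 : ℕ) rk20_5 i (by omega) (by omega)
  rcases Nat.lt_or_ge i 114688 with h6 | h6
  · exact allR_spec _ (98304 : ℕ) (16384 : ℕ) rk20_6 i (by omega) (by omega)
  exact allR_spec _ (114688 : ℕ) (8072 : ℕ) rk20_7 i (by omega) (by omega)

end Cfsg.Agent.H8.ONt
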