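import Cfsg.Agent.H8.T.ONOc0
import Cfsg.Agent.H8.T.ONOc1
import Cfsg.Agent.H8.T.ONOc2
import Cfsg.Agent.H8.T.ONOc3
import Cfsg.Agent.H8.T.ONOc4
import Cfsg.Agent.H8.T.ONOc5
import Cfsg.Agent.H8.CosetGlue
import Cfsg.Agent.H8.T.ONtP

set_option Elab.async false
set_option autoImplicit false
set_option linter.all false
set_option maxRecDepth 100000
set_option maxHeartbeats 400000

namespace Cfsg.Agent.H8.ONO
open Cfsg.Agent.H8.ONt (T0 T1 T2 T3 T4 T5 T6 T7)

theorem pk0 : allR (ckPerm (nat_lit 122760) X0 X1) (nat_lit 0) (nat_lit 122760) = true := by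
  apply allR_of_forall
  intro i hi
  have hi : i < 122760 := hi
  rcases Nat.lt_or_ge i 61380 with h0 | h0
  · exact allR_spec _ (0 : ℕ) (61380 : ℕ) pk0_0 i (by omega) (by omega)
  exact allR_spec _ (61380 : ℕ) (61380 : ℕ) pk0_1 i (by omega) (by omega)
theorem pk1 : allR (ckPerm (nat_lit 122760) X1 X0) (nat_lit 0) (nat_lit 122760) = true := by
  apply allR_of_forall
  intro i hi
  have hi : i < 122760 := hi
  rcases Nat.lt_or_ge i 61380 with h0 | h0
  · exact allR_spec _ (0 : ℕ) (61380 : ℕ) pk1_0 i (by omega) (by omega)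
  exact allR_spec _ (61380 : ℕ) (61380 : ℕ) pk1_1 i (by omega) (by omega)
theorem pk2 : allR (ckPerm (nat_lit 122760) X2 X3) (nat_lit 0) (nat_lit 122760) = true := by
  apply allR_of_forall
  intro i hi
  have hi : i < 122760 := hi
  rcases Nat.lt_or_ge i 61380 with h0 | h0
  · exact allR_spec _ (0 : ℕ) (61380 : ℕ) pk2_0 i (by omega) (by omega)
  exact allR_spec _ (61380 : ℕ) (61380 : ℕ) pk2_1 i (by omega) (by omega)
theorem pk3 : allR (ckPerm (nat_lit 122760) X3 X2) (nat_lit 0) (nat_lit 122760) = true := by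
  apply allR_of_forall
  intro i hi
  have hi : i < 122760 := hi
  rcases Nat.lt_or_ge i 61380 with h0 | h0
  · exact allR_spec _ (0 : ℕ) (61380 : ℕ) pk3_0 i (by omega) (by omega)
  exact allR_spec _ (61380 : ℕ) (61380 : ℕ) pk3_1 i (by omega) (by omega)
theorem pk4 : allR (ckPerm (nat_lit 122760) X4 X5) (nat_lit 0) (nat_lit 122760) = true := by
  apply allR_of_forall
  intro i hi
  have hi : i < 122760 := hi
  rcases Nat.lt_or_ge i 61380 with h0 | h0
  · exact allR_spec _ (0 : ℕ) (61380 : ℕ) pk4_0 i (by omega) (by omega)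
  exact allR_spec _ (61380 : ℕ) (61380 : ℕ) pk4_1 i (by omega) (by omega)
theorem pk5 : allR (ckPerm (nat_lit 122760) X5 X4) (nat_lit 0) (nat_lit 122760) = true := by
  apply allR_of_forall
  intro i hi
  have hi : i < 122760 := hi
  rcases Nat.lt_or_ge i 61380 with h0 | h0
  · exact allR_spec _ (0 : ℕ) (61380 : ℕ) pk5_0 i (by omega) (by omega)
  exact allR_spec _ (61380 : ℕ) (61380 : ℕ) pk5_1 i (by omega) (by omega)
theorem pk6 : allR (ckPerm (nat_lit 122760) X6 X7) (nat_lit 0) (nat_lit 122760) = true := by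
  apply allR_of_forall
  intro i hi
  have hi : i < 122760 := hi
  rcases Nat.lt_or_ge i 61380 with h0 | h0
  · exact allR_spec _ (0 : ℕ) (61380 : ℕ) pk6_0 i (by omega) (by omega)
  exact allR_spec _ (61380 : ℕ) (61380 : ℕ) pk6_1 i (by omega) (by omega)
theorem pk7 : allR (ckPerm (nat_lit 122760) X7 X6) (nat_lit 0) (nat_lit 122760) = true := by
  apply allR_of_forall
  intro i hi
  have hi : i < 122760 := hi
  rcases Nat.lt_or_ge i 61380 with h0 | h0
  · exact allR_spec _ (0 : ℕ) (61380 : ℕ) pk7_0 i (by omega) (by omega)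
  exact allR_spec _ (61380 : ℕ) (61380 : ℕ) pk7_1 i (by omega) (by omega)
theorem pk8 : allR (ckPerm (nat_lit 122760) X8 X9) (nat_lit 0) (nat_lit 122760) = true := by
  apply allR_of_forall
  intro i hi
  have hi : i < 122760 := hi
  rcases Nat.lt_or_ge i 61380 with h0 | h0
  · exact allR_spec _ (0 : ℕ) (61380 : ℕ) pk8_0 i (by omega) (by omega)
  exact allR_spec _ (61380 : ℕ) (61380 : ℕ) pk8_1 i (by omega) (by omega)
theorem pk9 : allR (ckPerm (nat_lit 122760) X9 X8) (nat_lit 0) (nat_lit 122760) = true := by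
  apply allR_of_forall
  intro i hi
  have hi : i < 122760 := hi
  rcases Nat.lt_or_ge i 61380 with h0 | h0
  · exact allR_spec _ (0 : ℕ) (61380 : ℕ) pk9_0 i (by omega) (by omega)
  exact allR_spec _ (61380 : ℕ) (61380 : ℕ) pk9_1 i (by omega) (by omega)
theorem pk10 : allR (ckPerm (nat_lit 122760) X10 X11) (nat_lit 0) (nat_lit 122760) = true := by
  apply allR_of_forall
  intro i hi
  have hi : i < 122760 := hi
  rcases Nat.lt_or_ge i 61380 with h0 | h0
  · exact allR_spec _ (0 : ℕ) (61380 : ℕ) pk10_0 i (by omega) (by omega)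
  exact allR_spec _ (61380 : ℕ) (61380 : ℕ) pk10_1 i (by omega) (by omega)
theorem pk11 : allR (ckPerm (nat_lit 122760) X11 X10) (nat_lit 0) (nat_lit 122760) = true := by
  apply allR_of_forall
  intro i hi
  have hi : i < 122760 := hi
  rcases Nat.lt_or_ge i 61380 with h0 | h0
  · exact allR_spec _ (0 : ℕ) (61380 : ℕ) pk11_0 i (by omega) (by omega)
  exact allR_spec _ (61380 : ℕ) (61380 : ℕ) pk11_1 i (by omega) (by omega)
theorem wk0 : allR (OT.ckEqW [T1, T2, T3, T4, T6] [X0]) (nat_lit 0) (nat_lit 122760) = true := by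
  apply allR_of_forall
  intro i hi
  have hi : i < 122760 := hi
  rcases Nat.lt_or_ge i 20460 with h0 | h0
  · exact allR_spec _ (0 : ℕ) (20460 : ℕ) wk0_0 i (by omega) (by omega)
  rcases Nat.lt_or_ge i 40920 with h1 | h1
  · exact allR_spec _ (20460 : ℕ) (20460 : ℕ) wk0_1 i (by omega) (by omega)
  rcases Nat.lt_or_ge i 61380 with h2 | h2
  · exact allR_spec _ (40920 : ℕ) (20460 : ℕ) wk0_2 i (by omega) (by omega)
  rcases Nat.lt_or_ge i 81840 with h3 | h3
  · exact allR_spec _ (61380 : ℕ) (20460 : ℕ) wk0_3 i (by omega) (by omega)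
  rcases Nat.lt_or_ge i 102300 with h4 | h4
  · exact allR_spec _ (81840 : ℕ) (20460 : ℕ) wk0_4 i (by omega) (by omega)
  exact allR_spec _ (102300 : ℕ) (20460 : ℕ) wk0_5 i (by omega) (by omega)
theorem wk1 : allR (OT.ckEqW [T2, T3, T2, T3] [X2]) (nat_lit 0) (nat_lit 122760) = true := by
  apply allR_of_forall
  intro i hi
  have hi : i < 122760 := hi
  rcases Nat.lt_or_ge i 24552 with h0 | h0
  · exact allR_spec _ (0 : ℕ) (24552 : ℕ) wk1_0 i (by omega) (by omega)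
  rcases Nat.lt_or_ge i 49104 with h1 | h1
  · exact allR_spec _ (24552 : ℕ) (24552 : ℕ) wk1_1 i (by omega) (by omega)
  rcases Nat.lt_or_ge i 73656 with h2 | h2
  · exact allR_spec _ (49104 : ℕ) (24552 : ℕ) wk1_2 i (by omega) (by omega)
  rcases Nat.lt_or_ge i 98208 with h3 | h3
  · exact allR_spec _ (73656 : ℕ) (24552 : ℕ) wk1_3 i (by omega) (by omega)
  exact allR_spec _ (98208 : ℕ) (24552 : ℕ) wk1_4 i (by omega) (by omega)
theorem wk2 : allR (OT.ckEqW [T1, T2, T3, T2, T1, T0, T3, T2, T3, T4, T3, T2, T1, T0, T3, T2, T3, T4, T3, T2, T1, T3, T2, T3, T2, T1] [X4]) (nat_lit 0) (nat_lit 122760) = true := by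
  apply allR_of_forall
  intro i hi
  have hi : i < 122760 := hi
  rcases Nat.lt_or_ge i 4546 with h0 | h0
  · exact allR_spec _ (0 : ℕ) (4546 : ℕ) wk2_0 i (by omega) (by omega)
  rcases Nat.lt_or_ge i 9092 with h1 | h1
  · exact allR_spec _ (4546 : ℕ) (4546 : ℕ) wk2_1 i (by omega) (by omega)
  rcases Nat.lt_or_ge i 13638 with h2 | h2
  · exact allR_spec _ (9092 : ℕ) (4546 : ℕ) wk2_2 i (by omega) (by omega)
  rcases Nat.lt_or_ge i 18184 with h3 | h3
  · exact allR_spec _ (13638 : ℕ) (4546 : ℕ) wk2_3 i (by omega) (by omega)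
  rcases Nat.lt_or_ge i 22730 with h4 | h4
  · exact allR_spec _ (18184 : ℕ) (4546 : ℕ) wk2_4 i (by omega) (by omega)
  rcases Nat.lt_or_ge i 27276 with h5 | h5
  · exact allR_spec _ (22730 : ℕ) (4546 : ℕ) wk2_5 i (by omega) (by omega)
  rcases Nat.lt_or_ge i 31822 with h6 | h6
  · exact allR_spec _ (27276 : ℕ) (4546 : ℕ) wk2_6 i (by omega) (by omega)
  rcases Nat.lt_or_ge i 36368 with h7 | h7
  · exact allR_spec _ (31822 : ℕ) (4546 : ℕ) wk2_7 i (by omega) (by omega)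
  rcases Nat.lt_or_ge i 40914 with h8 | h8
  · exact allR_spec _ (36368 : ℕ) (4546 : ℕ) wk2_8 i (by omega) (by omega)
  rcases Nat.lt_or_ge i 45460 with h9 | h9
  · exact allR_spec _ (40914 : ℕ) (4546 : ℕ) wk2_9 i (by omega) (by omega)
  rcases Nat.lt_or_ge i 50006 with h10 | h10
  · exact allR_spec _ (45460 : ℕ) (4546 : ℕ) wk2_10 i (by omega) (by omega)
  rcases Nat.lt_or_ge i 54552 with h11 | h11
  · exact allR_spec _ (50006 : ℕ) (4546 : ℕ) wk2_11 i (by omega) (by omega)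
  rcases Nat.lt_or_ge i 59098 with h12 | h12
  · exact allR_spec _ (54552 : ℕ) (4546 : ℕ) wk2_12 i (by omega) (by omega)
  rcases Nat.lt_or_ge i 63644 with h13 | h13
  · exact allR_spec _ (59098 : ℕ) (4546 : ℕ) wk2_13 i (by omega) (by omega)
  rcases Nat.lt_or_ge i 68190 with h14 | h14
  · exact allR_spec _ (63644 : ℕ) (4546 : ℕ) wk2_14 i (by omega) (by omega)
  rcases Nat.lt_or_ge i 72736 with h15 | h15
  · exact allR_spec _ (68190 : ℕ) (4546 : ℕ) wk2_15 i (by omega) (by omega)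
  rcases Nat.lt_or_ge i 77282 with h16 | h16
  · exact allR_spec _ (72736 : ℕ) (4546 : ℕ) wk2_16 i (by omega) (by omega)
  rcases Nat.lt_or_ge i 81828 with h17 | h17
  · exact allR_spec _ (77282 : ℕ) (4546 : ℕ) wk2_17 i (by omega) (by omega)
  rcases Nat.lt_or_ge i 86374 with h18 | h18
  · exact allR_spec _ (81828 : ℕ) (4546 : ℕ) wk2_18 i (by omega) (by omega)
  rcases Nat.lt_or_ge i 90920 with h19 | h19
  · exact allR_spec _ (86374 : ℕ) (4546 : ℕ) wk2_19 i (by omega) (by omega)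
  rcases Nat.lt_or_ge i 95466 with h20 | h20
  · exact allR_spec _ (90920 : ℕ) (4546 : ℕ) wk2_20 i (by omega) (by omega)
  rcases Nat.lt_or_ge i 100012 with h21 | h21
  · exact allR_spec _ (95466 : ℕ) (4546 : ℕ) wk2_21 i (by omega) (by omega)
  rcases Nat.lt_or_ge i 104558 with h22 | h22
  · exact allR_spec _ (100012 : ℕ) (4546 : ℕ) wk2_22 i (by omega) (by omega)
  rcases Nat.lt_or_ge i 109104 with h23 | h23
  · exact allR_spec _ (104558 : ℕ) (4546 : ℕ) wk2_23 i (by omega) (by omega)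
  rcases Nat.lt_or_ge i 113650 with h24 | h24
  · exact allR_spec _ (109104 : ℕ) (4546 : ℕ) wk2_24 i (by omega) (by omega)
  rcases Nat.lt_or_ge i 118196 with h25 | h25
  · exact allR_spec _ (113650 : ℕ) (4546 : ℕ) wk2_25 i (by omega) (by omega)
  rcases Nat.lt_or_ge i 122742 with h26 | h26
  · exact allR_spec _ (118196 : ℕ) (4546 : ℕ) wk2_26 i (by omega) (by omega)
  exact allR_spec _ (122742 : ℕ) (18 : ℕ) wk2_27 i (by omega) (by omega)
theorem wk3 : allR (OT.ckEqW [T5, X4, X3, X4, T1, T3, T4, T3, T2, T1, T3, T2, T3, T4, T3, T2, T1, T5, T4, T3, T2, T1, T3, T2, T4, T6, T4, T3, T2, T1, T3, T4, T6, T2, T3, T2, T1, T0] [X6]) (nat_lit 0) (nat_lit 122760) = true := by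
  apply allR_of_forall
  intro i hi
  have hi : i < 122760 := hi
  rcases Nat.lt_or_ge i 3147 with h0 | h0
  · exact allR_spec _ (0 : ℕ) (3147 : ℕ) wk3_0 i (by omega) (by omega)
  rcases Nat.lt_or_ge i 6294 with h1 | h1
  · exact allR_spec _ (3147 : ℕ) (3147 : ℕ) wk3_1 i (by omega) (by omega)
  rcases Nat.lt_or_ge i 9441 with h2 | h2
  · exact allR_spec _ (6294 : ℕ) (3147 : ℕ) wk3_2 i (by omega) (by omega)
  rcases Nat.lt_or_ge i 12588 with h3 | h3
  · exact allR_spec _ (9441 : ℕ) (3147 : ℕ) wk3_3 i (by omega) (by omega)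
  rcases Nat.lt_or_ge i 15735 with h4 | h4
  · exact allR_spec _ (12588 : ℕ) (3147 : ℕ) wk3_4 i (by omega) (by omega)
  rcases Nat.lt_or_ge i 18882 with h5 | h5
  · exact allR_spec _ (15735 : ℕ) (3147 : ℕ) wk3_5 i (by omega) (by omega)
  rcases Nat.lt_or_ge i 22029 with h6 | h6
  · exact allR_spec _ (18882 : ℕ) (3147 : ℕ) wk3_6 i (by omega) (by omega)
  rcases Nat.lt_or_ge i 25176 with h7 | h7
  · exact allR_spec _ (22029 : ℕ) (3147 : ℕ) wk3_7 i (by omega) (by omega)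
  rcases Nat.lt_or_ge i 28323 with h8 | h8
  · exact allR_spec _ (25176 : ℕ) (3147 : ℕ) wk3_8 i (by omega) (by omega)
  rcases Nat.lt_or_ge i 31470 with h9 | h9
  · exact allR_spec _ (28323 : ℕ) (3147 : ℕ) wk3_9 i (by omega) (by omega)
  rcases Nat.lt_or_ge i 34617 with h10 | h10
  · exact allR_spec _ (31470 : ℕ) (3147 : ℕ) wk3_10 i (by omega) (by omega)
  rcases Nat.lt_or_ge i 37764 with h11 | h11
  · exact allR_spec _ (34617 : ℕ) (3147 : ℕ) wk3_11 i (by omega) (by omega)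
  rcases Nat.lt_or_ge i 40911 with h12 | h12
  · exact allR_spec _ (37764 : ℕ) (3147 : ℕ) wk3_12 i (by omega) (by omega)
  rcases Nat.lt_or_ge i 44058 with h13 | h13
  · exact allR_spec _ (40911 : ℕ) (3147 : ℕ) wk3_13 i (by omega) (by omega)
  rcases Nat.lt_or_ge i 47205 with h14 | h14
  · exact allR_spec _ (44058 : ℕ) (3147 : ℕ) wk3_14 i (by omega) (by omega)
  rcases Nat.lt_or_ge i 50352 with h15 | h15
  · exact allR_spec _ (47205 : ℕ) (3147 : ℕ) wk3_15 i (by omega) (by omega)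
  rcases Nat.lt_or_ge i 53499 with h16 | h16
  · exact allR_spec _ (50352 : ℕ) (3147 : ℕ) wk3_16 i (by omega) (by omega)
  rcases Nat.lt_or_ge i 56646 with h17 | h17
  · exact allR_spec _ (53499 : ℕ) (3147 : ℕ) wk3_17 i (by omega) (by omega)
  rcases Nat.lt_or_ge i 59793 with h18 | h18
  · exact allR_spec _ (56646 : ℕ) (3147 : ℕ) wk3_18 i (by omega) (by omega)
  rcases Nat.lt_or_ge i 62940 with h19 | h19
  · exact allR_spec _ (59793 : ℕ) (3147 : ℕ) wk3_19 i (by omega) (by omega)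
  rcases Nat.lt_or_ge i 66087 with h20 | h20
  · exact allR_spec _ (62940 : ℕ) (3147 : ℕ) wk3_20 i (by omega) (by omega)
  rcases Nat.lt_or_ge i 69234 with h21 | h21
  · exact allR_spec _ (66087 : ℕ) (3147 : ℕ) wk3_21 i (by omega) (by omega)
  rcases Nat.lt_or_ge i 72381 with h22 | h22
  · exact allR_spec _ (69234 : ℕ) (3147 : ℕ) wk3_22 i (by omega) (by omega)
  rcases Nat.lt_or_ge i 75528 with h23 | h23
  · exact allR_spec _ (72381 : ℕ) (3147 : ℕ) wk3_23 i (by omega) (by omega)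
  rcases Nat.lt_or_ge i 78675 with h24 | h24
  · exact allR_spec _ (75528 : ℕ) (3147 : ℕ) wk3_24 i (by omega) (by omega)
  rcases Nat.lt_or_ge i 81822 with h25 | h25
  · exact allR_spec _ (78675 : ℕ) (3147 : ℕ) wk3_25 i (by omega) (by omega)
  rcases Nat.lt_or_ge i 84969 with h26 | h26
  · exact allR_spec _ (81822 : ℕ) (3147 : ℕ) wk3_26 i (by omega) (by omega)
  rcases Nat.lt_or_ge i 88116 with h27 | h27
  · exact allR_spec _ (84969 : ℕ) (3147 : ℕ) wk3_27 i (by omega) (by omega)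
  rcases Nat.lt_or_ge i 91263 with h28 | h28
  · exact allR_spec _ (88116 : ℕ) (3147 : ℕ) wk3_28 i (by omega) (by omega)
  rcases Nat.lt_or_ge i 94410 with h29 | h29
  · exact allR_spec _ (91263 : ℕ) (3147 : ℕ) wk3_29 i (by omega) (by omega)
  rcases Nat.lt_or_ge i 97557 with h30 | h30
  · exact allR_spec _ (94410 : ℕ) (3147 : ℕ) wk3_30 i (by omega) (by omega)
  rcases Nat.lt_or_ge i 100704 with h31 | h31
  · exact allR_spec _ (97557 : ℕ) (3147 : ℕ) wk3_31 i (by omega) (by omega)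
  rcases Nat.lt_or_ge i 103851 with h32 | h32
  · exact allR_spec _ (100704 : ℕ) (3147 : ℕ) wk3_32 i (by omega) (by omega)
  rcases Nat.lt_or_ge i 106998 with h33 | h33
  · exact allR_spec _ (103851 : ℕ) (3147 : ℕ) wk3_33 i (by omega) (by omega)
  rcases Nat.lt_or_ge i 110145 with h34 | h34
  · exact allR_spec _ (106998 : ℕ) (3147 : ℕ) wk3_34 i (by omega) (by omega)
  rcases Nat.lt_or_ge i 113292 with h35 | h35
  · exact allR_spec _ (110145 : ℕ) (3147 : ℕ) wk3_35 i (by omega) (by omega)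
  rcases Nat.lt_or_ge i 116439 with h36 | h36
  · exact allR_spec _ (113292 : ℕ) (3147 : ℕ) wk3_36 i (by omega) (by omega)
  rcases Nat.lt_or_ge i 119586 with h37 | h37
  · exact allR_spec _ (116439 : ℕ) (3147 : ℕ) wk3_37 i (by omega) (by omega)
  rcases Nat.lt_or_ge i 122733 with h38 | h38
  · exact allR_spec _ (119586 : ℕ) (3147 : ℕ) wk3_38 i (by omega) (by omega)
  exact allR_spec _ (122733 : ℕ) (27 : ℕ) wk3_39 i (by omega) (by omega)
theorem wk4 : allR (OT.ckEqW [T0, T1, T0, T3, T2, T3, T4, T5, T4, T3, T2, T1, T0] [X8]) (nat_lit 0) (nat_lit 122760) = true := by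
  apply allR_of_forall
  intro i hi
  have hi : i < 122760 := hi
  rcases Nat.lt_or_ge i 8768 with h0 | h0
  · exact allR_spec _ (0 : ℕ) (8768 : ℕ) wk4_0 i (by omega) (by omega)
  rcases Nat.lt_or_ge i 17536 with h1 | h1
  · exact allR_spec _ (8768 : ℕ) (8768 : ℕ) wk4_1 i (by omega) (by omega)
  rcases Nat.lt_or_ge i 26304 with h2 | h2
  · exact allR_spec _ (17536 : ℕ) (8768 : ℕ) wk4_2 i (by omega) (by omega)
  rcases Nat.lt_or_ge i 35072 with h3 | h3
  · exact allR_spec _ (26304 : ℕ) (8768 : ℕ) wk4_3 i (by omega) (by omega)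
  rcases Nat.lt_or_ge i 43840 with h4 | h4
  · exact allR_spec _ (35072 : ℕ) (8768 : ℕ) wk4_4 i (by omega) (by omega)
  rcases Nat.lt_or_ge i 52608 with h5 | h5
  · exact allR_spec _ (43840 : ℕ) (8768 : ℕ) wk4_5 i (by omega) (by omega)
  rcases Nat.lt_or_ge i 61376 with h6 | h6
  · exact allR_spec _ (52608 : ℕ) (8768 : ℕ) wk4_6 i (by omega) (by omega)
  rcases Nat.lt_or_ge i 70144 with h7 | h7
  · exact allR_spec _ (61376 : ℕ) (8768 : ℕ) wk4_7 i (by omega) (by omega)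
  rcases Nat.lt_or_ge i 78912 with h8 | h8
  · exact allR_spec _ (70144 : ℕ) (8768 : ℕ) wk4_8 i (by omega) (by omega)
  rcases Nat.lt_or_ge i 87680 with h9 | h9
  · exact allR_spec _ (78912 : ℕ) (8768 : ℕ) wk4_9 i (by omega) (by omega)
  rcases Nat.lt_or_ge i 96448 with h10 | h10
  · exact allR_spec _ (87680 : ℕ) (8768 : ℕ) wk4_10 i (by omega) (by omega)
  rcases Nat.lt_or_ge i 105216 with h11 | h11
  · exact allR_spec _ (96448 : ℕ) (8768 : ℕ) wk4_11 i (by omega) (by omega)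
  rcases Nat.lt_or_ge i 113984 with h12 | h12
  · exact allR_spec _ (105216 : ℕ) (8768 : ℕ) wk4_12 i (by omega) (by omega)
  rcases Nat.lt_or_ge i 122752 with h13 | h13
  · exact allR_spec _ (113984 : ℕ) (8768 : ℕ) wk4_13 i (by omega) (by omega)
  exact allR_spec _ (122752 : ℕ) (8 : ℕ) wk4_14 i (by omega) (by omega)
theorem wk5 : allR (OT.ckEqW [T4, T5, T4, T3, T2, T1, T0, T3, T2, T1, T4, T3, T2] [X10]) (nat_lit 0) (nat_lit 122760) = true := by
  apply allR_of_forall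
  intro i hi
  have hi : i < 122760 := hi
  rcases Nat.lt_or_ge i 8768 with h0 | h0
  · exact allR_spec _ (0 : ℕ) (8768 : ℕ) wk5_0 i (by omega) (by omega)
  rcases Nat.lt_or_ge i 17536 with h1 | h1
  · exact allR_spec _ (8768 : ℕ) (8768 : ℕ) wk5_1 i (by omega) (by omega)
  rcases Nat.lt_or_ge i 26304 with h2 | h2
  · exact allR_spec _ (17536 : ℕ) (8768 : ℕ) wk5_2 i (by omega) (by omega)
  rcases Nat.lt_or_ge i 35072 with h3 | h3
  · exact allR_spec _ (26304 : ℕ) (8768 : ℕ) wk5_3 i (by omega) (by omega)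
  rcases Nat.lt_or_ge i 43840 with h4 | h4
  · exact allR_spec _ (35072 : ℕ) (8768 : ℕ) wk5_4 i (by omega) (by omega)
  rcases Nat.lt_or_ge i 52608 with h5 | h5
  · exact allR_spec _ (43840 : ℕ) (8768 : ℕ) wk5_5 i (by omega) (by omega)
  rcases Nat.lt_or_ge i 61376 with h6 | h6
  · exact allR_spec _ (52608 : ℕ) (8768 : ℕ) wk5_6 i (by omega) (by omega)
  rcases Nat.lt_or_ge i 70144 with h7 | h7
  · exact allR_spec _ (61376 : ℕ) (8768 : ℕ) wk5_7 i (by omega) (by omega)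
  rcases Nat.lt_or_ge i 78912 with h8 | h8
  · exact allR_spec _ (70144 : ℕ) (8768 : ℕ) wk5_8 i (by omega) (by omega)
  rcases Nat.lt_or_ge i 87680 with h9 | h9
  · exact allR_spec _ (78912 : ℕ) (8768 : ℕ) wk5_9 i (by omega) (by omega)
  rcases Nat.lt_or_ge i 96448 with h10 | h10
  · exact allR_spec _ (87680 : ℕ) (8768 : ℕ) wk5_10 i (by omega) (by omega)
  rcases Nat.lt_or_ge i 105216 with h11 | h11
  · exact allR_spec _ (96448 : ℕ) (8768 : ℕ) wk5_11 i (by omega) (by omega)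
  rcases Nat.lt_or_ge i 113984 with h12 | h12
  · exact allR_spec _ (105216 : ℕ) (8768 : ℕ) wk5_12 i (by omega) (by omega)
  rcases Nat.lt_or_ge i 122752 with h13 | h13
  · exact allR_spec _ (113984 : ℕ) (8768 : ℕ) wk5_13 i (by omega) (by omega)
  exact allR_spec _ (122752 : ℕ) (8 : ℕ) wk5_14 i (by omega) (by omega)
def bws : List (List Nat) := [[1, 2, 3, 4, 6], [2, 3, 2, 3], [1, 2, 3, 2, 1, 0, 3, 2, 3, 4, 3, 2, 1, 0, 3, 2, 3, 4, 3, 2, 1, 3, 2, 3, 2, 1], [5, 12, 11, 12, 1, 3, 4, 3, 2, 1, 3, 2, 3, 4, 3, 2, 1, 5, 4, 3, 2, 1, 3, 2, 4, 6, 4, 3, 2, 1, 3, 4, 6, 2, 3, 2, 1, 0], [0, 1, 0, 3, 2, 3, 4, 5, 4, 3, 2, 1, 0], [4, 5, 4, 3, 2, 1, 0, 3, 2, 1, 4, 3, 2]]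
noncomputable def T' : Nat → Nat → Nat := fun l => (@Nat.rec (fun _ => Nat → Nat) T0 (fun l _ => (@Nat.rec (fun _ => Nat → Nat) T1 (fun l _ => (@Nat.rec (fun _ => Nat → Nat) T2 (fun l _ => (@Nat.rec (fun _ => Nat → Nat) T3 (fun l _ => (@Nat.rec (fun _ => Nat → Nat) T4 (fun l _ => (@Nat.rec (fun _ => Nat → Nat) T5 (fun l _ => (@Nat.rec (fun _ => Nat → Nat) T6 (fun l _ => (@Nat.rec (fun _ => Nat → Nat) T7 (fun l _ => (@Nat.rec (fun _ => Nat → Nat) X0 (fun l _ => (@Nat.rec (fun _ => Nat → Nat) X1 (fun l _ => (@Nat.rec (fun _ => Nat → Nat) X2 (fun l _ => (@Nat.rec (fun _ => Nat → Nat) X3 (fun l _ => (@Nat.rec (fun _ => Nat → Nat) X4 (fun l _ => (@Nat.rec (fun _ => Nat → Nat) X5 (fun l _ => (@Nat.rec (fun _ => Nat → Nat) X6 (fun l _ => (@Nat.rec (fun _ => Nat → Nat) X7 (fun l _ => (@Nat.rec (fun _ => Nat → Nat) X8 (fun l _ => (@Nat.rec (fun _ => Nat → Nat) X9 (fun l _ => (@Nat.rec (fun _ => Nat → Nat) X10 (fun l _ =>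 X11) l)) l)) l)) l)) l)) l)) l)) l)) l)) l)) l)) l)) l)) l)) l)) l)) l)) l)) l)
def inv' : Nat → Nat := fun l => [0, 1, 2, 3, 4, 5, 7, 6, 9, 8, 11, 10, 13, 12, 15, 14, 17, 16, 19, 18].getD l 0

theorem hTT : ∀ l < 8, T' l = Cfsg.Agent.H8.ONt.T l := by
  intro l hl
  interval_cases l <;> rfl

theorem hii : ∀ l < 8, inv' l = Cfsg.Agent.H8.ONt.inv l := by
  intro l hl
  interval_cases l <;> rfl

theorem h1 : ∀ l, 8 ≤ l → l < 20 → inv' l < 20 ∧ inv' (inv' l) = l := by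
  intro l h1 h2
  interval_cases l <;> decide

theorem h2 : ∀ l, 8 ≤ l → l < 20 → ∀ i < 122760, T' l i < 122760 ∧ T' (inv' l) (T' l i) = i := by
  intro l h1 h2 i hi
  interval_cases l
  · exact ckPerm_sound _ _ _ _ (allR_zero _ _ pk0 i hi)
  · exact ckPerm_sound _ _ _ _ (allR_zero _ _ pk1 i hi)
  · exact ckPerm_sound _ _ _ _ (allR_zero _ _ pk2 i hi)
  · exact ckPerm_sound _ _ _ _ (allR_zero _ _ pk3 i hi)
  · exact ckPerm_sound _ _ _ _ (allR_zero _ _ pk4 i hi)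
  · exact ckPerm_sound _ _ _ _ (allR_zero _ _ pk5 i hi)
  · exact ckPerm_sound _ _ _ _ (allR_zero _ _ pk6 i hi)
  · exact ckPerm_sound _ _ _ _ (allR_zero _ _ pk7 i hi)
  · exact ckPerm_sound _ _ _ _ (allR_zero _ _ pk8 i hi)
  · exact ckPerm_sound _ _ _ _ (allR_zero _ _ pk9 i hi)
  · exact ckPerm_sound _ _ _ _ (allR_zero _ _ pk10 i hi)
  · exact ckPerm_sound _ _ _ _ (allR_zero _ _ pk11 i hi)

theorem tok : TableOK 122760 20 T' inv' :=
  OT.tableOK_ext Cfsg.Agent.H8.ONt.tok (by decide) hTT hii h1 h2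

theorem hwb : ∀ i < bws.length, (∀ l ∈ bws.getD i [], l < 8 + 2 * i) ∧ inv' (8 + 2 * i) = 8 + 2 * i + 1 ∧
    ∀ j < 122760, trN T' (bws.getD i []) j = T' (8 + 2 * i) j := by
  intro i hi
  have hl : bws.length = 6 := by decide
  rw [hl] at hi
  interval_cases i
  · exact ⟨by decide, by decide, fun j hj => OT.ckEqW_sound (T := T') [1, 2, 3, 4, 6] [8] j (allR_zero _ _ wk0 j hj)⟩
  · exact ⟨by decide, by decide, fun j hj => OT.ckEqW_sound (T := T') [2, 3, 2, 3] [10] j (allR_zero _ _ wk1 j hj)⟩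
  · exact ⟨by decide, by decide, fun j hj => OT.ckEqW_sound (T := T') [1, 2, 3, 2, 1, 0, 3, 2, 3, 4, 3, 2, 1, 0, 3, 2, 3, 4, 3, 2, 1, 3, 2, 3, 2, 1] [12] j (allR_zero _ _ wk2 j hj)⟩
  · exact ⟨by decide, by decide, fun j hj => OT.ckEqW_sound (T := T') [5, 12, 11, 12, 1, 3, 4, 3, 2, 1, 3, 2, 3, 4, 3, 2, 1, 5, 4, 3, 2, 1, 3, 2, 4, 6, 4, 3, 2, 1, 3, 4, 6, 2, 3, 2, 1, 0] [14] j (allR_zero _ _ wk3 j hj)⟩
  · exact ⟨by decide, by decide, fun j hj => OT.ckEqW_sound (T := T') [0, 1, 0, 3, 2, 3, 4, 5, 4, 3, 2, 1, 0] [16] j (allR_zero _ _ wk4 j hj)⟩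
  · exact ⟨by decide, by decide, fun j hj => OT.ckEqW_sound (T := T') [4, 5, 4, 3, 2, 1, 0, 3, 2, 1, 4, 3, 2] [18] j (allR_zero _ _ wk5 j hj)⟩

end Cfsg.Agent.H8.ONO
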