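import Cfsg.Agent.H8.T.ONtTab

set_option autoImplicit false
set_option linter.all false
set_option maxRecDepth 100000

namespace Cfsg.Agent.H8.ONt
def r1w : List Nat := [6, 6, 6, 6]
def r1RB : List (List Nat) := [[0, 5, 7, 7], [31, 0, 5, 0, 5], [31]]
def r1RBC : List Nat := [30720, 8194, 5]
def r1rels : List (List Nat) := (relsP.map (fun p => wpow p.1 p.2)) ++ []
theorem r1bc : ckRB 8 inv r1rels r1RB r1RBC = true := by decide +kernel
noncomputable def r1F : Nat → Nat := fun g => Nat.land (Nat.shiftRight (nat_lit 0x3e0000000009f0000400000000001000031400018000100000000000a5000050000230000200001980000c00008c000040000260000100000) (Nat.mul (nat_lit 45) g)) (nat_lit 0x1fffffffffff)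
noncomputable def r1T : Nat → Nat := fun g => Nat.land (Nat.shiftRight (nat_lit 0x10a000045000033000011800004c000006) (Nat.mul (nat_lit 25) g)) (nat_lit 0x1ffffff)
noncomputable def r1L : List Nat := [nat_lit 0x0, nat_lit 0x0, nat_lit 0x0, nat_lit 0x0, nat_lit 0x0, nat_lit 0x20004000a03001, nat_lit 0x0, nat_lit 0x60008000e03001, nat_lit 0xe0010000a000c04002, nat_lit 0x1201003]
theorem r1k : ckBlock 1 0 0 (fun _ _ => 0) inv r1T r1F r1RB r1L 0 = true := by decide +kernel
theorem r1 {G : Type*} [Group G] (s : Nat → G) (hinv : ∀ l, s (inv l) = (s l)⁻¹) (h31 : s 31 = 1)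
    (hb : ∀ p ∈ relsP, ((p.1.map s).prod) ^ p.2 = 1) : (r1w.map s).prod = 1 := by
  have hrels : ∀ W ∈ r1rels, (W.map s).prod = 1 := by
    unfold r1rels
    intro W hW
    rcases List.mem_append.1 hW with hW | hW
    · exact hrels_of s relsP hb W hW
    · revert W
      suffices H : ∀ W ∈ ([] : List (List Nat)), (W.map s).prod = 1 from fun W _ h => H W h
      intro c hc
      exact absurd hc List.not_mem_nil
  exact rel_of_block s inv 8 r1T r1F r1RB hinv h31
    (ckRB_sound s 8 inv r1rels hrels hinv h31 r1RB r1RBC r1bc) r1L r1k r1w (by decide +kernel) (by decide +kernel) (by decide) 9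
    (by decide +kernel) (by decide +kernel)
def r2w : List Nat := [2, 6, 6, 2, 6, 6]
def r2RB : List (List Nat) := [[0, 5, 7, 7], [5, 2, 5, 2], [0, 2, 0, 2], [31, 0, 5, 0, 5], [31]]
def r2RBC : List Nat := [30720, 22536, 2048, 8194, 5]
def r2rels : List (List Nat) := (relsP.map (fun p => wpow p.1 p.2)) ++ [r1w]
theorem r2bc : ckRB 8 inv r2rels r2RB r2RBC = true := by decide +kernel
noncomputable def r2F : Nat → Nat := fun g => Nat.land (Nat.shiftRight (nat_lit 0x7c000000001be0000c00000000000000092800020000488000240001c000008000105000080000600000080003940001c0000cc0000c0000a6000050000410000200001980000c00008c000040000220000100000) (Nat.mul (nat_lit 45) g)) (nat_lit 0x1fffffffffff)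
noncomputable def r2T : Nat → Nat := fun g => Nat.land (Nat.shiftRight (nat_lit 0xe2000062800019400014c000086000031000011800004c000002) (Nat.mul (nat_lit 25) g)) (nat_lit 0x1ffffff)
noncomputable def r2L : List Nat := [nat_lit 0x0, nat_lit 0x0, nat_lit 0x0, nat_lit 0x0, nat_lit 0x0, nat_lit 0x0, nat_lit 0x0, nat_lit 0x40006000e03001, nat_lit 0x0, nat_lit 0xa000c001203001, nat_lit 0x0, nat_lit 0x7000e001603002, nat_lit 0x2000f001603003, nat_lit 0x1200140017001a04004, nat_lit 0x1c01005]
theorem r2k : ckBlock 1 0 0 (fun _ _ => 0) inv r2T r2F r2RB r2L 0 = true := by decide +kernel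
theorem r2 {G : Type*} [Group G] (s : Nat → G) (hinv : ∀ l, s (inv l) = (s l)⁻¹) (h31 : s 31 = 1)
    (hb : ∀ p ∈ relsP, ((p.1.map s).prod) ^ p.2 = 1) (hr1 : (r1w.map s).prod = 1) : (r2w.map s).prod = 1 := by
  have hrels : ∀ W ∈ r2rels, (W.map s).prod = 1 := by
    unfold r2rels
    intro W hW
    rcases List.mem_append.1 hW with hW | hW
    · exact hrels_of s relsP hb W hW
    · revert W
      suffices H : ∀ W ∈ ([r1w] : List (List Nat)), (W.map s).prod = 1 from fun W _ h => H W h
      refine List.forall_mem_cons.2 ⟨hr1, ?_⟩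
      intro c hc
      exact absurd hc List.not_mem_nil
  exact rel_of_block s inv 8 r2T r2F r2RB hinv h31
    (ckRB_sound s 8 inv r2rels hrels hinv h31 r2RB r2RBC r2bc) r2L r2k r2w (by decide +kernel) (by decide +kernel) (by decide) 14
    (by decide +kernel) (by decide +kernel)
def r3w : List Nat := [1, 6, 6, 1, 6, 6, 1, 6, 6, 5]
def r3RB : List (List Nat) := [[0, 5, 7, 7], [5, 1, 5, 1], [0, 5, 0, 5], [31, 0, 1, 0, 1, 0, 1], [31]]
def r3RBC : List Nat := [30720, 16392, 8192, 2, 5]
def r3rels : List (List Nat) := (relsP.map (fun p => wpow p.1 p.2)) ++ [r1w, r2w]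
theorem r3bc : ckRB 8 inv r3rels r3RB r3RBC = true := by decide +kernel
noncomputable def r3F : Nat → Nat := fun g => Nat.land (Nat.shiftRight (nat_lit 0xf80000000057c000000002800001a0000c5000040000d08000680005800001000030a000180000c0000010000b28000580001800001c00028a00014000126000090000830000400003840001c00018c0000c0000a6000050000408000200001980000c00008c000040000210000100000) (Nat.mul (nat_lit 45) g)) (nat_lit 0x1fffffffffff)
noncomputable def r3T : Nat → Nat := fun g => Nat.land (Nat.shiftRight (nat_lit 0x161000062800019400024a000106000073000030400014c000086000030800011800004c000001) (Nat.mul (nat_lit 25) g)) (nat_lit 0x1ffffff)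
noncomputable def r3L : List Nat := [nat_lit 0x0, nat_lit 0x0, nat_lit 0x0, nat_lit 0x0, nat_lit 0x0, nat_lit 0x0, nat_lit 0x0, nat_lit 0x0, nat_lit 0x0, nat_lit 0x0, nat_lit 0x100012001403001, nat_lit 0x0, nat_lit 0x40006001803001, nat_lit 0x0, nat_lit 0xa000c001c03001, nat_lit 0x0, nat_lit 0x70018002003002, nat_lit 0x22001d001b03003, nat_lit 0x2001900200023000e001506004, nat_lit 0x2501005]
theorem r3k : ckBlock 1 0 0 (fun _ _ => 0) inv r3T r3F r3RB r3L 0 = true := by decide +kernel
theorem r3 {G : Type*} [Group G] (s : Nat → G) (hinv : ∀ l, s (inv l) = (s l)⁻¹) (h31 : s 31 = 1)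
    (hb : ∀ p ∈ relsP, ((p.1.map s).prod) ^ p.2 = 1) (hr1 : (r1w.map s).prod = 1) (hr2 : (r2w.map s).prod = 1) : (r3w.map s).prod = 1 := by
  have hrels : ∀ W ∈ r3rels, (W.map s).prod = 1 := by
    unfold r3rels
    intro W hW
    rcases List.mem_append.1 hW with hW | hW
    · exact hrels_of s relsP hb W hW
    · revert W
      suffices H : ∀ W ∈ ([r1w, r2w] : List (List Nat)), (W.map s).prod = 1 from fun W _ h => H W h
      refine List.forall_mem_cons.2 ⟨hr1, ?_⟩
      refine List.forall_mem_cons.2 ⟨hr2, ?_⟩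
      intro c hc
      exact absurd hc List.not_mem_nil
  exact rel_of_block s inv 8 r3T r3F r3RB hinv h31
    (ckRB_sound s 8 inv r3rels hrels hinv h31 r3RB r3RBC r3bc) r3L r3k r3w (by decide +kernel) (by decide +kernel) (by decide) 19
    (by decide +kernel) (by decide +kernel)
def r4w : List Nat := [6, 1, 6, 6, 1, 6, 6, 1, 7, 1, 7, 7, 1, 7, 7, 1]
def r4RB : List (List Nat) := [[7, 6, 6, 6], [6, 7, 2, 7, 7, 2], [6, 7, 7, 7], [31, 1, 1], [1, 2, 6, 2, 1, 6, 1, 2, 6, 2, 6], [1, 2, 6, 2, 6, 1, 2, 6, 2, 1, 6], [7, 1, 2, 6, 2, 6, 1, 2, 6, 2, 1], [7, 2, 6, 6, 2, 6], [1, 7, 1, 2, 7, 2, 1, 7, 2, 7, 2], [2, 6, 2, 6, 1, 2, 6, 2, 1, 6, 1], [6, 2, 1, 7, 2, 7, 2, 1, 7, 1, 2], [6, 2, 7, 7, 2, 7], [2, 1, 6, 1, 2, 6, 2, 6, 1, 2, 6], [1, 6, 1, 2, 6, 2, 6, 1, 2, 6, 2], [2, 7, 2, 1, 7, 1, 2, 7, 2, 1, 7], [31, 7, 7, 2, 7, 7, 2], [31, 6, 7], [31]]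
def r4RBC : List Nat := [45056, 47121, 45057, 6, 40968, 41016, 41008, 47120, 41017, 41024, 40985, 47113, 40992, 41000, 41041, 47107, 6, 5]
def r4rels : List (List Nat) := (relsP.map (fun p => wpow p.1 p.2)) ++ [r1w, r2w, r3w]
theorem r4bc : ckRB 8 inv r4rels r4RB r4RBC = true := by decide +kernel
noncomputable def r4F : Nat → Nat := fun g => Nat.land (Nat.shiftRight (nat_lit 0x1f0000000010f80000000087c000540003fe000560001df000430002310001d000271800138001182000840007220004c0004d0800268001f1c000fc00130e000980009660004a0004b1000258002118000fc001284000940009210004900032100021800241c00120001182000880008e60004700045100023000228400114000c04000880005c1000430002b380020000211c0010800104e000820004e6000400002710001f8001398000e0000f8c0007c0007a70003c0003d10001e800151c000e0000f02000780007620003b0002638001d0001c9c000e40008c200068000702000380002908001b0001b88000dc00088e000660006c700036000343000198001a98000d4000d04000680003e2000330001e380017800191c000c8000c0c0005e00062600031000301000180000d88000bc00068c0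002c0005c60002e0002d3000168001618000b000058c000560002a7000240002a380015000141800090000a4c00052000502000280001408001380009180006000098c0004c0004a2000250001110001200007040008c00038c00040000446000220002110001080006080008000028e000380003e70001f0001d30000e0000f18000780007440003a0000e20001c0000538000b8000d9c0006c00064c0002e0003460001a0001910000c8000208000600000c40002e000042000160000008000a800001c0003400050e000280001e70000a0001338000980006180001400048c000240000e60001100004080008000079c0003c00038e0001c0001a10000d0000c380006000059c0002c00028200014000127000090000808000400003980001c00018c0000c0000a1000050000430000200001980000c000082000040000260000100000) (Nat.mul (nat_lit 45) g)) (nat_lit 0x1fffffffffff)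
noncomputable def r4T : Nat → Nat := fun g => Nat.land (Nat.shiftRight (nat_lit 0x118c0007c10004b3800210800124400064100046380022980011440006010002e1000158400104e0004e70002730001388000f4c0005420003b08001308000e4e0004670002910001108000d0e0006860001f10000f08000c0e0006060001b10000d08000b4c0005860001630000a98000a0e000506000141000090400094c0002220000e1000070400084c0001820000a10000e9c00074c0000e20000510000c9c00064c00008200003100001080000040000010000f3800061c0001cc0000860000f0800071c00034e0001810000b3800051c000242000107000070800031800014c0000810000330000118000042000006) (Nat.mul (nat_lit 25) g)) (nat_lit 0x1ffffff)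
noncomputable def r4L : List Nat := [nat_lit 0x0, nat_lit 0x0, nat_lit 0x0, nat_lit 0x0, nat_lit 0x0, nat_lit 0x0, nat_lit 0x0, nat_lit 0x0, nat_lit 0x0, nat_lit 0x0, nat_lit 0x0, nat_lit 0x0, nat_lit 0x0, nat_lit 0x0, nat_lit 0x0, nat_lit 0x0, nat_lit 0x0, nat_lit 0x0, nat_lit 0xc000e002403003, nat_lit 0x0, nat_lit 0x160018002803001, nat_lit 0x0, nat_lit 0x1c001e002c03001, nat_lit 0x0, nat_lit 0x0, nat_lit 0x0, nat_lit 0x0, nat_lit 0x0, nat_lit 0x0, nat_lit 0x33000600080038003a05002, nat_lit 0x0, nat_lit 0x3b0039003e03001, nat_lit 0x0, nat_lit 0x0, nat_lit 0x0, nat_lit 0x41000c000e0044004605002, nat_lit 0x0, nat_lit 0x470045004a03001, nat_lit 0x0, nat_lit 0x0, nat_lit 0x0, nat_lit 0x4d002900270050005205002, nat_lit 0x0, nat_lit 0x0, nat_lit 0x0, nat_lit 0x0, nat_lit 0x3500080022005a005c05002, nat_lit 0x0, nat_lit 0x0, nat_lit 0x0, nat_lit 0x57001b002d0062006405002, nat_lit 0x0, nat_lit 0x650063006803001, nat_lit 0x0, nat_lit 0x0, nat_lit 0x0, nat_lit 0x0, nat_lit 0x6e0070007203003, nat_lit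 0x0, nat_lit 0x0, nat_lit 0x0, nat_lit 0x75003c003f0078007a05002, nat_lit 0x0, nat_lit 0x7b0079007e03001, nat_lit 0x0, nat_lit 0x0, nat_lit 0x0, nat_lit 0x810048004b0084008605002, nat_lit 0x0, nat_lit 0x870085008a03001, nat_lit 0x0, nat_lit 0x8c008100450043001000120014004e0053008e0a005, nat_lit 0x0, nat_lit 0x8a008f008d0051004f001a001c0058006500920a006, nat_lit 0x0, nat_lit 0x0, nat_lit 0x0, nat_lit 0x0, nat_lit 0x940083004c0041000900070036005d009a009c0a007, nat_lit 0x0, nat_lit 0x9e00910063006800a005008, nat_lit 0x0, nat_lit 0x9d00a100a403003, nat_lit 0x0, nat_lit 0x0, nat_lit 0x0, nat_lit 0x0, nat_lit 0xa900ac00ae03001, nat_lit 0x0, nat_lit 0x0, nat_lit 0x0, nat_lit 0x0, nat_lit 0x0, nat_lit 0xb300740031000200040034003f007800b600ba0a009, nat_lit 0x0, nat_lit 0xb1006b002f0032007300b400bb00b900b800be0a00a, nat_lit 0x0, nat_lit 0x0, nat_lit 0xa7005f002600090038003a0076007f00c200c40a00b, nat_lit 0x0, nat_lit 0xc600a700aa00af00c80500c, nat_lit 0x0, nat_lit 0xc500c900cc03001, nat_lit 0x0, nat_lit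 0xce00a7005f00230044004a0084009300a500d00a00d, nat_lit 0xc800cc00d100cf00a3009f006a0057005600960a00e, nat_lit 0x0, nat_lit 0x9700d400c800ca00c300c1007d00b600b800d60a00f, nat_lit 0xbf00bd00d600d80097009506010, nat_lit 0xb200d9005503004, nat_lit 0x6c00db001e03011, nat_lit 0x3000dd002003004, nat_lit 0xdf01012]
theorem r4k : ckBlock 1 0 0 (fun _ _ => 0) inv r4T r4F r4RB r4L 0 = true := by decide +kernel
theorem r4 {G : Type*} [Group G] (s : Nat → G) (hinv : ∀ l, s (inv l) = (s l)⁻¹) (h31 : s 31 = 1)
    (hb : ∀ p ∈ relsP, ((p.1.map s).prod) ^ p.2 = 1) (hr1 : (r1w.map s).prod = 1) (hr2 : (r2w.map s).prod = 1) (hr3 : (r3w.map s).prod = 1) : (r4w.map s).prod = 1 := by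
  have hrels : ∀ W ∈ r4rels, (W.map s).prod = 1 := by
    unfold r4rels
    intro W hW
    rcases List.mem_append.1 hW with hW | hW
    · exact hrels_of s relsP hb W hW
    · revert W
      suffices H : ∀ W ∈ ([r1w, r2w, r3w] : List (List Nat)), (W.map s).prod = 1 from fun W _ h => H W h
      refine List.forall_mem_cons.2 ⟨hr1, ?_⟩
      refine List.forall_mem_cons.2 ⟨hr2, ?_⟩
      refine List.forall_mem_cons.2 ⟨hr3, ?_⟩
      intro c hc
      exact absurd hc List.not_mem_nil
  exact rel_of_block s inv 8 r4T r4F r4RB hinv h31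
    (ckRB_sound s 8 inv r4rels hrels hinv h31 r4RB r4RBC r4bc) r4L r4k r4w (by decide +kernel) (by decide +kernel) (by decide) 112
    (by decide +kernel) (by decide +kernel)
def r5w : List Nat := [5, 6, 5, 7]
def r5RB : List (List Nat) := [[7, 6, 6, 6], [5, 1, 5, 1], [31, 5, 5], [31, 6, 7], [6, 7, 1, 7, 7, 1, 5, 7, 7, 1], [31, 6, 6, 1, 6, 6, 1, 6, 6, 5, 1], [31, 1, 1], [1, 1], [7, 7], [1, 7, 7, 1, 7, 7, 1, 5, 7, 7], [31, 1, 7, 7, 1, 7, 7, 1, 7, 1, 6, 6, 1, 6, 6, 1, 6], [31]]
def r5RBC : List Nat := [45056, 16392, 6, 6, 49193, 49162, 6, 4, 4, 49201, 51267, 5]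
def r5rels : List (List Nat) := (relsP.map (fun p => wpow p.1 p.2)) ++ [r1w, r2w, r3w, r4w]
theorem r5bc : ckRB 8 inv r5rels r5RB r5RBC = true := by decide +kernel
noncomputable def r5F : Nat → Nat := fun g => Nat.land (Nat.shiftRight (nat_lit 0xf80000000027c0000000013e0000c00007f0000f00002f8000d00005040007000078c0003c0003a60001d0001138000e0000d9c0006c00040c000340001e700019000140800050000a7c0005400053e0002e00025f000160000830000a8000c9800064000602000300001a5000150001708000b8000b14000580002820002a000145000120001408000a00009940004c0002020002400010100011000072800070000804000400003ca0001e0000c10000e00006380005800069c0003400030e000180000a60000b00005380001000051c0002800024e000120000270000600008380004000039c0001c00000c0000c000001000050000038000200001940000c00008c000040000250000100000) (Nat.mul (nat_lit 45) g)) (nat_lit 0x1fffffffffff)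
noncomputable def r5T : Nat → Nat := fun g => Nat.land (Nat.shiftRight (nat_lit 0x74c0002260001b3800081c0003cc0003060000d08000b0400028a00014100013080004140002020000e10000f08000314000182000187000053800029800024e000027000073800001c00000c000001000033800011400004c000005) (Nat.mul (nat_lit 25) g)) (nat_lit 0x1ffffff)
noncomputable def r5L : List Nat := [nat_lit 0x0, nat_lit 0x0, nat_lit 0x0, nat_lit 0x0, nat_lit 0x0, nat_lit 0x0, nat_lit 0x0, nat_lit 0x0, nat_lit 0xb000e001003001, nat_lit 0x0, nat_lit 0x0, nat_lit 0x30014001603001, nat_lit 0x0, nat_lit 0x0, nat_lit 0x0, nat_lit 0x19001c001e03001, nat_lit 0x0, nat_lit 0x0, nat_lit 0x0, nat_lit 0x210024002603002, nat_lit 0x0, nat_lit 0x0, nat_lit 0x0, nat_lit 0x0, nat_lit 0x2b002e003003002, nat_lit 0x0, nat_lit 0x0, nat_lit 0x0, nat_lit 0x330036003803002, nat_lit 0x0, nat_lit 0x0, nat_lit 0x33001500130001000a001a001f003c003e09005, nat_lit 0x38003a003f003d003b002000190009000e00100a006, nat_lit 0x370041002c03007, nat_lit 0x390043003103003, nat_lit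 0x34004502008, nat_lit 0x40004502009, nat_lit 0x0, nat_lit 0x0, nat_lit 0x0, nat_lit 0x0, nat_lit 0x0, nat_lit 0x4f004d002800210011000f002a005200540900a, nat_lit 0x4b0026004e00500055005300510029000d000a001a001f003c003e004900481000b, nat_lit 0x4c0057001803004, nat_lit 0x240059000603003, nat_lit 0xc005b000803004, nat_lit 0x5d0100c]
theorem r5k : ckBlock 1 0 0 (fun _ _ => 0) inv r5T r5F r5RB r5L 0 = true := by decide +kernel
theorem r5 {G : Type*} [Group G] (s : Nat → G) (hinv : ∀ l, s (inv l) = (s l)⁻¹) (h31 : s 31 = 1)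
    (hb : ∀ p ∈ relsP, ((p.1.map s).prod) ^ p.2 = 1) (hr1 : (r1w.map s).prod = 1) (hr2 : (r2w.map s).prod = 1) (hr3 : (r3w.map s).prod = 1) (hr4 : (r4w.map s).prod = 1) : (r5w.map s).prod = 1 := by
  have hrels : ∀ W ∈ r5rels, (W.map s).prod = 1 := by
    unfold r5rels
    intro W hW
    rcases List.mem_append.1 hW with hW | hW
    · exact hrels_of s relsP hb W hW
    · revert W
      suffices H : ∀ W ∈ ([r1w, r2w, r3w, r4w] : List (List Nat)), (W.map s).prod = 1 from fun W _ h => H W h
      refine List.forall_mem_cons.2 ⟨hr1, ?_⟩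
      refine List.forall_mem_cons.2 ⟨hr2, ?_⟩
      refine List.forall_mem_cons.2 ⟨hr3, ?_⟩
      refine List.forall_mem_cons.2 ⟨hr4, ?_⟩
      intro c hc
      exact absurd hc List.not_mem_nil
  exact rel_of_block s inv 8 r5T r5F r5RB hinv h31
    (ckRB_sound s 8 inv r5rels hrels hinv h31 r5RB r5RBC r5bc) r5L r5k r5w (by decide +kernel) (by decide +kernel) (by decide) 47
    (by decide +kernel) (by decide +kernel)
def r6w : List Nat := [0, 6, 0, 7]
def r6RB : List (List Nat) := [[5, 7, 7, 0], [31, 5, 6, 5, 7], [31]]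
def r6RBC : List Nat := [30728, 53250, 5]
def r6rels : List (List Nat) := (relsP.map (fun p => wpow p.1 p.2)) ++ [r1w, r2w, r3w, r4w, r5w]
theorem r6bc : ckRB 8 inv r6rels r6RB r6RBC = true := by decide +kernel
noncomputable def r6F : Nat → Nat := fun g => Nat.land (Nat.shiftRight (nat_lit 0x3e0000000009f000040000028000180003180001800014a000000000a6000050000238000200001800000c00008c000040000200000100000) (Nat.mul (nat_lit 45) g)) (nat_lit 0x1fffffffffff)
noncomputable def r6T : Nat → Nat := fun g => Nat.land (Nat.shiftRight (nat_lit 0x14c000046000033800010000004c000000) (Nat.mul (nat_lit 25) g)) (nat_lit 0x1ffffff)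
noncomputable def r6L : List Nat := [nat_lit 0x0, nat_lit 0x0, nat_lit 0x0, nat_lit 0x0, nat_lit 0x0, nat_lit 0x20004000a03001, nat_lit 0x0, nat_lit 0x5000a000e03001, nat_lit 0x7000f000d000c04002, nat_lit 0x1201003]
theorem r6k : ckBlock 1 0 0 (fun _ _ => 0) inv r6T r6F r6RB r6L 0 = true := by decide +kernel
theorem r6 {G : Type*} [Group G] (s : Nat → G) (hinv : ∀ l, s (inv l) = (s l)⁻¹) (h31 : s 31 = 1)
    (hb : ∀ p ∈ relsP, ((p.1.map s).prod) ^ p.2 = 1) (hr1 : (r1w.map s).prod = 1) (hr2 : (r2w.map s).prod = 1) (hr3 : (r3w.map s).prod = 1) (hr4 : (r4w.map s).prod = 1) (hr5 : (r5w.map s).prod = 1) : (r6w.map s).prod = 1 := by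
  have hrels : ∀ W ∈ r6rels, (W.map s).prod = 1 := by
    unfold r6rels
    intro W hW
    rcases List.mem_append.1 hW with hW | hW
    · exact hrels_of s relsP hb W hW
    · revert W
      suffices H : ∀ W ∈ ([r1w, r2w, r3w, r4w, r5w] : List (List Nat)), (W.map s).prod = 1 from fun W _ h => H W h
      refine List.forall_mem_cons.2 ⟨hr1, ?_⟩
      refine List.forall_mem_cons.2 ⟨hr2, ?_⟩
      refine List.forall_mem_cons.2 ⟨hr3, ?_⟩
      refine List.forall_mem_cons.2 ⟨hr4, ?_⟩
      refine List.forall_mem_cons.2 ⟨hr5, ?_⟩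
      intro c hc
      exact absurd hc List.not_mem_nil
  exact rel_of_block s inv 8 r6T r6F r6RB hinv h31
    (ckRB_sound s 8 inv r6rels hrels hinv h31 r6RB r6RBC r6bc) r6L r6k r6w (by decide +kernel) (by decide +kernel) (by decide) 9
    (by decide +kernel) (by decide +kernel)

end Cfsg.Agent.H8.ONt
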