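import Cfsg.Agent.H8.T.ONtTab

set_option autoImplicit false
set_option linter.all false
set_option maxRecDepth 100000

namespace Cfsg.Agent.H8.ONt
theorem ck3_0 : allR (ckE (nat_lit 0x1df88) (nat_lit 0x1ffff) (nat_lit 17) (nat_lit 31) (nat_lit 22) (nat_lit 3) D E3 E3 RF3 sp) (nat_lit 0) (nat_lit 16384) = true := by decide +kernel
theorem ck3_1 : allR (ckE (nat_lit 0x1df88) (nat_lit 0x1ffff) (nat_lit 17) (nat_lit 31) (nat_lit 22) (nat_lit 3) D E3 E3 RF3 sp) (nat_lit 16384) (nat_lit 16384) = true := by decide +kernel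
theorem ck3_2 : allR (ckE (nat_lit 0x1df88) (nat_lit 0x1ffff) (nat_lit 17) (nat_lit 31) (nat_lit 22) (nat_lit 3) D E3 E3 RF3 sp) (nat_lit 32768) (nat_lit 16384) = true := by decide +kernel
theorem ck3_3 : allR (ckE (nat_lit 0x1df88) (nat_lit 0x1ffff) (nat_lit 17) (nat_lit 31) (nat_lit 22) (nat_lit 3) D E3 E3 RF3 sp) (nat_lit 49152) (nat_lit 16384) = true := by decide +kernel
theorem ck3_4 : allR (ckE (nat_lit 0x1df88) (nat_lit 0x1ffff) (nat_lit 17) (nat_lit 31) (nat_lit 22) (nat_lit 3) D E3 E3 RF3 sp) (nat_lit 65536) (nat_lit 16384) = true := by decide +kernel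
theorem ck3_5 : allR (ckE (nat_lit 0x1df88) (nat_lit 0x1ffff) (nat_lit 17) (nat_lit 31) (nat_lit 22) (nat_lit 3) D E3 E3 RF3 sp) (nat_lit 81920) (nat_lit 16384) = true := by decide +kernel
theorem ck3_6 : allR (ckE (nat_lit 0x1df88) (nat_lit 0x1ffff) (nat_lit 17) (nat_lit 31) (nat_lit 22) (nat_lit 3) D E3 E3 RF3 sp) (nat_lit 98304) (nat_lit 16384) = true := by decide +kernel
theorem ck3_7 : allR (ckE (nat_lit 0x1df88) (nat_lit 0x1ffff) (nat_lit 17) (nat_lit 31) (nat_lit 22) (nat_lit 3) D E3 E3 RF3 sp) (nat_lit 114688) (nat_lit 8072) = true := by decide +kernel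
theorem ck3 : allR (ckE (nat_lit 0x1df88) (nat_lit 0x1ffff) (nat_lit 17) (nat_lit 31) (nat_lit 22) (nat_lit 3) D E3 E3 RF3 sp) (nat_lit 0) (nat_lit 122760) = true := by
  apply allR_of_forall
  intro i hi
  have hi : i < 122760 := hi
  rcases Nat.lt_or_ge i 16384 with h0 | h0
  · exact allR_spec _ (0 : ℕ) (16384 : ℕ) ck3_0 i (by omega) (by omega)
  rcases Nat.lt_or_ge i 32768 with h1 | h1
  · exact allR_spec _ (16384 : ℕ) (16384 : ℕ) ck3_1 i (by omega) (by omega)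
  rcases Nat.lt_or_ge i 49152 with h2 | h2
  · exact allR_spec _ (32768 : ℕ) (16384 : ℕ) ck3_2 i (by omega) (by omega)
  rcases Nat.lt_or_ge i 65536 with h3 | h3
  · exact allR_spec _ (49152 : ℕ) (16384 : ℕ) ck3_3 i (by omega) (by omega)
  rcases Nat.lt_or_ge i 81920 with h4 | h4
  · exact allR_spec _ (65536 : ℕ) (16384 : ℕ) ck3_4 i (by omega) (by omega)
  rcases Nat.lt_or_ge i 98304 with h5 | h5
  · exact allR_spec _ (81920 : ℕ) (16384 : ℕ) ck3_5 i (by omega) (by omega)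
  rcases Nat.lt_or_ge i 114688 with h6 | h6
  · exact allR_spec _ (98304 : ℕ) (16384 : ℕ) ck3_6 i (by omega) (by omega)
  exact allR_spec _ (114688 : ℕ) (8072 : ℕ) ck3_7 i (by omega) (by omega)
theorem rf3 : RF3 = (RW3).map (·.map E) := rfl
theorem rc3 : ckRels 8 inv rels 3 RW3 RC3 = true := by decide +kernel

end Cfsg.Agent.H8.ONt
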