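import Cfsg.Agent.H8.CosetPres
import Cfsg.Agent.H8.T.ONtC0
import Cfsg.Agent.H8.T.ONtC1
import Cfsg.Agent.H8.T.ONtC2
import Cfsg.Agent.H8.T.ONtC3
import Cfsg.Agent.H8.T.ONtC4
import Cfsg.Agent.H8.T.ONtC5
import Cfsg.Agent.H8.T.ONtC6
import Cfsg.Agent.H8.T.ONtC7

set_option autoImplicit false
set_option linter.all false
set_option maxRecDepth 100000

namespace Cfsg.Agent.H8.ONt

theorem edgeOK : ∀ l < 8, ∀ i < 122760, EdgeOK E 131071 122760 22 17 31 inv D RW sp l i := by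
  intro l hl i hi
  interval_cases l

  · exact ckE_sound 122760 131071 17 31 22 0 inv D E RW sp i (by
      have := allR_zero _ _ ck0 i hi
      rw [rf0] at this
      exact this)
  · exact ckE_sound 122760 131071 17 31 22 1 inv D E RW sp i (by
      have := allR_zero _ _ ck1 i hi
      rw [rf1] at this
      exact this)
  · exact ckE_sound 122760 131071 17 31 22 2 inv D E RW sp i (by
      have := allR_zero _ _ ck2 i hi
      rw [rf2] at this
      exact this)
  · exact ckE_sound 122760 131071 17 31 22 3 inv D E RW sp i (by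
      have := allR_zero _ _ ck3 i hi
      rw [rf3] at this
      exact this)
  · exact ckE_sound 122760 131071 17 31 22 4 inv D E RW sp i (by
      have := allR_zero _ _ ck4 i hi
      rw [rf4] at this
      exact this)
  · exact ckE_sound 122760 131071 17 31 22 5 inv D E RW sp i (by
      have := allR_zero _ _ ck5 i hi
      rw [rf5] at this
      exact this)
  · exact ckE_sound 122760 131071 17 31 22 6 inv D E RW sp i (by
      have := allR_zero _ _ ck6 i hi
      rw [rf6] at this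
      exact this)
  · exact ckE_sound 122760 131071 17 31 22 7 inv D E RW sp i (by
      have := allR_zero _ _ ck7 i hi
      rw [rf7] at this
      exact this)
def RB : List (List Nat) := [[3, 1, 3, 1], [4, 2, 4, 2], [3, 4, 3, 4, 3, 4], [3, 5, 3, 5], [1, 4, 1, 4], [0, 5, 0, 5], [5, 2, 5, 2], [0, 2, 0, 2], [7, 6, 5, 0], [1, 5, 1, 5], [0, 4, 0, 4], [5, 4, 5, 4, 5, 4], [7, 5, 0, 6], [4, 1, 4, 1], [2, 4, 2, 4], [4, 5, 4, 5, 4, 5], [0, 6, 0, 7], [6, 0, 5, 7], [1, 7, 1, 2, 7, 2, 1, 7, 2, 7, 2], [6, 7, 0, 5], [4, 3, 4, 3, 4, 3], [1, 2, 1, 2, 1, 2], [5, 1, 5, 1], [1, 6, 1, 2, 6, 2, 6, 1, 2, 6, 2], [3, 6, 4, 3, 6, 3, 4, 6, 4, 3, 6], [3, 6, 3, 6, 4, 3, 6, 3, 4, 6, 4], [0, 3, 0, 3], [6, 3, 2, 3, 6, 3, 6, 2, 7, 3], [5, 6, 5, 7], [0, 1, 0, 1, 0, 1], [6, 1, 2, 7, 2, 1, 7, 2, 7, 2, 1], [2, 7, 2, 1, 7, 2, 7, 2, 1, 7, 1], [2, 5, 2, 5], [2, 7, 2, 3, 2, 6, 2, 6, 3, 7], [2, 6, 2, 6, 3, 7, 2, 7, 2, 3], [3, 2, 3, 2, 0, 5, 3, 2, 3, 2], [3, 6, 3, 4, 6,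 4, 3, 6, 3, 6, 4], [5, 7, 7, 0], [1, 3, 1, 3], [4, 6, 4, 3, 6, 3, 6, 4, 3, 6, 3], [6, 7, 7, 7], [3, 7, 3, 2, 3, 6, 3, 6, 2, 7], [4, 7, 3, 7, 3, 4, 7, 4, 3, 7, 3], [3, 4, 7, 3, 7, 3, 4, 7, 4, 3, 7], [7, 2, 1, 6, 1, 2, 6, 2, 6, 1, 2], [7, 1, 2, 6, 2, 6, 1, 2, 6, 2, 1], [0, 7, 0, 6], [7, 6, 6, 6], [7, 2, 6, 3, 7, 2, 7, 2, 3, 2], [2, 3, 2, 3, 2, 0, 5, 3, 2, 3], [3, 6, 3, 6, 2, 7, 3, 7, 3, 2], [3, 2, 6, 2, 6, 3, 7, 2, 7, 2], [3, 2, 3, 6, 3, 6, 2, 7, 3, 7], [31, 3, 7, 3, 4, 7, 3, 7, 3, 4, 7, 4], [3, 3]]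
def RBC : List Nat := [12296, 20488, 24576, 26624, 14336, 8192, 22536, 2048, 30745, 16384, 6144, 28680, 30737, 14344, 20480, 28672, 49152, 30744, 41017, 30736, 24584, 10240, 16392, 41000, 43088, 43072, 4096, 34840, 47104, 0, 41009, 40993, 22528, 36880, 36912, 32816, 43024, 30728, 12288, 43048, 45057, 34832, 43017, 43025, 40984, 41008, 49168, 45056, 36920, 32808, 34864, 36904, 34848, 43051, 4]
theorem rbc : ckRB 8 inv rels RB RBC = true := by decide +kernel
theorem sp0k : ckSub (nat_lit 0x1ffff) (nat_lit 22) E0 [] [] (nat_lit 0) = true := by decide +kernel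
theorem sp0 {G : Type*} [Group G] (H : Subgroup G) (s : Nat → G) (hinv : ∀ l, s (inv l) = (s l)⁻¹) (h31 : s 31 = 1)
    (hrels : ∀ W ∈ rels, (W.map s).prod = 1) (hsub : ∀ w ∈ subw, (w.map s).prod ∈ H)
    (htgt : ∀ l < 8, ∀ i < 122760, Nat.land (E l i) 131071 < 122760)
    (hlow : ∀ l' < 8, ∀ i' < 122760, E l' i' < Nat.shiftLeft (Nat.shiftRight (E 0 0) 22) 22 →
      EdgeP H s (repOf s D) E 131071 l' i') : EdgeP H s (repOf s D) E 131071 0 0 := by
  have h1 := ckSub_sound E 131071 22 0 0 [] [] sp0k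
  exact special_sub H s (repOf s D) E 131071 122760 8 _ htgt hlow (repOf_zero s D) [] [] 0 0 (by decide) (by decide)
    (by decide) (by decide) (hsub _ (by decide)) h1.1 h1.2
theorem sp1k : ckSub (nat_lit 0x1ffff) (nat_lit 22) E1 [] [] (nat_lit 0) = true := by decide +kernel
theorem sp1 {G : Type*} [Group G] (H : Subgroup G) (s : Nat → G) (hinv : ∀ l, s (inv l) = (s l)⁻¹) (h31 : s 31 = 1)
    (hrels : ∀ W ∈ rels, (W.map s).prod = 1) (hsub : ∀ w ∈ subw, (w.map s).prod ∈ H)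
    (htgt : ∀ l < 8, ∀ i < 122760, Nat.land (E l i) 131071 < 122760)
    (hlow : ∀ l' < 8, ∀ i' < 122760, E l' i' < Nat.shiftLeft (Nat.shiftRight (E 1 0) 22) 22 →
      EdgeP H s (repOf s D) E 131071 l' i') : EdgeP H s (repOf s D) E 131071 1 0 := by
  have h1 := ckSub_sound E 131071 22 1 0 [] [] sp1k
  exact special_sub H s (repOf s D) E 131071 122760 8 _ htgt hlow (repOf_zero s D) [] [] 1 0 (by decide) (by decide)
    (by decide) (by decide) (hsub _ (by decide)) h1.1 h1.2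
theorem sp2k : ckSub (nat_lit 0x1ffff) (nat_lit 22) E2 [] [] (nat_lit 0) = true := by decide +kernel
theorem sp2 {G : Type*} [Group G] (H : Subgroup G) (s : Nat → G) (hinv : ∀ l, s (inv l) = (s l)⁻¹) (h31 : s 31 = 1)
    (hrels : ∀ W ∈ rels, (W.map s).prod = 1) (hsub : ∀ w ∈ subw, (w.map s).prod ∈ H)
    (htgt : ∀ l < 8, ∀ i < 122760, Nat.land (E l i) 131071 < 122760)
    (hlow : ∀ l' < 8, ∀ i' < 122760, E l' i' < Nat.shiftLeft (Nat.shiftRight (E 2 0) 22) 22 →
      EdgeP H s (repOf s D) E 131071 l' i') : EdgeP H s (repOf s D) E 131071 2 0 := by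
  have h1 := ckSub_sound E 131071 22 2 0 [] [] sp2k
  exact special_sub H s (repOf s D) E 131071 122760 8 _ htgt hlow (repOf_zero s D) [] [] 2 0 (by decide) (by decide)
    (by decide) (by decide) (hsub _ (by decide)) h1.1 h1.2
theorem sp3k : ckSub (nat_lit 0x1ffff) (nat_lit 22) E3 [] [] (nat_lit 0) = true := by decide +kernel
theorem sp3 {G : Type*} [Group G] (H : Subgroup G) (s : Nat → G) (hinv : ∀ l, s (inv l) = (s l)⁻¹) (h31 : s 31 = 1)
    (hrels : ∀ W ∈ rels, (W.map s).prod = 1) (hsub : ∀ w ∈ subw, (w.map s).prod ∈ H)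
    (htgt : ∀ l < 8, ∀ i < 122760, Nat.land (E l i) 131071 < 122760)
    (hlow : ∀ l' < 8, ∀ i' < 122760, E l' i' < Nat.shiftLeft (Nat.shiftRight (E 3 0) 22) 22 →
      EdgeP H s (repOf s D) E 131071 l' i') : EdgeP H s (repOf s D) E 131071 3 0 := by
  have h1 := ckSub_sound E 131071 22 3 0 [] [] sp3k
  exact special_sub H s (repOf s D) E 131071 122760 8 _ htgt hlow (repOf_zero s D) [] [] 3 0 (by decide) (by decide)
    (by decide) (by decide) (hsub _ (by decide)) h1.1 h1.2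
theorem sp4k : ckSub (nat_lit 0x1ffff) (nat_lit 22) E4 [] [] (nat_lit 0) = true := by decide +kernel
theorem sp4 {G : Type*} [Group G] (H : Subgroup G) (s : Nat → G) (hinv : ∀ l, s (inv l) = (s l)⁻¹) (h31 : s 31 = 1)
    (hrels : ∀ W ∈ rels, (W.map s).prod = 1) (hsub : ∀ w ∈ subw, (w.map s).prod ∈ H)
    (htgt : ∀ l < 8, ∀ i < 122760, Nat.land (E l i) 131071 < 122760)
    (hlow : ∀ l' < 8, ∀ i' < 122760, E l' i' < Nat.shiftLeft (Nat.shiftRight (E 4 0) 22) 22 →
      EdgeP H s (repOf s D) E 131071 l' i') : EdgeP H s (repOf s D) E 131071 4 0 := by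
  have h1 := ckSub_sound E 131071 22 4 0 [] [] sp4k
  exact special_sub H s (repOf s D) E 131071 122760 8 _ htgt hlow (repOf_zero s D) [] [] 4 0 (by decide) (by decide)
    (by decide) (by decide) (hsub _ (by decide)) h1.1 h1.2
theorem sp5k : ckSub (nat_lit 0x1ffff) (nat_lit 22) E5 [] [] (nat_lit 0) = true := by decide +kernel
theorem sp5 {G : Type*} [Group G] (H : Subgroup G) (s : Nat → G) (hinv : ∀ l, s (inv l) = (s l)⁻¹) (h31 : s 31 = 1)
    (hrels : ∀ W ∈ rels, (W.map s).prod = 1) (hsub : ∀ w ∈ subw, (w.map s).prod ∈ H)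
    (htgt : ∀ l < 8, ∀ i < 122760, Nat.land (E l i) 131071 < 122760)
    (hlow : ∀ l' < 8, ∀ i' < 122760, E l' i' < Nat.shiftLeft (Nat.shiftRight (E 5 0) 22) 22 →
      EdgeP H s (repOf s D) E 131071 l' i') : EdgeP H s (repOf s D) E 131071 5 0 := by
  have h1 := ckSub_sound E 131071 22 5 0 [] [] sp5k
  exact special_sub H s (repOf s D) E 131071 122760 8 _ htgt hlow (repOf_zero s D) [] [] 5 0 (by decide) (by decide)
    (by decide) (by decide) (hsub _ (by decide)) h1.1 h1.2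
noncomputable def sp105187F : Nat → Nat := fun g => Nat.land (Nat.shiftRight (nat_lit 0x30033a00cd7f8066b8efe10c77ebc00cec63bf723bf763003441dfb81801a5001a51077f2477f2483bf943bf9431dfbe1dfca10efe50efe49877f1877f2463bf923bf3231dfbf1dfc838efe20efe41c77f2077f1ca3bf883bf8e3006961dfc708efe38efe28877f1077f1863bf8c00d6031df8c1dfc528efe28efe18077f1077f106006723bf8811dfc41dfc318efe18efc58c00ce877f0823bf843bf8231dfc11df8918efe00efe01077ef877f0043bf803bf2e71dfbd1dfbf10efdf8efd28877e6c77ef8c3bf7c3bf7821dfa21dfbd28efde8efde0877ef077e7843bf5c3bf7671dfb81dfbb38efdd8efda9c77ee800d10a006943bf7421dfb61dfba00efdd0efdd1077ee877ec843bf523bf7261dfb81dfb930efdc8efda9477ed477ee043bf683bf7041dfb81dfaf28efcc8efdb9077ecc77edc43bf6e3bf2a41dfab1dfb618efdb0efd70077ed477ed4801c0c3bf6a21dfb51dfb12008008efda0c77ed077ec443bf483bf6651dfb21dfb338efd98efd80877eac77ec8c3bf5a3bf6401dfb21dfb230efd90efd81877ea477ec403bf623bf62400d6b1dfb108efd8803c00077ec077ec0a3bf5a3bf60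21dfb01dfa11008008efd79477ebc77eb0800dae3bf5c51dfae1dfa910efd40efd69077eb477e4883bf5801c0e2010021dfac3002650efd61877eb077e9ce3bf423bf5661dfa81dfab18efd30efd58477eac02518e019ae3bf5421dfaa00c961801a98efd4840221477ea483bf523bf3c3010011dfa828efd08efd40402ea477ea083bf503bf1e01dfa71dfa72802650efd38877e9c77e8c83bf403bf4c10090a1dfa630efd30064b0c01a0077e94c3bf3c3bf4a61dfa51dfa220efca8efd20c0314077e90e3bf483bf4241df9f1dfa33008010efd19c0400477e8c63bf3e3bf4610090d1dfa300efd18efd19477e8c00bf483bf4400dac71df9b1dfa21803780efd104020e477e88a3bf443bf3c01dfa11dfa120efce8efd08c0400877e8423bf420163c3006d71dfa038efd00efc99400be077e7ce3bf3e3bf3061df9b1df9e00efcf0efcf040221c77e7863bf3c00de231df9d1df930803be8efce9477e4c77e74c3bf3a3bf347002f81df9c18064b0efce1477e7077e60600cfa3bf3641df9b1df9718efcd0036b04020e077e68c3bf343bf2621df961df9920efcc801a50c0351877e6003bf303bf3071df98002f818efcb803779077e5800d4cc3bf283bf2c71df911df9618034a0efcb0401e2877e5803bf2c3bf2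c51df961df9518034a8efca8401eac77e54e3bf283bf2a01df951df9538efca8efc88c77e5001bf0a3bf223bf2810072c1df9400efca0efca1077e5003518200efc3bf2601df931df9320efc98efc80877e4877e3c600ddc3bf2210072b1df9100efc88efc89077e4401a5cc3bf1c3bf20300d6c1df9008053d0efc80077e4077e40a3bf203bf1e300d6b1df8f0805870efc79c77e3877e3c03bf1e3bf1e71df8f0027718efc70efc70077e3877e38a004ee3bf1c40067f1df8e10efc70efc69001a5877e3403bf1a3bf1a51df8d0033d28efc58efc60477e3001a582006723bf1621df8b1df8a08efc5001300400ce877e2443bf123bf1011df880025e) (Nat.mul (nat_lit 45) g)) (nat_lit 0x1fffffffffff)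
noncomputable def sp105187T : Nat → Nat := fun g => Nat.land (Nat.shiftRight (nat_lit 0xefe48877e6463bf8e71dfc50803580c77f0ca3bf8611df8b18efe08477e2463bf2e21dfa510efde1877ef0a3bf3c21dfb538efd91077ed4c3bf5e41df9510efd70c77ec443bf6231dfb038efd81801e0023bf4221dfac28efd49477e4883bf4e60094608064b0877e7883bf1e41dfa310064b1877e88c3bf427002fd28efcf1402c7823bf2671df983803788c77e68c3bf3051df9720efc99800d288005f07006ef18efca9477e44e01a8c41df9020efc78801a5c83bf1e50027738efc68800cf4a00d2c11df8a1001300477e204004bc1) (Nat.mul (nat_lit 25) g)) (nat_lit 0x1ffffff)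
noncomputable def sp105187L : List Nat := [nat_lit 0x0, nat_lit 0x0, nat_lit 0x2000405016, nat_lit 0x0, nat_lit 0x0, nat_lit 0x8000a05016, nat_lit 0x0, nat_lit 0xc0000000e03017, nat_lit 0x0, nat_lit 0x110000001203006, nat_lit 0x1205010, nat_lit 0x0, nat_lit 0x15001803002, nat_lit 0x12001803007, nat_lit 0x170013001803008, nat_lit 0x1a000000000000001905003, nat_lit 0x0, nat_lit 0x210000002203011, nat_lit 0x1d001c002203009, nat_lit 0x220a018, nat_lit 0x220a019, nat_lit 0x0, nat_lit 0x2b0023002c03006, nat_lit 0x27002c0300a, nat_lit 0x29002c03004, nat_lit 0x25002c002e03012, nat_lit 0x0, nat_lit 0x35000000360300b, nat_lit 0x3603005, nat_lit 0x3605003, nat_lit 0x0, nat_lit 0x0, nat_lit 0x3f002d00400300b, nat_lit 0x2f004003005, nat_lit 0x0, nat_lit 0x45000000460300b, nat_lit 0x4603005, nat_lit 0x3500000000000000460500c, nat_lit 0x4a0000000003001, nat_lit 0x0, nat_lit 0x4f0037005003011, nat_lit 0x47004c005003009, nat_lit 0x3900500a018, nat_lit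 0x3b00500a01a, nat_lit 0x0, nat_lit 0x590051005a03006, nat_lit 0x55005a0300a, nat_lit 0x57005a03004, nat_lit 0x500051005a0300d, nat_lit 0x53005a005c03012, nat_lit 0x5e000000000300e, nat_lit 0x0, nat_lit 0x0, nat_lit 0x690000006a03011, nat_lit 0x4600630060000000000000000000000000006a0a025, nat_lit 0x0, nat_lit 0x65000000700300f, nat_lit 0x0, nat_lit 0x4300740a013, nat_lit 0x760000000003001, nat_lit 0x0, nat_lit 0x68007a05003, nat_lit 0x0, nat_lit 0x6d007e03004, nat_lit 0x6a006b007e0300d, nat_lit 0x0, nat_lit 0x410074008403026, nat_lit 0x7500840a013, nat_lit 0x880000004303001, nat_lit 0x0, nat_lit 0x8c03027, nat_lit 0x8b0000008c0301b, nat_lit 0x7c00000000000000570054004d0000008c0901c, nat_lit 0x0, nat_lit 0x81007d00940301d, nat_lit 0x0, nat_lit 0x31004000980a019, nat_lit 0x0, nat_lit 0x9c03001, nat_lit 0x880000009c0300e, nat_lit 0x9b000000000000009c0501e, nat_lit 0x0, nat_lit 0x8d00a40300a, nat_lit 0x8c00a403004, nat_lit 0x91008f00a40300d,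 nat_lit 0xa6000000000300e, nat_lit 0x0, nat_lit 0xad000000ae03006, nat_lit 0xae0300a, nat_lit 0x96000000ae03004, nat_lit 0xae0300d, nat_lit 0xae00b003012, nat_lit 0x9600000000000000ae05010, nat_lit 0x0, nat_lit 0x9d00bc0a01a, nat_lit 0x58000000000000000000780073008a009f00bc0a028, nat_lit 0x0, nat_lit 0x9200a900c203029, nat_lit 0x5f0062003c000000a700c20902a, nat_lit 0x0, nat_lit 0xc80a013, nat_lit 0x9a0000000000000000000000000081008000c80a02b, nat_lit 0x0, nat_lit 0xae00ce03007, nat_lit 0xcd00af00ce03008, nat_lit 0x0, nat_lit 0x2700d403005, nat_lit 0xa00086003f002b00d40500c, nat_lit 0xb500b400b900b8000000310034001f002500d40a02c, nat_lit 0x0, nat_lit 0x8d00dc03005, nat_lit 0x6600600000008c00dc05003, nat_lit 0x0, nat_lit 0xe20a02d, nat_lit 0x0, nat_lit 0xca000000e603001, nat_lit 0xd60000000000000000000000000000000000e60a01f, nat_lit 0x9b0000000000000000000000000000000000e60a02e, nat_lit 0x0, nat_lit 0xcf00d100ee03014, nat_lit 0xb100ce00ee0a020,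 nat_lit 0xf20000000003002, nat_lit 0x0, nat_lit 0xd3003e00f60300f, nat_lit 0x0, nat_lit 0xac00a300dc00fa05010, nat_lit 0x0, nat_lit 0xf100fe03021, nat_lit 0x0, nat_lit 0xf800d8010203007, nat_lit 0x10100a1010203008, nat_lit 0x0, nat_lit 0x1080300e, nat_lit 0x10700000000000001080501e, nat_lit 0xde0000000000000000000000000000000001080a01f, nat_lit 0x0, nat_lit 0x10f010501100302f, nat_lit 0x1030105011003014, nat_lit 0xea00da0000000000ef00f2009d0102011009022, nat_lit 0x0, nat_lit 0x114010301180301d, nat_lit 0xbe000000e300e100c800e700ec0102011809023, nat_lit 0x0, nat_lit 0xd900d3002a0109011e05015, nat_lit 0x0, nat_lit 0x109012203002, nat_lit 0x121010b012203008, nat_lit 0x0, nat_lit 0xe800cc009a00fb012805015, nat_lit 0x0, nat_lit 0x11c00c0012c03002, nat_lit 0x720059012c03007, nat_lit 0x0, nat_lit 0x12000ff01320300f, nat_lit 0x124000000f400fe01320500c, nat_lit 0x0, nat_lit 0x1360125013803014, nat_lit 0xde0000000000000000000000000108012201380a020,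 nat_lit 0x0, nat_lit 0x13d0111013e0300b, nat_lit 0x12a0115013e0300f, nat_lit 0x70012f012e011a013e0500c, nat_lit 0x1400144000003009, nat_lit 0x0, nat_lit 0x1390137014803030, nat_lit 0x128014101450000000000df010d0122014809023, nat_lit 0x0, nat_lit 0x0, nat_lit 0xa3014e015003021, nat_lit 0x0, nat_lit 0xa900a80000000000000000008c014e015409022, nat_lit 0x0, nat_lit 0x15200a80000000000000000008c00c3015809031, nat_lit 0x0, nat_lit 0x1560079015c03002, nat_lit 0x15b0067000000000000000000000068015c09024, nat_lit 0x0, nat_lit 0x0, nat_lit 0x50162016403001, nat_lit 0x0, nat_lit 0x0, nat_lit 0xb0168016a03001, nat_lit 0x16c0000016b0301b, nat_lit 0x0, nat_lit 0x100168017003004, nat_lit 0x0, nat_lit 0x16c0000000000000000000000000000017409032, nat_lit 0x0, nat_lit 0xe0171017803001, nat_lit 0x1690170017803017, nat_lit 0x0, nat_lit 0x16d017b017e03009, nat_lit 0x15700c6000000000000000000000179017e09033, nat_lit 0x0, nat_lit 0x17300000000000000000000005f007101840901c,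 nat_lit 0x0, nat_lit 0x15600a9015101590181018001750185018809034, nat_lit 0x18a015d0160015e018905015, nat_lit 0x188018c018703002, nat_lit 0x700184018e0183006f05003, nat_lit 0x19000000000000000df010d011e013309035, nat_lit 0x13c00e0000001900143014001420127014b09024, nat_lit 0x132019200000000000005003, nat_lit 0x19101490194013a01310195000001650b036, nat_lit 0x165019802037]
theorem sp105187k : ckBlock (nat_lit 0x1df88) (nat_lit 0x1ffff) (nat_lit 0x10400000) E inv sp105187T sp105187F RB sp105187L (nat_lit 0) = true := by decide +kernel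
theorem sp105187r : Nat.shiftLeft (Nat.shiftRight (E 3 3287) 22) 22 = 272629760 := by decide +kernel
theorem sp105187t : Nat.land (E 3 3287) 131071 = 826 := by decide +kernel
theorem sp105187l : 204 < sp105187L.length ∧ sp105187F 204 = 3287 + 2 ^ 20 * 826 + 2 ^ 40 * 3 := by decide +kernel
theorem sp105187 {G : Type*} [Group G] (H : Subgroup G) (s : Nat → G) (hinv : ∀ l, s (inv l) = (s l)⁻¹) (h31 : s 31 = 1)
    (hrels : ∀ W ∈ rels, (W.map s).prod = 1) (hsub : ∀ w ∈ subw, (w.map s).prod ∈ H)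
    (htgt : ∀ l < 8, ∀ i < 122760, Nat.land (E l i) 131071 < 122760)
    (hlow : ∀ l' < 8, ∀ i' < 122760, E l' i' < Nat.shiftLeft (Nat.shiftRight (E 3 3287) 22) 22 →
      EdgeP H s (repOf s D) E 131071 l' i') : EdgeP H s (repOf s D) E 131071 3 3287 := by
  rw [sp105187r] at hlow
  exact special_block H s 122760 8 131071 272629760 E inv D sp105187T sp105187F RB hinv h31 htgt hlow
    (ckRB_sound s 8 inv rels hrels hinv h31 RB RBC rbc) sp105187L sp105187k 3 3287 826 (by decide) (by decide) sp105187t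
    ⟨_, sp105187l⟩ (by decide)

theorem htgt : ∀ l < 8, ∀ i < 122760, Nat.land (E l i) 131071 < 122760 := fun l hl i hi => (edgeOK l hl i hi).1

theorem edges {G : Type*} [Group G] (H : Subgroup G) (s : Nat → G) (hinv : ∀ l, s (inv l) = (s l)⁻¹) (h31 : s 31 = 1)
    (hrels : ∀ W ∈ rels, (W.map s).prod = 1) (hsub : ∀ w ∈ subw, (w.map s).prod ∈ H) :
    ∀ l < 8, ∀ i < 122760, EdgeP H s (repOf s D) E 131071 l i := by
  refine edges_correct H s E 131071 122760 8 22 17 31 inv D RW sp (by decide) (by intro l hl; interval_cases l <;> decide) (fun l _ => hinv l)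
    ?_ ?_ ?_ edgeOK
  · intro l hl w hw
    interval_cases l
    · exact (ckRels_sound 8 inv rels 0 RW0 RC0 rc0 w hw).1
    · exact (ckRels_sound 8 inv rels 1 RW1 RC1 rc1 w hw).1
    · exact (ckRels_sound 8 inv rels 2 RW2 RC2 rc2 w hw).1
    · exact (ckRels_sound 8 inv rels 3 RW3 RC3 rc3 w hw).1
    · exact (ckRels_sound 8 inv rels 4 RW4 RC4 rc4 w hw).1
    · exact (ckRels_sound 8 inv rels 5 RW5 RC5 rc5 w hw).1
    · exact (ckRels_sound 8 inv rels 6 RW6 RC6 rc6 w hw).1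
    · exact (ckRels_sound 8 inv rels 7 RW7 RC7 rc7 w hw).1
  · intro l hl w hw
    interval_cases l
    · obtain ⟨_, c, hc⟩ := ckRels_sound 8 inv rels 0 RW0 RC0 rc0 w hw
      exact ckRel_sound s inv rels hrels 0 w c (fun l' _ => hinv l') hc
    · obtain ⟨_, c, hc⟩ := ckRels_sound 8 inv rels 1 RW1 RC1 rc1 w hw
      exact ckRel_sound s inv rels hrels 1 w c (fun l' _ => hinv l') hc
    · obtain ⟨_, c, hc⟩ := ckRels_sound 8 inv rels 2 RW2 RC2 rc2 w hw
      exact ckRel_sound s inv rels hrels 2 w c (fun l' _ => hinv l') hc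
    · obtain ⟨_, c, hc⟩ := ckRels_sound 8 inv rels 3 RW3 RC3 rc3 w hw
      exact ckRel_sound s inv rels hrels 3 w c (fun l' _ => hinv l') hc
    · obtain ⟨_, c, hc⟩ := ckRels_sound 8 inv rels 4 RW4 RC4 rc4 w hw
      exact ckRel_sound s inv rels hrels 4 w c (fun l' _ => hinv l') hc
    · obtain ⟨_, c, hc⟩ := ckRels_sound 8 inv rels 5 RW5 RC5 rc5 w hw
      exact ckRel_sound s inv rels hrels 5 w c (fun l' _ => hinv l') hc
    · obtain ⟨_, c, hc⟩ := ckRels_sound 8 inv rels 6 RW6 RC6 rc6 w hw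
      exact ckRel_sound s inv rels hrels 6 w c (fun l' _ => hinv l') hc
    · obtain ⟨_, c, hc⟩ := ckRels_sound 8 inv rels 7 RW7 RC7 rc7 w hw
      exact ckRel_sound s inv rels hrels 7 w c (fun l' _ => hinv l') hc
  · refine hsp_of H s (repOf s D) E 131071 122760 8 22 sp (by decide) ?_
    refine List.forall_mem_cons.2 ⟨fun _ _ h => sp0 H s hinv h31 hrels hsub htgt h, ?_⟩
    refine List.forall_mem_cons.2 ⟨fun _ _ h => sp1 H s hinv h31 hrels hsub htgt h, ?_⟩
    refine List.forall_mem_cons.2 ⟨fun _ _ h => sp2 H s hinv h31 hrels hsub htgt h, ?_⟩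
    refine List.forall_mem_cons.2 ⟨fun _ _ h => sp3 H s hinv h31 hrels hsub htgt h, ?_⟩
    refine List.forall_mem_cons.2 ⟨fun _ _ h => sp4 H s hinv h31 hrels hsub htgt h, ?_⟩
    refine List.forall_mem_cons.2 ⟨fun _ _ h => sp5 H s hinv h31 hrels hsub htgt h, ?_⟩
    refine List.forall_mem_cons.2 ⟨fun _ _ h => sp105187 H s hinv h31 hrels hsub htgt h, ?_⟩
    intro c hc
    exact absurd hc List.not_mem_nil

theorem covers {G : Type*} [Group G] (s : Nat → G) (hinv : ∀ l, s (inv l) = (s l)⁻¹) (h31 : s 31 = 1)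
    (hrels2 : ∀ p ∈ rels2, ((p.1.map s).prod) ^ p.2 = 1) (H : Subgroup G) (hsub : ∀ w ∈ subw, (w.map s).prod ∈ H) :
    ∀ g ∈ letterGroup s 8, ∀ i < 122760, ∃ j < 122760, repOf s D i * g * (repOf s D j)⁻¹ ∈ H :=
  cover H s (repOf s D) E 131071 122760 8 inv (by intro l hl; interval_cases l <;> decide) (fun l _ => hinv l) htgt
    (edges H s hinv h31 (hrels_of s rels2 hrels2) hsub)

theorem upper {G : Type*} [Group G] (s : Nat → G) (hinv : ∀ l, s (inv l) = (s l)⁻¹) (h31 : s 31 = 1)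
    (hrels2 : ∀ p ∈ rels2, ((p.1.map s).prod) ^ p.2 = 1) (H : Subgroup G) (hsub : ∀ w ∈ subw, (w.map s).prod ∈ H)
    (hH : Finite H) : Finite (letterGroup s 8) ∧ Nat.card (letterGroup s 8) ≤ 122760 * Nat.card H :=
  card_le_of_cover H (repOf s D) 122760 (by decide) (repOf_zero s D) _
    (covers s hinv h31 hrels2 H hsub) hH

theorem upperIndex {G : Type*} [Group G] (s : Nat → G) (hinv : ∀ l, s (inv l) = (s l)⁻¹) (h31 : s 31 = 1)
    (hrels2 : ∀ p ∈ rels2, ((p.1.map s).prod) ^ p.2 = 1) (H : Subgroup G) (hsub : ∀ w ∈ subw, (w.map s).prod ∈ H)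
    (htop : letterGroup s 8 = ⊤) : H.FiniteIndex ∧ H.index ≤ 122760 :=
  index_le_of_cover H (repOf s D) 122760 (by decide) (repOf_zero s D)
    (fun g => covers s hinv h31 hrels2 H hsub g (by rw [htop]; exact Subgroup.mem_top g))


end Cfsg.Agent.H8.ONt
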