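import Cfsg.Agent.H8.T.SuzOc0
import Cfsg.Agent.H8.CosetGlue
import Cfsg.Agent.H8.T.SuztP

set_option Elab.async false
set_option autoImplicit false
set_option linter.all false
set_option maxRecDepth 100000
set_option maxHeartbeats 400000

namespace Cfsg.Agent.H8.SuzO
open Cfsg.Agent.H8.Suzt (T0 T1 T2 T3 T4 T5 T6)

theorem pk0 : allR (ckPerm (nat_lit 1782) X0 X1) (nat_lit 0) (nat_lit 1782) = true := by
  apply allR_of_forall
  intro i hi
  have hi : i < 1782 := hi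
  rcases Nat.lt_or_ge i 891 with h0 | h0
  · exact allR_spec _ (0 : ℕ) (891 : ℕ) pk0_0 i (by omega) (by omega)
  exact allR_spec _ (891 : ℕ) (891 : ℕ) pk0_1 i (by omega) (by omega)
theorem pk1 : allR (ckPerm (nat_lit 1782) X1 X0) (nat_lit 0) (nat_lit 1782) = true := by
  apply allR_of_forall
  intro i hi
  have hi : i < 1782 := hi
  rcases Nat.lt_or_ge i 891 with h0 | h0
  · exact allR_spec _ (0 : ℕ) (891 : ℕ) pk1_0 i (by omega) (by omega)
  exact allR_spec _ (891 : ℕ) (891 : ℕ) pk1_1 i (by omega) (by omega)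
theorem pk2 : allR (ckPerm (nat_lit 1782) X2 X3) (nat_lit 0) (nat_lit 1782) = true := by
  apply allR_of_forall
  intro i hi
  have hi : i < 1782 := hi
  rcases Nat.lt_or_ge i 891 with h0 | h0
  · exact allR_spec _ (0 : ℕ) (891 : ℕ) pk2_0 i (by omega) (by omega)
  exact allR_spec _ (891 : ℕ) (891 : ℕ) pk2_1 i (by omega) (by omega)
theorem pk3 : allR (ckPerm (nat_lit 1782) X3 X2) (nat_lit 0) (nat_lit 1782) = true := by
  apply allR_of_forall
  intro i hi
  have hi : i < 1782 := hi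
  rcases Nat.lt_or_ge i 891 with h0 | h0
  · exact allR_spec _ (0 : ℕ) (891 : ℕ) pk3_0 i (by omega) (by omega)
  exact allR_spec _ (891 : ℕ) (891 : ℕ) pk3_1 i (by omega) (by omega)
theorem pk4 : allR (ckPerm (nat_lit 1782) X4 X5) (nat_lit 0) (nat_lit 1782) = true := by
  apply allR_of_forall
  intro i hi
  have hi : i < 1782 := hi
  rcases Nat.lt_or_ge i 891 with h0 | h0
  · exact allR_spec _ (0 : ℕ) (891 : ℕ) pk4_0 i (by omega) (by omega)
  exact allR_spec _ (891 : ℕ) (891 : ℕ) pk4_1 i (by omega) (by omega)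
theorem pk5 : allR (ckPerm (nat_lit 1782) X5 X4) (nat_lit 0) (nat_lit 1782) = true := by
  apply allR_of_forall
  intro i hi
  have hi : i < 1782 := hi
  rcases Nat.lt_or_ge i 891 with h0 | h0
  · exact allR_spec _ (0 : ℕ) (891 : ℕ) pk5_0 i (by omega) (by omega)
  exact allR_spec _ (891 : ℕ) (891 : ℕ) pk5_1 i (by omega) (by omega)
theorem pk6 : allR (ckPerm (nat_lit 1782) X6 X7) (nat_lit 0) (nat_lit 1782) = true := by
  apply allR_of_forall
  intro i hi
  have hi : i < 1782 := hi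
  rcases Nat.lt_or_ge i 891 with h0 | h0
  · exact allR_spec _ (0 : ℕ) (891 : ℕ) pk6_0 i (by omega) (by omega)
  exact allR_spec _ (891 : ℕ) (891 : ℕ) pk6_1 i (by omega) (by omega)
theorem pk7 : allR (ckPerm (nat_lit 1782) X7 X6) (nat_lit 0) (nat_lit 1782) = true := by
  apply allR_of_forall
  intro i hi
  have hi : i < 1782 := hi
  rcases Nat.lt_or_ge i 891 with h0 | h0
  · exact allR_spec _ (0 : ℕ) (891 : ℕ) pk7_0 i (by omega) (by omega)
  exact allR_spec _ (891 : ℕ) (891 : ℕ) pk7_1 i (by omega) (by omega)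
theorem pk8 : allR (ckPerm (nat_lit 1782) X8 X9) (nat_lit 0) (nat_lit 1782) = true := by
  apply allR_of_forall
  intro i hi
  have hi : i < 1782 := hi
  rcases Nat.lt_or_ge i 891 with h0 | h0
  · exact allR_spec _ (0 : ℕ) (891 : ℕ) pk8_0 i (by omega) (by omega)
  exact allR_spec _ (891 : ℕ) (891 : ℕ) pk8_1 i (by omega) (by omega)
theorem pk9 : allR (ckPerm (nat_lit 1782) X9 X8) (nat_lit 0) (nat_lit 1782) = true := by
  apply allR_of_forall
  intro i hi
  have hi : i < 1782 := hi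
  rcases Nat.lt_or_ge i 891 with h0 | h0
  · exact allR_spec _ (0 : ℕ) (891 : ℕ) pk9_0 i (by omega) (by omega)
  exact allR_spec _ (891 : ℕ) (891 : ℕ) pk9_1 i (by omega) (by omega)
theorem pk10 : allR (ckPerm (nat_lit 1782) X10 X11) (nat_lit 0) (nat_lit 1782) = true := by
  apply allR_of_forall
  intro i hi
  have hi : i < 1782 := hi
  rcases Nat.lt_or_ge i 891 with h0 | h0
  · exact allR_spec _ (0 : ℕ) (891 : ℕ) pk10_0 i (by omega) (by omega)
  exact allR_spec _ (891 : ℕ) (891 : ℕ) pk10_1 i (by omega) (by omega)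
theorem pk11 : allR (ckPerm (nat_lit 1782) X11 X10) (nat_lit 0) (nat_lit 1782) = true := by
  apply allR_of_forall
  intro i hi
  have hi : i < 1782 := hi
  rcases Nat.lt_or_ge i 891 with h0 | h0
  · exact allR_spec _ (0 : ℕ) (891 : ℕ) pk11_0 i (by omega) (by omega)
  exact allR_spec _ (891 : ℕ) (891 : ℕ) pk11_1 i (by omega) (by omega)
theorem pk12 : allR (ckPerm (nat_lit 1782) X12 X13) (nat_lit 0) (nat_lit 1782) = true := by
  apply allR_of_forall
  intro i hi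
  have hi : i < 1782 := hi
  rcases Nat.lt_or_ge i 891 with h0 | h0
  · exact allR_spec _ (0 : ℕ) (891 : ℕ) pk12_0 i (by omega) (by omega)
  exact allR_spec _ (891 : ℕ) (891 : ℕ) pk12_1 i (by omega) (by omega)
theorem pk13 : allR (ckPerm (nat_lit 1782) X13 X12) (nat_lit 0) (nat_lit 1782) = true := by
  apply allR_of_forall
  intro i hi
  have hi : i < 1782 := hi
  rcases Nat.lt_or_ge i 891 with h0 | h0
  · exact allR_spec _ (0 : ℕ) (891 : ℕ) pk13_0 i (by omega) (by omega)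
  exact allR_spec _ (891 : ℕ) (891 : ℕ) pk13_1 i (by omega) (by omega)
theorem pk14 : allR (ckPerm (nat_lit 1782) X14 X15) (nat_lit 0) (nat_lit 1782) = true := by
  apply allR_of_forall
  intro i hi
  have hi : i < 1782 := hi
  rcases Nat.lt_or_ge i 891 with h0 | h0
  · exact allR_spec _ (0 : ℕ) (891 : ℕ) pk14_0 i (by omega) (by omega)
  exact allR_spec _ (891 : ℕ) (891 : ℕ) pk14_1 i (by omega) (by omega)
theorem pk15 : allR (ckPerm (nat_lit 1782) X15 X14) (nat_lit 0) (nat_lit 1782) = true := by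
  apply allR_of_forall
  intro i hi
  have hi : i < 1782 := hi
  rcases Nat.lt_or_ge i 891 with h0 | h0
  · exact allR_spec _ (0 : ℕ) (891 : ℕ) pk15_0 i (by omega) (by omega)
  exact allR_spec _ (891 : ℕ) (891 : ℕ) pk15_1 i (by omega) (by omega)
theorem pk16 : allR (ckPerm (nat_lit 1782) X16 X17) (nat_lit 0) (nat_lit 1782) = true := by
  apply allR_of_forall
  intro i hi
  have hi : i < 1782 := hi
  rcases Nat.lt_or_ge i 891 with h0 | h0
  · exact allR_spec _ (0 : ℕ) (891 : ℕ) pk16_0 i (by omega) (by omega)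
  exact allR_spec _ (891 : ℕ) (891 : ℕ) pk16_1 i (by omega) (by omega)
theorem pk17 : allR (ckPerm (nat_lit 1782) X17 X16) (nat_lit 0) (nat_lit 1782) = true := by
  apply allR_of_forall
  intro i hi
  have hi : i < 1782 := hi
  rcases Nat.lt_or_ge i 891 with h0 | h0
  · exact allR_spec _ (0 : ℕ) (891 : ℕ) pk17_0 i (by omega) (by omega)
  exact allR_spec _ (891 : ℕ) (891 : ℕ) pk17_1 i (by omega) (by omega)
theorem pk18 : allR (ckPerm (nat_lit 1782) X18 X19) (nat_lit 0) (nat_lit 1782) = true := by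
  apply allR_of_forall
  intro i hi
  have hi : i < 1782 := hi
  rcases Nat.lt_or_ge i 891 with h0 | h0
  · exact allR_spec _ (0 : ℕ) (891 : ℕ) pk18_0 i (by omega) (by omega)
  exact allR_spec _ (891 : ℕ) (891 : ℕ) pk18_1 i (by omega) (by omega)
theorem pk19 : allR (ckPerm (nat_lit 1782) X19 X18) (nat_lit 0) (nat_lit 1782) = true := by
  apply allR_of_forall
  intro i hi
  have hi : i < 1782 := hi
  rcases Nat.lt_or_ge i 891 with h0 | h0
  · exact allR_spec _ (0 : ℕ) (891 : ℕ) pk19_0 i (by omega) (by omega)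
  exact allR_spec _ (891 : ℕ) (891 : ℕ) pk19_1 i (by omega) (by omega)
theorem pk20 : allR (ckPerm (nat_lit 1782) X20 X21) (nat_lit 0) (nat_lit 1782) = true := by
  apply allR_of_forall
  intro i hi
  have hi : i < 1782 := hi
  rcases Nat.lt_or_ge i 891 with h0 | h0
  · exact allR_spec _ (0 : ℕ) (891 : ℕ) pk20_0 i (by omega) (by omega)
  exact allR_spec _ (891 : ℕ) (891 : ℕ) pk20_1 i (by omega) (by omega)
theorem pk21 : allR (ckPerm (nat_lit 1782) X21 X20) (nat_lit 0) (nat_lit 1782) = true := by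
  apply allR_of_forall
  intro i hi
  have hi : i < 1782 := hi
  rcases Nat.lt_or_ge i 891 with h0 | h0
  · exact allR_spec _ (0 : ℕ) (891 : ℕ) pk21_0 i (by omega) (by omega)
  exact allR_spec _ (891 : ℕ) (891 : ℕ) pk21_1 i (by omega) (by omega)
theorem pk22 : allR (ckPerm (nat_lit 1782) X22 X23) (nat_lit 0) (nat_lit 1782) = true := by
  apply allR_of_forall
  intro i hi
  have hi : i < 1782 := hi
  rcases Nat.lt_or_ge i 891 with h0 | h0
  · exact allR_spec _ (0 : ℕ) (891 : ℕ) pk22_0 i (by omega) (by omega)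
  exact allR_spec _ (891 : ℕ) (891 : ℕ) pk22_1 i (by omega) (by omega)
theorem pk23 : allR (ckPerm (nat_lit 1782) X23 X22) (nat_lit 0) (nat_lit 1782) = true := by
  apply allR_of_forall
  intro i hi
  have hi : i < 1782 := hi
  rcases Nat.lt_or_ge i 891 with h0 | h0
  · exact allR_spec _ (0 : ℕ) (891 : ℕ) pk23_0 i (by omega) (by omega)
  exact allR_spec _ (891 : ℕ) (891 : ℕ) pk23_1 i (by omega) (by omega)
theorem pk24 : allR (ckPerm (nat_lit 1782) X24 X25) (nat_lit 0) (nat_lit 1782) = true := by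
  apply allR_of_forall
  intro i hi
  have hi : i < 1782 := hi
  rcases Nat.lt_or_ge i 891 with h0 | h0
  · exact allR_spec _ (0 : ℕ) (891 : ℕ) pk24_0 i (by omega) (by omega)
  exact allR_spec _ (891 : ℕ) (891 : ℕ) pk24_1 i (by omega) (by omega)
theorem pk25 : allR (ckPerm (nat_lit 1782) X25 X24) (nat_lit 0) (nat_lit 1782) = true := by
  apply allR_of_forall
  intro i hi
  have hi : i < 1782 := hi
  rcases Nat.lt_or_ge i 891 with h0 | h0
  · exact allR_spec _ (0 : ℕ) (891 : ℕ) pk25_0 i (by omega) (by omega)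
  exact allR_spec _ (891 : ℕ) (891 : ℕ) pk25_1 i (by omega) (by omega)
theorem pk26 : allR (ckPerm (nat_lit 1782) X26 X27) (nat_lit 0) (nat_lit 1782) = true := by
  apply allR_of_forall
  intro i hi
  have hi : i < 1782 := hi
  rcases Nat.lt_or_ge i 891 with h0 | h0
  · exact allR_spec _ (0 : ℕ) (891 : ℕ) pk26_0 i (by omega) (by omega)
  exact allR_spec _ (891 : ℕ) (891 : ℕ) pk26_1 i (by omega) (by omega)
theorem pk27 : allR (ckPerm (nat_lit 1782) X27 X26) (nat_lit 0) (nat_lit 1782) = true := by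
  apply allR_of_forall
  intro i hi
  have hi : i < 1782 := hi
  rcases Nat.lt_or_ge i 891 with h0 | h0
  · exact allR_spec _ (0 : ℕ) (891 : ℕ) pk27_0 i (by omega) (by omega)
  exact allR_spec _ (891 : ℕ) (891 : ℕ) pk27_1 i (by omega) (by omega)
theorem pk28 : allR (ckPerm (nat_lit 1782) X28 X29) (nat_lit 0) (nat_lit 1782) = true := by
  apply allR_of_forall
  intro i hi
  have hi : i < 1782 := hi
  rcases Nat.lt_or_ge i 891 with h0 | h0
  · exact allR_spec _ (0 : ℕ) (891 : ℕ) pk28_0 i (by omega) (by omega)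
  exact allR_spec _ (891 : ℕ) (891 : ℕ) pk28_1 i (by omega) (by omega)
theorem pk29 : allR (ckPerm (nat_lit 1782) X29 X28) (nat_lit 0) (nat_lit 1782) = true := by
  apply allR_of_forall
  intro i hi
  have hi : i < 1782 := hi
  rcases Nat.lt_or_ge i 891 with h0 | h0
  · exact allR_spec _ (0 : ℕ) (891 : ℕ) pk29_0 i (by omega) (by omega)
  exact allR_spec _ (891 : ℕ) (891 : ℕ) pk29_1 i (by omega) (by omega)
theorem pk30 : allR (ckPerm (nat_lit 1782) X30 X31) (nat_lit 0) (nat_lit 1782) = true := by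
  apply allR_of_forall
  intro i hi
  have hi : i < 1782 := hi
  rcases Nat.lt_or_ge i 891 with h0 | h0
  · exact allR_spec _ (0 : ℕ) (891 : ℕ) pk30_0 i (by omega) (by omega)
  exact allR_spec _ (891 : ℕ) (891 : ℕ) pk30_1 i (by omega) (by omega)
theorem pk31 : allR (ckPerm (nat_lit 1782) X31 X30) (nat_lit 0) (nat_lit 1782) = true := by
  apply allR_of_forall
  intro i hi
  have hi : i < 1782 := hi
  rcases Nat.lt_or_ge i 891 with h0 | h0
  · exact allR_spec _ (0 : ℕ) (891 : ℕ) pk31_0 i (by omega) (by omega)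
  exact allR_spec _ (891 : ℕ) (891 : ℕ) pk31_1 i (by omega) (by omega)
theorem pk32 : allR (ckPerm (nat_lit 1782) X32 X33) (nat_lit 0) (nat_lit 1782) = true := by
  apply allR_of_forall
  intro i hi
  have hi : i < 1782 := hi
  rcases Nat.lt_or_ge i 891 with h0 | h0
  · exact allR_spec _ (0 : ℕ) (891 : ℕ) pk32_0 i (by omega) (by omega)
  exact allR_spec _ (891 : ℕ) (891 : ℕ) pk32_1 i (by omega) (by omega)
theorem pk33 : allR (ckPerm (nat_lit 1782) X33 X32) (nat_lit 0) (nat_lit 1782) = true := by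
  apply allR_of_forall
  intro i hi
  have hi : i < 1782 := hi
  rcases Nat.lt_or_ge i 891 with h0 | h0
  · exact allR_spec _ (0 : ℕ) (891 : ℕ) pk33_0 i (by omega) (by omega)
  exact allR_spec _ (891 : ℕ) (891 : ℕ) pk33_1 i (by omega) (by omega)
theorem pk34 : allR (ckPerm (nat_lit 1782) X34 X35) (nat_lit 0) (nat_lit 1782) = true := by
  apply allR_of_forall
  intro i hi
  have hi : i < 1782 := hi
  rcases Nat.lt_or_ge i 891 with h0 | h0
  · exact allR_spec _ (0 : ℕ) (891 : ℕ) pk34_0 i (by omega) (by omega)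
  exact allR_spec _ (891 : ℕ) (891 : ℕ) pk34_1 i (by omega) (by omega)
theorem pk35 : allR (ckPerm (nat_lit 1782) X35 X34) (nat_lit 0) (nat_lit 1782) = true := by
  apply allR_of_forall
  intro i hi
  have hi : i < 1782 := hi
  rcases Nat.lt_or_ge i 891 with h0 | h0
  · exact allR_spec _ (0 : ℕ) (891 : ℕ) pk35_0 i (by omega) (by omega)
  exact allR_spec _ (891 : ℕ) (891 : ℕ) pk35_1 i (by omega) (by omega)
theorem pk36 : allR (ckPerm (nat_lit 1782) X36 X37) (nat_lit 0) (nat_lit 1782) = true := by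
  apply allR_of_forall
  intro i hi
  have hi : i < 1782 := hi
  rcases Nat.lt_or_ge i 891 with h0 | h0
  · exact allR_spec _ (0 : ℕ) (891 : ℕ) pk36_0 i (by omega) (by omega)
  exact allR_spec _ (891 : ℕ) (891 : ℕ) pk36_1 i (by omega) (by omega)
theorem pk37 : allR (ckPerm (nat_lit 1782) X37 X36) (nat_lit 0) (nat_lit 1782) = true := by
  apply allR_of_forall
  intro i hi
  have hi : i < 1782 := hi
  rcases Nat.lt_or_ge i 891 with h0 | h0
  · exact allR_spec _ (0 : ℕ) (891 : ℕ) pk37_0 i (by omega) (by omega)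
  exact allR_spec _ (891 : ℕ) (891 : ℕ) pk37_1 i (by omega) (by omega)
theorem pk38 : allR (ckPerm (nat_lit 1782) X38 X39) (nat_lit 0) (nat_lit 1782) = true := by
  apply allR_of_forall
  intro i hi
  have hi : i < 1782 := hi
  rcases Nat.lt_or_ge i 891 with h0 | h0
  · exact allR_spec _ (0 : ℕ) (891 : ℕ) pk38_0 i (by omega) (by omega)
  exact allR_spec _ (891 : ℕ) (891 : ℕ) pk38_1 i (by omega) (by omega)
theorem pk39 : allR (ckPerm (nat_lit 1782) X39 X38) (nat_lit 0) (nat_lit 1782) = true := by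
  apply allR_of_forall
  intro i hi
  have hi : i < 1782 := hi
  rcases Nat.lt_or_ge i 891 with h0 | h0
  · exact allR_spec _ (0 : ℕ) (891 : ℕ) pk39_0 i (by omega) (by omega)
  exact allR_spec _ (891 : ℕ) (891 : ℕ) pk39_1 i (by omega) (by omega)
theorem pk40 : allR (ckPerm (nat_lit 1782) X40 X41) (nat_lit 0) (nat_lit 1782) = true := by
  apply allR_of_forall
  intro i hi
  have hi : i < 1782 := hi
  rcases Nat.lt_or_ge i 891 with h0 | h0
  · exact allR_spec _ (0 : ℕ) (891 : ℕ) pk40_0 i (by omega) (by omega)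
  exact allR_spec _ (891 : ℕ) (891 : ℕ) pk40_1 i (by omega) (by omega)
theorem pk41 : allR (ckPerm (nat_lit 1782) X41 X40) (nat_lit 0) (nat_lit 1782) = true := by
  apply allR_of_forall
  intro i hi
  have hi : i < 1782 := hi
  rcases Nat.lt_or_ge i 891 with h0 | h0
  · exact allR_spec _ (0 : ℕ) (891 : ℕ) pk41_0 i (by omega) (by omega)
  exact allR_spec _ (891 : ℕ) (891 : ℕ) pk41_1 i (by omega) (by omega)
theorem pk42 : allR (ckPerm (nat_lit 1782) X42 X43) (nat_lit 0) (nat_lit 1782) = true := by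
  apply allR_of_forall
  intro i hi
  have hi : i < 1782 := hi
  rcases Nat.lt_or_ge i 891 with h0 | h0
  · exact allR_spec _ (0 : ℕ) (891 : ℕ) pk42_0 i (by omega) (by omega)
  exact allR_spec _ (891 : ℕ) (891 : ℕ) pk42_1 i (by omega) (by omega)
theorem pk43 : allR (ckPerm (nat_lit 1782) X43 X42) (nat_lit 0) (nat_lit 1782) = true := by
  apply allR_of_forall
  intro i hi
  have hi : i < 1782 := hi
  rcases Nat.lt_or_ge i 891 with h0 | h0
  · exact allR_spec _ (0 : ℕ) (891 : ℕ) pk43_0 i (by omega) (by omega)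
  exact allR_spec _ (891 : ℕ) (891 : ℕ) pk43_1 i (by omega) (by omega)
theorem wk0 : allR (OT.ckEqW [T1, T2, T3, T4, T6, T5] [X0]) (nat_lit 0) (nat_lit 1782) = true := by
  apply allR_of_forall
  intro i hi
  have hi : i < 1782 := hi
  rcases Nat.lt_or_ge i 254 with h0 | h0
  · exact allR_spec _ (0 : ℕ) (254 : ℕ) wk0_0 i (by omega) (by omega)
  rcases Nat.lt_or_ge i 508 with h1 | h1
  · exact allR_spec _ (254 : ℕ) (254 : ℕ) wk0_1 i (by omega) (by omega)
  rcases Nat.lt_or_ge i 762 with h2 | h2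
  · exact allR_spec _ (508 : ℕ) (254 : ℕ) wk0_2 i (by omega) (by omega)
  rcases Nat.lt_or_ge i 1016 with h3 | h3
  · exact allR_spec _ (762 : ℕ) (254 : ℕ) wk0_3 i (by omega) (by omega)
  rcases Nat.lt_or_ge i 1270 with h4 | h4
  · exact allR_spec _ (1016 : ℕ) (254 : ℕ) wk0_4 i (by omega) (by omega)
  rcases Nat.lt_or_ge i 1524 with h5 | h5
  · exact allR_spec _ (1270 : ℕ) (254 : ℕ) wk0_5 i (by omega) (by omega)
  rcases Nat.lt_or_ge i 1778 with h6 | h6
  · exact allR_spec _ (1524 : ℕ) (254 : ℕ) wk0_6 i (by omega) (by omega)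
  exact allR_spec _ (1778 : ℕ) (4 : ℕ) wk0_7 i (by omega) (by omega)
theorem wk1 : allR (OT.ckEqW [T2, T1, T5, T3, T1, T4, X1, T6, X0] [X2]) (nat_lit 0) (nat_lit 1782) = true := by
  apply allR_of_forall
  intro i hi
  have hi : i < 1782 := hi
  rcases Nat.lt_or_ge i 178 with h0 | h0
  · exact allR_spec _ (0 : ℕ) (178 : ℕ) wk1_0 i (by omega) (by omega)
  rcases Nat.lt_or_ge i 356 with h1 | h1
  · exact allR_spec _ (178 : ℕ) (178 : ℕ) wk1_1 i (by omega) (by omega)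
  rcases Nat.lt_or_ge i 534 with h2 | h2
  · exact allR_spec _ (356 : ℕ) (178 : ℕ) wk1_2 i (by omega) (by omega)
  rcases Nat.lt_or_ge i 712 with h3 | h3
  · exact allR_spec _ (534 : ℕ) (178 : ℕ) wk1_3 i (by omega) (by omega)
  rcases Nat.lt_or_ge i 890 with h4 | h4
  · exact allR_spec _ (712 : ℕ) (178 : ℕ) wk1_4 i (by omega) (by omega)
  rcases Nat.lt_or_ge i 1068 with h5 | h5
  · exact allR_spec _ (890 : ℕ) (178 : ℕ) wk1_5 i (by omega) (by omega)
  rcases Nat.lt_or_ge i 1246 with h6 | h6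
  · exact allR_spec _ (1068 : ℕ) (178 : ℕ) wk1_6 i (by omega) (by omega)
  rcases Nat.lt_or_ge i 1424 with h7 | h7
  · exact allR_spec _ (1246 : ℕ) (178 : ℕ) wk1_7 i (by omega) (by omega)
  rcases Nat.lt_or_ge i 1602 with h8 | h8
  · exact allR_spec _ (1424 : ℕ) (178 : ℕ) wk1_8 i (by omega) (by omega)
  rcases Nat.lt_or_ge i 1780 with h9 | h9
  · exact allR_spec _ (1602 : ℕ) (178 : ℕ) wk1_9 i (by omega) (by omega)
  exact allR_spec _ (1780 : ℕ) (2 : ℕ) wk1_10 i (by omega) (by omega)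
theorem wk2 : allR (OT.ckEqW [T3, T4, T0, T1, T0, T2, T0, T1, T2] [X4]) (nat_lit 0) (nat_lit 1782) = true := by
  apply allR_of_forall
  intro i hi
  have hi : i < 1782 := hi
  rcases Nat.lt_or_ge i 178 with h0 | h0
  · exact allR_spec _ (0 : ℕ) (178 : ℕ) wk2_0 i (by omega) (by omega)
  rcases Nat.lt_or_ge i 356 with h1 | h1
  · exact allR_spec _ (178 : ℕ) (178 : ℕ) wk2_1 i (by omega) (by omega)
  rcases Nat.lt_or_ge i 534 with h2 | h2
  · exact allR_spec _ (356 : ℕ) (178 : ℕ) wk2_2 i (by omega) (by omega)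
  rcases Nat.lt_or_ge i 712 with h3 | h3
  · exact allR_spec _ (534 : ℕ) (178 : ℕ) wk2_3 i (by omega) (by omega)
  rcases Nat.lt_or_ge i 890 with h4 | h4
  · exact allR_spec _ (712 : ℕ) (178 : ℕ) wk2_4 i (by omega) (by omega)
  rcases Nat.lt_or_ge i 1068 with h5 | h5
  · exact allR_spec _ (890 : ℕ) (178 : ℕ) wk2_5 i (by omega) (by omega)
  rcases Nat.lt_or_ge i 1246 with h6 | h6
  · exact allR_spec _ (1068 : ℕ) (178 : ℕ) wk2_6 i (by omega) (by omega)
  rcases Nat.lt_or_ge i 1424 with h7 | h7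
  · exact allR_spec _ (1246 : ℕ) (178 : ℕ) wk2_7 i (by omega) (by omega)
  rcases Nat.lt_or_ge i 1602 with h8 | h8
  · exact allR_spec _ (1424 : ℕ) (178 : ℕ) wk2_8 i (by omega) (by omega)
  rcases Nat.lt_or_ge i 1780 with h9 | h9
  · exact allR_spec _ (1602 : ℕ) (178 : ℕ) wk2_9 i (by omega) (by omega)
  exact allR_spec _ (1780 : ℕ) (2 : ℕ) wk2_10 i (by omega) (by omega)
theorem wk3 : allR (OT.ckEqW [X4, X4, X3, X5, X2, X5, X2, X4, X3] [X6]) (nat_lit 0) (nat_lit 1782) = true := by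
  apply allR_of_forall
  intro i hi
  have hi : i < 1782 := hi
  rcases Nat.lt_or_ge i 178 with h0 | h0
  · exact allR_spec _ (0 : ℕ) (178 : ℕ) wk3_0 i (by omega) (by omega)
  rcases Nat.lt_or_ge i 356 with h1 | h1
  · exact allR_spec _ (178 : ℕ) (178 : ℕ) wk3_1 i (by omega) (by omega)
  rcases Nat.lt_or_ge i 534 with h2 | h2
  · exact allR_spec _ (356 : ℕ) (178 : ℕ) wk3_2 i (by omega) (by omega)
  rcases Nat.lt_or_ge i 712 with h3 | h3
  · exact allR_spec _ (534 : ℕ) (178 : ℕ) wk3_3 i (by omega) (by omega)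
  rcases Nat.lt_or_ge i 890 with h4 | h4
  · exact allR_spec _ (712 : ℕ) (178 : ℕ) wk3_4 i (by omega) (by omega)
  rcases Nat.lt_or_ge i 1068 with h5 | h5
  · exact allR_spec _ (890 : ℕ) (178 : ℕ) wk3_5 i (by omega) (by omega)
  rcases Nat.lt_or_ge i 1246 with h6 | h6
  · exact allR_spec _ (1068 : ℕ) (178 : ℕ) wk3_6 i (by omega) (by omega)
  rcases Nat.lt_or_ge i 1424 with h7 | h7
  · exact allR_spec _ (1246 : ℕ) (178 : ℕ) wk3_7 i (by omega) (by omega)
  rcases Nat.lt_or_ge i 1602 with h8 | h8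
  · exact allR_spec _ (1424 : ℕ) (178 : ℕ) wk3_8 i (by omega) (by omega)
  rcases Nat.lt_or_ge i 1780 with h9 | h9
  · exact allR_spec _ (1602 : ℕ) (178 : ℕ) wk3_9 i (by omega) (by omega)
  exact allR_spec _ (1780 : ℕ) (2 : ℕ) wk3_10 i (by omega) (by omega)
theorem wk4 : allR (OT.ckEqW [X4, X2, X2, X5] [X8]) (nat_lit 0) (nat_lit 1782) = true := by
  apply allR_of_forall
  intro i hi
  have hi : i < 1782 := hi
  rcases Nat.lt_or_ge i 356 with h0 | h0
  · exact allR_spec _ (0 : ℕ) (356 : ℕ) wk4_0 i (by omega) (by omega)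
  rcases Nat.lt_or_ge i 712 with h1 | h1
  · exact allR_spec _ (356 : ℕ) (356 : ℕ) wk4_1 i (by omega) (by omega)
  rcases Nat.lt_or_ge i 1068 with h2 | h2
  · exact allR_spec _ (712 : ℕ) (356 : ℕ) wk4_2 i (by omega) (by omega)
  rcases Nat.lt_or_ge i 1424 with h3 | h3
  · exact allR_spec _ (1068 : ℕ) (356 : ℕ) wk4_3 i (by omega) (by omega)
  rcases Nat.lt_or_ge i 1780 with h4 | h4
  · exact allR_spec _ (1424 : ℕ) (356 : ℕ) wk4_4 i (by omega) (by omega)
  exact allR_spec _ (1780 : ℕ) (2 : ℕ) wk4_5 i (by omega) (by omega)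
theorem wk5 : allR (OT.ckEqW [X6, X9, X6, X9, X6, X8, X7, X8, X6, X6, X9, X6, X8, X7, X9, X9, X9, X9, X9, X6, X6, X8, X7, X8] [X10]) (nat_lit 0) (nat_lit 1782) = true := by
  apply allR_of_forall
  intro i hi
  have hi : i < 1782 := hi
  rcases Nat.lt_or_ge i 71 with h0 | h0
  · exact allR_spec _ (0 : ℕ) (71 : ℕ) wk5_0 i (by omega) (by omega)
  rcases Nat.lt_or_ge i 142 with h1 | h1
  · exact allR_spec _ (71 : ℕ) (71 : ℕ) wk5_1 i (by omega) (by omega)
  rcases Nat.lt_or_ge i 213 with h2 | h2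
  · exact allR_spec _ (142 : ℕ) (71 : ℕ) wk5_2 i (by omega) (by omega)
  rcases Nat.lt_or_ge i 284 with h3 | h3
  · exact allR_spec _ (213 : ℕ) (71 : ℕ) wk5_3 i (by omega) (by omega)
  rcases Nat.lt_or_ge i 355 with h4 | h4
  · exact allR_spec _ (284 : ℕ) (71 : ℕ) wk5_4 i (by omega) (by omega)
  rcases Nat.lt_or_ge i 426 with h5 | h5
  · exact allR_spec _ (355 : ℕ) (71 : ℕ) wk5_5 i (by omega) (by omega)
  rcases Nat.lt_or_ge i 497 with h6 | h6
  · exact allR_spec _ (426 : ℕ) (71 : ℕ) wk5_6 i (by omega) (by omega)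
  rcases Nat.lt_or_ge i 568 with h7 | h7
  · exact allR_spec _ (497 : ℕ) (71 : ℕ) wk5_7 i (by omega) (by omega)
  rcases Nat.lt_or_ge i 639 with h8 | h8
  · exact allR_spec _ (568 : ℕ) (71 : ℕ) wk5_8 i (by omega) (by omega)
  rcases Nat.lt_or_ge i 710 with h9 | h9
  · exact allR_spec _ (639 : ℕ) (71 : ℕ) wk5_9 i (by omega) (by omega)
  rcases Nat.lt_or_ge i 781 with h10 | h10
  · exact allR_spec _ (710 : ℕ) (71 : ℕ) wk5_10 i (by omega) (by omega)
  rcases Nat.lt_or_ge i 852 with h11 | h11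
  · exact allR_spec _ (781 : ℕ) (71 : ℕ) wk5_11 i (by omega) (by omega)
  rcases Nat.lt_or_ge i 923 with h12 | h12
  · exact allR_spec _ (852 : ℕ) (71 : ℕ) wk5_12 i (by omega) (by omega)
  rcases Nat.lt_or_ge i 994 with h13 | h13
  · exact allR_spec _ (923 : ℕ) (71 : ℕ) wk5_13 i (by omega) (by omega)
  rcases Nat.lt_or_ge i 1065 with h14 | h14
  · exact allR_spec _ (994 : ℕ) (71 : ℕ) wk5_14 i (by omega) (by omega)
  rcases Nat.lt_or_ge i 1136 with h15 | h15
  · exact allR_spec _ (1065 : ℕ) (71 : ℕ) wk5_15 i (by omega) (by omega)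
  rcases Nat.lt_or_ge i 1207 with h16 | h16
  · exact allR_spec _ (1136 : ℕ) (71 : ℕ) wk5_16 i (by omega) (by omega)
  rcases Nat.lt_or_ge i 1278 with h17 | h17
  · exact allR_spec _ (1207 : ℕ) (71 : ℕ) wk5_17 i (by omega) (by omega)
  rcases Nat.lt_or_ge i 1349 with h18 | h18
  · exact allR_spec _ (1278 : ℕ) (71 : ℕ) wk5_18 i (by omega) (by omega)
  rcases Nat.lt_or_ge i 1420 with h19 | h19
  · exact allR_spec _ (1349 : ℕ) (71 : ℕ) wk5_19 i (by omega) (by omega)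
  rcases Nat.lt_or_ge i 1491 with h20 | h20
  · exact allR_spec _ (1420 : ℕ) (71 : ℕ) wk5_20 i (by omega) (by omega)
  rcases Nat.lt_or_ge i 1562 with h21 | h21
  · exact allR_spec _ (1491 : ℕ) (71 : ℕ) wk5_21 i (by omega) (by omega)
  rcases Nat.lt_or_ge i 1633 with h22 | h22
  · exact allR_spec _ (1562 : ℕ) (71 : ℕ) wk5_22 i (by omega) (by omega)
  rcases Nat.lt_or_ge i 1704 with h23 | h23
  · exact allR_spec _ (1633 : ℕ) (71 : ℕ) wk5_23 i (by omega) (by omega)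
  rcases Nat.lt_or_ge i 1775 with h24 | h24
  · exact allR_spec _ (1704 : ℕ) (71 : ℕ) wk5_24 i (by omega) (by omega)
  exact allR_spec _ (1775 : ℕ) (7 : ℕ) wk5_25 i (by omega) (by omega)
theorem wk6 : allR (OT.ckEqW [X8, X8, X7, X8, X6, X8] [X12]) (nat_lit 0) (nat_lit 1782) = true := by
  apply allR_of_forall
  intro i hi
  have hi : i < 1782 := hi
  rcases Nat.lt_or_ge i 254 with h0 | h0
  · exact allR_spec _ (0 : ℕ) (254 : ℕ) wk6_0 i (by omega) (by omega)
  rcases Nat.lt_or_ge i 508 with h1 | h1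
  · exact allR_spec _ (254 : ℕ) (254 : ℕ) wk6_1 i (by omega) (by omega)
  rcases Nat.lt_or_ge i 762 with h2 | h2
  · exact allR_spec _ (508 : ℕ) (254 : ℕ) wk6_2 i (by omega) (by omega)
  rcases Nat.lt_or_ge i 1016 with h3 | h3
  · exact allR_spec _ (762 : ℕ) (254 : ℕ) wk6_3 i (by omega) (by omega)
  rcases Nat.lt_or_ge i 1270 with h4 | h4
  · exact allR_spec _ (1016 : ℕ) (254 : ℕ) wk6_4 i (by omega) (by omega)
  rcases Nat.lt_or_ge i 1524 with h5 | h5
  · exact allR_spec _ (1270 : ℕ) (254 : ℕ) wk6_5 i (by omega) (by omega)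
  rcases Nat.lt_or_ge i 1778 with h6 | h6
  · exact allR_spec _ (1524 : ℕ) (254 : ℕ) wk6_6 i (by omega) (by omega)
  exact allR_spec _ (1778 : ℕ) (4 : ℕ) wk6_7 i (by omega) (by omega)
theorem wk7 : allR (OT.ckEqW [X12, X10, X6, X9, X6, X6, X9, X6, X6, X9, X6, X9, X5, X3, X5, X3, X5, X2, X5, X3, X1, X1, T3, T2, X1, T0, T2] [X14]) (nat_lit 0) (nat_lit 1782) = true := by
  apply allR_of_forall
  intro i hi
  have hi : i < 1782 := hi
  rcases Nat.lt_or_ge i 63 with h0 | h0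
  · exact allR_spec _ (0 : ℕ) (63 : ℕ) wk7_0 i (by omega) (by omega)
  rcases Nat.lt_or_ge i 126 with h1 | h1
  · exact allR_spec _ (63 : ℕ) (63 : ℕ) wk7_1 i (by omega) (by omega)
  rcases Nat.lt_or_ge i 189 with h2 | h2
  · exact allR_spec _ (126 : ℕ) (63 : ℕ) wk7_2 i (by omega) (by omega)
  rcases Nat.lt_or_ge i 252 with h3 | h3
  · exact allR_spec _ (189 : ℕ) (63 : ℕ) wk7_3 i (by omega) (by omega)
  rcases Nat.lt_or_ge i 315 with h4 | h4
  · exact allR_spec _ (252 : ℕ) (63 : ℕ) wk7_4 i (by omega) (by omega)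
  rcases Nat.lt_or_ge i 378 with h5 | h5
  · exact allR_spec _ (315 : ℕ) (63 : ℕ) wk7_5 i (by omega) (by omega)
  rcases Nat.lt_or_ge i 441 with h6 | h6
  · exact allR_spec _ (378 : ℕ) (63 : ℕ) wk7_6 i (by omega) (by omega)
  rcases Nat.lt_or_ge i 504 with h7 | h7
  · exact allR_spec _ (441 : ℕ) (63 : ℕ) wk7_7 i (by omega) (by omega)
  rcases Nat.lt_or_ge i 567 with h8 | h8
  · exact allR_spec _ (504 : ℕ) (63 : ℕ) wk7_8 i (by omega) (by omega)
  rcases Nat.lt_or_ge i 630 with h9 | h9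
  · exact allR_spec _ (567 : ℕ) (63 : ℕ) wk7_9 i (by omega) (by omega)
  rcases Nat.lt_or_ge i 693 with h10 | h10
  · exact allR_spec _ (630 : ℕ) (63 : ℕ) wk7_10 i (by omega) (by omega)
  rcases Nat.lt_or_ge i 756 with h11 | h11
  · exact allR_spec _ (693 : ℕ) (63 : ℕ) wk7_11 i (by omega) (by omega)
  rcases Nat.lt_or_ge i 819 with h12 | h12
  · exact allR_spec _ (756 : ℕ) (63 : ℕ) wk7_12 i (by omega) (by omega)
  rcases Nat.lt_or_ge i 882 with h13 | h13
  · exact allR_spec _ (819 : ℕ) (63 : ℕ) wk7_13 i (by omega) (by omega)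
  rcases Nat.lt_or_ge i 945 with h14 | h14
  · exact allR_spec _ (882 : ℕ) (63 : ℕ) wk7_14 i (by omega) (by omega)
  rcases Nat.lt_or_ge i 1008 with h15 | h15
  · exact allR_spec _ (945 : ℕ) (63 : ℕ) wk7_15 i (by omega) (by omega)
  rcases Nat.lt_or_ge i 1071 with h16 | h16
  · exact allR_spec _ (1008 : ℕ) (63 : ℕ) wk7_16 i (by omega) (by omega)
  rcases Nat.lt_or_ge i 1134 with h17 | h17
  · exact allR_spec _ (1071 : ℕ) (63 : ℕ) wk7_17 i (by omega) (by omega)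
  rcases Nat.lt_or_ge i 1197 with h18 | h18
  · exact allR_spec _ (1134 : ℕ) (63 : ℕ) wk7_18 i (by omega) (by omega)
  rcases Nat.lt_or_ge i 1260 with h19 | h19
  · exact allR_spec _ (1197 : ℕ) (63 : ℕ) wk7_19 i (by omega) (by omega)
  rcases Nat.lt_or_ge i 1323 with h20 | h20
  · exact allR_spec _ (1260 : ℕ) (63 : ℕ) wk7_20 i (by omega) (by omega)
  rcases Nat.lt_or_ge i 1386 with h21 | h21
  · exact allR_spec _ (1323 : ℕ) (63 : ℕ) wk7_21 i (by omega) (by omega)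
  rcases Nat.lt_or_ge i 1449 with h22 | h22
  · exact allR_spec _ (1386 : ℕ) (63 : ℕ) wk7_22 i (by omega) (by omega)
  rcases Nat.lt_or_ge i 1512 with h23 | h23
  · exact allR_spec _ (1449 : ℕ) (63 : ℕ) wk7_23 i (by omega) (by omega)
  rcases Nat.lt_or_ge i 1575 with h24 | h24
  · exact allR_spec _ (1512 : ℕ) (63 : ℕ) wk7_24 i (by omega) (by omega)
  rcases Nat.lt_or_ge i 1638 with h25 | h25
  · exact allR_spec _ (1575 : ℕ) (63 : ℕ) wk7_25 i (by omega) (by omega)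
  rcases Nat.lt_or_ge i 1701 with h26 | h26
  · exact allR_spec _ (1638 : ℕ) (63 : ℕ) wk7_26 i (by omega) (by omega)
  rcases Nat.lt_or_ge i 1764 with h27 | h27
  · exact allR_spec _ (1701 : ℕ) (63 : ℕ) wk7_27 i (by omega) (by omega)
  exact allR_spec _ (1764 : ℕ) (18 : ℕ) wk7_28 i (by omega) (by omega)
theorem wk8 : allR (OT.ckEqW [X10, X10, X12, X11, X11, X7, X8, X7, X9, X6, X9, X6, X5, X2, X4, X3, X5, X5, T6, X0, T2, T4, X1, T0, T2, X1] [X16]) (nat_lit 0) (nat_lit 1782) = true := by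
  apply allR_of_forall
  intro i hi
  have hi : i < 1782 := hi
  rcases Nat.lt_or_ge i 66 with h0 | h0
  · exact allR_spec _ (0 : ℕ) (66 : ℕ) wk8_0 i (by omega) (by omega)
  rcases Nat.lt_or_ge i 132 with h1 | h1
  · exact allR_spec _ (66 : ℕ) (66 : ℕ) wk8_1 i (by omega) (by omega)
  rcases Nat.lt_or_ge i 198 with h2 | h2
  · exact allR_spec _ (132 : ℕ) (66 : ℕ) wk8_2 i (by omega) (by omega)
  rcases Nat.lt_or_ge i 264 with h3 | h3
  · exact allR_spec _ (198 : ℕ) (66 : ℕ) wk8_3 i (by omega) (by omega)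
  rcases Nat.lt_or_ge i 330 with h4 | h4
  · exact allR_spec _ (264 : ℕ) (66 : ℕ) wk8_4 i (by omega) (by omega)
  rcases Nat.lt_or_ge i 396 with h5 | h5
  · exact allR_spec _ (330 : ℕ) (66 : ℕ) wk8_5 i (by omega) (by omega)
  rcases Nat.lt_or_ge i 462 with h6 | h6
  · exact allR_spec _ (396 : ℕ) (66 : ℕ) wk8_6 i (by omega) (by omega)
  rcases Nat.lt_or_ge i 528 with h7 | h7
  · exact allR_spec _ (462 : ℕ) (66 : ℕ) wk8_7 i (by omega) (by omega)
  rcases Nat.lt_or_ge i 594 with h8 | h8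
  · exact allR_spec _ (528 : ℕ) (66 : ℕ) wk8_8 i (by omega) (by omega)
  rcases Nat.lt_or_ge i 660 with h9 | h9
  · exact allR_spec _ (594 : ℕ) (66 : ℕ) wk8_9 i (by omega) (by omega)
  rcases Nat.lt_or_ge i 726 with h10 | h10
  · exact allR_spec _ (660 : ℕ) (66 : ℕ) wk8_10 i (by omega) (by omega)
  rcases Nat.lt_or_ge i 792 with h11 | h11
  · exact allR_spec _ (726 : ℕ) (66 : ℕ) wk8_11 i (by omega) (by omega)
  rcases Nat.lt_or_ge i 858 with h12 | h12
  · exact allR_spec _ (792 : ℕ) (66 : ℕ) wk8_12 i (by omega) (by omega)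
  rcases Nat.lt_or_ge i 924 with h13 | h13
  · exact allR_spec _ (858 : ℕ) (66 : ℕ) wk8_13 i (by omega) (by omega)
  rcases Nat.lt_or_ge i 990 with h14 | h14
  · exact allR_spec _ (924 : ℕ) (66 : ℕ) wk8_14 i (by omega) (by omega)
  rcases Nat.lt_or_ge i 1056 with h15 | h15
  · exact allR_spec _ (990 : ℕ) (66 : ℕ) wk8_15 i (by omega) (by omega)
  rcases Nat.lt_or_ge i 1122 with h16 | h16
  · exact allR_spec _ (1056 : ℕ) (66 : ℕ) wk8_16 i (by omega) (by omega)
  rcases Nat.lt_or_ge i 1188 with h17 | h17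
  · exact allR_spec _ (1122 : ℕ) (66 : ℕ) wk8_17 i (by omega) (by omega)
  rcases Nat.lt_or_ge i 1254 with h18 | h18
  · exact allR_spec _ (1188 : ℕ) (66 : ℕ) wk8_18 i (by omega) (by omega)
  rcases Nat.lt_or_ge i 1320 with h19 | h19
  · exact allR_spec _ (1254 : ℕ) (66 : ℕ) wk8_19 i (by omega) (by omega)
  rcases Nat.lt_or_ge i 1386 with h20 | h20
  · exact allR_spec _ (1320 : ℕ) (66 : ℕ) wk8_20 i (by omega) (by omega)
  rcases Nat.lt_or_ge i 1452 with h21 | h21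
  · exact allR_spec _ (1386 : ℕ) (66 : ℕ) wk8_21 i (by omega) (by omega)
  rcases Nat.lt_or_ge i 1518 with h22 | h22
  · exact allR_spec _ (1452 : ℕ) (66 : ℕ) wk8_22 i (by omega) (by omega)
  rcases Nat.lt_or_ge i 1584 with h23 | h23
  · exact allR_spec _ (1518 : ℕ) (66 : ℕ) wk8_23 i (by omega) (by omega)
  rcases Nat.lt_or_ge i 1650 with h24 | h24
  · exact allR_spec _ (1584 : ℕ) (66 : ℕ) wk8_24 i (by omega) (by omega)
  rcases Nat.lt_or_ge i 1716 with h25 | h25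
  · exact allR_spec _ (1650 : ℕ) (66 : ℕ) wk8_25 i (by omega) (by omega)
  exact allR_spec _ (1716 : ℕ) (66 : ℕ) wk8_26 i (by omega) (by omega)
theorem wk9 : allR (OT.ckEqW [X14, X14] [X18]) (nat_lit 0) (nat_lit 1782) = true := by
  apply allR_of_forall
  intro i hi
  have hi : i < 1782 := hi
  rcases Nat.lt_or_ge i 594 with h0 | h0
  · exact allR_spec _ (0 : ℕ) (594 : ℕ) wk9_0 i (by omega) (by omega)
  rcases Nat.lt_or_ge i 1188 with h1 | h1
  · exact allR_spec _ (594 : ℕ) (594 : ℕ) wk9_1 i (by omega) (by omega)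
  exact allR_spec _ (1188 : ℕ) (594 : ℕ) wk9_2 i (by omega) (by omega)
theorem wk10 : allR (OT.ckEqW [X17, X15, X1, X17, X14, X1, X17, X14, X0, X17, X15, X17] [X20]) (nat_lit 0) (nat_lit 1782) = true := by
  apply allR_of_forall
  intro i hi
  have hi : i < 1782 := hi
  rcases Nat.lt_or_ge i 137 with h0 | h0
  · exact allR_spec _ (0 : ℕ) (137 : ℕ) wk10_0 i (by omega) (by omega)
  rcases Nat.lt_or_ge i 274 with h1 | h1
  · exact allR_spec _ (137 : ℕ) (137 : ℕ) wk10_1 i (by omega) (by omega)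
  rcases Nat.lt_or_ge i 411 with h2 | h2
  · exact allR_spec _ (274 : ℕ) (137 : ℕ) wk10_2 i (by omega) (by omega)
  rcases Nat.lt_or_ge i 548 with h3 | h3
  · exact allR_spec _ (411 : ℕ) (137 : ℕ) wk10_3 i (by omega) (by omega)
  rcases Nat.lt_or_ge i 685 with h4 | h4
  · exact allR_spec _ (548 : ℕ) (137 : ℕ) wk10_4 i (by omega) (by omega)
  rcases Nat.lt_or_ge i 822 with h5 | h5
  · exact allR_spec _ (685 : ℕ) (137 : ℕ) wk10_5 i (by omega) (by omega)
  rcases Nat.lt_or_ge i 959 with h6 | h6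
  · exact allR_spec _ (822 : ℕ) (137 : ℕ) wk10_6 i (by omega) (by omega)
  rcases Nat.lt_or_ge i 1096 with h7 | h7
  · exact allR_spec _ (959 : ℕ) (137 : ℕ) wk10_7 i (by omega) (by omega)
  rcases Nat.lt_or_ge i 1233 with h8 | h8
  · exact allR_spec _ (1096 : ℕ) (137 : ℕ) wk10_8 i (by omega) (by omega)
  rcases Nat.lt_or_ge i 1370 with h9 | h9
  · exact allR_spec _ (1233 : ℕ) (137 : ℕ) wk10_9 i (by omega) (by omega)
  rcases Nat.lt_or_ge i 1507 with h10 | h10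
  · exact allR_spec _ (1370 : ℕ) (137 : ℕ) wk10_10 i (by omega) (by omega)
  rcases Nat.lt_or_ge i 1644 with h11 | h11
  · exact allR_spec _ (1507 : ℕ) (137 : ℕ) wk10_11 i (by omega) (by omega)
  rcases Nat.lt_or_ge i 1781 with h12 | h12
  · exact allR_spec _ (1644 : ℕ) (137 : ℕ) wk10_12 i (by omega) (by omega)
  exact allR_spec _ (1781 : ℕ) (1 : ℕ) wk10_13 i (by omega) (by omega)
theorem wk11 : allR (OT.ckEqW [X17, X0, X16, X14, X17, X14, X1, X14, X1, X1, X17, X15, X17] [X22]) (nat_lit 0) (nat_lit 1782) = true := by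
  apply allR_of_forall
  intro i hi
  have hi : i < 1782 := hi
  rcases Nat.lt_or_ge i 127 with h0 | h0
  · exact allR_spec _ (0 : ℕ) (127 : ℕ) wk11_0 i (by omega) (by omega)
  rcases Nat.lt_or_ge i 254 with h1 | h1
  · exact allR_spec _ (127 : ℕ) (127 : ℕ) wk11_1 i (by omega) (by omega)
  rcases Nat.lt_or_ge i 381 with h2 | h2
  · exact allR_spec _ (254 : ℕ) (127 : ℕ) wk11_2 i (by omega) (by omega)
  rcases Nat.lt_or_ge i 508 with h3 | h3
  · exact allR_spec _ (381 : ℕ) (127 : ℕ) wk11_3 i (by omega) (by omega)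
  rcases Nat.lt_or_ge i 635 with h4 | h4
  · exact allR_spec _ (508 : ℕ) (127 : ℕ) wk11_4 i (by omega) (by omega)
  rcases Nat.lt_or_ge i 762 with h5 | h5
  · exact allR_spec _ (635 : ℕ) (127 : ℕ) wk11_5 i (by omega) (by omega)
  rcases Nat.lt_or_ge i 889 with h6 | h6
  · exact allR_spec _ (762 : ℕ) (127 : ℕ) wk11_6 i (by omega) (by omega)
  rcases Nat.lt_or_ge i 1016 with h7 | h7
  · exact allR_spec _ (889 : ℕ) (127 : ℕ) wk11_7 i (by omega) (by omega)
  rcases Nat.lt_or_ge i 1143 with h8 | h8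
  · exact allR_spec _ (1016 : ℕ) (127 : ℕ) wk11_8 i (by omega) (by omega)
  rcases Nat.lt_or_ge i 1270 with h9 | h9
  · exact allR_spec _ (1143 : ℕ) (127 : ℕ) wk11_9 i (by omega) (by omega)
  rcases Nat.lt_or_ge i 1397 with h10 | h10
  · exact allR_spec _ (1270 : ℕ) (127 : ℕ) wk11_10 i (by omega) (by omega)
  rcases Nat.lt_or_ge i 1524 with h11 | h11
  · exact allR_spec _ (1397 : ℕ) (127 : ℕ) wk11_11 i (by omega) (by omega)
  rcases Nat.lt_or_ge i 1651 with h12 | h12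
  · exact allR_spec _ (1524 : ℕ) (127 : ℕ) wk11_12 i (by omega) (by omega)
  rcases Nat.lt_or_ge i 1778 with h13 | h13
  · exact allR_spec _ (1651 : ℕ) (127 : ℕ) wk11_13 i (by omega) (by omega)
  exact allR_spec _ (1778 : ℕ) (4 : ℕ) wk11_14 i (by omega) (by omega)
theorem wk12 : allR (OT.ckEqW [X22, X22, X22, X21, X21, X22, X21, X21, X22, X20, X23, X20, X23, X23] [X24]) (nat_lit 0) (nat_lit 1782) = true := by
  apply allR_of_forall
  intro i hi
  have hi : i < 1782 := hi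
  rcases Nat.lt_or_ge i 118 with h0 | h0
  · exact allR_spec _ (0 : ℕ) (118 : ℕ) wk12_0 i (by omega) (by omega)
  rcases Nat.lt_or_ge i 236 with h1 | h1
  · exact allR_spec _ (118 : ℕ) (118 : ℕ) wk12_1 i (by omega) (by omega)
  rcases Nat.lt_or_ge i 354 with h2 | h2
  · exact allR_spec _ (236 : ℕ) (118 : ℕ) wk12_2 i (by omega) (by omega)
  rcases Nat.lt_or_ge i 472 with h3 | h3
  · exact allR_spec _ (354 : ℕ) (118 : ℕ) wk12_3 i (by omega) (by omega)
  rcases Nat.lt_or_ge i 590 with h4 | h4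
  · exact allR_spec _ (472 : ℕ) (118 : ℕ) wk12_4 i (by omega) (by omega)
  rcases Nat.lt_or_ge i 708 with h5 | h5
  · exact allR_spec _ (590 : ℕ) (118 : ℕ) wk12_5 i (by omega) (by omega)
  rcases Nat.lt_or_ge i 826 with h6 | h6
  · exact allR_spec _ (708 : ℕ) (118 : ℕ) wk12_6 i (by omega) (by omega)
  rcases Nat.lt_or_ge i 944 with h7 | h7
  · exact allR_spec _ (826 : ℕ) (118 : ℕ) wk12_7 i (by omega) (by omega)
  rcases Nat.lt_or_ge i 1062 with h8 | h8
  · exact allR_spec _ (944 : ℕ) (118 : ℕ) wk12_8 i (by omega) (by omega)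
  rcases Nat.lt_or_ge i 1180 with h9 | h9
  · exact allR_spec _ (1062 : ℕ) (118 : ℕ) wk12_9 i (by omega) (by omega)
  rcases Nat.lt_or_ge i 1298 with h10 | h10
  · exact allR_spec _ (1180 : ℕ) (118 : ℕ) wk12_10 i (by omega) (by omega)
  rcases Nat.lt_or_ge i 1416 with h11 | h11
  · exact allR_spec _ (1298 : ℕ) (118 : ℕ) wk12_11 i (by omega) (by omega)
  rcases Nat.lt_or_ge i 1534 with h12 | h12
  · exact allR_spec _ (1416 : ℕ) (118 : ℕ) wk12_12 i (by omega) (by omega)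
  rcases Nat.lt_or_ge i 1652 with h13 | h13
  · exact allR_spec _ (1534 : ℕ) (118 : ℕ) wk12_13 i (by omega) (by omega)
  rcases Nat.lt_or_ge i 1770 with h14 | h14
  · exact allR_spec _ (1652 : ℕ) (118 : ℕ) wk12_14 i (by omega) (by omega)
  exact allR_spec _ (1770 : ℕ) (12 : ℕ) wk12_15 i (by omega) (by omega)
theorem wk13 : allR (OT.ckEqW [X22, X20, X22, X20, X22, X21, X21, X23, X21, X22, X21] [X26]) (nat_lit 0) (nat_lit 1782) = true := by
  apply allR_of_forall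
  intro i hi
  have hi : i < 1782 := hi
  rcases Nat.lt_or_ge i 148 with h0 | h0
  · exact allR_spec _ (0 : ℕ) (148 : ℕ) wk13_0 i (by omega) (by omega)
  rcases Nat.lt_or_ge i 296 with h1 | h1
  · exact allR_spec _ (148 : ℕ) (148 : ℕ) wk13_1 i (by omega) (by omega)
  rcases Nat.lt_or_ge i 444 with h2 | h2
  · exact allR_spec _ (296 : ℕ) (148 : ℕ) wk13_2 i (by omega) (by omega)
  rcases Nat.lt_or_ge i 592 with h3 | h3
  · exact allR_spec _ (444 : ℕ) (148 : ℕ) wk13_3 i (by omega) (by omega)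
  rcases Nat.lt_or_ge i 740 with h4 | h4
  · exact allR_spec _ (592 : ℕ) (148 : ℕ) wk13_4 i (by omega) (by omega)
  rcases Nat.lt_or_ge i 888 with h5 | h5
  · exact allR_spec _ (740 : ℕ) (148 : ℕ) wk13_5 i (by omega) (by omega)
  rcases Nat.lt_or_ge i 1036 with h6 | h6
  · exact allR_spec _ (888 : ℕ) (148 : ℕ) wk13_6 i (by omega) (by omega)
  rcases Nat.lt_or_ge i 1184 with h7 | h7
  · exact allR_spec _ (1036 : ℕ) (148 : ℕ) wk13_7 i (by omega) (by omega)
  rcases Nat.lt_or_ge i 1332 with h8 | h8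
  · exact allR_spec _ (1184 : ℕ) (148 : ℕ) wk13_8 i (by omega) (by omega)
  rcases Nat.lt_or_ge i 1480 with h9 | h9
  · exact allR_spec _ (1332 : ℕ) (148 : ℕ) wk13_9 i (by omega) (by omega)
  rcases Nat.lt_or_ge i 1628 with h10 | h10
  · exact allR_spec _ (1480 : ℕ) (148 : ℕ) wk13_10 i (by omega) (by omega)
  rcases Nat.lt_or_ge i 1776 with h11 | h11
  · exact allR_spec _ (1628 : ℕ) (148 : ℕ) wk13_11 i (by omega) (by omega)
  exact allR_spec _ (1776 : ℕ) (6 : ℕ) wk13_12 i (by omega) (by omega)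
theorem wk14 : allR (OT.ckEqW [X26, X24, X26, X26, X26, X25, X25, X25, X27, X24] [X28]) (nat_lit 0) (nat_lit 1782) = true := by
  apply allR_of_forall
  intro i hi
  have hi : i < 1782 := hi
  rcases Nat.lt_or_ge i 162 with h0 | h0
  · exact allR_spec _ (0 : ℕ) (162 : ℕ) wk14_0 i (by omega) (by omega)
  rcases Nat.lt_or_ge i 324 with h1 | h1
  · exact allR_spec _ (162 : ℕ) (162 : ℕ) wk14_1 i (by omega) (by omega)
  rcases Nat.lt_or_ge i 486 with h2 | h2
  · exact allR_spec _ (324 : ℕ) (162 : ℕ) wk14_2 i (by omega) (by omega)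
  rcases Nat.lt_or_ge i 648 with h3 | h3
  · exact allR_spec _ (486 : ℕ) (162 : ℕ) wk14_3 i (by omega) (by omega)
  rcases Nat.lt_or_ge i 810 with h4 | h4
  · exact allR_spec _ (648 : ℕ) (162 : ℕ) wk14_4 i (by omega) (by omega)
  rcases Nat.lt_or_ge i 972 with h5 | h5
  · exact allR_spec _ (810 : ℕ) (162 : ℕ) wk14_5 i (by omega) (by omega)
  rcases Nat.lt_or_ge i 1134 with h6 | h6
  · exact allR_spec _ (972 : ℕ) (162 : ℕ) wk14_6 i (by omega) (by omega)
  rcases Nat.lt_or_ge i 1296 with h7 | h7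
  · exact allR_spec _ (1134 : ℕ) (162 : ℕ) wk14_7 i (by omega) (by omega)
  rcases Nat.lt_or_ge i 1458 with h8 | h8
  · exact allR_spec _ (1296 : ℕ) (162 : ℕ) wk14_8 i (by omega) (by omega)
  rcases Nat.lt_or_ge i 1620 with h9 | h9
  · exact allR_spec _ (1458 : ℕ) (162 : ℕ) wk14_9 i (by omega) (by omega)
  exact allR_spec _ (1620 : ℕ) (162 : ℕ) wk14_10 i (by omega) (by omega)
theorem wk15 : allR (OT.ckEqW [X26, X26, X26, X24, X26, X25, X25, X26, X25, X25] [X30]) (nat_lit 0) (nat_lit 1782) = true := by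
  apply allR_of_forall
  intro i hi
  have hi : i < 1782 := hi
  rcases Nat.lt_or_ge i 162 with h0 | h0
  · exact allR_spec _ (0 : ℕ) (162 : ℕ) wk15_0 i (by omega) (by omega)
  rcases Nat.lt_or_ge i 324 with h1 | h1
  · exact allR_spec _ (162 : ℕ) (162 : ℕ) wk15_1 i (by omega) (by omega)
  rcases Nat.lt_or_ge i 486 with h2 | h2
  · exact allR_spec _ (324 : ℕ) (162 : ℕ) wk15_2 i (by omega) (by omega)
  rcases Nat.lt_or_ge i 648 with h3 | h3
  · exact allR_spec _ (486 : ℕ) (162 : ℕ) wk15_3 i (by omega) (by omega)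
  rcases Nat.lt_or_ge i 810 with h4 | h4
  · exact allR_spec _ (648 : ℕ) (162 : ℕ) wk15_4 i (by omega) (by omega)
  rcases Nat.lt_or_ge i 972 with h5 | h5
  · exact allR_spec _ (810 : ℕ) (162 : ℕ) wk15_5 i (by omega) (by omega)
  rcases Nat.lt_or_ge i 1134 with h6 | h6
  · exact allR_spec _ (972 : ℕ) (162 : ℕ) wk15_6 i (by omega) (by omega)
  rcases Nat.lt_or_ge i 1296 with h7 | h7
  · exact allR_spec _ (1134 : ℕ) (162 : ℕ) wk15_7 i (by omega) (by omega)
  rcases Nat.lt_or_ge i 1458 with h8 | h8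
  · exact allR_spec _ (1296 : ℕ) (162 : ℕ) wk15_8 i (by omega) (by omega)
  rcases Nat.lt_or_ge i 1620 with h9 | h9
  · exact allR_spec _ (1458 : ℕ) (162 : ℕ) wk15_9 i (by omega) (by omega)
  exact allR_spec _ (1620 : ℕ) (162 : ℕ) wk15_10 i (by omega) (by omega)
theorem wk16 : allR (OT.ckEqW [X14, X17, X1, X15, X1, X16, X15, X1] [X32]) (nat_lit 0) (nat_lit 1782) = true := by
  apply allR_of_forall
  intro i hi
  have hi : i < 1782 := hi
  rcases Nat.lt_or_ge i 198 with h0 | h0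
  · exact allR_spec _ (0 : ℕ) (198 : ℕ) wk16_0 i (by omega) (by omega)
  rcases Nat.lt_or_ge i 396 with h1 | h1
  · exact allR_spec _ (198 : ℕ) (198 : ℕ) wk16_1 i (by omega) (by omega)
  rcases Nat.lt_or_ge i 594 with h2 | h2
  · exact allR_spec _ (396 : ℕ) (198 : ℕ) wk16_2 i (by omega) (by omega)
  rcases Nat.lt_or_ge i 792 with h3 | h3
  · exact allR_spec _ (594 : ℕ) (198 : ℕ) wk16_3 i (by omega) (by omega)
  rcases Nat.lt_or_ge i 990 with h4 | h4
  · exact allR_spec _ (792 : ℕ) (198 : ℕ) wk16_4 i (by omega) (by omega)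
  rcases Nat.lt_or_ge i 1188 with h5 | h5
  · exact allR_spec _ (990 : ℕ) (198 : ℕ) wk16_5 i (by omega) (by omega)
  rcases Nat.lt_or_ge i 1386 with h6 | h6
  · exact allR_spec _ (1188 : ℕ) (198 : ℕ) wk16_6 i (by omega) (by omega)
  rcases Nat.lt_or_ge i 1584 with h7 | h7
  · exact allR_spec _ (1386 : ℕ) (198 : ℕ) wk16_7 i (by omega) (by omega)
  exact allR_spec _ (1584 : ℕ) (198 : ℕ) wk16_8 i (by omega) (by omega)
theorem wk17 : allR (OT.ckEqW [X16, X14, X1, X17, X0, X16, X15, X15] [X34]) (nat_lit 0) (nat_lit 1782) = true := by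
  apply allR_of_forall
  intro i hi
  have hi : i < 1782 := hi
  rcases Nat.lt_or_ge i 198 with h0 | h0
  · exact allR_spec _ (0 : ℕ) (198 : ℕ) wk17_0 i (by omega) (by omega)
  rcases Nat.lt_or_ge i 396 with h1 | h1
  · exact allR_spec _ (198 : ℕ) (198 : ℕ) wk17_1 i (by omega) (by omega)
  rcases Nat.lt_or_ge i 594 with h2 | h2
  · exact allR_spec _ (396 : ℕ) (198 : ℕ) wk17_2 i (by omega) (by omega)
  rcases Nat.lt_or_ge i 792 with h3 | h3
  · exact allR_spec _ (594 : ℕ) (198 : ℕ) wk17_3 i (by omega) (by omega)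
  rcases Nat.lt_or_ge i 990 with h4 | h4
  · exact allR_spec _ (792 : ℕ) (198 : ℕ) wk17_4 i (by omega) (by omega)
  rcases Nat.lt_or_ge i 1188 with h5 | h5
  · exact allR_spec _ (990 : ℕ) (198 : ℕ) wk17_5 i (by omega) (by omega)
  rcases Nat.lt_or_ge i 1386 with h6 | h6
  · exact allR_spec _ (1188 : ℕ) (198 : ℕ) wk17_6 i (by omega) (by omega)
  rcases Nat.lt_or_ge i 1584 with h7 | h7
  · exact allR_spec _ (1386 : ℕ) (198 : ℕ) wk17_7 i (by omega) (by omega)
  exact allR_spec _ (1584 : ℕ) (198 : ℕ) wk17_8 i (by omega) (by omega)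
theorem wk18 : allR (OT.ckEqW [X35, X33, X33, X35, X33, X33, X33, X33, X35, X35, X35, X33] [X36]) (nat_lit 0) (nat_lit 1782) = true := by
  apply allR_of_forall
  intro i hi
  have hi : i < 1782 := hi
  rcases Nat.lt_or_ge i 137 with h0 | h0
  · exact allR_spec _ (0 : ℕ) (137 : ℕ) wk18_0 i (by omega) (by omega)
  rcases Nat.lt_or_ge i 274 with h1 | h1
  · exact allR_spec _ (137 : ℕ) (137 : ℕ) wk18_1 i (by omega) (by omega)
  rcases Nat.lt_or_ge i 411 with h2 | h2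
  · exact allR_spec _ (274 : ℕ) (137 : ℕ) wk18_2 i (by omega) (by omega)
  rcases Nat.lt_or_ge i 548 with h3 | h3
  · exact allR_spec _ (411 : ℕ) (137 : ℕ) wk18_3 i (by omega) (by omega)
  rcases Nat.lt_or_ge i 685 with h4 | h4
  · exact allR_spec _ (548 : ℕ) (137 : ℕ) wk18_4 i (by omega) (by omega)
  rcases Nat.lt_or_ge i 822 with h5 | h5
  · exact allR_spec _ (685 : ℕ) (137 : ℕ) wk18_5 i (by omega) (by omega)
  rcases Nat.lt_or_ge i 959 with h6 | h6
  · exact allR_spec _ (822 : ℕ) (137 : ℕ) wk18_6 i (by omega) (by omega)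
  rcases Nat.lt_or_ge i 1096 with h7 | h7
  · exact allR_spec _ (959 : ℕ) (137 : ℕ) wk18_7 i (by omega) (by omega)
  rcases Nat.lt_or_ge i 1233 with h8 | h8
  · exact allR_spec _ (1096 : ℕ) (137 : ℕ) wk18_8 i (by omega) (by omega)
  rcases Nat.lt_or_ge i 1370 with h9 | h9
  · exact allR_spec _ (1233 : ℕ) (137 : ℕ) wk18_9 i (by omega) (by omega)
  rcases Nat.lt_or_ge i 1507 with h10 | h10
  · exact allR_spec _ (1370 : ℕ) (137 : ℕ) wk18_10 i (by omega) (by omega)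
  rcases Nat.lt_or_ge i 1644 with h11 | h11
  · exact allR_spec _ (1507 : ℕ) (137 : ℕ) wk18_11 i (by omega) (by omega)
  rcases Nat.lt_or_ge i 1781 with h12 | h12
  · exact allR_spec _ (1644 : ℕ) (137 : ℕ) wk18_12 i (by omega) (by omega)
  exact allR_spec _ (1781 : ℕ) (1 : ℕ) wk18_13 i (by omega) (by omega)
theorem wk19 : allR (OT.ckEqW [X33, X35, X32, X34, X33, X33] [X38]) (nat_lit 0) (nat_lit 1782) = true := by
  apply allR_of_forall
  intro i hi
  have hi : i < 1782 := hi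
  rcases Nat.lt_or_ge i 254 with h0 | h0
  · exact allR_spec _ (0 : ℕ) (254 : ℕ) wk19_0 i (by omega) (by omega)
  rcases Nat.lt_or_ge i 508 with h1 | h1
  · exact allR_spec _ (254 : ℕ) (254 : ℕ) wk19_1 i (by omega) (by omega)
  rcases Nat.lt_or_ge i 762 with h2 | h2
  · exact allR_spec _ (508 : ℕ) (254 : ℕ) wk19_2 i (by omega) (by omega)
  rcases Nat.lt_or_ge i 1016 with h3 | h3
  · exact allR_spec _ (762 : ℕ) (254 : ℕ) wk19_3 i (by omega) (by omega)
  rcases Nat.lt_or_ge i 1270 with h4 | h4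
  · exact allR_spec _ (1016 : ℕ) (254 : ℕ) wk19_4 i (by omega) (by omega)
  rcases Nat.lt_or_ge i 1524 with h5 | h5
  · exact allR_spec _ (1270 : ℕ) (254 : ℕ) wk19_5 i (by omega) (by omega)
  rcases Nat.lt_or_ge i 1778 with h6 | h6
  · exact allR_spec _ (1524 : ℕ) (254 : ℕ) wk19_6 i (by omega) (by omega)
  exact allR_spec _ (1778 : ℕ) (4 : ℕ) wk19_7 i (by omega) (by omega)
theorem wk20 : allR (OT.ckEqW [X37, X37, X38, X38, X38, X36] [X40]) (nat_lit 0) (nat_lit 1782) = true := by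
  apply allR_of_forall
  intro i hi
  have hi : i < 1782 := hi
  rcases Nat.lt_or_ge i 254 with h0 | h0
  · exact allR_spec _ (0 : ℕ) (254 : ℕ) wk20_0 i (by omega) (by omega)
  rcases Nat.lt_or_ge i 508 with h1 | h1
  · exact allR_spec _ (254 : ℕ) (254 : ℕ) wk20_1 i (by omega) (by omega)
  rcases Nat.lt_or_ge i 762 with h2 | h2
  · exact allR_spec _ (508 : ℕ) (254 : ℕ) wk20_2 i (by omega) (by omega)
  rcases Nat.lt_or_ge i 1016 with h3 | h3
  · exact allR_spec _ (762 : ℕ) (254 : ℕ) wk20_3 i (by omega) (by omega)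
  rcases Nat.lt_or_ge i 1270 with h4 | h4
  · exact allR_spec _ (1016 : ℕ) (254 : ℕ) wk20_4 i (by omega) (by omega)
  rcases Nat.lt_or_ge i 1524 with h5 | h5
  · exact allR_spec _ (1270 : ℕ) (254 : ℕ) wk20_5 i (by omega) (by omega)
  rcases Nat.lt_or_ge i 1778 with h6 | h6
  · exact allR_spec _ (1524 : ℕ) (254 : ℕ) wk20_6 i (by omega) (by omega)
  exact allR_spec _ (1778 : ℕ) (4 : ℕ) wk20_7 i (by omega) (by omega)
theorem wk21 : allR (OT.ckEqW [X37, X39, X37, X37, X37, X39, X36, X39, X37, X38, X37] [X42]) (nat_lit 0) (nat_lit 1782) = true := by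
  apply allR_of_forall
  intro i hi
  have hi : i < 1782 := hi
  rcases Nat.lt_or_ge i 148 with h0 | h0
  · exact allR_spec _ (0 : ℕ) (148 : ℕ) wk21_0 i (by omega) (by omega)
  rcases Nat.lt_or_ge i 296 with h1 | h1
  · exact allR_spec _ (148 : ℕ) (148 : ℕ) wk21_1 i (by omega) (by omega)
  rcases Nat.lt_or_ge i 444 with h2 | h2
  · exact allR_spec _ (296 : ℕ) (148 : ℕ) wk21_2 i (by omega) (by omega)
  rcases Nat.lt_or_ge i 592 with h3 | h3
  · exact allR_spec _ (444 : ℕ) (148 : ℕ) wk21_3 i (by omega) (by omega)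
  rcases Nat.lt_or_ge i 740 with h4 | h4
  · exact allR_spec _ (592 : ℕ) (148 : ℕ) wk21_4 i (by omega) (by omega)
  rcases Nat.lt_or_ge i 888 with h5 | h5
  · exact allR_spec _ (740 : ℕ) (148 : ℕ) wk21_5 i (by omega) (by omega)
  rcases Nat.lt_or_ge i 1036 with h6 | h6
  · exact allR_spec _ (888 : ℕ) (148 : ℕ) wk21_6 i (by omega) (by omega)
  rcases Nat.lt_or_ge i 1184 with h7 | h7
  · exact allR_spec _ (1036 : ℕ) (148 : ℕ) wk21_7 i (by omega) (by omega)
  rcases Nat.lt_or_ge i 1332 with h8 | h8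
  · exact allR_spec _ (1184 : ℕ) (148 : ℕ) wk21_8 i (by omega) (by omega)
  rcases Nat.lt_or_ge i 1480 with h9 | h9
  · exact allR_spec _ (1332 : ℕ) (148 : ℕ) wk21_9 i (by omega) (by omega)
  rcases Nat.lt_or_ge i 1628 with h10 | h10
  · exact allR_spec _ (1480 : ℕ) (148 : ℕ) wk21_10 i (by omega) (by omega)
  rcases Nat.lt_or_ge i 1776 with h11 | h11
  · exact allR_spec _ (1628 : ℕ) (148 : ℕ) wk21_11 i (by omega) (by omega)
  exact allR_spec _ (1776 : ℕ) (6 : ℕ) wk21_12 i (by omega) (by omega)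
def bws : List (List Nat) := [[1, 2, 3, 4, 6, 5], [2, 1, 5, 3, 1, 4, 8, 6, 7], [3, 4, 0, 1, 0, 2, 0, 1, 2], [11, 11, 10, 12, 9, 12, 9, 11, 10], [11, 9, 9, 12], [13, 16, 13, 16, 13, 15, 14, 15, 13, 13, 16, 13, 15, 14, 16, 16, 16, 16, 16, 13, 13, 15, 14, 15], [15, 15, 14, 15, 13, 15], [19, 17, 13, 16, 13, 13, 16, 13, 13, 16, 13, 16, 12, 10, 12, 10, 12, 9, 12, 10, 8, 8, 3, 2, 8, 0, 2], [17, 17, 19, 18, 18, 14, 15, 14, 16, 13, 16, 13, 12, 9, 11, 10, 12, 12, 6, 7, 2, 4, 8, 0, 2, 8], [21, 21], [24, 22, 8, 24, 21, 8, 24, 21, 7, 24, 22, 24], [24, 7, 23, 21, 24, 21, 8, 21, 8, 8, 24, 22, 24], [29, 29, 29, 28, 28, 29, 28, 28, 29, 27, 30, 27, 30, 30], [29, 27, 29, 27, 29, 28, 28, 30, 28, 29, 28], [33, 31, 33, 33, 33, 32, 32, 32, 34, 31], [33, 33, 33, 31, 33, 32, 32, 33, 32, 32], [21, 24, 8, 22, 8, 23, 22, 8], [23, 21, 8, 24, 7, 23, 22, 22], [42, 40, 40, 42, 40, 40, 40, 40, 42, 42, 42, 40], [40, 42, 39, 41, 40, 40], [44, 44, 45,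 45, 45, 43], [44, 46, 44, 44, 44, 46, 43, 46, 44, 45, 44]]
noncomputable def T' : Nat → Nat → Nat := fun l => (@Nat.rec (fun _ => Nat → Nat) T0 (fun l _ => (@Nat.rec (fun _ => Nat → Nat) T1 (fun l _ => (@Nat.rec (fun _ => Nat → Nat) T2 (fun l _ => (@Nat.rec (fun _ => Nat → Nat) T3 (fun l _ => (@Nat.rec (fun _ => Nat → Nat) T4 (fun l _ => (@Nat.rec (fun _ => Nat → Nat) T5 (fun l _ => (@Nat.rec (fun _ => Nat → Nat) T6 (fun l _ => (@Nat.rec (fun _ => Nat → Nat) X0 (fun l _ => (@Nat.rec (fun _ => Nat → Nat) X1 (fun l _ => (@Nat.rec (fun _ => Nat → Nat) X2 (fun l _ => (@Nat.rec (fun _ => Nat → Nat) X3 (fun l _ => (@Nat.rec (fun _ => Nat → Nat) X4 (fun l _ => (@Nat.rec (fun _ => Nat → Nat) X5 (fun l _ => (@Nat.rec (fun _ => Nat → Nat) X6 (fun l _ => (@Nat.rec (fun _ => Nat → Nat) X7 (fun l _ => (@Nat.rec (fun _ => Nat → Nat) X8 (fun l _ => (@Nat.rec (fun _ => Nat → Nat) X9 (fun l _ => (@Nat.rec (fun _ => Nat → Nat) X10 (fun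 l _ => (@Nat.rec (fun _ => Nat → Nat) X11 (fun l _ => (@Nat.rec (fun _ => Nat → Nat) X12 (fun l _ => (@Nat.rec (fun _ => Nat → Nat) X13 (fun l _ => (@Nat.rec (fun _ => Nat → Nat) X14 (fun l _ => (@Nat.rec (fun _ => Nat → Nat) X15 (fun l _ => (@Nat.rec (fun _ => Nat → Nat) X16 (fun l _ => (@Nat.rec (fun _ => Nat → Nat) X17 (fun l _ => (@Nat.rec (fun _ => Nat → Nat) X18 (fun l _ => (@Nat.rec (fun _ => Nat → Nat) X19 (fun l _ => (@Nat.rec (fun _ => Nat → Nat) X20 (fun l _ => (@Nat.rec (fun _ => Nat → Nat) X21 (fun l _ => (@Nat.rec (fun _ => Nat → Nat) X22 (fun l _ => (@Nat.rec (fun _ => Nat → Nat) X23 (fun l _ => (@Nat.rec (fun _ => Nat → Nat) X24 (fun l _ => (@Nat.rec (fun _ => Nat → Nat) X25 (fun l _ => (@Nat.rec (fun _ => Nat → Nat) X26 (fun l _ => (@Nat.rec (fun _ => Nat → Nat) X27 (fun l _ => (@Nat.rec (fun _ => Nat → Nat) X28 (fun l _ => (@Nat.rec (fun _ => Nat → Nat) X29 (fun l _ => (@Nat.rec (fun _ => Nat → Nat)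 X30 (fun l _ => (@Nat.rec (fun _ => Nat → Nat) X31 (fun l _ => (@Nat.rec (fun _ => Nat → Nat) X32 (fun l _ => (@Nat.rec (fun _ => Nat → Nat) X33 (fun l _ => (@Nat.rec (fun _ => Nat → Nat) X34 (fun l _ => (@Nat.rec (fun _ => Nat → Nat) X35 (fun l _ => (@Nat.rec (fun _ => Nat → Nat) X36 (fun l _ => (@Nat.rec (fun _ => Nat → Nat) X37 (fun l _ => (@Nat.rec (fun _ => Nat → Nat) X38 (fun l _ => (@Nat.rec (fun _ => Nat → Nat) X39 (fun l _ => (@Nat.rec (fun _ => Nat → Nat) X40 (fun l _ => (@Nat.rec (fun _ => Nat → Nat) X41 (fun l _ => (@Nat.rec (fun _ => Nat → Nat) X42 (fun l _ => X43) l)) l)) l)) l)) l)) l)) l)) l)) l)) l)) l)) l)) l)) l)) l)) l)) l)) l)) l)) l)) l)) l)) l)) l)) l)) l)) l)) l)) l)) l)) l)) l)) l)) l)) l)) l)) l)) l)) l)) l)) l)) l)) l)) l)) l)) l)) l)) l)) l)) l)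
def inv' : Nat → Nat := fun l => [0, 1, 2, 3, 4, 5, 6, 8, 7, 10, 9, 12, 11, 14, 13, 16, 15, 18, 17, 20, 19, 22, 21, 24, 23, 26, 25, 28, 27, 30, 29, 32, 31, 34, 33, 36, 35, 38, 37, 40, 39, 42, 41, 44, 43, 46, 45, 48, 47, 50, 49].getD l 0

theorem hTT : ∀ l < 7, T' l = Cfsg.Agent.H8.Suzt.T l := by
  intro l hl
  interval_cases l <;> rfl

theorem hii : ∀ l < 7, inv' l = Cfsg.Agent.H8.Suzt.inv l := by
  intro l hl
  interval_cases l <;> rfl

theorem h1 : ∀ l, 7 ≤ l → l < 51 → inv' l < 51 ∧ inv' (inv' l) = l := by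
  intro l h1 h2
  interval_cases l <;> decide

theorem h2 : ∀ l, 7 ≤ l → l < 51 → ∀ i < 1782, T' l i < 1782 ∧ T' (inv' l) (T' l i) = i := by
  intro l h1 h2 i hi
  interval_cases l
  · exact ckPerm_sound _ _ _ _ (allR_zero _ _ pk0 i hi)
  · exact ckPerm_sound _ _ _ _ (allR_zero _ _ pk1 i hi)
  · exact ckPerm_sound _ _ _ _ (allR_zero _ _ pk2 i hi)
  · exact ckPerm_sound _ _ _ _ (allR_zero _ _ pk3 i hi)
  · exact ckPerm_sound _ _ _ _ (allR_zero _ _ pk4 i hi)
  · exact ckPerm_sound _ _ _ _ (allR_zero _ _ pk5 i hi)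
  · exact ckPerm_sound _ _ _ _ (allR_zero _ _ pk6 i hi)
  · exact ckPerm_sound _ _ _ _ (allR_zero _ _ pk7 i hi)
  · exact ckPerm_sound _ _ _ _ (allR_zero _ _ pk8 i hi)
  · exact ckPerm_sound _ _ _ _ (allR_zero _ _ pk9 i hi)
  · exact ckPerm_sound _ _ _ _ (allR_zero _ _ pk10 i hi)
  · exact ckPerm_sound _ _ _ _ (allR_zero _ _ pk11 i hi)
  · exact ckPerm_sound _ _ _ _ (allR_zero _ _ pk12 i hi)
  · exact ckPerm_sound _ _ _ _ (allR_zero _ _ pk13 i hi)
  · exact ckPerm_sound _ _ _ _ (allR_zero _ _ pk14 i hi)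
  · exact ckPerm_sound _ _ _ _ (allR_zero _ _ pk15 i hi)
  · exact ckPerm_sound _ _ _ _ (allR_zero _ _ pk16 i hi)
  · exact ckPerm_sound _ _ _ _ (allR_zero _ _ pk17 i hi)
  · exact ckPerm_sound _ _ _ _ (allR_zero _ _ pk18 i hi)
  · exact ckPerm_sound _ _ _ _ (allR_zero _ _ pk19 i hi)
  · exact ckPerm_sound _ _ _ _ (allR_zero _ _ pk20 i hi)
  · exact ckPerm_sound _ _ _ _ (allR_zero _ _ pk21 i hi)
  · exact ckPerm_sound _ _ _ _ (allR_zero _ _ pk22 i hi)
  · exact ckPerm_sound _ _ _ _ (allR_zero _ _ pk23 i hi)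
  · exact ckPerm_sound _ _ _ _ (allR_zero _ _ pk24 i hi)
  · exact ckPerm_sound _ _ _ _ (allR_zero _ _ pk25 i hi)
  · exact ckPerm_sound _ _ _ _ (allR_zero _ _ pk26 i hi)
  · exact ckPerm_sound _ _ _ _ (allR_zero _ _ pk27 i hi)
  · exact ckPerm_sound _ _ _ _ (allR_zero _ _ pk28 i hi)
  · exact ckPerm_sound _ _ _ _ (allR_zero _ _ pk29 i hi)
  · exact ckPerm_sound _ _ _ _ (allR_zero _ _ pk30 i hi)
  · exact ckPerm_sound _ _ _ _ (allR_zero _ _ pk31 i hi)
  · exact ckPerm_sound _ _ _ _ (allR_zero _ _ pk32 i hi)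
  · exact ckPerm_sound _ _ _ _ (allR_zero _ _ pk33 i hi)
  · exact ckPerm_sound _ _ _ _ (allR_zero _ _ pk34 i hi)
  · exact ckPerm_sound _ _ _ _ (allR_zero _ _ pk35 i hi)
  · exact ckPerm_sound _ _ _ _ (allR_zero _ _ pk36 i hi)
  · exact ckPerm_sound _ _ _ _ (allR_zero _ _ pk37 i hi)
  · exact ckPerm_sound _ _ _ _ (allR_zero _ _ pk38 i hi)
  · exact ckPerm_sound _ _ _ _ (allR_zero _ _ pk39 i hi)
  · exact ckPerm_sound _ _ _ _ (allR_zero _ _ pk40 i hi)
  · exact ckPerm_sound _ _ _ _ (allR_zero _ _ pk41 i hi)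
  · exact ckPerm_sound _ _ _ _ (allR_zero _ _ pk42 i hi)
  · exact ckPerm_sound _ _ _ _ (allR_zero _ _ pk43 i hi)

theorem tok : TableOK 1782 51 T' inv' :=
  OT.tableOK_ext Cfsg.Agent.H8.Suzt.tok (by decide) hTT hii h1 h2

theorem hwb : ∀ i < bws.length, (∀ l ∈ bws.getD i [], l < 7 + 2 * i) ∧ inv' (7 + 2 * i) = 7 + 2 * i + 1 ∧
    ∀ j < 1782, trN T' (bws.getD i []) j = T' (7 + 2 * i) j := by
  intro i hi
  have hl : bws.length = 22 := by decide
  rw [hl] at hi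
  interval_cases i
  · exact ⟨by decide, by decide, fun j hj => OT.ckEqW_sound (T := T') [1, 2, 3, 4, 6, 5] [7] j (allR_zero _ _ wk0 j hj)⟩
  · exact ⟨by decide, by decide, fun j hj => OT.ckEqW_sound (T := T') [2, 1, 5, 3, 1, 4, 8, 6, 7] [9] j (allR_zero _ _ wk1 j hj)⟩
  · exact ⟨by decide, by decide, fun j hj => OT.ckEqW_sound (T := T') [3, 4, 0, 1, 0, 2, 0, 1, 2] [11] j (allR_zero _ _ wk2 j hj)⟩
  · exact ⟨by decide, by decide, fun j hj => OT.ckEqW_sound (T := T') [11, 11, 10, 12, 9, 12, 9, 11, 10] [13] j (allR_zero _ _ wk3 j hj)⟩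
  · exact ⟨by decide, by decide, fun j hj => OT.ckEqW_sound (T := T') [11, 9, 9, 12] [15] j (allR_zero _ _ wk4 j hj)⟩
  · exact ⟨by decide, by decide, fun j hj => OT.ckEqW_sound (T := T') [13, 16, 13, 16, 13, 15, 14, 15, 13, 13, 16, 13, 15, 14, 16, 16, 16, 16, 16, 13, 13, 15, 14, 15] [17] j (allR_zero _ _ wk5 j hj)⟩
  · exact ⟨by decide, by decide, fun j hj => OT.ckEqW_sound (T := T') [15, 15, 14, 15, 13, 15] [19] j (allR_zero _ _ wk6 j hj)⟩
  · exact ⟨by decide, by decide, fun j hj => OT.ckEqW_sound (T := T') [19, 17, 13, 16, 13, 13, 16, 13, 13, 16, 13, 16, 12, 10, 12, 10, 12, 9, 12, 10, 8, 8, 3, 2, 8, 0, 2] [21] j (allR_zero _ _ wk7 j hj)⟩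
  · exact ⟨by decide, by decide, fun j hj => OT.ckEqW_sound (T := T') [17, 17, 19, 18, 18, 14, 15, 14, 16, 13, 16, 13, 12, 9, 11, 10, 12, 12, 6, 7, 2, 4, 8, 0, 2, 8] [23] j (allR_zero _ _ wk8 j hj)⟩
  · exact ⟨by decide, by decide, fun j hj => OT.ckEqW_sound (T := T') [21, 21] [25] j (allR_zero _ _ wk9 j hj)⟩
  · exact ⟨by decide, by decide, fun j hj => OT.ckEqW_sound (T := T') [24, 22, 8, 24, 21, 8, 24, 21, 7, 24, 22, 24] [27] j (allR_zero _ _ wk10 j hj)⟩
  · exact ⟨by decide, by decide, fun j hj => OT.ckEqW_sound (T := T') [24, 7, 23, 21, 24, 21, 8, 21, 8, 8, 24, 22, 24] [29] j (allR_zero _ _ wk11 j hj)⟩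
  · exact ⟨by decide, by decide, fun j hj => OT.ckEqW_sound (T := T') [29, 29, 29, 28, 28, 29, 28, 28, 29, 27, 30, 27, 30, 30] [31] j (allR_zero _ _ wk12 j hj)⟩
  · exact ⟨by decide, by decide, fun j hj => OT.ckEqW_sound (T := T') [29, 27, 29, 27, 29, 28, 28, 30, 28, 29, 28] [33] j (allR_zero _ _ wk13 j hj)⟩
  · exact ⟨by decide, by decide, fun j hj => OT.ckEqW_sound (T := T') [33, 31, 33, 33, 33, 32, 32, 32, 34, 31] [35] j (allR_zero _ _ wk14 j hj)⟩
  · exact ⟨by decide, by decide, fun j hj => OT.ckEqW_sound (T := T') [33, 33, 33, 31, 33, 32, 32, 33, 32, 32] [37] j (allR_zero _ _ wk15 j hj)⟩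
  · exact ⟨by decide, by decide, fun j hj => OT.ckEqW_sound (T := T') [21, 24, 8, 22, 8, 23, 22, 8] [39] j (allR_zero _ _ wk16 j hj)⟩
  · exact ⟨by decide, by decide, fun j hj => OT.ckEqW_sound (T := T') [23, 21, 8, 24, 7, 23, 22, 22] [41] j (allR_zero _ _ wk17 j hj)⟩
  · exact ⟨by decide, by decide, fun j hj => OT.ckEqW_sound (T := T') [42, 40, 40, 42, 40, 40, 40, 40, 42, 42, 42, 40] [43] j (allR_zero _ _ wk18 j hj)⟩
  · exact ⟨by decide, by decide, fun j hj => OT.ckEqW_sound (T := T') [40, 42, 39, 41, 40, 40] [45] j (allR_zero _ _ wk19 j hj)⟩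
  · exact ⟨by decide, by decide, fun j hj => OT.ckEqW_sound (T := T') [44, 44, 45, 45, 45, 43] [47] j (allR_zero _ _ wk20 j hj)⟩
  · exact ⟨by decide, by decide, fun j hj => OT.ckEqW_sound (T := T') [44, 46, 44, 44, 44, 46, 43, 46, 44, 45, 44] [49] j (allR_zero _ _ wk21 j hj)⟩

end Cfsg.Agent.H8.SuzO
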