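import Cfsg.Agent.H8.T.Co2Ca

set_option Elab.async false
set_option autoImplicit false
set_option linter.all false
set_option maxRecDepth 100000
set_option maxHeartbeats 400000

namespace Cfsg.Agent.H8.Co2C
open Cfsg.Agent.H8.LtC2 (T0 T1 T2)

theorem pk0_0 : allR (ckPerm (nat_lit 4600) X0 X1) (nat_lit 0) (nat_lit 2300) = true := by decide +kernel
theorem pk0_1 : allR (ckPerm (nat_lit 4600) X0 X1) (nat_lit 2300) (nat_lit 2300) = true := by decide +kernel
theorem pk1_0 : allR (ckPerm (nat_lit 4600) X1 X0) (nat_lit 0) (nat_lit 2300) = true := by decide +kernel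
theorem pk1_1 : allR (ckPerm (nat_lit 4600) X1 X0) (nat_lit 2300) (nat_lit 2300) = true := by decide +kernel
theorem pk2_0 : allR (ckPerm (nat_lit 4600) X2 X3) (nat_lit 0) (nat_lit 2300) = true := by decide +kernel
theorem pk2_1 : allR (ckPerm (nat_lit 4600) X2 X3) (nat_lit 2300) (nat_lit 2300) = true := by decide +kernel
theorem pk3_0 : allR (ckPerm (nat_lit 4600) X3 X2) (nat_lit 0) (nat_lit 2300) = true := by decide +kernel
theorem pk3_1 : allR (ckPerm (nat_lit 4600) X3 X2) (nat_lit 2300) (nat_lit 2300) = true := by decide +kernel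
theorem pk4_0 : allR (ckPerm (nat_lit 4600) X4 X5) (nat_lit 0) (nat_lit 2300) = true := by decide +kernel
theorem pk4_1 : allR (ckPerm (nat_lit 4600) X4 X5) (nat_lit 2300) (nat_lit 2300) = true := by decide +kernel
theorem pk5_0 : allR (ckPerm (nat_lit 4600) X5 X4) (nat_lit 0) (nat_lit 2300) = true := by decide +kernel
theorem pk5_1 : allR (ckPerm (nat_lit 4600) X5 X4) (nat_lit 2300) (nat_lit 2300) = true := by decide +kernel
theorem pk6_0 : allR (ckPerm (nat_lit 4600) X6 X7) (nat_lit 0) (nat_lit 2300) = true := by decide +kernel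
theorem pk6_1 : allR (ckPerm (nat_lit 4600) X6 X7) (nat_lit 2300) (nat_lit 2300) = true := by decide +kernel
theorem pk7_0 : allR (ckPerm (nat_lit 4600) X7 X6) (nat_lit 0) (nat_lit 2300) = true := by decide +kernel
theorem pk7_1 : allR (ckPerm (nat_lit 4600) X7 X6) (nat_lit 2300) (nat_lit 2300) = true := by decide +kernel
theorem pk8_0 : allR (ckPerm (nat_lit 4600) X8 X9) (nat_lit 0) (nat_lit 2300) = true := by decide +kernel
theorem pk8_1 : allR (ckPerm (nat_lit 4600) X8 X9) (nat_lit 2300) (nat_lit 2300) = true := by decide +kernel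
theorem pk9_0 : allR (ckPerm (nat_lit 4600) X9 X8) (nat_lit 0) (nat_lit 2300) = true := by decide +kernel
theorem pk9_1 : allR (ckPerm (nat_lit 4600) X9 X8) (nat_lit 2300) (nat_lit 2300) = true := by decide +kernel
theorem pk10_0 : allR (ckPerm (nat_lit 4600) X10 X11) (nat_lit 0) (nat_lit 2300) = true := by decide +kernel
theorem pk10_1 : allR (ckPerm (nat_lit 4600) X10 X11) (nat_lit 2300) (nat_lit 2300) = true := by decide +kernel
theorem pk11_0 : allR (ckPerm (nat_lit 4600) X11 X10) (nat_lit 0) (nat_lit 2300) = true := by decide +kernel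
theorem pk11_1 : allR (ckPerm (nat_lit 4600) X11 X10) (nat_lit 2300) (nat_lit 2300) = true := by decide +kernel
theorem pk12_0 : allR (ckPerm (nat_lit 4600) X12 X13) (nat_lit 0) (nat_lit 2300) = true := by decide +kernel
theorem pk12_1 : allR (ckPerm (nat_lit 4600) X12 X13) (nat_lit 2300) (nat_lit 2300) = true := by decide +kernel
theorem pk13_0 : allR (ckPerm (nat_lit 4600) X13 X12) (nat_lit 0) (nat_lit 2300) = true := by decide +kernel
theorem pk13_1 : allR (ckPerm (nat_lit 4600) X13 X12) (nat_lit 2300) (nat_lit 2300) = true := by decide +kernel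
theorem pk14_0 : allR (ckPerm (nat_lit 4600) X14 X15) (nat_lit 0) (nat_lit 2300) = true := by decide +kernel
theorem pk14_1 : allR (ckPerm (nat_lit 4600) X14 X15) (nat_lit 2300) (nat_lit 2300) = true := by decide +kernel
theorem pk15_0 : allR (ckPerm (nat_lit 4600) X15 X14) (nat_lit 0) (nat_lit 2300) = true := by decide +kernel
theorem pk15_1 : allR (ckPerm (nat_lit 4600) X15 X14) (nat_lit 2300) (nat_lit 2300) = true := by decide +kernel
theorem pk16_0 : allR (ckPerm (nat_lit 4600) X16 X17) (nat_lit 0) (nat_lit 2300) = true := by decide +kernel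
theorem pk16_1 : allR (ckPerm (nat_lit 4600) X16 X17) (nat_lit 2300) (nat_lit 2300) = true := by decide +kernel
theorem pk17_0 : allR (ckPerm (nat_lit 4600) X17 X16) (nat_lit 0) (nat_lit 2300) = true := by decide +kernel
theorem pk17_1 : allR (ckPerm (nat_lit 4600) X17 X16) (nat_lit 2300) (nat_lit 2300) = true := by decide +kernel
theorem pk18_0 : allR (ckPerm (nat_lit 4600) X18 X19) (nat_lit 0) (nat_lit 2300) = true := by decide +kernel
theorem pk18_1 : allR (ckPerm (nat_lit 4600) X18 X19) (nat_lit 2300) (nat_lit 2300) = true := by decide +kernel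
theorem pk19_0 : allR (ckPerm (nat_lit 4600) X19 X18) (nat_lit 0) (nat_lit 2300) = true := by decide +kernel
theorem pk19_1 : allR (ckPerm (nat_lit 4600) X19 X18) (nat_lit 2300) (nat_lit 2300) = true := by decide +kernel
theorem pk20_0 : allR (ckPerm (nat_lit 4600) X20 X21) (nat_lit 0) (nat_lit 2300) = true := by decide +kernel
theorem pk20_1 : allR (ckPerm (nat_lit 4600) X20 X21) (nat_lit 2300) (nat_lit 2300) = true := by decide +kernel
theorem pk21_0 : allR (ckPerm (nat_lit 4600) X21 X20) (nat_lit 0) (nat_lit 2300) = true := by decide +kernel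
theorem pk21_1 : allR (ckPerm (nat_lit 4600) X21 X20) (nat_lit 2300) (nat_lit 2300) = true := by decide +kernel
theorem pk22_0 : allR (ckPerm (nat_lit 4600) X22 X23) (nat_lit 0) (nat_lit 2300) = true := by decide +kernel
theorem pk22_1 : allR (ckPerm (nat_lit 4600) X22 X23) (nat_lit 2300) (nat_lit 2300) = true := by decide +kernel
theorem pk23_0 : allR (ckPerm (nat_lit 4600) X23 X22) (nat_lit 0) (nat_lit 2300) = true := by decide +kernel
theorem pk23_1 : allR (ckPerm (nat_lit 4600) X23 X22) (nat_lit 2300) (nat_lit 2300) = true := by decide +kernel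
theorem pk24_0 : allR (ckPerm (nat_lit 4600) X24 X25) (nat_lit 0) (nat_lit 2300) = true := by decide +kernel
theorem pk24_1 : allR (ckPerm (nat_lit 4600) X24 X25) (nat_lit 2300) (nat_lit 2300) = true := by decide +kernel
theorem pk25_0 : allR (ckPerm (nat_lit 4600) X25 X24) (nat_lit 0) (nat_lit 2300) = true := by decide +kernel
theorem pk25_1 : allR (ckPerm (nat_lit 4600) X25 X24) (nat_lit 2300) (nat_lit 2300) = true := by decide +kernel
theorem pk26_0 : allR (ckPerm (nat_lit 4600) X26 X27) (nat_lit 0) (nat_lit 2300) = true := by decide +kernel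
theorem pk26_1 : allR (ckPerm (nat_lit 4600) X26 X27) (nat_lit 2300) (nat_lit 2300) = true := by decide +kernel
theorem pk27_0 : allR (ckPerm (nat_lit 4600) X27 X26) (nat_lit 0) (nat_lit 2300) = true := by decide +kernel
theorem pk27_1 : allR (ckPerm (nat_lit 4600) X27 X26) (nat_lit 2300) (nat_lit 2300) = true := by decide +kernel
theorem pk28_0 : allR (ckPerm (nat_lit 4600) X28 X29) (nat_lit 0) (nat_lit 2300) = true := by decide +kernel
theorem pk28_1 : allR (ckPerm (nat_lit 4600) X28 X29) (nat_lit 2300) (nat_lit 2300) = true := by decide +kernel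
theorem pk29_0 : allR (ckPerm (nat_lit 4600) X29 X28) (nat_lit 0) (nat_lit 2300) = true := by decide +kernel
theorem pk29_1 : allR (ckPerm (nat_lit 4600) X29 X28) (nat_lit 2300) (nat_lit 2300) = true := by decide +kernel
theorem pk30_0 : allR (ckPerm (nat_lit 4600) X30 X31) (nat_lit 0) (nat_lit 2300) = true := by decide +kernel
theorem pk30_1 : allR (ckPerm (nat_lit 4600) X30 X31) (nat_lit 2300) (nat_lit 2300) = true := by decide +kernel
theorem pk31_0 : allR (ckPerm (nat_lit 4600) X31 X30) (nat_lit 0) (nat_lit 2300) = true := by decide +kernel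
theorem pk31_1 : allR (ckPerm (nat_lit 4600) X31 X30) (nat_lit 2300) (nat_lit 2300) = true := by decide +kernel
theorem pk32_0 : allR (ckPerm (nat_lit 4600) X32 X33) (nat_lit 0) (nat_lit 2300) = true := by decide +kernel
theorem pk32_1 : allR (ckPerm (nat_lit 4600) X32 X33) (nat_lit 2300) (nat_lit 2300) = true := by decide +kernel
theorem pk33_0 : allR (ckPerm (nat_lit 4600) X33 X32) (nat_lit 0) (nat_lit 2300) = true := by decide +kernel
theorem pk33_1 : allR (ckPerm (nat_lit 4600) X33 X32) (nat_lit 2300) (nat_lit 2300) = true := by decide +kernel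
theorem pk34_0 : allR (ckPerm (nat_lit 4600) X34 X35) (nat_lit 0) (nat_lit 2300) = true := by decide +kernel
theorem pk34_1 : allR (ckPerm (nat_lit 4600) X34 X35) (nat_lit 2300) (nat_lit 2300) = true := by decide +kernel
theorem pk35_0 : allR (ckPerm (nat_lit 4600) X35 X34) (nat_lit 0) (nat_lit 2300) = true := by decide +kernel
theorem pk35_1 : allR (ckPerm (nat_lit 4600) X35 X34) (nat_lit 2300) (nat_lit 2300) = true := by decide +kernel
theorem pk36_0 : allR (ckPerm (nat_lit 4600) X36 X37) (nat_lit 0) (nat_lit 2300) = true := by decide +kernel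
theorem pk36_1 : allR (ckPerm (nat_lit 4600) X36 X37) (nat_lit 2300) (nat_lit 2300) = true := by decide +kernel
theorem pk37_0 : allR (ckPerm (nat_lit 4600) X37 X36) (nat_lit 0) (nat_lit 2300) = true := by decide +kernel
theorem pk37_1 : allR (ckPerm (nat_lit 4600) X37 X36) (nat_lit 2300) (nat_lit 2300) = true := by decide +kernel
theorem pk38_0 : allR (ckPerm (nat_lit 4600) X38 X39) (nat_lit 0) (nat_lit 2300) = true := by decide +kernel
theorem pk38_1 : allR (ckPerm (nat_lit 4600) X38 X39) (nat_lit 2300) (nat_lit 2300) = true := by decide +kernel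
theorem pk39_0 : allR (ckPerm (nat_lit 4600) X39 X38) (nat_lit 0) (nat_lit 2300) = true := by decide +kernel
theorem pk39_1 : allR (ckPerm (nat_lit 4600) X39 X38) (nat_lit 2300) (nat_lit 2300) = true := by decide +kernel
theorem pk40_0 : allR (ckPerm (nat_lit 4600) X40 X41) (nat_lit 0) (nat_lit 2300) = true := by decide +kernel
theorem pk40_1 : allR (ckPerm (nat_lit 4600) X40 X41) (nat_lit 2300) (nat_lit 2300) = true := by decide +kernel
theorem pk41_0 : allR (ckPerm (nat_lit 4600) X41 X40) (nat_lit 0) (nat_lit 2300) = true := by decide +kernel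
theorem pk41_1 : allR (ckPerm (nat_lit 4600) X41 X40) (nat_lit 2300) (nat_lit 2300) = true := by decide +kernel
theorem pk42_0 : allR (ckPerm (nat_lit 4600) X42 X43) (nat_lit 0) (nat_lit 2300) = true := by decide +kernel
theorem pk42_1 : allR (ckPerm (nat_lit 4600) X42 X43) (nat_lit 2300) (nat_lit 2300) = true := by decide +kernel
theorem pk43_0 : allR (ckPerm (nat_lit 4600) X43 X42) (nat_lit 0) (nat_lit 2300) = true := by decide +kernel
theorem pk43_1 : allR (ckPerm (nat_lit 4600) X43 X42) (nat_lit 2300) (nat_lit 2300) = true := by decide +kernel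
theorem pk44_0 : allR (ckPerm (nat_lit 4600) X44 X45) (nat_lit 0) (nat_lit 2300) = true := by decide +kernel
theorem pk44_1 : allR (ckPerm (nat_lit 4600) X44 X45) (nat_lit 2300) (nat_lit 2300) = true := by decide +kernel
theorem pk45_0 : allR (ckPerm (nat_lit 4600) X45 X44) (nat_lit 0) (nat_lit 2300) = true := by decide +kernel
theorem pk45_1 : allR (ckPerm (nat_lit 4600) X45 X44) (nat_lit 2300) (nat_lit 2300) = true := by decide +kernel
theorem pk46_0 : allR (ckPerm (nat_lit 4600) X46 X47) (nat_lit 0) (nat_lit 2300) = true := by decide +kernel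
theorem pk46_1 : allR (ckPerm (nat_lit 4600) X46 X47) (nat_lit 2300) (nat_lit 2300) = true := by decide +kernel
theorem pk47_0 : allR (ckPerm (nat_lit 4600) X47 X46) (nat_lit 0) (nat_lit 2300) = true := by decide +kernel
theorem pk47_1 : allR (ckPerm (nat_lit 4600) X47 X46) (nat_lit 2300) (nat_lit 2300) = true := by decide +kernel
theorem pk48_0 : allR (ckPerm (nat_lit 4600) X48 X49) (nat_lit 0) (nat_lit 2300) = true := by decide +kernel
theorem pk48_1 : allR (ckPerm (nat_lit 4600) X48 X49) (nat_lit 2300) (nat_lit 2300) = true := by decide +kernel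
theorem pk49_0 : allR (ckPerm (nat_lit 4600) X49 X48) (nat_lit 0) (nat_lit 2300) = true := by decide +kernel
theorem pk49_1 : allR (ckPerm (nat_lit 4600) X49 X48) (nat_lit 2300) (nat_lit 2300) = true := by decide +kernel
theorem pk50_0 : allR (ckPerm (nat_lit 4600) X50 X51) (nat_lit 0) (nat_lit 2300) = true := by decide +kernel
theorem pk50_1 : allR (ckPerm (nat_lit 4600) X50 X51) (nat_lit 2300) (nat_lit 2300) = true := by decide +kernel
theorem pk51_0 : allR (ckPerm (nat_lit 4600) X51 X50) (nat_lit 0) (nat_lit 2300) = true := by decide +kernel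
theorem pk51_1 : allR (ckPerm (nat_lit 4600) X51 X50) (nat_lit 2300) (nat_lit 2300) = true := by decide +kernel
theorem pk52_0 : allR (ckPerm (nat_lit 4600) X52 X53) (nat_lit 0) (nat_lit 2300) = true := by decide +kernel
theorem pk52_1 : allR (ckPerm (nat_lit 4600) X52 X53) (nat_lit 2300) (nat_lit 2300) = true := by decide +kernel
theorem pk53_0 : allR (ckPerm (nat_lit 4600) X53 X52) (nat_lit 0) (nat_lit 2300) = true := by decide +kernel
theorem pk53_1 : allR (ckPerm (nat_lit 4600) X53 X52) (nat_lit 2300) (nat_lit 2300) = true := by decide +kernel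
theorem pk54_0 : allR (ckPerm (nat_lit 4600) X54 X55) (nat_lit 0) (nat_lit 2300) = true := by decide +kernel
theorem pk54_1 : allR (ckPerm (nat_lit 4600) X54 X55) (nat_lit 2300) (nat_lit 2300) = true := by decide +kernel
theorem pk55_0 : allR (ckPerm (nat_lit 4600) X55 X54) (nat_lit 0) (nat_lit 2300) = true := by decide +kernel
theorem pk55_1 : allR (ckPerm (nat_lit 4600) X55 X54) (nat_lit 2300) (nat_lit 2300) = true := by decide +kernel
theorem pk56_0 : allR (ckPerm (nat_lit 4600) X56 X57) (nat_lit 0) (nat_lit 2300) = true := by decide +kernel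
theorem pk56_1 : allR (ckPerm (nat_lit 4600) X56 X57) (nat_lit 2300) (nat_lit 2300) = true := by decide +kernel
theorem pk57_0 : allR (ckPerm (nat_lit 4600) X57 X56) (nat_lit 0) (nat_lit 2300) = true := by decide +kernel
theorem pk57_1 : allR (ckPerm (nat_lit 4600) X57 X56) (nat_lit 2300) (nat_lit 2300) = true := by decide +kernel
theorem wk0_0 : allR (OT.ckEqW [T2, T1, T2, T1, T0, T1, T0, T1, T0, T2, T0, T1, T0, T2, T0, T2, T0, T2, T1, T2, T1, T0, T2, T1] [X0]) (nat_lit 0) (nat_lit 184) = true := by decide +kernel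
theorem wk0_1 : allR (OT.ckEqW [T2, T1, T2, T1, T0, T1, T0, T1, T0, T2, T0, T1, T0, T2, T0, T2, T0, T2, T1, T2, T1, T0, T2, T1] [X0]) (nat_lit 184) (nat_lit 184) = true := by decide +kernel
theorem wk0_2 : allR (OT.ckEqW [T2, T1, T2, T1, T0, T1, T0, T1, T0, T2, T0, T1, T0, T2, T0, T2, T0, T2, T1, T2, T1, T0, T2, T1] [X0]) (nat_lit 368) (nat_lit 184) = true := by decide +kernel
theorem wk0_3 : allR (OT.ckEqW [T2, T1, T2, T1, T0, T1, T0, T1, T0, T2, T0, T1, T0, T2, T0, T2, T0, T2, T1, T2, T1, T0, T2, T1] [X0]) (nat_lit 552) (nat_lit 184) = true := by decide +kernel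
theorem wk0_4 : allR (OT.ckEqW [T2, T1, T2, T1, T0, T1, T0, T1, T0, T2, T0, T1, T0, T2, T0, T2, T0, T2, T1, T2, T1, T0, T2, T1] [X0]) (nat_lit 736) (nat_lit 184) = true := by decide +kernel
theorem wk0_5 : allR (OT.ckEqW [T2, T1, T2, T1, T0, T1, T0, T1, T0, T2, T0, T1, T0, T2, T0, T2, T0, T2, T1, T2, T1, T0, T2, T1] [X0]) (nat_lit 920) (nat_lit 184) = true := by decide +kernel
theorem wk0_6 : allR (OT.ckEqW [T2, T1, T2, T1, T0, T1, T0, T1, T0, T2, T0, T1, T0, T2, T0, T2, T0, T2, T1, T2, T1, T0, T2, T1] [X0]) (nat_lit 1104) (nat_lit 184) = true := by decide +kernel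
theorem wk0_7 : allR (OT.ckEqW [T2, T1, T2, T1, T0, T1, T0, T1, T0, T2, T0, T1, T0, T2, T0, T2, T0, T2, T1, T2, T1, T0, T2, T1] [X0]) (nat_lit 1288) (nat_lit 184) = true := by decide +kernel
theorem wk0_8 : allR (OT.ckEqW [T2, T1, T2, T1, T0, T1, T0, T1, T0, T2, T0, T1, T0, T2, T0, T2, T0, T2, T1, T2, T1, T0, T2, T1] [X0]) (nat_lit 1472) (nat_lit 184) = true := by decide +kernel
theorem wk0_9 : allR (OT.ckEqW [T2, T1, T2, T1, T0, T1, T0, T1, T0, T2, T0, T1, T0, T2, T0, T2, T0, T2, T1, T2, T1, T0, T2, T1] [X0]) (nat_lit 1656) (nat_lit 184) = true := by decide +kernel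
theorem wk0_10 : allR (OT.ckEqW [T2, T1, T2, T1, T0, T1, T0, T1, T0, T2, T0, T1, T0, T2, T0, T2, T0, T2, T1, T2, T1, T0, T2, T1] [X0]) (nat_lit 1840) (nat_lit 184) = true := by decide +kernel
theorem wk0_11 : allR (OT.ckEqW [T2, T1, T2, T1, T0, T1, T0, T1, T0, T2, T0, T1, T0, T2, T0, T2, T0, T2, T1, T2, T1, T0, T2, T1] [X0]) (nat_lit 2024) (nat_lit 184) = true := by decide +kernel
theorem wk0_12 : allR (OT.ckEqW [T2, T1, T2, T1, T0, T1, T0, T1, T0, T2, T0, T1, T0, T2, T0, T2, T0, T2, T1, T2, T1, T0, T2, T1] [X0]) (nat_lit 2208) (nat_lit 184) = true := by decide +kernel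
theorem wk0_13 : allR (OT.ckEqW [T2, T1, T2, T1, T0, T1, T0, T1, T0, T2, T0, T1, T0, T2, T0, T2, T0, T2, T1, T2, T1, T0, T2, T1] [X0]) (nat_lit 2392) (nat_lit 184) = true := by decide +kernel
theorem wk0_14 : allR (OT.ckEqW [T2, T1, T2, T1, T0, T1, T0, T1, T0, T2, T0, T1, T0, T2, T0, T2, T0, T2, T1, T2, T1, T0, T2, T1] [X0]) (nat_lit 2576) (nat_lit 184) = true := by decide +kernel
theorem wk0_15 : allR (OT.ckEqW [T2, T1, T2, T1, T0, T1, T0, T1, T0, T2, T0, T1, T0, T2, T0, T2, T0, T2, T1, T2, T1, T0, T2, T1] [X0]) (nat_lit 2760) (nat_lit 184) = true := by decide +kernel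
theorem wk0_16 : allR (OT.ckEqW [T2, T1, T2, T1, T0, T1, T0, T1, T0, T2, T0, T1, T0, T2, T0, T2, T0, T2, T1, T2, T1, T0, T2, T1] [X0]) (nat_lit 2944) (nat_lit 184) = true := by decide +kernel
theorem wk0_17 : allR (OT.ckEqW [T2, T1, T2, T1, T0, T1, T0, T1, T0, T2, T0, T1, T0, T2, T0, T2, T0, T2, T1, T2, T1, T0, T2, T1] [X0]) (nat_lit 3128) (nat_lit 184) = true := by decide +kernel
theorem wk0_18 : allR (OT.ckEqW [T2, T1, T2, T1, T0, T1, T0, T1, T0, T2, T0, T1, T0, T2, T0, T2, T0, T2, T1, T2, T1, T0, T2, T1] [X0]) (nat_lit 3312) (nat_lit 184) = true := by decide +kernel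
theorem wk0_19 : allR (OT.ckEqW [T2, T1, T2, T1, T0, T1, T0, T1, T0, T2, T0, T1, T0, T2, T0, T2, T0, T2, T1, T2, T1, T0, T2, T1] [X0]) (nat_lit 3496) (nat_lit 184) = true := by decide +kernel
theorem wk0_20 : allR (OT.ckEqW [T2, T1, T2, T1, T0, T1, T0, T1, T0, T2, T0, T1, T0, T2, T0, T2, T0, T2, T1, T2, T1, T0, T2, T1] [X0]) (nat_lit 3680) (nat_lit 184) = true := by decide +kernel
theorem wk0_21 : allR (OT.ckEqW [T2, T1, T2, T1, T0, T1, T0, T1, T0, T2, T0, T1, T0, T2, T0, T2, T0, T2, T1, T2, T1, T0, T2, T1] [X0]) (nat_lit 3864) (nat_lit 184) = true := by decide +kernel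
theorem wk0_22 : allR (OT.ckEqW [T2, T1, T2, T1, T0, T1, T0, T1, T0, T2, T0, T1, T0, T2, T0, T2, T0, T2, T1, T2, T1, T0, T2, T1] [X0]) (nat_lit 4048) (nat_lit 184) = true := by decide +kernel
theorem wk0_23 : allR (OT.ckEqW [T2, T1, T2, T1, T0, T1, T0, T1, T0, T2, T0, T1, T0, T2, T0, T2, T0, T2, T1, T2, T1, T0, T2, T1] [X0]) (nat_lit 4232) (nat_lit 184) = true := by decide +kernel
theorem wk0_24 : allR (OT.ckEqW [T2, T1, T2, T1, T0, T1, T0, T1, T0, T2, T0, T1, T0, T2, T0, T2, T0, T2, T1, T2, T1, T0, T2, T1] [X0]) (nat_lit 4416) (nat_lit 184) = true := by decide +kernel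
theorem wk5_0 : allR (OT.ckEqW [X7, X4, X6, X6, X5, X7, X7] [X10]) (nat_lit 0) (nat_lit 575) = true := by decide +kernel
theorem wk5_1 : allR (OT.ckEqW [X7, X4, X6, X6, X5, X7, X7] [X10]) (nat_lit 575) (nat_lit 575) = true := by decide +kernel
theorem wk5_2 : allR (OT.ckEqW [X7, X4, X6, X6, X5, X7, X7] [X10]) (nat_lit 1150) (nat_lit 575) = true := by decide +kernel
theorem wk5_3 : allR (OT.ckEqW [X7, X4, X6, X6, X5, X7, X7] [X10]) (nat_lit 1725) (nat_lit 575) = true := by decide +kernel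
theorem wk5_4 : allR (OT.ckEqW [X7, X4, X6, X6, X5, X7, X7] [X10]) (nat_lit 2300) (nat_lit 575) = true := by decide +kernel
theorem wk5_5 : allR (OT.ckEqW [X7, X4, X6, X6, X5, X7, X7] [X10]) (nat_lit 2875) (nat_lit 575) = true := by decide +kernel
theorem wk5_6 : allR (OT.ckEqW [X7, X4, X6, X6, X5, X7, X7] [X10]) (nat_lit 3450) (nat_lit 575) = true := by decide +kernel
theorem wk5_7 : allR (OT.ckEqW [X7, X4, X6, X6, X5, X7, X7] [X10]) (nat_lit 4025) (nat_lit 575) = true := by decide +kernel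
theorem wk10_0 : allR (OT.ckEqW [X16, X15, X15, X18, X16, X18, X14, X16, X15] [X20]) (nat_lit 0) (nat_lit 460) = true := by decide +kernel
theorem wk10_1 : allR (OT.ckEqW [X16, X15, X15, X18, X16, X18, X14, X16, X15] [X20]) (nat_lit 460) (nat_lit 460) = true := by decide +kernel
theorem wk10_2 : allR (OT.ckEqW [X16, X15, X15, X18, X16, X18, X14, X16, X15] [X20]) (nat_lit 920) (nat_lit 460) = true := by decide +kernel
theorem wk10_3 : allR (OT.ckEqW [X16, X15, X15, X18, X16, X18, X14, X16, X15] [X20]) (nat_lit 1380) (nat_lit 460) = true := by decide +kernel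
theorem wk10_4 : allR (OT.ckEqW [X16, X15, X15, X18, X16, X18, X14, X16, X15] [X20]) (nat_lit 1840) (nat_lit 460) = true := by decide +kernel
theorem wk10_5 : allR (OT.ckEqW [X16, X15, X15, X18, X16, X18, X14, X16, X15] [X20]) (nat_lit 2300) (nat_lit 460) = true := by decide +kernel
theorem wk10_6 : allR (OT.ckEqW [X16, X15, X15, X18, X16, X18, X14, X16, X15] [X20]) (nat_lit 2760) (nat_lit 460) = true := by decide +kernel
theorem wk10_7 : allR (OT.ckEqW [X16, X15, X15, X18, X16, X18, X14, X16, X15] [X20]) (nat_lit 3220) (nat_lit 460) = true := by decide +kernel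
theorem wk10_8 : allR (OT.ckEqW [X16, X15, X15, X18, X16, X18, X14, X16, X15] [X20]) (nat_lit 3680) (nat_lit 460) = true := by decide +kernel
theorem wk10_9 : allR (OT.ckEqW [X16, X15, X15, X18, X16, X18, X14, X16, X15] [X20]) (nat_lit 4140) (nat_lit 460) = true := by decide +kernel
theorem wk14_0 : allR (OT.ckEqW [X17, X15, X19, X15] [X28]) (nat_lit 0) (nat_lit 920) = true := by decide +kernel
theorem wk14_1 : allR (OT.ckEqW [X17, X15, X19, X15] [X28]) (nat_lit 920) (nat_lit 920) = true := by decide +kernel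
theorem wk14_2 : allR (OT.ckEqW [X17, X15, X19, X15] [X28]) (nat_lit 1840) (nat_lit 920) = true := by decide +kernel
theorem wk14_3 : allR (OT.ckEqW [X17, X15, X19, X15] [X28]) (nat_lit 2760) (nat_lit 920) = true := by decide +kernel
theorem wk14_4 : allR (OT.ckEqW [X17, X15, X19, X15] [X28]) (nat_lit 3680) (nat_lit 920) = true := by decide +kernel
theorem wk17_0 : allR (OT.ckEqW [X16, X15, X15, X19] [X34]) (nat_lit 0) (nat_lit 920) = true := by decide +kernel
theorem wk17_1 : allR (OT.ckEqW [X16, X15, X15, X19] [X34]) (nat_lit 920) (nat_lit 920) = true := by decide +kernel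
theorem wk17_2 : allR (OT.ckEqW [X16, X15, X15, X19] [X34]) (nat_lit 1840) (nat_lit 920) = true := by decide +kernel
theorem wk17_3 : allR (OT.ckEqW [X16, X15, X15, X19] [X34]) (nat_lit 2760) (nat_lit 920) = true := by decide +kernel
theorem wk17_4 : allR (OT.ckEqW [X16, X15, X15, X19] [X34]) (nat_lit 3680) (nat_lit 920) = true := by decide +kernel
theorem wk18_0 : allR (OT.ckEqW [T0, T1, T0, T2, T0, T1, T2, T0, T2, T1, T0, T2, T0, T1, T0, T2, T0, T1, T2, T0, T2, T1, T0, T2] [X36]) (nat_lit 0) (nat_lit 184) = true := by decide +kernel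
theorem wk18_1 : allR (OT.ckEqW [T0, T1, T0, T2, T0, T1, T2, T0, T2, T1, T0, T2, T0, T1, T0, T2, T0, T1, T2, T0, T2, T1, T0, T2] [X36]) (nat_lit 184) (nat_lit 184) = true := by decide +kernel
theorem wk18_2 : allR (OT.ckEqW [T0, T1, T0, T2, T0, T1, T2, T0, T2, T1, T0, T2, T0, T1, T0, T2, T0, T1, T2, T0, T2, T1, T0, T2] [X36]) (nat_lit 368) (nat_lit 184) = true := by decide +kernel
theorem wk18_3 : allR (OT.ckEqW [T0, T1, T0, T2, T0, T1, T2, T0, T2, T1, T0, T2, T0, T1, T0, T2, T0, T1, T2, T0, T2, T1, T0, T2] [X36]) (nat_lit 552) (nat_lit 184) = true := by decide +kernel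
theorem wk18_4 : allR (OT.ckEqW [T0, T1, T0, T2, T0, T1, T2, T0, T2, T1, T0, T2, T0, T1, T0, T2, T0, T1, T2, T0, T2, T1, T0, T2] [X36]) (nat_lit 736) (nat_lit 184) = true := by decide +kernel
theorem wk18_5 : allR (OT.ckEqW [T0, T1, T0, T2, T0, T1, T2, T0, T2, T1, T0, T2, T0, T1, T0, T2, T0, T1, T2, T0, T2, T1, T0, T2] [X36]) (nat_lit 920) (nat_lit 184) = true := by decide +kernel
theorem wk18_6 : allR (OT.ckEqW [T0, T1, T0, T2, T0, T1, T2, T0, T2, T1, T0, T2, T0, T1, T0, T2, T0, T1, T2, T0, T2, T1, T0, T2] [X36]) (nat_lit 1104) (nat_lit 184) = true := by decide +kernel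
theorem wk18_7 : allR (OT.ckEqW [T0, T1, T0, T2, T0, T1, T2, T0, T2, T1, T0, T2, T0, T1, T0, T2, T0, T1, T2, T0, T2, T1, T0, T2] [X36]) (nat_lit 1288) (nat_lit 184) = true := by decide +kernel
theorem wk18_8 : allR (OT.ckEqW [T0, T1, T0, T2, T0, T1, T2, T0, T2, T1, T0, T2, T0, T1, T0, T2, T0, T1, T2, T0, T2, T1, T0, T2] [X36]) (nat_lit 1472) (nat_lit 184) = true := by decide +kernel
theorem wk18_9 : allR (OT.ckEqW [T0, T1, T0, T2, T0, T1, T2, T0, T2, T1, T0, T2, T0, T1, T0, T2, T0, T1, T2, T0, T2, T1, T0, T2] [X36]) (nat_lit 1656) (nat_lit 184) = true := by decide +kernel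
theorem wk18_10 : allR (OT.ckEqW [T0, T1, T0, T2, T0, T1, T2, T0, T2, T1, T0, T2, T0, T1, T0, T2, T0, T1, T2, T0, T2, T1, T0, T2] [X36]) (nat_lit 1840) (nat_lit 184) = true := by decide +kernel
theorem wk18_11 : allR (OT.ckEqW [T0, T1, T0, T2, T0, T1, T2, T0, T2, T1, T0, T2, T0, T1, T0, T2, T0, T1, T2, T0, T2, T1, T0, T2] [X36]) (nat_lit 2024) (nat_lit 184) = true := by decide +kernel
theorem wk18_12 : allR (OT.ckEqW [T0, T1, T0, T2, T0, T1, T2, T0, T2, T1, T0, T2, T0, T1, T0, T2, T0, T1, T2, T0, T2, T1, T0, T2] [X36]) (nat_lit 2208) (nat_lit 184) = true := by decide +kernel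
theorem wk18_13 : allR (OT.ckEqW [T0, T1, T0, T2, T0, T1, T2, T0, T2, T1, T0, T2, T0, T1, T0, T2, T0, T1, T2, T0, T2, T1, T0, T2] [X36]) (nat_lit 2392) (nat_lit 184) = true := by decide +kernel
theorem wk18_14 : allR (OT.ckEqW [T0, T1, T0, T2, T0, T1, T2, T0, T2, T1, T0, T2, T0, T1, T0, T2, T0, T1, T2, T0, T2, T1, T0, T2] [X36]) (nat_lit 2576) (nat_lit 184) = true := by decide +kernel
theorem wk18_15 : allR (OT.ckEqW [T0, T1, T0, T2, T0, T1, T2, T0, T2, T1, T0, T2, T0, T1, T0, T2, T0, T1, T2, T0, T2, T1, T0, T2] [X36]) (nat_lit 2760) (nat_lit 184) = true := by decide +kernel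
theorem wk18_16 : allR (OT.ckEqW [T0, T1, T0, T2, T0, T1, T2, T0, T2, T1, T0, T2, T0, T1, T0, T2, T0, T1, T2, T0, T2, T1, T0, T2] [X36]) (nat_lit 2944) (nat_lit 184) = true := by decide +kernel
theorem wk18_17 : allR (OT.ckEqW [T0, T1, T0, T2, T0, T1, T2, T0, T2, T1, T0, T2, T0, T1, T0, T2, T0, T1, T2, T0, T2, T1, T0, T2] [X36]) (nat_lit 3128) (nat_lit 184) = true := by decide +kernel
theorem wk18_18 : allR (OT.ckEqW [T0, T1, T0, T2, T0, T1, T2, T0, T2, T1, T0, T2, T0, T1, T0, T2, T0, T1, T2, T0, T2, T1, T0, T2] [X36]) (nat_lit 3312) (nat_lit 184) = true := by decide +kernel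
theorem wk18_19 : allR (OT.ckEqW [T0, T1, T0, T2, T0, T1, T2, T0, T2, T1, T0, T2, T0, T1, T0, T2, T0, T1, T2, T0, T2, T1, T0, T2] [X36]) (nat_lit 3496) (nat_lit 184) = true := by decide +kernel
theorem wk18_20 : allR (OT.ckEqW [T0, T1, T0, T2, T0, T1, T2, T0, T2, T1, T0, T2, T0, T1, T0, T2, T0, T1, T2, T0, T2, T1, T0, T2] [X36]) (nat_lit 3680) (nat_lit 184) = true := by decide +kernel
theorem wk18_21 : allR (OT.ckEqW [T0, T1, T0, T2, T0, T1, T2, T0, T2, T1, T0, T2, T0, T1, T0, T2, T0, T1, T2, T0, T2, T1, T0, T2] [X36]) (nat_lit 3864) (nat_lit 184) = true := by decide +kernel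
theorem wk18_22 : allR (OT.ckEqW [T0, T1, T0, T2, T0, T1, T2, T0, T2, T1, T0, T2, T0, T1, T0, T2, T0, T1, T2, T0, T2, T1, T0, T2] [X36]) (nat_lit 4048) (nat_lit 184) = true := by decide +kernel
theorem wk18_23 : allR (OT.ckEqW [T0, T1, T0, T2, T0, T1, T2, T0, T2, T1, T0, T2, T0, T1, T0, T2, T0, T1, T2, T0, T2, T1, T0, T2] [X36]) (nat_lit 4232) (nat_lit 184) = true := by decide +kernel
theorem wk18_24 : allR (OT.ckEqW [T0, T1, T0, T2, T0, T1, T2, T0, T2, T1, T0, T2, T0, T1, T0, T2, T0, T1, T2, T0, T2, T1, T0, T2] [X36]) (nat_lit 4416) (nat_lit 184) = true := by decide +kernel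
theorem wk21_0 : allR (OT.ckEqW [X24, X30, X32] [X42]) (nat_lit 0) (nat_lit 1150) = true := by decide +kernel
theorem wk21_1 : allR (OT.ckEqW [X24, X30, X32] [X42]) (nat_lit 1150) (nat_lit 1150) = true := by decide +kernel
theorem wk21_2 : allR (OT.ckEqW [X24, X30, X32] [X42]) (nat_lit 2300) (nat_lit 1150) = true := by decide +kernel
theorem wk21_3 : allR (OT.ckEqW [X24, X30, X32] [X42]) (nat_lit 3450) (nat_lit 1150) = true := by decide +kernel
theorem wk22_0 : allR (OT.ckEqW [X30, X32, X34] [X44]) (nat_lit 0) (nat_lit 1150) = true := by decide +kernel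
theorem wk22_1 : allR (OT.ckEqW [X30, X32, X34] [X44]) (nat_lit 1150) (nat_lit 1150) = true := by decide +kernel
theorem wk22_2 : allR (OT.ckEqW [X30, X32, X34] [X44]) (nat_lit 2300) (nat_lit 1150) = true := by decide +kernel
theorem wk22_3 : allR (OT.ckEqW [X30, X32, X34] [X44]) (nat_lit 3450) (nat_lit 1150) = true := by decide +kernel
theorem wk24_0 : allR (OT.ckEqW [X22, X26, X28, X30] [X48]) (nat_lit 0) (nat_lit 920) = true := by decide +kernel
theorem wk24_1 : allR (OT.ckEqW [X22, X26, X28, X30] [X48]) (nat_lit 920) (nat_lit 920) = true := by decide +kernel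
theorem wk24_2 : allR (OT.ckEqW [X22, X26, X28, X30] [X48]) (nat_lit 1840) (nat_lit 920) = true := by decide +kernel
theorem wk24_3 : allR (OT.ckEqW [X22, X26, X28, X30] [X48]) (nat_lit 2760) (nat_lit 920) = true := by decide +kernel
theorem wk24_4 : allR (OT.ckEqW [X22, X26, X28, X30] [X48]) (nat_lit 3680) (nat_lit 920) = true := by decide +kernel
theorem wk25_0 : allR (OT.ckEqW [X24, X32, X34] [X50]) (nat_lit 0) (nat_lit 1150) = true := by decide +kernel
theorem wk25_1 : allR (OT.ckEqW [X24, X32, X34] [X50]) (nat_lit 1150) (nat_lit 1150) = true := by decide +kernel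
theorem wk25_2 : allR (OT.ckEqW [X24, X32, X34] [X50]) (nat_lit 2300) (nat_lit 1150) = true := by decide +kernel
theorem wk25_3 : allR (OT.ckEqW [X24, X32, X34] [X50]) (nat_lit 3450) (nat_lit 1150) = true := by decide +kernel
theorem wk27_0 : allR (OT.ckEqW [X20, X22, X24, X26, X30, X32, X35] [X54]) (nat_lit 0) (nat_lit 575) = true := by decide +kernel
theorem wk27_1 : allR (OT.ckEqW [X20, X22, X24, X26, X30, X32, X35] [X54]) (nat_lit 575) (nat_lit 575) = true := by decide +kernel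
theorem wk27_2 : allR (OT.ckEqW [X20, X22, X24, X26, X30, X32, X35] [X54]) (nat_lit 1150) (nat_lit 575) = true := by decide +kernel
theorem wk27_3 : allR (OT.ckEqW [X20, X22, X24, X26, X30, X32, X35] [X54]) (nat_lit 1725) (nat_lit 575) = true := by decide +kernel
theorem wk27_4 : allR (OT.ckEqW [X20, X22, X24, X26, X30, X32, X35] [X54]) (nat_lit 2300) (nat_lit 575) = true := by decide +kernel
theorem wk27_5 : allR (OT.ckEqW [X20, X22, X24, X26, X30, X32, X35] [X54]) (nat_lit 2875) (nat_lit 575) = true := by decide +kernel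
theorem wk27_6 : allR (OT.ckEqW [X20, X22, X24, X26, X30, X32, X35] [X54]) (nat_lit 3450) (nat_lit 575) = true := by decide +kernel
theorem wk27_7 : allR (OT.ckEqW [X20, X22, X24, X26, X30, X32, X35] [X54]) (nat_lit 4025) (nat_lit 575) = true := by decide +kernel
theorem wk4_0 : allR (OT.ckEqW [X5, X6, X5, X6, X4, X7, X5, X5] [X8]) (nat_lit 0) (nat_lit 511) = true := by decide +kernel
theorem wk4_1 : allR (OT.ckEqW [X5, X6, X5, X6, X4, X7, X5, X5] [X8]) (nat_lit 511) (nat_lit 511) = true := by decide +kernel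
theorem wk4_2 : allR (OT.ckEqW [X5, X6, X5, X6, X4, X7, X5, X5] [X8]) (nat_lit 1022) (nat_lit 511) = true := by decide +kernel
theorem wk4_3 : allR (OT.ckEqW [X5, X6, X5, X6, X4, X7, X5, X5] [X8]) (nat_lit 1533) (nat_lit 511) = true := by decide +kernel
theorem wk4_4 : allR (OT.ckEqW [X5, X6, X5, X6, X4, X7, X5, X5] [X8]) (nat_lit 2044) (nat_lit 511) = true := by decide +kernel
theorem wk4_5 : allR (OT.ckEqW [X5, X6, X5, X6, X4, X7, X5, X5] [X8]) (nat_lit 2555) (nat_lit 511) = true := by decide +kernel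
theorem wk4_6 : allR (OT.ckEqW [X5, X6, X5, X6, X4, X7, X5, X5] [X8]) (nat_lit 3066) (nat_lit 511) = true := by decide +kernel
theorem wk4_7 : allR (OT.ckEqW [X5, X6, X5, X6, X4, X7, X5, X5] [X8]) (nat_lit 3577) (nat_lit 511) = true := by decide +kernel
theorem wk4_8 : allR (OT.ckEqW [X5, X6, X5, X6, X4, X7, X5, X5] [X8]) (nat_lit 4088) (nat_lit 511) = true := by decide +kernel
theorem wk8_0 : allR (OT.ckEqW [X11, X11] [X16]) (nat_lit 0) (nat_lit 1533) = true := by decide +kernel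
theorem wk8_1 : allR (OT.ckEqW [X11, X11] [X16]) (nat_lit 1533) (nat_lit 1533) = true := by decide +kernel
theorem wk8_2 : allR (OT.ckEqW [X11, X11] [X16]) (nat_lit 3066) (nat_lit 1533) = true := by decide +kernel
theorem wk11_0 : allR (OT.ckEqW [X15, X15] [X22]) (nat_lit 0) (nat_lit 1533) = true := by decide +kernel
theorem wk11_1 : allR (OT.ckEqW [X15, X15] [X22]) (nat_lit 1533) (nat_lit 1533) = true := by decide +kernel
theorem wk11_2 : allR (OT.ckEqW [X15, X15] [X22]) (nat_lit 3066) (nat_lit 1533) = true := by decide +kernel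
theorem wk13_0 : allR (OT.ckEqW [X17, X18] [X26]) (nat_lit 0) (nat_lit 1533) = true := by decide +kernel
theorem wk13_1 : allR (OT.ckEqW [X17, X18] [X26]) (nat_lit 1533) (nat_lit 1533) = true := by decide +kernel
theorem wk13_2 : allR (OT.ckEqW [X17, X18] [X26]) (nat_lit 3066) (nat_lit 1533) = true := by decide +kernel
theorem wk16_0 : allR (OT.ckEqW [X17, X15, X18, X17, X17, X15] [X32]) (nat_lit 0) (nat_lit 657) = true := by decide +kernel
theorem wk16_1 : allR (OT.ckEqW [X17, X15, X18, X17, X17, X15] [X32]) (nat_lit 657) (nat_lit 657) = true := by decide +kernel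
theorem wk16_2 : allR (OT.ckEqW [X17, X15, X18, X17, X17, X15] [X32]) (nat_lit 1314) (nat_lit 657) = true := by decide +kernel
theorem wk16_3 : allR (OT.ckEqW [X17, X15, X18, X17, X17, X15] [X32]) (nat_lit 1971) (nat_lit 657) = true := by decide +kernel
theorem wk16_4 : allR (OT.ckEqW [X17, X15, X18, X17, X17, X15] [X32]) (nat_lit 2628) (nat_lit 657) = true := by decide +kernel
theorem wk16_5 : allR (OT.ckEqW [X17, X15, X18, X17, X17, X15] [X32]) (nat_lit 3285) (nat_lit 657) = true := by decide +kernel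
theorem wk16_6 : allR (OT.ckEqW [X17, X15, X18, X17, X17, X15] [X32]) (nat_lit 3942) (nat_lit 657) = true := by decide +kernel
theorem wk26_0 : allR (OT.ckEqW [X20, X22, X24, X30, X32, X35] [X52]) (nat_lit 0) (nat_lit 657) = true := by decide +kernel
theorem wk26_1 : allR (OT.ckEqW [X20, X22, X24, X30, X32, X35] [X52]) (nat_lit 657) (nat_lit 657) = true := by decide +kernel
theorem wk26_2 : allR (OT.ckEqW [X20, X22, X24, X30, X32, X35] [X52]) (nat_lit 1314) (nat_lit 657) = true := by decide +kernel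
theorem wk26_3 : allR (OT.ckEqW [X20, X22, X24, X30, X32, X35] [X52]) (nat_lit 1971) (nat_lit 657) = true := by decide +kernel
theorem wk26_4 : allR (OT.ckEqW [X20, X22, X24, X30, X32, X35] [X52]) (nat_lit 2628) (nat_lit 657) = true := by decide +kernel
theorem wk26_5 : allR (OT.ckEqW [X20, X22, X24, X30, X32, X35] [X52]) (nat_lit 3285) (nat_lit 657) = true := by decide +kernel
theorem wk26_6 : allR (OT.ckEqW [X20, X22, X24, X30, X32, X35] [X52]) (nat_lit 3942) (nat_lit 657) = true := by decide +kernel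
theorem wk1_0 : allR (OT.ckEqW [T0, T1, T0, T1, T0, T2, T0, T2, T0, T1, T0, T2, T0, T1, T0, T2, T0, T1, T2, T0, T1] [X2]) (nat_lit 0) (nat_lit 209) = true := by decide +kernel
theorem wk1_1 : allR (OT.ckEqW [T0, T1, T0, T1, T0, T2, T0, T2, T0, T1, T0, T2, T0, T1, T0, T2, T0, T1, T2, T0, T1] [X2]) (nat_lit 209) (nat_lit 209) = true := by decide +kernel
theorem wk1_2 : allR (OT.ckEqW [T0, T1, T0, T1, T0, T2, T0, T2, T0, T1, T0, T2, T0, T1, T0, T2, T0, T1, T2, T0, T1] [X2]) (nat_lit 418) (nat_lit 209) = true := by decide +kernel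
theorem wk1_3 : allR (OT.ckEqW [T0, T1, T0, T1, T0, T2, T0, T2, T0, T1, T0, T2, T0, T1, T0, T2, T0, T1, T2, T0, T1] [X2]) (nat_lit 627) (nat_lit 209) = true := by decide +kernel
theorem wk1_4 : allR (OT.ckEqW [T0, T1, T0, T1, T0, T2, T0, T2, T0, T1, T0, T2, T0, T1, T0, T2, T0, T1, T2, T0, T1] [X2]) (nat_lit 836) (nat_lit 209) = true := by decide +kernel
theorem wk1_5 : allR (OT.ckEqW [T0, T1, T0, T1, T0, T2, T0, T2, T0, T1, T0, T2, T0, T1, T0, T2, T0, T1, T2, T0, T1] [X2]) (nat_lit 1045) (nat_lit 209) = true := by decide +kernel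
theorem wk1_6 : allR (OT.ckEqW [T0, T1, T0, T1, T0, T2, T0, T2, T0, T1, T0, T2, T0, T1, T0, T2, T0, T1, T2, T0, T1] [X2]) (nat_lit 1254) (nat_lit 209) = true := by decide +kernel
theorem wk1_7 : allR (OT.ckEqW [T0, T1, T0, T1, T0, T2, T0, T2, T0, T1, T0, T2, T0, T1, T0, T2, T0, T1, T2, T0, T1] [X2]) (nat_lit 1463) (nat_lit 209) = true := by decide +kernel
theorem wk1_8 : allR (OT.ckEqW [T0, T1, T0, T1, T0, T2, T0, T2, T0, T1, T0, T2, T0, T1, T0, T2, T0, T1, T2, T0, T1] [X2]) (nat_lit 1672) (nat_lit 209) = true := by decide +kernel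
theorem wk1_9 : allR (OT.ckEqW [T0, T1, T0, T1, T0, T2, T0, T2, T0, T1, T0, T2, T0, T1, T0, T2, T0, T1, T2, T0, T1] [X2]) (nat_lit 1881) (nat_lit 209) = true := by decide +kernel
theorem wk1_10 : allR (OT.ckEqW [T0, T1, T0, T1, T0, T2, T0, T2, T0, T1, T0, T2, T0, T1, T0, T2, T0, T1, T2, T0, T1] [X2]) (nat_lit 2090) (nat_lit 209) = true := by decide +kernel
theorem wk1_11 : allR (OT.ckEqW [T0, T1, T0, T1, T0, T2, T0, T2, T0, T1, T0, T2, T0, T1, T0, T2, T0, T1, T2, T0, T1] [X2]) (nat_lit 2299) (nat_lit 209) = true := by decide +kernel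
theorem wk1_12 : allR (OT.ckEqW [T0, T1, T0, T1, T0, T2, T0, T2, T0, T1, T0, T2, T0, T1, T0, T2, T0, T1, T2, T0, T1] [X2]) (nat_lit 2508) (nat_lit 209) = true := by decide +kernel
theorem wk1_13 : allR (OT.ckEqW [T0, T1, T0, T1, T0, T2, T0, T2, T0, T1, T0, T2, T0, T1, T0, T2, T0, T1, T2, T0, T1] [X2]) (nat_lit 2717) (nat_lit 209) = true := by decide +kernel
theorem wk1_14 : allR (OT.ckEqW [T0, T1, T0, T1, T0, T2, T0, T2, T0, T1, T0, T2, T0, T1, T0, T2, T0, T1, T2, T0, T1] [X2]) (nat_lit 2926) (nat_lit 209) = true := by decide +kernel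
theorem wk1_15 : allR (OT.ckEqW [T0, T1, T0, T1, T0, T2, T0, T2, T0, T1, T0, T2, T0, T1, T0, T2, T0, T1, T2, T0, T1] [X2]) (nat_lit 3135) (nat_lit 209) = true := by decide +kernel
theorem wk1_16 : allR (OT.ckEqW [T0, T1, T0, T1, T0, T2, T0, T2, T0, T1, T0, T2, T0, T1, T0, T2, T0, T1, T2, T0, T1] [X2]) (nat_lit 3344) (nat_lit 209) = true := by decide +kernel
theorem wk1_17 : allR (OT.ckEqW [T0, T1, T0, T1, T0, T2, T0, T2, T0, T1, T0, T2, T0, T1, T0, T2, T0, T1, T2, T0, T1] [X2]) (nat_lit 3553) (nat_lit 209) = true := by decide +kernel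
theorem wk1_18 : allR (OT.ckEqW [T0, T1, T0, T1, T0, T2, T0, T2, T0, T1, T0, T2, T0, T1, T0, T2, T0, T1, T2, T0, T1] [X2]) (nat_lit 3762) (nat_lit 209) = true := by decide +kernel
theorem wk1_19 : allR (OT.ckEqW [T0, T1, T0, T1, T0, T2, T0, T2, T0, T1, T0, T2, T0, T1, T0, T2, T0, T1, T2, T0, T1] [X2]) (nat_lit 3971) (nat_lit 209) = true := by decide +kernel
theorem wk1_20 : allR (OT.ckEqW [T0, T1, T0, T1, T0, T2, T0, T2, T0, T1, T0, T2, T0, T1, T0, T2, T0, T1, T2, T0, T1] [X2]) (nat_lit 4180) (nat_lit 209) = true := by decide +kernel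
theorem wk1_21 : allR (OT.ckEqW [T0, T1, T0, T1, T0, T2, T0, T2, T0, T1, T0, T2, T0, T1, T0, T2, T0, T1, T2, T0, T1] [X2]) (nat_lit 4389) (nat_lit 209) = true := by decide +kernel
theorem wk3_0 : allR (OT.ckEqW [X1, X3, X3, X1, X1, X2, X1, X3, X1, X3, X0] [X6]) (nat_lit 0) (nat_lit 383) = true := by decide +kernel
theorem wk3_1 : allR (OT.ckEqW [X1, X3, X3, X1, X1, X2, X1, X3, X1, X3, X0] [X6]) (nat_lit 383) (nat_lit 383) = true := by decide +kernel
theorem wk3_2 : allR (OT.ckEqW [X1, X3, X3, X1, X1, X2, X1, X3, X1, X3, X0] [X6]) (nat_lit 766) (nat_lit 383) = true := by decide +kernel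
theorem wk3_3 : allR (OT.ckEqW [X1, X3, X3, X1, X1, X2, X1, X3, X1, X3, X0] [X6]) (nat_lit 1149) (nat_lit 383) = true := by decide +kernel
theorem wk3_4 : allR (OT.ckEqW [X1, X3, X3, X1, X1, X2, X1, X3, X1, X3, X0] [X6]) (nat_lit 1532) (nat_lit 383) = true := by decide +kernel
theorem wk3_5 : allR (OT.ckEqW [X1, X3, X3, X1, X1, X2, X1, X3, X1, X3, X0] [X6]) (nat_lit 1915) (nat_lit 383) = true := by decide +kernel
theorem wk3_6 : allR (OT.ckEqW [X1, X3, X3, X1, X1, X2, X1, X3, X1, X3, X0] [X6]) (nat_lit 2298) (nat_lit 383) = true := by decide +kernel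
theorem wk3_7 : allR (OT.ckEqW [X1, X3, X3, X1, X1, X2, X1, X3, X1, X3, X0] [X6]) (nat_lit 2681) (nat_lit 383) = true := by decide +kernel
theorem wk3_8 : allR (OT.ckEqW [X1, X3, X3, X1, X1, X2, X1, X3, X1, X3, X0] [X6]) (nat_lit 3064) (nat_lit 383) = true := by decide +kernel
theorem wk3_9 : allR (OT.ckEqW [X1, X3, X3, X1, X1, X2, X1, X3, X1, X3, X0] [X6]) (nat_lit 3447) (nat_lit 383) = true := by decide +kernel
theorem wk3_10 : allR (OT.ckEqW [X1, X3, X3, X1, X1, X2, X1, X3, X1, X3, X0] [X6]) (nat_lit 3830) (nat_lit 383) = true := by decide +kernel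
theorem wk3_11 : allR (OT.ckEqW [X1, X3, X3, X1, X1, X2, X1, X3, X1, X3, X0] [X6]) (nat_lit 4213) (nat_lit 383) = true := by decide +kernel
theorem wk7_0 : allR (OT.ckEqW [X11, X8, X12, X11, X9] [X14]) (nat_lit 0) (nat_lit 766) = true := by decide +kernel
theorem wk7_1 : allR (OT.ckEqW [X11, X8, X12, X11, X9] [X14]) (nat_lit 766) (nat_lit 766) = true := by decide +kernel
theorem wk7_2 : allR (OT.ckEqW [X11, X8, X12, X11, X9] [X14]) (nat_lit 1532) (nat_lit 766) = true := by decide +kernel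
theorem wk7_3 : allR (OT.ckEqW [X11, X8, X12, X11, X9] [X14]) (nat_lit 2298) (nat_lit 766) = true := by decide +kernel
theorem wk7_4 : allR (OT.ckEqW [X11, X8, X12, X11, X9] [X14]) (nat_lit 3064) (nat_lit 766) = true := by decide +kernel
theorem wk7_5 : allR (OT.ckEqW [X11, X8, X12, X11, X9] [X14]) (nat_lit 3830) (nat_lit 766) = true := by decide +kernel
theorem wk9_0 : allR (OT.ckEqW [X9, X10, X8, X10, X9] [X18]) (nat_lit 0) (nat_lit 766) = true := by decide +kernel
theorem wk9_1 : allR (OT.ckEqW [X9, X10, X8, X10, X9] [X18]) (nat_lit 766) (nat_lit 766) = true := by decide +kernel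
theorem wk9_2 : allR (OT.ckEqW [X9, X10, X8, X10, X9] [X18]) (nat_lit 1532) (nat_lit 766) = true := by decide +kernel
theorem wk9_3 : allR (OT.ckEqW [X9, X10, X8, X10, X9] [X18]) (nat_lit 2298) (nat_lit 766) = true := by decide +kernel
theorem wk9_4 : allR (OT.ckEqW [X9, X10, X8, X10, X9] [X18]) (nat_lit 3064) (nat_lit 766) = true := by decide +kernel
theorem wk9_5 : allR (OT.ckEqW [X9, X10, X8, X10, X9] [X18]) (nat_lit 3830) (nat_lit 766) = true := by decide +kernel
theorem wk12_0 : allR (OT.ckEqW [X16, X18, X16, X15, X15] [X24]) (nat_lit 0) (nat_lit 766) = true := by decide +kernel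
theorem wk12_1 : allR (OT.ckEqW [X16, X18, X16, X15, X15] [X24]) (nat_lit 766) (nat_lit 766) = true := by decide +kernel
theorem wk12_2 : allR (OT.ckEqW [X16, X18, X16, X15, X15] [X24]) (nat_lit 1532) (nat_lit 766) = true := by decide +kernel
theorem wk12_3 : allR (OT.ckEqW [X16, X18, X16, X15, X15] [X24]) (nat_lit 2298) (nat_lit 766) = true := by decide +kernel
theorem wk12_4 : allR (OT.ckEqW [X16, X18, X16, X15, X15] [X24]) (nat_lit 3064) (nat_lit 766) = true := by decide +kernel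
theorem wk12_5 : allR (OT.ckEqW [X16, X18, X16, X15, X15] [X24]) (nat_lit 3830) (nat_lit 766) = true := by decide +kernel
theorem wk15_0 : allR (OT.ckEqW [X18, X16, X14, X17, X15] [X30]) (nat_lit 0) (nat_lit 766) = true := by decide +kernel
theorem wk15_1 : allR (OT.ckEqW [X18, X16, X14, X17, X15] [X30]) (nat_lit 766) (nat_lit 766) = true := by decide +kernel
theorem wk15_2 : allR (OT.ckEqW [X18, X16, X14, X17, X15] [X30]) (nat_lit 1532) (nat_lit 766) = true := by decide +kernel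
theorem wk15_3 : allR (OT.ckEqW [X18, X16, X14, X17, X15] [X30]) (nat_lit 2298) (nat_lit 766) = true := by decide +kernel
theorem wk15_4 : allR (OT.ckEqW [X18, X16, X14, X17, X15] [X30]) (nat_lit 3064) (nat_lit 766) = true := by decide +kernel
theorem wk15_5 : allR (OT.ckEqW [X18, X16, X14, X17, X15] [X30]) (nat_lit 3830) (nat_lit 766) = true := by decide +kernel
theorem wk23_0 : allR (OT.ckEqW [X20, X22, X24, X26, X35] [X46]) (nat_lit 0) (nat_lit 766) = true := by decide +kernel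
theorem wk23_1 : allR (OT.ckEqW [X20, X22, X24, X26, X35] [X46]) (nat_lit 766) (nat_lit 766) = true := by decide +kernel
theorem wk23_2 : allR (OT.ckEqW [X20, X22, X24, X26, X35] [X46]) (nat_lit 1532) (nat_lit 766) = true := by decide +kernel
theorem wk23_3 : allR (OT.ckEqW [X20, X22, X24, X26, X35] [X46]) (nat_lit 2298) (nat_lit 766) = true := by decide +kernel
theorem wk23_4 : allR (OT.ckEqW [X20, X22, X24, X26, X35] [X46]) (nat_lit 3064) (nat_lit 766) = true := by decide +kernel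
theorem wk23_5 : allR (OT.ckEqW [X20, X22, X24, X26, X35] [X46]) (nat_lit 3830) (nat_lit 766) = true := by decide +kernel
theorem wk28_0 : allR (OT.ckEqW [X20, X22, X28, X30, X32] [X56]) (nat_lit 0) (nat_lit 766) = true := by decide +kernel
theorem wk28_1 : allR (OT.ckEqW [X20, X22, X28, X30, X32] [X56]) (nat_lit 766) (nat_lit 766) = true := by decide +kernel
theorem wk28_2 : allR (OT.ckEqW [X20, X22, X28, X30, X32] [X56]) (nat_lit 1532) (nat_lit 766) = true := by decide +kernel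
theorem wk28_3 : allR (OT.ckEqW [X20, X22, X28, X30, X32] [X56]) (nat_lit 2298) (nat_lit 766) = true := by decide +kernel
theorem wk28_4 : allR (OT.ckEqW [X20, X22, X28, X30, X32] [X56]) (nat_lit 3064) (nat_lit 766) = true := by decide +kernel
theorem wk28_5 : allR (OT.ckEqW [X20, X22, X28, X30, X32] [X56]) (nat_lit 3830) (nat_lit 766) = true := by decide +kernel
theorem wk20_0 : allR (OT.ckEqW [X22, X32, X17, X8, X13, X5, X6, X4, X4, X3, X1, X2, X0, X0, T1, T0, T2, T0, T2, T1, T0, T2, T1, T2, T0, T1] [X40]) (nat_lit 0) (nat_lit 170) = true := by decide +kernel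
theorem wk20_1 : allR (OT.ckEqW [X22, X32, X17, X8, X13, X5, X6, X4, X4, X3, X1, X2, X0, X0, T1, T0, T2, T0, T2, T1, T0, T2, T1, T2, T0, T1] [X40]) (nat_lit 170) (nat_lit 170) = true := by decide +kernel
theorem wk20_2 : allR (OT.ckEqW [X22, X32, X17, X8, X13, X5, X6, X4, X4, X3, X1, X2, X0, X0, T1, T0, T2, T0, T2, T1, T0, T2, T1, T2, T0, T1] [X40]) (nat_lit 340) (nat_lit 170) = true := by decide +kernel
theorem wk20_3 : allR (OT.ckEqW [X22, X32, X17, X8, X13, X5, X6, X4, X4, X3, X1, X2, X0, X0, T1, T0, T2, T0, T2, T1, T0, T2, T1, T2, T0, T1] [X40]) (nat_lit 510) (nat_lit 170) = true := by decide +kernel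
theorem wk20_4 : allR (OT.ckEqW [X22, X32, X17, X8, X13, X5, X6, X4, X4, X3, X1, X2, X0, X0, T1, T0, T2, T0, T2, T1, T0, T2, T1, T2, T0, T1] [X40]) (nat_lit 680) (nat_lit 170) = true := by decide +kernel
theorem wk20_5 : allR (OT.ckEqW [X22, X32, X17, X8, X13, X5, X6, X4, X4, X3, X1, X2, X0, X0, T1, T0, T2, T0, T2, T1, T0, T2, T1, T2, T0, T1] [X40]) (nat_lit 850) (nat_lit 170) = true := by decide +kernel
theorem wk20_6 : allR (OT.ckEqW [X22, X32, X17, X8, X13, X5, X6, X4, X4, X3, X1, X2, X0, X0, T1, T0, T2, T0, T2, T1, T0, T2, T1, T2, T0, T1] [X40]) (nat_lit 1020) (nat_lit 170) = true := by decide +kernel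
theorem wk20_7 : allR (OT.ckEqW [X22, X32, X17, X8, X13, X5, X6, X4, X4, X3, X1, X2, X0, X0, T1, T0, T2, T0, T2, T1, T0, T2, T1, T2, T0, T1] [X40]) (nat_lit 1190) (nat_lit 170) = true := by decide +kernel
theorem wk20_8 : allR (OT.ckEqW [X22, X32, X17, X8, X13, X5, X6, X4, X4, X3, X1, X2, X0, X0, T1, T0, T2, T0, T2, T1, T0, T2, T1, T2, T0, T1] [X40]) (nat_lit 1360) (nat_lit 170) = true := by decide +kernel
theorem wk20_9 : allR (OT.ckEqW [X22, X32, X17, X8, X13, X5, X6, X4, X4, X3, X1, X2, X0, X0, T1, T0, T2, T0, T2, T1, T0, T2, T1, T2, T0, T1] [X40]) (nat_lit 1530) (nat_lit 170) = true := by decide +kernel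
theorem wk20_10 : allR (OT.ckEqW [X22, X32, X17, X8, X13, X5, X6, X4, X4, X3, X1, X2, X0, X0, T1, T0, T2, T0, T2, T1, T0, T2, T1, T2, T0, T1] [X40]) (nat_lit 1700) (nat_lit 170) = true := by decide +kernel
theorem wk20_11 : allR (OT.ckEqW [X22, X32, X17, X8, X13, X5, X6, X4, X4, X3, X1, X2, X0, X0, T1, T0, T2, T0, T2, T1, T0, T2, T1, T2, T0, T1] [X40]) (nat_lit 1870) (nat_lit 170) = true := by decide +kernel
theorem wk20_12 : allR (OT.ckEqW [X22, X32, X17, X8, X13, X5, X6, X4, X4, X3, X1, X2, X0, X0, T1, T0, T2, T0, T2, T1, T0, T2, T1, T2, T0, T1] [X40]) (nat_lit 2040) (nat_lit 170) = true := by decide +kernel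
theorem wk20_13 : allR (OT.ckEqW [X22, X32, X17, X8, X13, X5, X6, X4, X4, X3, X1, X2, X0, X0, T1, T0, T2, T0, T2, T1, T0, T2, T1, T2, T0, T1] [X40]) (nat_lit 2210) (nat_lit 170) = true := by decide +kernel
theorem wk20_14 : allR (OT.ckEqW [X22, X32, X17, X8, X13, X5, X6, X4, X4, X3, X1, X2, X0, X0, T1, T0, T2, T0, T2, T1, T0, T2, T1, T2, T0, T1] [X40]) (nat_lit 2380) (nat_lit 170) = true := by decide +kernel
theorem wk20_15 : allR (OT.ckEqW [X22, X32, X17, X8, X13, X5, X6, X4, X4, X3, X1, X2, X0, X0, T1, T0, T2, T0, T2, T1, T0, T2, T1, T2, T0, T1] [X40]) (nat_lit 2550) (nat_lit 170) = true := by decide +kernel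
theorem wk20_16 : allR (OT.ckEqW [X22, X32, X17, X8, X13, X5, X6, X4, X4, X3, X1, X2, X0, X0, T1, T0, T2, T0, T2, T1, T0, T2, T1, T2, T0, T1] [X40]) (nat_lit 2720) (nat_lit 170) = true := by decide +kernel
theorem wk20_17 : allR (OT.ckEqW [X22, X32, X17, X8, X13, X5, X6, X4, X4, X3, X1, X2, X0, X0, T1, T0, T2, T0, T2, T1, T0, T2, T1, T2, T0, T1] [X40]) (nat_lit 2890) (nat_lit 170) = true := by decide +kernel
theorem wk20_18 : allR (OT.ckEqW [X22, X32, X17, X8, X13, X5, X6, X4, X4, X3, X1, X2, X0, X0, T1, T0, T2, T0, T2, T1, T0, T2, T1, T2, T0, T1] [X40]) (nat_lit 3060) (nat_lit 170) = true := by decide +kernel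
theorem wk20_19 : allR (OT.ckEqW [X22, X32, X17, X8, X13, X5, X6, X4, X4, X3, X1, X2, X0, X0, T1, T0, T2, T0, T2, T1, T0, T2, T1, T2, T0, T1] [X40]) (nat_lit 3230) (nat_lit 170) = true := by decide +kernel
theorem wk20_20 : allR (OT.ckEqW [X22, X32, X17, X8, X13, X5, X6, X4, X4, X3, X1, X2, X0, X0, T1, T0, T2, T0, T2, T1, T0, T2, T1, T2, T0, T1] [X40]) (nat_lit 3400) (nat_lit 170) = true := by decide +kernel
theorem wk20_21 : allR (OT.ckEqW [X22, X32, X17, X8, X13, X5, X6, X4, X4, X3, X1, X2, X0, X0, T1, T0, T2, T0, T2, T1, T0, T2, T1, T2, T0, T1] [X40]) (nat_lit 3570) (nat_lit 170) = true := by decide +kernel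
theorem wk20_22 : allR (OT.ckEqW [X22, X32, X17, X8, X13, X5, X6, X4, X4, X3, X1, X2, X0, X0, T1, T0, T2, T0, T2, T1, T0, T2, T1, T2, T0, T1] [X40]) (nat_lit 3740) (nat_lit 170) = true := by decide +kernel
theorem wk20_23 : allR (OT.ckEqW [X22, X32, X17, X8, X13, X5, X6, X4, X4, X3, X1, X2, X0, X0, T1, T0, T2, T0, T2, T1, T0, T2, T1, T2, T0, T1] [X40]) (nat_lit 3910) (nat_lit 170) = true := by decide +kernel
theorem wk20_24 : allR (OT.ckEqW [X22, X32, X17, X8, X13, X5, X6, X4, X4, X3, X1, X2, X0, X0, T1, T0, T2, T0, T2, T1, T0, T2, T1, T2, T0, T1] [X40]) (nat_lit 4080) (nat_lit 170) = true := by decide +kernel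
theorem wk20_25 : allR (OT.ckEqW [X22, X32, X17, X8, X13, X5, X6, X4, X4, X3, X1, X2, X0, X0, T1, T0, T2, T0, T2, T1, T0, T2, T1, T2, T0, T1] [X40]) (nat_lit 4250) (nat_lit 170) = true := by decide +kernel
theorem wk20_26 : allR (OT.ckEqW [X22, X32, X17, X8, X13, X5, X6, X4, X4, X3, X1, X2, X0, X0, T1, T0, T2, T0, T2, T1, T0, T2, T1, T2, T0, T1] [X40]) (nat_lit 4420) (nat_lit 170) = true := by decide +kernel
theorem wk2_0 : allR (OT.ckEqW [X1, X3, X0, X2, X0, X0, X3, X3, X1, X1, X1, X2] [X4]) (nat_lit 0) (nat_lit 353) = true := by decide +kernel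
theorem wk2_1 : allR (OT.ckEqW [X1, X3, X0, X2, X0, X0, X3, X3, X1, X1, X1, X2] [X4]) (nat_lit 353) (nat_lit 353) = true := by decide +kernel
theorem wk2_2 : allR (OT.ckEqW [X1, X3, X0, X2, X0, X0, X3, X3, X1, X1, X1, X2] [X4]) (nat_lit 706) (nat_lit 353) = true := by decide +kernel
theorem wk2_3 : allR (OT.ckEqW [X1, X3, X0, X2, X0, X0, X3, X3, X1, X1, X1, X2] [X4]) (nat_lit 1059) (nat_lit 353) = true := by decide +kernel
theorem wk2_4 : allR (OT.ckEqW [X1, X3, X0, X2, X0, X0, X3, X3, X1, X1, X1, X2] [X4]) (nat_lit 1412) (nat_lit 353) = true := by decide +kernel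
theorem wk2_5 : allR (OT.ckEqW [X1, X3, X0, X2, X0, X0, X3, X3, X1, X1, X1, X2] [X4]) (nat_lit 1765) (nat_lit 353) = true := by decide +kernel
theorem wk2_6 : allR (OT.ckEqW [X1, X3, X0, X2, X0, X0, X3, X3, X1, X1, X1, X2] [X4]) (nat_lit 2118) (nat_lit 353) = true := by decide +kernel
theorem wk2_7 : allR (OT.ckEqW [X1, X3, X0, X2, X0, X0, X3, X3, X1, X1, X1, X2] [X4]) (nat_lit 2471) (nat_lit 353) = true := by decide +kernel
theorem wk2_8 : allR (OT.ckEqW [X1, X3, X0, X2, X0, X0, X3, X3, X1, X1, X1, X2] [X4]) (nat_lit 2824) (nat_lit 353) = true := by decide +kernel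
theorem wk2_9 : allR (OT.ckEqW [X1, X3, X0, X2, X0, X0, X3, X3, X1, X1, X1, X2] [X4]) (nat_lit 3177) (nat_lit 353) = true := by decide +kernel
theorem wk2_10 : allR (OT.ckEqW [X1, X3, X0, X2, X0, X0, X3, X3, X1, X1, X1, X2] [X4]) (nat_lit 3530) (nat_lit 353) = true := by decide +kernel
theorem wk2_11 : allR (OT.ckEqW [X1, X3, X0, X2, X0, X0, X3, X3, X1, X1, X1, X2] [X4]) (nat_lit 3883) (nat_lit 353) = true := by decide +kernel
theorem wk2_12 : allR (OT.ckEqW [X1, X3, X0, X2, X0, X0, X3, X3, X1, X1, X1, X2] [X4]) (nat_lit 4236) (nat_lit 353) = true := by decide +kernel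
theorem wk6_0 : allR (OT.ckEqW [X7, X4, X6, X5, X7, X7, X5, X7, X4, X6, X4, X6] [X12]) (nat_lit 0) (nat_lit 353) = true := by decide +kernel
theorem wk6_1 : allR (OT.ckEqW [X7, X4, X6, X5, X7, X7, X5, X7, X4, X6, X4, X6] [X12]) (nat_lit 353) (nat_lit 353) = true := by decide +kernel
theorem wk6_2 : allR (OT.ckEqW [X7, X4, X6, X5, X7, X7, X5, X7, X4, X6, X4, X6] [X12]) (nat_lit 706) (nat_lit 353) = true := by decide +kernel
theorem wk6_3 : allR (OT.ckEqW [X7, X4, X6, X5, X7, X7, X5, X7, X4, X6, X4, X6] [X12]) (nat_lit 1059) (nat_lit 353) = true := by decide +kernel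
theorem wk6_4 : allR (OT.ckEqW [X7, X4, X6, X5, X7, X7, X5, X7, X4, X6, X4, X6] [X12]) (nat_lit 1412) (nat_lit 353) = true := by decide +kernel
theorem wk6_5 : allR (OT.ckEqW [X7, X4, X6, X5, X7, X7, X5, X7, X4, X6, X4, X6] [X12]) (nat_lit 1765) (nat_lit 353) = true := by decide +kernel
theorem wk6_6 : allR (OT.ckEqW [X7, X4, X6, X5, X7, X7, X5, X7, X4, X6, X4, X6] [X12]) (nat_lit 2118) (nat_lit 353) = true := by decide +kernel
theorem wk6_7 : allR (OT.ckEqW [X7, X4, X6, X5, X7, X7, X5, X7, X4, X6, X4, X6] [X12]) (nat_lit 2471) (nat_lit 353) = true := by decide +kernel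
theorem wk6_8 : allR (OT.ckEqW [X7, X4, X6, X5, X7, X7, X5, X7, X4, X6, X4, X6] [X12]) (nat_lit 2824) (nat_lit 353) = true := by decide +kernel
theorem wk6_9 : allR (OT.ckEqW [X7, X4, X6, X5, X7, X7, X5, X7, X4, X6, X4, X6] [X12]) (nat_lit 3177) (nat_lit 353) = true := by decide +kernel
theorem wk6_10 : allR (OT.ckEqW [X7, X4, X6, X5, X7, X7, X5, X7, X4, X6, X4, X6] [X12]) (nat_lit 3530) (nat_lit 353) = true := by decide +kernel
theorem wk6_11 : allR (OT.ckEqW [X7, X4, X6, X5, X7, X7, X5, X7, X4, X6, X4, X6] [X12]) (nat_lit 3883) (nat_lit 353) = true := by decide +kernel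
theorem wk6_12 : allR (OT.ckEqW [X7, X4, X6, X5, X7, X7, X5, X7, X4, X6, X4, X6] [X12]) (nat_lit 4236) (nat_lit 353) = true := by decide +kernel
theorem wk19_0 : allR (OT.ckEqW [X20, X22, X24, X26, X30, X34, X14, X17, X13, X5, X5, X6, X6, X6, X0, X0, X2, X2, X1, X2, T1, T2, T0, T1, T0, T1, T0, T2, T0, T1, T2, T0] [X38]) (nat_lit 0) (nat_lit 139) = true := by decide +kernel
theorem wk19_1 : allR (OT.ckEqW [X20, X22, X24, X26, X30, X34, X14, X17, X13, X5, X5, X6, X6, X6, X0, X0, X2, X2, X1, X2, T1, T2, T0, T1, T0, T1, T0, T2, T0, T1, T2, T0] [X38]) (nat_lit 139) (nat_lit 139) = true := by decide +kernel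
theorem wk19_2 : allR (OT.ckEqW [X20, X22, X24, X26, X30, X34, X14, X17, X13, X5, X5, X6, X6, X6, X0, X0, X2, X2, X1, X2, T1, T2, T0, T1, T0, T1, T0, T2, T0, T1, T2, T0] [X38]) (nat_lit 278) (nat_lit 139) = true := by decide +kernel
theorem wk19_3 : allR (OT.ckEqW [X20, X22, X24, X26, X30, X34, X14, X17, X13, X5, X5, X6, X6, X6, X0, X0, X2, X2, X1, X2, T1, T2, T0, T1, T0, T1, T0, T2, T0, T1, T2, T0] [X38]) (nat_lit 417) (nat_lit 139) = true := by decide +kernel
theorem wk19_4 : allR (OT.ckEqW [X20, X22, X24, X26, X30, X34, X14, X17, X13, X5, X5, X6, X6, X6, X0, X0, X2, X2, X1, X2, T1, T2, T0, T1, T0, T1, T0, T2, T0, T1, T2, T0] [X38]) (nat_lit 556) (nat_lit 139) = true := by decide +kernel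
theorem wk19_5 : allR (OT.ckEqW [X20, X22, X24, X26, X30, X34, X14, X17, X13, X5, X5, X6, X6, X6, X0, X0, X2, X2, X1, X2, T1, T2, T0, T1, T0, T1, T0, T2, T0, T1, T2, T0] [X38]) (nat_lit 695) (nat_lit 139) = true := by decide +kernel
theorem wk19_6 : allR (OT.ckEqW [X20, X22, X24, X26, X30, X34, X14, X17, X13, X5, X5, X6, X6, X6, X0, X0, X2, X2, X1, X2, T1, T2, T0, T1, T0, T1, T0, T2, T0, T1, T2, T0] [X38]) (nat_lit 834) (nat_lit 139) = true := by decide +kernel
theorem wk19_7 : allR (OT.ckEqW [X20, X22, X24, X26, X30, X34, X14, X17, X13, X5, X5, X6, X6, X6, X0, X0, X2, X2, X1, X2, T1, T2, T0, T1, T0, T1, T0, T2, T0, T1, T2, T0] [X38]) (nat_lit 973) (nat_lit 139) = true := by decide +kernel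
theorem wk19_8 : allR (OT.ckEqW [X20, X22, X24, X26, X30, X34, X14, X17, X13, X5, X5, X6, X6, X6, X0, X0, X2, X2, X1, X2, T1, T2, T0, T1, T0, T1, T0, T2, T0, T1, T2, T0] [X38]) (nat_lit 1112) (nat_lit 139) = true := by decide +kernel
theorem wk19_9 : allR (OT.ckEqW [X20, X22, X24, X26, X30, X34, X14, X17, X13, X5, X5, X6, X6, X6, X0, X0, X2, X2, X1, X2, T1, T2, T0, T1, T0, T1, T0, T2, T0, T1, T2, T0] [X38]) (nat_lit 1251) (nat_lit 139) = true := by decide +kernel
theorem wk19_10 : allR (OT.ckEqW [X20, X22, X24, X26, X30, X34, X14, X17, X13, X5, X5, X6, X6, X6, X0, X0, X2, X2, X1, X2, T1, T2, T0, T1, T0, T1, T0, T2, T0, T1, T2, T0] [X38]) (nat_lit 1390) (nat_lit 139) = true := by decide +kernel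
theorem wk19_11 : allR (OT.ckEqW [X20, X22, X24, X26, X30, X34, X14, X17, X13, X5, X5, X6, X6, X6, X0, X0, X2, X2, X1, X2, T1, T2, T0, T1, T0, T1, T0, T2, T0, T1, T2, T0] [X38]) (nat_lit 1529) (nat_lit 139) = true := by decide +kernel
theorem wk19_12 : allR (OT.ckEqW [X20, X22, X24, X26, X30, X34, X14, X17, X13, X5, X5, X6, X6, X6, X0, X0, X2, X2, X1, X2, T1, T2, T0, T1, T0, T1, T0, T2, T0, T1, T2, T0] [X38]) (nat_lit 1668) (nat_lit 139) = true := by decide +kernel
theorem wk19_13 : allR (OT.ckEqW [X20, X22, X24, X26, X30, X34, X14, X17, X13, X5, X5, X6, X6, X6, X0, X0, X2, X2, X1, X2, T1, T2, T0, T1, T0, T1, T0, T2, T0, T1, T2, T0] [X38]) (nat_lit 1807) (nat_lit 139) = true := by decide +kernel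
theorem wk19_14 : allR (OT.ckEqW [X20, X22, X24, X26, X30, X34, X14, X17, X13, X5, X5, X6, X6, X6, X0, X0, X2, X2, X1, X2, T1, T2, T0, T1, T0, T1, T0, T2, T0, T1, T2, T0] [X38]) (nat_lit 1946) (nat_lit 139) = true := by decide +kernel
theorem wk19_15 : allR (OT.ckEqW [X20, X22, X24, X26, X30, X34, X14, X17, X13, X5, X5, X6, X6, X6, X0, X0, X2, X2, X1, X2, T1, T2, T0, T1, T0, T1, T0, T2, T0, T1, T2, T0] [X38]) (nat_lit 2085) (nat_lit 139) = true := by decide +kernel
theorem wk19_16 : allR (OT.ckEqW [X20, X22, X24, X26, X30, X34, X14, X17, X13, X5, X5, X6, X6, X6, X0, X0, X2, X2, X1, X2, T1, T2, T0, T1, T0, T1, T0, T2, T0, T1, T2, T0] [X38]) (nat_lit 2224) (nat_lit 139) = true := by decide +kernel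
theorem wk19_17 : allR (OT.ckEqW [X20, X22, X24, X26, X30, X34, X14, X17, X13, X5, X5, X6, X6, X6, X0, X0, X2, X2, X1, X2, T1, T2, T0, T1, T0, T1, T0, T2, T0, T1, T2, T0] [X38]) (nat_lit 2363) (nat_lit 139) = true := by decide +kernel
theorem wk19_18 : allR (OT.ckEqW [X20, X22, X24, X26, X30, X34, X14, X17, X13, X5, X5, X6, X6, X6, X0, X0, X2, X2, X1, X2, T1, T2, T0, T1, T0, T1, T0, T2, T0, T1, T2, T0] [X38]) (nat_lit 2502) (nat_lit 139) = true := by decide +kernel
theorem wk19_19 : allR (OT.ckEqW [X20, X22, X24, X26, X30, X34, X14, X17, X13, X5, X5, X6, X6, X6, X0, X0, X2, X2, X1, X2, T1, T2, T0, T1, T0, T1, T0, T2, T0, T1, T2, T0] [X38]) (nat_lit 2641) (nat_lit 139) = true := by decide +kernel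
theorem wk19_20 : allR (OT.ckEqW [X20, X22, X24, X26, X30, X34, X14, X17, X13, X5, X5, X6, X6, X6, X0, X0, X2, X2, X1, X2, T1, T2, T0, T1, T0, T1, T0, T2, T0, T1, T2, T0] [X38]) (nat_lit 2780) (nat_lit 139) = true := by decide +kernel
theorem wk19_21 : allR (OT.ckEqW [X20, X22, X24, X26, X30, X34, X14, X17, X13, X5, X5, X6, X6, X6, X0, X0, X2, X2, X1, X2, T1, T2, T0, T1, T0, T1, T0, T2, T0, T1, T2, T0] [X38]) (nat_lit 2919) (nat_lit 139) = true := by decide +kernel
theorem wk19_22 : allR (OT.ckEqW [X20, X22, X24, X26, X30, X34, X14, X17, X13, X5, X5, X6, X6, X6, X0, X0, X2, X2, X1, X2, T1, T2, T0, T1, T0, T1, T0, T2, T0, T1, T2, T0] [X38]) (nat_lit 3058) (nat_lit 139) = true := by decide +kernel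
theorem wk19_23 : allR (OT.ckEqW [X20, X22, X24, X26, X30, X34, X14, X17, X13, X5, X5, X6, X6, X6, X0, X0, X2, X2, X1, X2, T1, T2, T0, T1, T0, T1, T0, T2, T0, T1, T2, T0] [X38]) (nat_lit 3197) (nat_lit 139) = true := by decide +kernel
theorem wk19_24 : allR (OT.ckEqW [X20, X22, X24, X26, X30, X34, X14, X17, X13, X5, X5, X6, X6, X6, X0, X0, X2, X2, X1, X2, T1, T2, T0, T1, T0, T1, T0, T2, T0, T1, T2, T0] [X38]) (nat_lit 3336) (nat_lit 139) = true := by decide +kernel
theorem wk19_25 : allR (OT.ckEqW [X20, X22, X24, X26, X30, X34, X14, X17, X13, X5, X5, X6, X6, X6, X0, X0, X2, X2, X1, X2, T1, T2, T0, T1, T0, T1, T0, T2, T0, T1, T2, T0] [X38]) (nat_lit 3475) (nat_lit 139) = true := by decide +kernel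
theorem wk19_26 : allR (OT.ckEqW [X20, X22, X24, X26, X30, X34, X14, X17, X13, X5, X5, X6, X6, X6, X0, X0, X2, X2, X1, X2, T1, T2, T0, T1, T0, T1, T0, T2, T0, T1, T2, T0] [X38]) (nat_lit 3614) (nat_lit 139) = true := by decide +kernel
theorem wk19_27 : allR (OT.ckEqW [X20, X22, X24, X26, X30, X34, X14, X17, X13, X5, X5, X6, X6, X6, X0, X0, X2, X2, X1, X2, T1, T2, T0, T1, T0, T1, T0, T2, T0, T1, T2, T0] [X38]) (nat_lit 3753) (nat_lit 139) = true := by decide +kernel
theorem wk19_28 : allR (OT.ckEqW [X20, X22, X24, X26, X30, X34, X14, X17, X13, X5, X5, X6, X6, X6, X0, X0, X2, X2, X1, X2, T1, T2, T0, T1, T0, T1, T0, T2, T0, T1, T2, T0] [X38]) (nat_lit 3892) (nat_lit 139) = true := by decide +kernel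
theorem wk19_29 : allR (OT.ckEqW [X20, X22, X24, X26, X30, X34, X14, X17, X13, X5, X5, X6, X6, X6, X0, X0, X2, X2, X1, X2, T1, T2, T0, T1, T0, T1, T0, T2, T0, T1, T2, T0] [X38]) (nat_lit 4031) (nat_lit 139) = true := by decide +kernel
theorem wk19_30 : allR (OT.ckEqW [X20, X22, X24, X26, X30, X34, X14, X17, X13, X5, X5, X6, X6, X6, X0, X0, X2, X2, X1, X2, T1, T2, T0, T1, T0, T1, T0, T2, T0, T1, T2, T0] [X38]) (nat_lit 4170) (nat_lit 139) = true := by decide +kernel
theorem wk19_31 : allR (OT.ckEqW [X20, X22, X24, X26, X30, X34, X14, X17, X13, X5, X5, X6, X6, X6, X0, X0, X2, X2, X1, X2, T1, T2, T0, T1, T0, T1, T0, T2, T0, T1, T2, T0] [X38]) (nat_lit 4309) (nat_lit 139) = true := by decide +kernel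
theorem wk19_32 : allR (OT.ckEqW [X20, X22, X24, X26, X30, X34, X14, X17, X13, X5, X5, X6, X6, X6, X0, X0, X2, X2, X1, X2, T1, T2, T0, T1, T0, T1, T0, T2, T0, T1, T2, T0] [X38]) (nat_lit 4448) (nat_lit 139) = true := by decide +kernel
theorem wk19_33 : allR (OT.ckEqW [X20, X22, X24, X26, X30, X34, X14, X17, X13, X5, X5, X6, X6, X6, X0, X0, X2, X2, X1, X2, T1, T2, T0, T1, T0, T1, T0, T2, T0, T1, T2, T0] [X38]) (nat_lit 4587) (nat_lit 13) = true := by decide +kernel
theorem wk20_27 : allR (OT.ckEqW [X22, X32, X17, X8, X13, X5, X6, X4, X4, X3, X1, X2, X0, X0, T1, T0, T2, T0, T2, T1, T0, T2, T1, T2, T0, T1] [X40]) (nat_lit 4590) (nat_lit 10) = true := by decide +kernel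
theorem wk2_13 : allR (OT.ckEqW [X1, X3, X0, X2, X0, X0, X3, X3, X1, X1, X1, X2] [X4]) (nat_lit 4589) (nat_lit 11) = true := by decide +kernel
theorem wk6_13 : allR (OT.ckEqW [X7, X4, X6, X5, X7, X7, X5, X7, X4, X6, X4, X6] [X12]) (nat_lit 4589) (nat_lit 11) = true := by decide +kernel
theorem wk3_12 : allR (OT.ckEqW [X1, X3, X3, X1, X1, X2, X1, X3, X1, X3, X0] [X6]) (nat_lit 4596) (nat_lit 4) = true := by decide +kernel
theorem wk1_22 : allR (OT.ckEqW [T0, T1, T0, T1, T0, T2, T0, T2, T0, T1, T0, T2, T0, T1, T0, T2, T0, T1, T2, T0, T1] [X2]) (nat_lit 4598) (nat_lit 2) = true := by decide +kernel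
theorem wk7_6 : allR (OT.ckEqW [X11, X8, X12, X11, X9] [X14]) (nat_lit 4596) (nat_lit 4) = true := by decide +kernel
theorem wk9_6 : allR (OT.ckEqW [X9, X10, X8, X10, X9] [X18]) (nat_lit 4596) (nat_lit 4) = true := by decide +kernel
theorem wk12_6 : allR (OT.ckEqW [X16, X18, X16, X15, X15] [X24]) (nat_lit 4596) (nat_lit 4) = true := by decide +kernel
theorem wk15_6 : allR (OT.ckEqW [X18, X16, X14, X17, X15] [X30]) (nat_lit 4596) (nat_lit 4) = true := by decide +kernel
theorem wk23_6 : allR (OT.ckEqW [X20, X22, X24, X26, X35] [X46]) (nat_lit 4596) (nat_lit 4) = true := by decide +kernel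
theorem wk28_6 : allR (OT.ckEqW [X20, X22, X28, X30, X32] [X56]) (nat_lit 4596) (nat_lit 4) = true := by decide +kernel
theorem wk4_9 : allR (OT.ckEqW [X5, X6, X5, X6, X4, X7, X5, X5] [X8]) (nat_lit 4599) (nat_lit 1) = true := by decide +kernel
theorem wk16_7 : allR (OT.ckEqW [X17, X15, X18, X17, X17, X15] [X32]) (nat_lit 4599) (nat_lit 1) = true := by decide +kernel
theorem wk26_7 : allR (OT.ckEqW [X20, X22, X24, X30, X32, X35] [X52]) (nat_lit 4599) (nat_lit 1) = true := by decide +kernel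
theorem wk8_3 : allR (OT.ckEqW [X11, X11] [X16]) (nat_lit 4599) (nat_lit 1) = true := by decide +kernel
theorem wk11_3 : allR (OT.ckEqW [X15, X15] [X22]) (nat_lit 4599) (nat_lit 1) = true := by decide +kernel
theorem wk13_3 : allR (OT.ckEqW [X17, X18] [X26]) (nat_lit 4599) (nat_lit 1) = true := by decide +kernel

end Cfsg.Agent.H8.Co2C
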