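import Cfsg.Agent.H8.T.Co2Oa

set_option Elab.async false
set_option autoImplicit false
set_option linter.all false
set_option maxRecDepth 100000
set_option maxHeartbeats 400000

namespace Cfsg.Agent.H8.Co2O
open Cfsg.Agent.H8.LtC2 (T0 T1 T2)

theorem pk0_0 : allR (ckPerm (nat_lit 4600) X0 X1) (nat_lit 0) (nat_lit 2300) = true := by decide +kernel
theorem pk0_1 : allR (ckPerm (nat_lit 4600) X0 X1) (nat_lit 2300) (nat_lit 2300) = true := by decide +kernel
theorem pk1_0 : allR (ckPerm (nat_lit 4600) X1 X0) (nat_lit 0) (nat_lit 2300) = true := by decide +kernel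
theorem pk1_1 : allR (ckPerm (nat_lit 4600) X1 X0) (nat_lit 2300) (nat_lit 2300) = true := by decide +kernel
theorem pk2_0 : allR (ckPerm (nat_lit 4600) X2 X3) (nat_lit 0) (nat_lit 2300) = true := by decide +kernel
theorem pk2_1 : allR (ckPerm (nat_lit 4600) X2 X3) (nat_lit 2300) (nat_lit 2300) = true := by decide +kernel
theorem pk3_0 : allR (ckPerm (nat_lit 4600) X3 X2) (nat_lit 0) (nat_lit 2300) = true := by decide +kernel
theorem pk3_1 : allR (ckPerm (nat_lit 4600) X3 X2) (nat_lit 2300) (nat_lit 2300) = true := by decide +kernel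
theorem pk4_0 : allR (ckPerm (nat_lit 4600) X4 X5) (nat_lit 0) (nat_lit 2300) = true := by decide +kernel
theorem pk4_1 : allR (ckPerm (nat_lit 4600) X4 X5) (nat_lit 2300) (nat_lit 2300) = true := by decide +kernel
theorem pk5_0 : allR (ckPerm (nat_lit 4600) X5 X4) (nat_lit 0) (nat_lit 2300) = true := by decide +kernel
theorem pk5_1 : allR (ckPerm (nat_lit 4600) X5 X4) (nat_lit 2300) (nat_lit 2300) = true := by decide +kernel
theorem pk6_0 : allR (ckPerm (nat_lit 4600) X6 X7) (nat_lit 0) (nat_lit 2300) = true := by decide +kernel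
theorem pk6_1 : allR (ckPerm (nat_lit 4600) X6 X7) (nat_lit 2300) (nat_lit 2300) = true := by decide +kernel
theorem pk7_0 : allR (ckPerm (nat_lit 4600) X7 X6) (nat_lit 0) (nat_lit 2300) = true := by decide +kernel
theorem pk7_1 : allR (ckPerm (nat_lit 4600) X7 X6) (nat_lit 2300) (nat_lit 2300) = true := by decide +kernel
theorem pk8_0 : allR (ckPerm (nat_lit 4600) X8 X9) (nat_lit 0) (nat_lit 2300) = true := by decide +kernel
theorem pk8_1 : allR (ckPerm (nat_lit 4600) X8 X9) (nat_lit 2300) (nat_lit 2300) = true := by decide +kernel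
theorem pk9_0 : allR (ckPerm (nat_lit 4600) X9 X8) (nat_lit 0) (nat_lit 2300) = true := by decide +kernel
theorem pk9_1 : allR (ckPerm (nat_lit 4600) X9 X8) (nat_lit 2300) (nat_lit 2300) = true := by decide +kernel
theorem pk10_0 : allR (ckPerm (nat_lit 4600) X10 X11) (nat_lit 0) (nat_lit 2300) = true := by decide +kernel
theorem pk10_1 : allR (ckPerm (nat_lit 4600) X10 X11) (nat_lit 2300) (nat_lit 2300) = true := by decide +kernel
theorem pk11_0 : allR (ckPerm (nat_lit 4600) X11 X10) (nat_lit 0) (nat_lit 2300) = true := by decide +kernel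
theorem pk11_1 : allR (ckPerm (nat_lit 4600) X11 X10) (nat_lit 2300) (nat_lit 2300) = true := by decide +kernel
theorem pk12_0 : allR (ckPerm (nat_lit 4600) X12 X13) (nat_lit 0) (nat_lit 2300) = true := by decide +kernel
theorem pk12_1 : allR (ckPerm (nat_lit 4600) X12 X13) (nat_lit 2300) (nat_lit 2300) = true := by decide +kernel
theorem pk13_0 : allR (ckPerm (nat_lit 4600) X13 X12) (nat_lit 0) (nat_lit 2300) = true := by decide +kernel
theorem pk13_1 : allR (ckPerm (nat_lit 4600) X13 X12) (nat_lit 2300) (nat_lit 2300) = true := by decide +kernel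
theorem pk14_0 : allR (ckPerm (nat_lit 4600) X14 X15) (nat_lit 0) (nat_lit 2300) = true := by decide +kernel
theorem pk14_1 : allR (ckPerm (nat_lit 4600) X14 X15) (nat_lit 2300) (nat_lit 2300) = true := by decide +kernel
theorem pk15_0 : allR (ckPerm (nat_lit 4600) X15 X14) (nat_lit 0) (nat_lit 2300) = true := by decide +kernel
theorem pk15_1 : allR (ckPerm (nat_lit 4600) X15 X14) (nat_lit 2300) (nat_lit 2300) = true := by decide +kernel
theorem pk16_0 : allR (ckPerm (nat_lit 4600) X16 X17) (nat_lit 0) (nat_lit 2300) = true := by decide +kernel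
theorem pk16_1 : allR (ckPerm (nat_lit 4600) X16 X17) (nat_lit 2300) (nat_lit 2300) = true := by decide +kernel
theorem pk17_0 : allR (ckPerm (nat_lit 4600) X17 X16) (nat_lit 0) (nat_lit 2300) = true := by decide +kernel
theorem pk17_1 : allR (ckPerm (nat_lit 4600) X17 X16) (nat_lit 2300) (nat_lit 2300) = true := by decide +kernel
theorem pk18_0 : allR (ckPerm (nat_lit 4600) X18 X19) (nat_lit 0) (nat_lit 2300) = true := by decide +kernel
theorem pk18_1 : allR (ckPerm (nat_lit 4600) X18 X19) (nat_lit 2300) (nat_lit 2300) = true := by decide +kernel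
theorem pk19_0 : allR (ckPerm (nat_lit 4600) X19 X18) (nat_lit 0) (nat_lit 2300) = true := by decide +kernel
theorem pk19_1 : allR (ckPerm (nat_lit 4600) X19 X18) (nat_lit 2300) (nat_lit 2300) = true := by decide +kernel
theorem pk20_0 : allR (ckPerm (nat_lit 4600) X20 X21) (nat_lit 0) (nat_lit 2300) = true := by decide +kernel
theorem pk20_1 : allR (ckPerm (nat_lit 4600) X20 X21) (nat_lit 2300) (nat_lit 2300) = true := by decide +kernel
theorem pk21_0 : allR (ckPerm (nat_lit 4600) X21 X20) (nat_lit 0) (nat_lit 2300) = true := by decide +kernel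
theorem pk21_1 : allR (ckPerm (nat_lit 4600) X21 X20) (nat_lit 2300) (nat_lit 2300) = true := by decide +kernel
theorem pk22_0 : allR (ckPerm (nat_lit 4600) X22 X23) (nat_lit 0) (nat_lit 2300) = true := by decide +kernel
theorem pk22_1 : allR (ckPerm (nat_lit 4600) X22 X23) (nat_lit 2300) (nat_lit 2300) = true := by decide +kernel
theorem pk23_0 : allR (ckPerm (nat_lit 4600) X23 X22) (nat_lit 0) (nat_lit 2300) = true := by decide +kernel
theorem pk23_1 : allR (ckPerm (nat_lit 4600) X23 X22) (nat_lit 2300) (nat_lit 2300) = true := by decide +kernel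
theorem pk24_0 : allR (ckPerm (nat_lit 4600) X24 X25) (nat_lit 0) (nat_lit 2300) = true := by decide +kernel
theorem pk24_1 : allR (ckPerm (nat_lit 4600) X24 X25) (nat_lit 2300) (nat_lit 2300) = true := by decide +kernel
theorem pk25_0 : allR (ckPerm (nat_lit 4600) X25 X24) (nat_lit 0) (nat_lit 2300) = true := by decide +kernel
theorem pk25_1 : allR (ckPerm (nat_lit 4600) X25 X24) (nat_lit 2300) (nat_lit 2300) = true := by decide +kernel
theorem pk26_0 : allR (ckPerm (nat_lit 4600) X26 X27) (nat_lit 0) (nat_lit 2300) = true := by decide +kernel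
theorem pk26_1 : allR (ckPerm (nat_lit 4600) X26 X27) (nat_lit 2300) (nat_lit 2300) = true := by decide +kernel
theorem pk27_0 : allR (ckPerm (nat_lit 4600) X27 X26) (nat_lit 0) (nat_lit 2300) = true := by decide +kernel
theorem pk27_1 : allR (ckPerm (nat_lit 4600) X27 X26) (nat_lit 2300) (nat_lit 2300) = true := by decide +kernel
theorem pk28_0 : allR (ckPerm (nat_lit 4600) X28 X29) (nat_lit 0) (nat_lit 2300) = true := by decide +kernel
theorem pk28_1 : allR (ckPerm (nat_lit 4600) X28 X29) (nat_lit 2300) (nat_lit 2300) = true := by decide +kernel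
theorem pk29_0 : allR (ckPerm (nat_lit 4600) X29 X28) (nat_lit 0) (nat_lit 2300) = true := by decide +kernel
theorem pk29_1 : allR (ckPerm (nat_lit 4600) X29 X28) (nat_lit 2300) (nat_lit 2300) = true := by decide +kernel
theorem pk30_0 : allR (ckPerm (nat_lit 4600) X30 X31) (nat_lit 0) (nat_lit 2300) = true := by decide +kernel
theorem pk30_1 : allR (ckPerm (nat_lit 4600) X30 X31) (nat_lit 2300) (nat_lit 2300) = true := by decide +kernel
theorem pk31_0 : allR (ckPerm (nat_lit 4600) X31 X30) (nat_lit 0) (nat_lit 2300) = true := by decide +kernel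
theorem pk31_1 : allR (ckPerm (nat_lit 4600) X31 X30) (nat_lit 2300) (nat_lit 2300) = true := by decide +kernel
theorem pk32_0 : allR (ckPerm (nat_lit 4600) X32 X33) (nat_lit 0) (nat_lit 2300) = true := by decide +kernel
theorem pk32_1 : allR (ckPerm (nat_lit 4600) X32 X33) (nat_lit 2300) (nat_lit 2300) = true := by decide +kernel
theorem pk33_0 : allR (ckPerm (nat_lit 4600) X33 X32) (nat_lit 0) (nat_lit 2300) = true := by decide +kernel
theorem pk33_1 : allR (ckPerm (nat_lit 4600) X33 X32) (nat_lit 2300) (nat_lit 2300) = true := by decide +kernel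
theorem pk34_0 : allR (ckPerm (nat_lit 4600) X34 X35) (nat_lit 0) (nat_lit 2300) = true := by decide +kernel
theorem pk34_1 : allR (ckPerm (nat_lit 4600) X34 X35) (nat_lit 2300) (nat_lit 2300) = true := by decide +kernel
theorem pk35_0 : allR (ckPerm (nat_lit 4600) X35 X34) (nat_lit 0) (nat_lit 2300) = true := by decide +kernel
theorem pk35_1 : allR (ckPerm (nat_lit 4600) X35 X34) (nat_lit 2300) (nat_lit 2300) = true := by decide +kernel
theorem pk36_0 : allR (ckPerm (nat_lit 4600) X36 X37) (nat_lit 0) (nat_lit 2300) = true := by decide +kernel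
theorem pk36_1 : allR (ckPerm (nat_lit 4600) X36 X37) (nat_lit 2300) (nat_lit 2300) = true := by decide +kernel
theorem pk37_0 : allR (ckPerm (nat_lit 4600) X37 X36) (nat_lit 0) (nat_lit 2300) = true := by decide +kernel
theorem pk37_1 : allR (ckPerm (nat_lit 4600) X37 X36) (nat_lit 2300) (nat_lit 2300) = true := by decide +kernel
theorem pk38_0 : allR (ckPerm (nat_lit 4600) X38 X39) (nat_lit 0) (nat_lit 2300) = true := by decide +kernel
theorem pk38_1 : allR (ckPerm (nat_lit 4600) X38 X39) (nat_lit 2300) (nat_lit 2300) = true := by decide +kernel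
theorem pk39_0 : allR (ckPerm (nat_lit 4600) X39 X38) (nat_lit 0) (nat_lit 2300) = true := by decide +kernel
theorem pk39_1 : allR (ckPerm (nat_lit 4600) X39 X38) (nat_lit 2300) (nat_lit 2300) = true := by decide +kernel
theorem pk40_0 : allR (ckPerm (nat_lit 4600) X40 X41) (nat_lit 0) (nat_lit 2300) = true := by decide +kernel
theorem pk40_1 : allR (ckPerm (nat_lit 4600) X40 X41) (nat_lit 2300) (nat_lit 2300) = true := by decide +kernel
theorem pk41_0 : allR (ckPerm (nat_lit 4600) X41 X40) (nat_lit 0) (nat_lit 2300) = true := by decide +kernel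
theorem pk41_1 : allR (ckPerm (nat_lit 4600) X41 X40) (nat_lit 2300) (nat_lit 2300) = true := by decide +kernel
theorem pk42_0 : allR (ckPerm (nat_lit 4600) X42 X43) (nat_lit 0) (nat_lit 2300) = true := by decide +kernel
theorem pk42_1 : allR (ckPerm (nat_lit 4600) X42 X43) (nat_lit 2300) (nat_lit 2300) = true := by decide +kernel
theorem pk43_0 : allR (ckPerm (nat_lit 4600) X43 X42) (nat_lit 0) (nat_lit 2300) = true := by decide +kernel
theorem pk43_1 : allR (ckPerm (nat_lit 4600) X43 X42) (nat_lit 2300) (nat_lit 2300) = true := by decide +kernel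
theorem pk44_0 : allR (ckPerm (nat_lit 4600) X44 X45) (nat_lit 0) (nat_lit 2300) = true := by decide +kernel
theorem pk44_1 : allR (ckPerm (nat_lit 4600) X44 X45) (nat_lit 2300) (nat_lit 2300) = true := by decide +kernel
theorem pk45_0 : allR (ckPerm (nat_lit 4600) X45 X44) (nat_lit 0) (nat_lit 2300) = true := by decide +kernel
theorem pk45_1 : allR (ckPerm (nat_lit 4600) X45 X44) (nat_lit 2300) (nat_lit 2300) = true := by decide +kernel
theorem pk46_0 : allR (ckPerm (nat_lit 4600) X46 X47) (nat_lit 0) (nat_lit 2300) = true := by decide +kernel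
theorem pk46_1 : allR (ckPerm (nat_lit 4600) X46 X47) (nat_lit 2300) (nat_lit 2300) = true := by decide +kernel
theorem pk47_0 : allR (ckPerm (nat_lit 4600) X47 X46) (nat_lit 0) (nat_lit 2300) = true := by decide +kernel
theorem pk47_1 : allR (ckPerm (nat_lit 4600) X47 X46) (nat_lit 2300) (nat_lit 2300) = true := by decide +kernel
theorem pk48_0 : allR (ckPerm (nat_lit 4600) X48 X49) (nat_lit 0) (nat_lit 2300) = true := by decide +kernel
theorem pk48_1 : allR (ckPerm (nat_lit 4600) X48 X49) (nat_lit 2300) (nat_lit 2300) = true := by decide +kernel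
theorem pk49_0 : allR (ckPerm (nat_lit 4600) X49 X48) (nat_lit 0) (nat_lit 2300) = true := by decide +kernel
theorem pk49_1 : allR (ckPerm (nat_lit 4600) X49 X48) (nat_lit 2300) (nat_lit 2300) = true := by decide +kernel
theorem pk50_0 : allR (ckPerm (nat_lit 4600) X50 X51) (nat_lit 0) (nat_lit 2300) = true := by decide +kernel
theorem pk50_1 : allR (ckPerm (nat_lit 4600) X50 X51) (nat_lit 2300) (nat_lit 2300) = true := by decide +kernel
theorem pk51_0 : allR (ckPerm (nat_lit 4600) X51 X50) (nat_lit 0) (nat_lit 2300) = true := by decide +kernel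
theorem pk51_1 : allR (ckPerm (nat_lit 4600) X51 X50) (nat_lit 2300) (nat_lit 2300) = true := by decide +kernel
theorem pk52_0 : allR (ckPerm (nat_lit 4600) X52 X53) (nat_lit 0) (nat_lit 2300) = true := by decide +kernel
theorem pk52_1 : allR (ckPerm (nat_lit 4600) X52 X53) (nat_lit 2300) (nat_lit 2300) = true := by decide +kernel
theorem pk53_0 : allR (ckPerm (nat_lit 4600) X53 X52) (nat_lit 0) (nat_lit 2300) = true := by decide +kernel
theorem pk53_1 : allR (ckPerm (nat_lit 4600) X53 X52) (nat_lit 2300) (nat_lit 2300) = true := by decide +kernel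
theorem pk54_0 : allR (ckPerm (nat_lit 4600) X54 X55) (nat_lit 0) (nat_lit 2300) = true := by decide +kernel
theorem pk54_1 : allR (ckPerm (nat_lit 4600) X54 X55) (nat_lit 2300) (nat_lit 2300) = true := by decide +kernel
theorem pk55_0 : allR (ckPerm (nat_lit 4600) X55 X54) (nat_lit 0) (nat_lit 2300) = true := by decide +kernel
theorem pk55_1 : allR (ckPerm (nat_lit 4600) X55 X54) (nat_lit 2300) (nat_lit 2300) = true := by decide +kernel
theorem wk0_0 : allR (OT.ckEqW [T0, T2, T0, T1, T2, T1, T2] [X0]) (nat_lit 0) (nat_lit 575) = true := by decide +kernel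
theorem wk0_1 : allR (OT.ckEqW [T0, T2, T0, T1, T2, T1, T2] [X0]) (nat_lit 575) (nat_lit 575) = true := by decide +kernel
theorem wk0_2 : allR (OT.ckEqW [T0, T2, T0, T1, T2, T1, T2] [X0]) (nat_lit 1150) (nat_lit 575) = true := by decide +kernel
theorem wk0_3 : allR (OT.ckEqW [T0, T2, T0, T1, T2, T1, T2] [X0]) (nat_lit 1725) (nat_lit 575) = true := by decide +kernel
theorem wk0_4 : allR (OT.ckEqW [T0, T2, T0, T1, T2, T1, T2] [X0]) (nat_lit 2300) (nat_lit 575) = true := by decide +kernel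
theorem wk0_5 : allR (OT.ckEqW [T0, T2, T0, T1, T2, T1, T2] [X0]) (nat_lit 2875) (nat_lit 575) = true := by decide +kernel
theorem wk0_6 : allR (OT.ckEqW [T0, T2, T0, T1, T2, T1, T2] [X0]) (nat_lit 3450) (nat_lit 575) = true := by decide +kernel
theorem wk0_7 : allR (OT.ckEqW [T0, T2, T0, T1, T2, T1, T2] [X0]) (nat_lit 4025) (nat_lit 575) = true := by decide +kernel
theorem wk1_0 : allR (OT.ckEqW [T0] [X2]) (nat_lit 0) (nat_lit 2300) = true := by decide +kernel
theorem wk1_1 : allR (OT.ckEqW [T0] [X2]) (nat_lit 2300) (nat_lit 2300) = true := by decide +kernel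
theorem wk10_0 : allR (OT.ckEqW [X16] [X20]) (nat_lit 0) (nat_lit 2300) = true := by decide +kernel
theorem wk10_1 : allR (OT.ckEqW [X16] [X20]) (nat_lit 2300) (nat_lit 2300) = true := by decide +kernel
theorem wk17_0 : allR (OT.ckEqW [X33, X30, X30, X33] [X34]) (nat_lit 0) (nat_lit 920) = true := by decide +kernel
theorem wk17_1 : allR (OT.ckEqW [X33, X30, X30, X33] [X34]) (nat_lit 920) (nat_lit 920) = true := by decide +kernel
theorem wk17_2 : allR (OT.ckEqW [X33, X30, X30, X33] [X34]) (nat_lit 1840) (nat_lit 920) = true := by decide +kernel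
theorem wk17_3 : allR (OT.ckEqW [X33, X30, X30, X33] [X34]) (nat_lit 2760) (nat_lit 920) = true := by decide +kernel
theorem wk17_4 : allR (OT.ckEqW [X33, X30, X30, X33] [X34]) (nat_lit 3680) (nat_lit 920) = true := by decide +kernel
theorem wk24_0 : allR (OT.ckEqW [X45, X42, X44, X44, X43, X43, X45, X43, X43] [X48]) (nat_lit 0) (nat_lit 460) = true := by decide +kernel
theorem wk24_1 : allR (OT.ckEqW [X45, X42, X44, X44, X43, X43, X45, X43, X43] [X48]) (nat_lit 460) (nat_lit 460) = true := by decide +kernel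
theorem wk24_2 : allR (OT.ckEqW [X45, X42, X44, X44, X43, X43, X45, X43, X43] [X48]) (nat_lit 920) (nat_lit 460) = true := by decide +kernel
theorem wk24_3 : allR (OT.ckEqW [X45, X42, X44, X44, X43, X43, X45, X43, X43] [X48]) (nat_lit 1380) (nat_lit 460) = true := by decide +kernel
theorem wk24_4 : allR (OT.ckEqW [X45, X42, X44, X44, X43, X43, X45, X43, X43] [X48]) (nat_lit 1840) (nat_lit 460) = true := by decide +kernel
theorem wk24_5 : allR (OT.ckEqW [X45, X42, X44, X44, X43, X43, X45, X43, X43] [X48]) (nat_lit 2300) (nat_lit 460) = true := by decide +kernel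
theorem wk24_6 : allR (OT.ckEqW [X45, X42, X44, X44, X43, X43, X45, X43, X43] [X48]) (nat_lit 2760) (nat_lit 460) = true := by decide +kernel
theorem wk24_7 : allR (OT.ckEqW [X45, X42, X44, X44, X43, X43, X45, X43, X43] [X48]) (nat_lit 3220) (nat_lit 460) = true := by decide +kernel
theorem wk24_8 : allR (OT.ckEqW [X45, X42, X44, X44, X43, X43, X45, X43, X43] [X48]) (nat_lit 3680) (nat_lit 460) = true := by decide +kernel
theorem wk24_9 : allR (OT.ckEqW [X45, X42, X44, X44, X43, X43, X45, X43, X43] [X48]) (nat_lit 4140) (nat_lit 460) = true := by decide +kernel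
theorem wk25_0 : allR (OT.ckEqW [X49, X46, X48, X47, X48, X47, X48, X47, X49] [X50]) (nat_lit 0) (nat_lit 460) = true := by decide +kernel
theorem wk25_1 : allR (OT.ckEqW [X49, X46, X48, X47, X48, X47, X48, X47, X49] [X50]) (nat_lit 460) (nat_lit 460) = true := by decide +kernel
theorem wk25_2 : allR (OT.ckEqW [X49, X46, X48, X47, X48, X47, X48, X47, X49] [X50]) (nat_lit 920) (nat_lit 460) = true := by decide +kernel
theorem wk25_3 : allR (OT.ckEqW [X49, X46, X48, X47, X48, X47, X48, X47, X49] [X50]) (nat_lit 1380) (nat_lit 460) = true := by decide +kernel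
theorem wk25_4 : allR (OT.ckEqW [X49, X46, X48, X47, X48, X47, X48, X47, X49] [X50]) (nat_lit 1840) (nat_lit 460) = true := by decide +kernel
theorem wk25_5 : allR (OT.ckEqW [X49, X46, X48, X47, X48, X47, X48, X47, X49] [X50]) (nat_lit 2300) (nat_lit 460) = true := by decide +kernel
theorem wk25_6 : allR (OT.ckEqW [X49, X46, X48, X47, X48, X47, X48, X47, X49] [X50]) (nat_lit 2760) (nat_lit 460) = true := by decide +kernel
theorem wk25_7 : allR (OT.ckEqW [X49, X46, X48, X47, X48, X47, X48, X47, X49] [X50]) (nat_lit 3220) (nat_lit 460) = true := by decide +kernel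
theorem wk25_8 : allR (OT.ckEqW [X49, X46, X48, X47, X48, X47, X48, X47, X49] [X50]) (nat_lit 3680) (nat_lit 460) = true := by decide +kernel
theorem wk25_9 : allR (OT.ckEqW [X49, X46, X48, X47, X48, X47, X48, X47, X49] [X50]) (nat_lit 4140) (nat_lit 460) = true := by decide +kernel
theorem wk26_0 : allR (OT.ckEqW [X49, X47, X49, X47] [X52]) (nat_lit 0) (nat_lit 920) = true := by decide +kernel
theorem wk26_1 : allR (OT.ckEqW [X49, X47, X49, X47] [X52]) (nat_lit 920) (nat_lit 920) = true := by decide +kernel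
theorem wk26_2 : allR (OT.ckEqW [X49, X47, X49, X47] [X52]) (nat_lit 1840) (nat_lit 920) = true := by decide +kernel
theorem wk26_3 : allR (OT.ckEqW [X49, X47, X49, X47] [X52]) (nat_lit 2760) (nat_lit 920) = true := by decide +kernel
theorem wk26_4 : allR (OT.ckEqW [X49, X47, X49, X47] [X52]) (nat_lit 3680) (nat_lit 920) = true := by decide +kernel
theorem wk7_0 : allR (OT.ckEqW [X11, X13, X11, X13, X10, X13, X13, X10] [X14]) (nat_lit 0) (nat_lit 511) = true := by decide +kernel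
theorem wk7_1 : allR (OT.ckEqW [X11, X13, X11, X13, X10, X13, X13, X10] [X14]) (nat_lit 511) (nat_lit 511) = true := by decide +kernel
theorem wk7_2 : allR (OT.ckEqW [X11, X13, X11, X13, X10, X13, X13, X10] [X14]) (nat_lit 1022) (nat_lit 511) = true := by decide +kernel
theorem wk7_3 : allR (OT.ckEqW [X11, X13, X11, X13, X10, X13, X13, X10] [X14]) (nat_lit 1533) (nat_lit 511) = true := by decide +kernel
theorem wk7_4 : allR (OT.ckEqW [X11, X13, X11, X13, X10, X13, X13, X10] [X14]) (nat_lit 2044) (nat_lit 511) = true := by decide +kernel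
theorem wk7_5 : allR (OT.ckEqW [X11, X13, X11, X13, X10, X13, X13, X10] [X14]) (nat_lit 2555) (nat_lit 511) = true := by decide +kernel
theorem wk7_6 : allR (OT.ckEqW [X11, X13, X11, X13, X10, X13, X13, X10] [X14]) (nat_lit 3066) (nat_lit 511) = true := by decide +kernel
theorem wk7_7 : allR (OT.ckEqW [X11, X13, X11, X13, X10, X13, X13, X10] [X14]) (nat_lit 3577) (nat_lit 511) = true := by decide +kernel
theorem wk7_8 : allR (OT.ckEqW [X11, X13, X11, X13, X10, X13, X13, X10] [X14]) (nat_lit 4088) (nat_lit 511) = true := by decide +kernel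
theorem wk16_0 : allR (OT.ckEqW [X29, X26, X28, X26, X26, X29] [X32]) (nat_lit 0) (nat_lit 657) = true := by decide +kernel
theorem wk16_1 : allR (OT.ckEqW [X29, X26, X28, X26, X26, X29] [X32]) (nat_lit 657) (nat_lit 657) = true := by decide +kernel
theorem wk16_2 : allR (OT.ckEqW [X29, X26, X28, X26, X26, X29] [X32]) (nat_lit 1314) (nat_lit 657) = true := by decide +kernel
theorem wk16_3 : allR (OT.ckEqW [X29, X26, X28, X26, X26, X29] [X32]) (nat_lit 1971) (nat_lit 657) = true := by decide +kernel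
theorem wk16_4 : allR (OT.ckEqW [X29, X26, X28, X26, X26, X29] [X32]) (nat_lit 2628) (nat_lit 657) = true := by decide +kernel
theorem wk16_5 : allR (OT.ckEqW [X29, X26, X28, X26, X26, X29] [X32]) (nat_lit 3285) (nat_lit 657) = true := by decide +kernel
theorem wk16_6 : allR (OT.ckEqW [X29, X26, X28, X26, X26, X29] [X32]) (nat_lit 3942) (nat_lit 657) = true := by decide +kernel
theorem wk18_0 : allR (OT.ckEqW [X31, X31, X31, X32, X30, X32, X30, X33] [X36]) (nat_lit 0) (nat_lit 511) = true := by decide +kernel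
theorem wk18_1 : allR (OT.ckEqW [X31, X31, X31, X32, X30, X32, X30, X33] [X36]) (nat_lit 511) (nat_lit 511) = true := by decide +kernel
theorem wk18_2 : allR (OT.ckEqW [X31, X31, X31, X32, X30, X32, X30, X33] [X36]) (nat_lit 1022) (nat_lit 511) = true := by decide +kernel
theorem wk18_3 : allR (OT.ckEqW [X31, X31, X31, X32, X30, X32, X30, X33] [X36]) (nat_lit 1533) (nat_lit 511) = true := by decide +kernel
theorem wk18_4 : allR (OT.ckEqW [X31, X31, X31, X32, X30, X32, X30, X33] [X36]) (nat_lit 2044) (nat_lit 511) = true := by decide +kernel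
theorem wk18_5 : allR (OT.ckEqW [X31, X31, X31, X32, X30, X32, X30, X33] [X36]) (nat_lit 2555) (nat_lit 511) = true := by decide +kernel
theorem wk18_6 : allR (OT.ckEqW [X31, X31, X31, X32, X30, X32, X30, X33] [X36]) (nat_lit 3066) (nat_lit 511) = true := by decide +kernel
theorem wk18_7 : allR (OT.ckEqW [X31, X31, X31, X32, X30, X32, X30, X33] [X36]) (nat_lit 3577) (nat_lit 511) = true := by decide +kernel
theorem wk18_8 : allR (OT.ckEqW [X31, X31, X31, X32, X30, X32, X30, X33] [X36]) (nat_lit 4088) (nat_lit 511) = true := by decide +kernel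
theorem wk22_0 : allR (OT.ckEqW [X41, X41, X38, X41, X39, X39, X39, X41] [X44]) (nat_lit 0) (nat_lit 511) = true := by decide +kernel
theorem wk22_1 : allR (OT.ckEqW [X41, X41, X38, X41, X39, X39, X39, X41] [X44]) (nat_lit 511) (nat_lit 511) = true := by decide +kernel
theorem wk22_2 : allR (OT.ckEqW [X41, X41, X38, X41, X39, X39, X39, X41] [X44]) (nat_lit 1022) (nat_lit 511) = true := by decide +kernel
theorem wk22_3 : allR (OT.ckEqW [X41, X41, X38, X41, X39, X39, X39, X41] [X44]) (nat_lit 1533) (nat_lit 511) = true := by decide +kernel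
theorem wk22_4 : allR (OT.ckEqW [X41, X41, X38, X41, X39, X39, X39, X41] [X44]) (nat_lit 2044) (nat_lit 511) = true := by decide +kernel
theorem wk22_5 : allR (OT.ckEqW [X41, X41, X38, X41, X39, X39, X39, X41] [X44]) (nat_lit 2555) (nat_lit 511) = true := by decide +kernel
theorem wk22_6 : allR (OT.ckEqW [X41, X41, X38, X41, X39, X39, X39, X41] [X44]) (nat_lit 3066) (nat_lit 511) = true := by decide +kernel
theorem wk22_7 : allR (OT.ckEqW [X41, X41, X38, X41, X39, X39, X39, X41] [X44]) (nat_lit 3577) (nat_lit 511) = true := by decide +kernel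
theorem wk22_8 : allR (OT.ckEqW [X41, X41, X38, X41, X39, X39, X39, X41] [X44]) (nat_lit 4088) (nat_lit 511) = true := by decide +kernel
theorem wk27_0 : allR (OT.ckEqW [X47, X49, X49, X49, X47, X49, X49, X49] [X54]) (nat_lit 0) (nat_lit 511) = true := by decide +kernel
theorem wk27_1 : allR (OT.ckEqW [X47, X49, X49, X49, X47, X49, X49, X49] [X54]) (nat_lit 511) (nat_lit 511) = true := by decide +kernel
theorem wk27_2 : allR (OT.ckEqW [X47, X49, X49, X49, X47, X49, X49, X49] [X54]) (nat_lit 1022) (nat_lit 511) = true := by decide +kernel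
theorem wk27_3 : allR (OT.ckEqW [X47, X49, X49, X49, X47, X49, X49, X49] [X54]) (nat_lit 1533) (nat_lit 511) = true := by decide +kernel
theorem wk27_4 : allR (OT.ckEqW [X47, X49, X49, X49, X47, X49, X49, X49] [X54]) (nat_lit 2044) (nat_lit 511) = true := by decide +kernel
theorem wk27_5 : allR (OT.ckEqW [X47, X49, X49, X49, X47, X49, X49, X49] [X54]) (nat_lit 2555) (nat_lit 511) = true := by decide +kernel
theorem wk27_6 : allR (OT.ckEqW [X47, X49, X49, X49, X47, X49, X49, X49] [X54]) (nat_lit 3066) (nat_lit 511) = true := by decide +kernel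
theorem wk27_7 : allR (OT.ckEqW [X47, X49, X49, X49, X47, X49, X49, X49] [X54]) (nat_lit 3577) (nat_lit 511) = true := by decide +kernel
theorem wk27_8 : allR (OT.ckEqW [X47, X49, X49, X49, X47, X49, X49, X49] [X54]) (nat_lit 4088) (nat_lit 511) = true := by decide +kernel
theorem wk2_0 : allR (OT.ckEqW [T1, X0, T2, T0, X1, X1, T1, X1, T1, X0] [X4]) (nat_lit 0) (nat_lit 418) = true := by decide +kernel
theorem wk2_1 : allR (OT.ckEqW [T1, X0, T2, T0, X1, X1, T1, X1, T1, X0] [X4]) (nat_lit 418) (nat_lit 418) = true := by decide +kernel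
theorem wk2_2 : allR (OT.ckEqW [T1, X0, T2, T0, X1, X1, T1, X1, T1, X0] [X4]) (nat_lit 836) (nat_lit 418) = true := by decide +kernel
theorem wk2_3 : allR (OT.ckEqW [T1, X0, T2, T0, X1, X1, T1, X1, T1, X0] [X4]) (nat_lit 1254) (nat_lit 418) = true := by decide +kernel
theorem wk2_4 : allR (OT.ckEqW [T1, X0, T2, T0, X1, X1, T1, X1, T1, X0] [X4]) (nat_lit 1672) (nat_lit 418) = true := by decide +kernel
theorem wk2_5 : allR (OT.ckEqW [T1, X0, T2, T0, X1, X1, T1, X1, T1, X0] [X4]) (nat_lit 2090) (nat_lit 418) = true := by decide +kernel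
theorem wk2_6 : allR (OT.ckEqW [T1, X0, T2, T0, X1, X1, T1, X1, T1, X0] [X4]) (nat_lit 2508) (nat_lit 418) = true := by decide +kernel
theorem wk2_7 : allR (OT.ckEqW [T1, X0, T2, T0, X1, X1, T1, X1, T1, X0] [X4]) (nat_lit 2926) (nat_lit 418) = true := by decide +kernel
theorem wk2_8 : allR (OT.ckEqW [T1, X0, T2, T0, X1, X1, T1, X1, T1, X0] [X4]) (nat_lit 3344) (nat_lit 418) = true := by decide +kernel
theorem wk2_9 : allR (OT.ckEqW [T1, X0, T2, T0, X1, X1, T1, X1, T1, X0] [X4]) (nat_lit 3762) (nat_lit 418) = true := by decide +kernel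
theorem wk2_10 : allR (OT.ckEqW [T1, X0, T2, T0, X1, X1, T1, X1, T1, X0] [X4]) (nat_lit 4180) (nat_lit 418) = true := by decide +kernel
theorem wk11_0 : allR (OT.ckEqW [X18, X17, X0, X16, X16, X19, X19, X19, X0, X19, X0, X17, X1, X18, X17, X0, X18, X17] [X22]) (nat_lit 0) (nat_lit 242) = true := by decide +kernel
theorem wk11_1 : allR (OT.ckEqW [X18, X17, X0, X16, X16, X19, X19, X19, X0, X19, X0, X17, X1, X18, X17, X0, X18, X17] [X22]) (nat_lit 242) (nat_lit 242) = true := by decide +kernel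
theorem wk11_2 : allR (OT.ckEqW [X18, X17, X0, X16, X16, X19, X19, X19, X0, X19, X0, X17, X1, X18, X17, X0, X18, X17] [X22]) (nat_lit 484) (nat_lit 242) = true := by decide +kernel
theorem wk11_3 : allR (OT.ckEqW [X18, X17, X0, X16, X16, X19, X19, X19, X0, X19, X0, X17, X1, X18, X17, X0, X18, X17] [X22]) (nat_lit 726) (nat_lit 242) = true := by decide +kernel
theorem wk11_4 : allR (OT.ckEqW [X18, X17, X0, X16, X16, X19, X19, X19, X0, X19, X0, X17, X1, X18, X17, X0, X18, X17] [X22]) (nat_lit 968) (nat_lit 242) = true := by decide +kernel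
theorem wk11_5 : allR (OT.ckEqW [X18, X17, X0, X16, X16, X19, X19, X19, X0, X19, X0, X17, X1, X18, X17, X0, X18, X17] [X22]) (nat_lit 1210) (nat_lit 242) = true := by decide +kernel
theorem wk11_6 : allR (OT.ckEqW [X18, X17, X0, X16, X16, X19, X19, X19, X0, X19, X0, X17, X1, X18, X17, X0, X18, X17] [X22]) (nat_lit 1452) (nat_lit 242) = true := by decide +kernel
theorem wk11_7 : allR (OT.ckEqW [X18, X17, X0, X16, X16, X19, X19, X19, X0, X19, X0, X17, X1, X18, X17, X0, X18, X17] [X22]) (nat_lit 1694) (nat_lit 242) = true := by decide +kernel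
theorem wk11_8 : allR (OT.ckEqW [X18, X17, X0, X16, X16, X19, X19, X19, X0, X19, X0, X17, X1, X18, X17, X0, X18, X17] [X22]) (nat_lit 1936) (nat_lit 242) = true := by decide +kernel
theorem wk11_9 : allR (OT.ckEqW [X18, X17, X0, X16, X16, X19, X19, X19, X0, X19, X0, X17, X1, X18, X17, X0, X18, X17] [X22]) (nat_lit 2178) (nat_lit 242) = true := by decide +kernel
theorem wk11_10 : allR (OT.ckEqW [X18, X17, X0, X16, X16, X19, X19, X19, X0, X19, X0, X17, X1, X18, X17, X0, X18, X17] [X22]) (nat_lit 2420) (nat_lit 242) = true := by decide +kernel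
theorem wk11_11 : allR (OT.ckEqW [X18, X17, X0, X16, X16, X19, X19, X19, X0, X19, X0, X17, X1, X18, X17, X0, X18, X17] [X22]) (nat_lit 2662) (nat_lit 242) = true := by decide +kernel
theorem wk11_12 : allR (OT.ckEqW [X18, X17, X0, X16, X16, X19, X19, X19, X0, X19, X0, X17, X1, X18, X17, X0, X18, X17] [X22]) (nat_lit 2904) (nat_lit 242) = true := by decide +kernel
theorem wk11_13 : allR (OT.ckEqW [X18, X17, X0, X16, X16, X19, X19, X19, X0, X19, X0, X17, X1, X18, X17, X0, X18, X17] [X22]) (nat_lit 3146) (nat_lit 242) = true := by decide +kernel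
theorem wk11_14 : allR (OT.ckEqW [X18, X17, X0, X16, X16, X19, X19, X19, X0, X19, X0, X17, X1, X18, X17, X0, X18, X17] [X22]) (nat_lit 3388) (nat_lit 242) = true := by decide +kernel
theorem wk11_15 : allR (OT.ckEqW [X18, X17, X0, X16, X16, X19, X19, X19, X0, X19, X0, X17, X1, X18, X17, X0, X18, X17] [X22]) (nat_lit 3630) (nat_lit 242) = true := by decide +kernel
theorem wk11_16 : allR (OT.ckEqW [X18, X17, X0, X16, X16, X19, X19, X19, X0, X19, X0, X17, X1, X18, X17, X0, X18, X17] [X22]) (nat_lit 3872) (nat_lit 242) = true := by decide +kernel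
theorem wk11_17 : allR (OT.ckEqW [X18, X17, X0, X16, X16, X19, X19, X19, X0, X19, X0, X17, X1, X18, X17, X0, X18, X17] [X22]) (nat_lit 4114) (nat_lit 242) = true := by decide +kernel
theorem wk11_18 : allR (OT.ckEqW [X18, X17, X0, X16, X16, X19, X19, X19, X0, X19, X0, X17, X1, X18, X17, X0, X18, X17] [X22]) (nat_lit 4356) (nat_lit 242) = true := by decide +kernel
theorem wk23_0 : allR (OT.ckEqW [X43, X43, X45, X42, X44, X42, X44, X44, X43, X43] [X46]) (nat_lit 0) (nat_lit 418) = true := by decide +kernel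
theorem wk23_1 : allR (OT.ckEqW [X43, X43, X45, X42, X44, X42, X44, X44, X43, X43] [X46]) (nat_lit 418) (nat_lit 418) = true := by decide +kernel
theorem wk23_2 : allR (OT.ckEqW [X43, X43, X45, X42, X44, X42, X44, X44, X43, X43] [X46]) (nat_lit 836) (nat_lit 418) = true := by decide +kernel
theorem wk23_3 : allR (OT.ckEqW [X43, X43, X45, X42, X44, X42, X44, X44, X43, X43] [X46]) (nat_lit 1254) (nat_lit 418) = true := by decide +kernel
theorem wk23_4 : allR (OT.ckEqW [X43, X43, X45, X42, X44, X42, X44, X44, X43, X43] [X46]) (nat_lit 1672) (nat_lit 418) = true := by decide +kernel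
theorem wk23_5 : allR (OT.ckEqW [X43, X43, X45, X42, X44, X42, X44, X44, X43, X43] [X46]) (nat_lit 2090) (nat_lit 418) = true := by decide +kernel
theorem wk23_6 : allR (OT.ckEqW [X43, X43, X45, X42, X44, X42, X44, X44, X43, X43] [X46]) (nat_lit 2508) (nat_lit 418) = true := by decide +kernel
theorem wk23_7 : allR (OT.ckEqW [X43, X43, X45, X42, X44, X42, X44, X44, X43, X43] [X46]) (nat_lit 2926) (nat_lit 418) = true := by decide +kernel
theorem wk23_8 : allR (OT.ckEqW [X43, X43, X45, X42, X44, X42, X44, X44, X43, X43] [X46]) (nat_lit 3344) (nat_lit 418) = true := by decide +kernel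
theorem wk23_9 : allR (OT.ckEqW [X43, X43, X45, X42, X44, X42, X44, X44, X43, X43] [X46]) (nat_lit 3762) (nat_lit 418) = true := by decide +kernel
theorem wk23_10 : allR (OT.ckEqW [X43, X43, X45, X42, X44, X42, X44, X44, X43, X43] [X46]) (nat_lit 4180) (nat_lit 418) = true := by decide +kernel
theorem wk6_0 : allR (OT.ckEqW [X6, X8, X7, X7, X9, X7, X8, X7, X9, X7, X8] [X12]) (nat_lit 0) (nat_lit 383) = true := by decide +kernel
theorem wk6_1 : allR (OT.ckEqW [X6, X8, X7, X7, X9, X7, X8, X7, X9, X7, X8] [X12]) (nat_lit 383) (nat_lit 383) = true := by decide +kernel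
theorem wk6_2 : allR (OT.ckEqW [X6, X8, X7, X7, X9, X7, X8, X7, X9, X7, X8] [X12]) (nat_lit 766) (nat_lit 383) = true := by decide +kernel
theorem wk6_3 : allR (OT.ckEqW [X6, X8, X7, X7, X9, X7, X8, X7, X9, X7, X8] [X12]) (nat_lit 1149) (nat_lit 383) = true := by decide +kernel
theorem wk6_4 : allR (OT.ckEqW [X6, X8, X7, X7, X9, X7, X8, X7, X9, X7, X8] [X12]) (nat_lit 1532) (nat_lit 383) = true := by decide +kernel
theorem wk6_5 : allR (OT.ckEqW [X6, X8, X7, X7, X9, X7, X8, X7, X9, X7, X8] [X12]) (nat_lit 1915) (nat_lit 383) = true := by decide +kernel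
theorem wk6_6 : allR (OT.ckEqW [X6, X8, X7, X7, X9, X7, X8, X7, X9, X7, X8] [X12]) (nat_lit 2298) (nat_lit 383) = true := by decide +kernel
theorem wk6_7 : allR (OT.ckEqW [X6, X8, X7, X7, X9, X7, X8, X7, X9, X7, X8] [X12]) (nat_lit 2681) (nat_lit 383) = true := by decide +kernel
theorem wk6_8 : allR (OT.ckEqW [X6, X8, X7, X7, X9, X7, X8, X7, X9, X7, X8] [X12]) (nat_lit 3064) (nat_lit 383) = true := by decide +kernel
theorem wk6_9 : allR (OT.ckEqW [X6, X8, X7, X7, X9, X7, X8, X7, X9, X7, X8] [X12]) (nat_lit 3447) (nat_lit 383) = true := by decide +kernel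
theorem wk6_10 : allR (OT.ckEqW [X6, X8, X7, X7, X9, X7, X8, X7, X9, X7, X8] [X12]) (nat_lit 3830) (nat_lit 383) = true := by decide +kernel
theorem wk6_11 : allR (OT.ckEqW [X6, X8, X7, X7, X9, X7, X8, X7, X9, X7, X8] [X12]) (nat_lit 4213) (nat_lit 383) = true := by decide +kernel
theorem wk15_0 : allR (OT.ckEqW [X29, X26, X26, X28, X28, X26, X26, X28, X27, X29, X29] [X30]) (nat_lit 0) (nat_lit 383) = true := by decide +kernel
theorem wk15_1 : allR (OT.ckEqW [X29, X26, X26, X28, X28, X26, X26, X28, X27, X29, X29] [X30]) (nat_lit 383) (nat_lit 383) = true := by decide +kernel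
theorem wk15_2 : allR (OT.ckEqW [X29, X26, X26, X28, X28, X26, X26, X28, X27, X29, X29] [X30]) (nat_lit 766) (nat_lit 383) = true := by decide +kernel
theorem wk15_3 : allR (OT.ckEqW [X29, X26, X26, X28, X28, X26, X26, X28, X27, X29, X29] [X30]) (nat_lit 1149) (nat_lit 383) = true := by decide +kernel
theorem wk15_4 : allR (OT.ckEqW [X29, X26, X26, X28, X28, X26, X26, X28, X27, X29, X29] [X30]) (nat_lit 1532) (nat_lit 383) = true := by decide +kernel
theorem wk15_5 : allR (OT.ckEqW [X29, X26, X26, X28, X28, X26, X26, X28, X27, X29, X29] [X30]) (nat_lit 1915) (nat_lit 383) = true := by decide +kernel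
theorem wk15_6 : allR (OT.ckEqW [X29, X26, X26, X28, X28, X26, X26, X28, X27, X29, X29] [X30]) (nat_lit 2298) (nat_lit 383) = true := by decide +kernel
theorem wk15_7 : allR (OT.ckEqW [X29, X26, X26, X28, X28, X26, X26, X28, X27, X29, X29] [X30]) (nat_lit 2681) (nat_lit 383) = true := by decide +kernel
theorem wk15_8 : allR (OT.ckEqW [X29, X26, X26, X28, X28, X26, X26, X28, X27, X29, X29] [X30]) (nat_lit 3064) (nat_lit 383) = true := by decide +kernel
theorem wk15_9 : allR (OT.ckEqW [X29, X26, X26, X28, X28, X26, X26, X28, X27, X29, X29] [X30]) (nat_lit 3447) (nat_lit 383) = true := by decide +kernel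
theorem wk15_10 : allR (OT.ckEqW [X29, X26, X26, X28, X28, X26, X26, X28, X27, X29, X29] [X30]) (nat_lit 3830) (nat_lit 383) = true := by decide +kernel
theorem wk15_11 : allR (OT.ckEqW [X29, X26, X26, X28, X28, X26, X26, X28, X27, X29, X29] [X30]) (nat_lit 4213) (nat_lit 383) = true := by decide +kernel
theorem wk21_0 : allR (OT.ckEqW [X38, X41, X41, X39, X39, X40, X39, X39, X41, X41, X39] [X42]) (nat_lit 0) (nat_lit 383) = true := by decide +kernel
theorem wk21_1 : allR (OT.ckEqW [X38, X41, X41, X39, X39, X40, X39, X39, X41, X41, X39] [X42]) (nat_lit 383) (nat_lit 383) = true := by decide +kernel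
theorem wk21_2 : allR (OT.ckEqW [X38, X41, X41, X39, X39, X40, X39, X39, X41, X41, X39] [X42]) (nat_lit 766) (nat_lit 383) = true := by decide +kernel
theorem wk21_3 : allR (OT.ckEqW [X38, X41, X41, X39, X39, X40, X39, X39, X41, X41, X39] [X42]) (nat_lit 1149) (nat_lit 383) = true := by decide +kernel
theorem wk21_4 : allR (OT.ckEqW [X38, X41, X41, X39, X39, X40, X39, X39, X41, X41, X39] [X42]) (nat_lit 1532) (nat_lit 383) = true := by decide +kernel
theorem wk21_5 : allR (OT.ckEqW [X38, X41, X41, X39, X39, X40, X39, X39, X41, X41, X39] [X42]) (nat_lit 1915) (nat_lit 383) = true := by decide +kernel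
theorem wk21_6 : allR (OT.ckEqW [X38, X41, X41, X39, X39, X40, X39, X39, X41, X41, X39] [X42]) (nat_lit 2298) (nat_lit 383) = true := by decide +kernel
theorem wk21_7 : allR (OT.ckEqW [X38, X41, X41, X39, X39, X40, X39, X39, X41, X41, X39] [X42]) (nat_lit 2681) (nat_lit 383) = true := by decide +kernel
theorem wk21_8 : allR (OT.ckEqW [X38, X41, X41, X39, X39, X40, X39, X39, X41, X41, X39] [X42]) (nat_lit 3064) (nat_lit 383) = true := by decide +kernel
theorem wk21_9 : allR (OT.ckEqW [X38, X41, X41, X39, X39, X40, X39, X39, X41, X41, X39] [X42]) (nat_lit 3447) (nat_lit 383) = true := by decide +kernel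
theorem wk21_10 : allR (OT.ckEqW [X38, X41, X41, X39, X39, X40, X39, X39, X41, X41, X39] [X42]) (nat_lit 3830) (nat_lit 383) = true := by decide +kernel
theorem wk21_11 : allR (OT.ckEqW [X38, X41, X41, X39, X39, X40, X39, X39, X41, X41, X39] [X42]) (nat_lit 4213) (nat_lit 383) = true := by decide +kernel
theorem wk4_0 : allR (OT.ckEqW [X4, X3, X4, X4, X4, X4, X2, X4, X4, X4, X4, X4, X3, X5, X5, X5, X3, X5, X3, X5, X5, X3, X5, X5, X5, X5, X5] [X8]) (nat_lit 0) (nat_lit 164) = true := by decide +kernel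
theorem wk4_1 : allR (OT.ckEqW [X4, X3, X4, X4, X4, X4, X2, X4, X4, X4, X4, X4, X3, X5, X5, X5, X3, X5, X3, X5, X5, X3, X5, X5, X5, X5, X5] [X8]) (nat_lit 164) (nat_lit 164) = true := by decide +kernel
theorem wk4_2 : allR (OT.ckEqW [X4, X3, X4, X4, X4, X4, X2, X4, X4, X4, X4, X4, X3, X5, X5, X5, X3, X5, X3, X5, X5, X3, X5, X5, X5, X5, X5] [X8]) (nat_lit 328) (nat_lit 164) = true := by decide +kernel
theorem wk4_3 : allR (OT.ckEqW [X4, X3, X4, X4, X4, X4, X2, X4, X4, X4, X4, X4, X3, X5, X5, X5, X3, X5, X3, X5, X5, X3, X5, X5, X5, X5, X5] [X8]) (nat_lit 492) (nat_lit 164) = true := by decide +kernel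
theorem wk4_4 : allR (OT.ckEqW [X4, X3, X4, X4, X4, X4, X2, X4, X4, X4, X4, X4, X3, X5, X5, X5, X3, X5, X3, X5, X5, X3, X5, X5, X5, X5, X5] [X8]) (nat_lit 656) (nat_lit 164) = true := by decide +kernel
theorem wk4_5 : allR (OT.ckEqW [X4, X3, X4, X4, X4, X4, X2, X4, X4, X4, X4, X4, X3, X5, X5, X5, X3, X5, X3, X5, X5, X3, X5, X5, X5, X5, X5] [X8]) (nat_lit 820) (nat_lit 164) = true := by decide +kernel
theorem wk4_6 : allR (OT.ckEqW [X4, X3, X4, X4, X4, X4, X2, X4, X4, X4, X4, X4, X3, X5, X5, X5, X3, X5, X3, X5, X5, X3, X5, X5, X5, X5, X5] [X8]) (nat_lit 984) (nat_lit 164) = true := by decide +kernel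
theorem wk4_7 : allR (OT.ckEqW [X4, X3, X4, X4, X4, X4, X2, X4, X4, X4, X4, X4, X3, X5, X5, X5, X3, X5, X3, X5, X5, X3, X5, X5, X5, X5, X5] [X8]) (nat_lit 1148) (nat_lit 164) = true := by decide +kernel
theorem wk4_8 : allR (OT.ckEqW [X4, X3, X4, X4, X4, X4, X2, X4, X4, X4, X4, X4, X3, X5, X5, X5, X3, X5, X3, X5, X5, X3, X5, X5, X5, X5, X5] [X8]) (nat_lit 1312) (nat_lit 164) = true := by decide +kernel
theorem wk4_9 : allR (OT.ckEqW [X4, X3, X4, X4, X4, X4, X2, X4, X4, X4, X4, X4, X3, X5, X5, X5, X3, X5, X3, X5, X5, X3, X5, X5, X5, X5, X5] [X8]) (nat_lit 1476) (nat_lit 164) = true := by decide +kernel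
theorem wk4_10 : allR (OT.ckEqW [X4, X3, X4, X4, X4, X4, X2, X4, X4, X4, X4, X4, X3, X5, X5, X5, X3, X5, X3, X5, X5, X3, X5, X5, X5, X5, X5] [X8]) (nat_lit 1640) (nat_lit 164) = true := by decide +kernel
theorem wk4_11 : allR (OT.ckEqW [X4, X3, X4, X4, X4, X4, X2, X4, X4, X4, X4, X4, X3, X5, X5, X5, X3, X5, X3, X5, X5, X3, X5, X5, X5, X5, X5] [X8]) (nat_lit 1804) (nat_lit 164) = true := by decide +kernel
theorem wk4_12 : allR (OT.ckEqW [X4, X3, X4, X4, X4, X4, X2, X4, X4, X4, X4, X4, X3, X5, X5, X5, X3, X5, X3, X5, X5, X3, X5, X5, X5, X5, X5] [X8]) (nat_lit 1968) (nat_lit 164) = true := by decide +kernel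
theorem wk4_13 : allR (OT.ckEqW [X4, X3, X4, X4, X4, X4, X2, X4, X4, X4, X4, X4, X3, X5, X5, X5, X3, X5, X3, X5, X5, X3, X5, X5, X5, X5, X5] [X8]) (nat_lit 2132) (nat_lit 164) = true := by decide +kernel
theorem wk4_14 : allR (OT.ckEqW [X4, X3, X4, X4, X4, X4, X2, X4, X4, X4, X4, X4, X3, X5, X5, X5, X3, X5, X3, X5, X5, X3, X5, X5, X5, X5, X5] [X8]) (nat_lit 2296) (nat_lit 164) = true := by decide +kernel
theorem wk4_15 : allR (OT.ckEqW [X4, X3, X4, X4, X4, X4, X2, X4, X4, X4, X4, X4, X3, X5, X5, X5, X3, X5, X3, X5, X5, X3, X5, X5, X5, X5, X5] [X8]) (nat_lit 2460) (nat_lit 164) = true := by decide +kernel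
theorem wk4_16 : allR (OT.ckEqW [X4, X3, X4, X4, X4, X4, X2, X4, X4, X4, X4, X4, X3, X5, X5, X5, X3, X5, X3, X5, X5, X3, X5, X5, X5, X5, X5] [X8]) (nat_lit 2624) (nat_lit 164) = true := by decide +kernel
theorem wk4_17 : allR (OT.ckEqW [X4, X3, X4, X4, X4, X4, X2, X4, X4, X4, X4, X4, X3, X5, X5, X5, X3, X5, X3, X5, X5, X3, X5, X5, X5, X5, X5] [X8]) (nat_lit 2788) (nat_lit 164) = true := by decide +kernel
theorem wk4_18 : allR (OT.ckEqW [X4, X3, X4, X4, X4, X4, X2, X4, X4, X4, X4, X4, X3, X5, X5, X5, X3, X5, X3, X5, X5, X3, X5, X5, X5, X5, X5] [X8]) (nat_lit 2952) (nat_lit 164) = true := by decide +kernel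
theorem wk4_19 : allR (OT.ckEqW [X4, X3, X4, X4, X4, X4, X2, X4, X4, X4, X4, X4, X3, X5, X5, X5, X3, X5, X3, X5, X5, X3, X5, X5, X5, X5, X5] [X8]) (nat_lit 3116) (nat_lit 164) = true := by decide +kernel
theorem wk4_20 : allR (OT.ckEqW [X4, X3, X4, X4, X4, X4, X2, X4, X4, X4, X4, X4, X3, X5, X5, X5, X3, X5, X3, X5, X5, X3, X5, X5, X5, X5, X5] [X8]) (nat_lit 3280) (nat_lit 164) = true := by decide +kernel
theorem wk4_21 : allR (OT.ckEqW [X4, X3, X4, X4, X4, X4, X2, X4, X4, X4, X4, X4, X3, X5, X5, X5, X3, X5, X3, X5, X5, X3, X5, X5, X5, X5, X5] [X8]) (nat_lit 3444) (nat_lit 164) = true := by decide +kernel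
theorem wk4_22 : allR (OT.ckEqW [X4, X3, X4, X4, X4, X4, X2, X4, X4, X4, X4, X4, X3, X5, X5, X5, X3, X5, X3, X5, X5, X3, X5, X5, X5, X5, X5] [X8]) (nat_lit 3608) (nat_lit 164) = true := by decide +kernel
theorem wk4_23 : allR (OT.ckEqW [X4, X3, X4, X4, X4, X4, X2, X4, X4, X4, X4, X4, X3, X5, X5, X5, X3, X5, X3, X5, X5, X3, X5, X5, X5, X5, X5] [X8]) (nat_lit 3772) (nat_lit 164) = true := by decide +kernel
theorem wk4_24 : allR (OT.ckEqW [X4, X3, X4, X4, X4, X4, X2, X4, X4, X4, X4, X4, X3, X5, X5, X5, X3, X5, X3, X5, X5, X3, X5, X5, X5, X5, X5] [X8]) (nat_lit 3936) (nat_lit 164) = true := by decide +kernel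
theorem wk4_25 : allR (OT.ckEqW [X4, X3, X4, X4, X4, X4, X2, X4, X4, X4, X4, X4, X3, X5, X5, X5, X3, X5, X3, X5, X5, X3, X5, X5, X5, X5, X5] [X8]) (nat_lit 4100) (nat_lit 164) = true := by decide +kernel
theorem wk4_26 : allR (OT.ckEqW [X4, X3, X4, X4, X4, X4, X2, X4, X4, X4, X4, X4, X3, X5, X5, X5, X3, X5, X3, X5, X5, X3, X5, X5, X5, X5, X5] [X8]) (nat_lit 4264) (nat_lit 164) = true := by decide +kernel
theorem wk4_27 : allR (OT.ckEqW [X4, X3, X4, X4, X4, X4, X2, X4, X4, X4, X4, X4, X3, X5, X5, X5, X3, X5, X3, X5, X5, X3, X5, X5, X5, X5, X5] [X8]) (nat_lit 4428) (nat_lit 164) = true := by decide +kernel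
theorem wk3_0 : allR (OT.ckEqW [X3, X5, X3, X4, X2, X4, X2, X4, X4, X3, X5, X3, X4, X4, X3, X5, X5] [X6]) (nat_lit 0) (nat_lit 255) = true := by decide +kernel
theorem wk3_1 : allR (OT.ckEqW [X3, X5, X3, X4, X2, X4, X2, X4, X4, X3, X5, X3, X4, X4, X3, X5, X5] [X6]) (nat_lit 255) (nat_lit 255) = true := by decide +kernel
theorem wk3_2 : allR (OT.ckEqW [X3, X5, X3, X4, X2, X4, X2, X4, X4, X3, X5, X3, X4, X4, X3, X5, X5] [X6]) (nat_lit 510) (nat_lit 255) = true := by decide +kernel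
theorem wk3_3 : allR (OT.ckEqW [X3, X5, X3, X4, X2, X4, X2, X4, X4, X3, X5, X3, X4, X4, X3, X5, X5] [X6]) (nat_lit 765) (nat_lit 255) = true := by decide +kernel
theorem wk3_4 : allR (OT.ckEqW [X3, X5, X3, X4, X2, X4, X2, X4, X4, X3, X5, X3, X4, X4, X3, X5, X5] [X6]) (nat_lit 1020) (nat_lit 255) = true := by decide +kernel
theorem wk3_5 : allR (OT.ckEqW [X3, X5, X3, X4, X2, X4, X2, X4, X4, X3, X5, X3, X4, X4, X3, X5, X5] [X6]) (nat_lit 1275) (nat_lit 255) = true := by decide +kernel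
theorem wk3_6 : allR (OT.ckEqW [X3, X5, X3, X4, X2, X4, X2, X4, X4, X3, X5, X3, X4, X4, X3, X5, X5] [X6]) (nat_lit 1530) (nat_lit 255) = true := by decide +kernel
theorem wk3_7 : allR (OT.ckEqW [X3, X5, X3, X4, X2, X4, X2, X4, X4, X3, X5, X3, X4, X4, X3, X5, X5] [X6]) (nat_lit 1785) (nat_lit 255) = true := by decide +kernel
theorem wk3_8 : allR (OT.ckEqW [X3, X5, X3, X4, X2, X4, X2, X4, X4, X3, X5, X3, X4, X4, X3, X5, X5] [X6]) (nat_lit 2040) (nat_lit 255) = true := by decide +kernel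
theorem wk3_9 : allR (OT.ckEqW [X3, X5, X3, X4, X2, X4, X2, X4, X4, X3, X5, X3, X4, X4, X3, X5, X5] [X6]) (nat_lit 2295) (nat_lit 255) = true := by decide +kernel
theorem wk3_10 : allR (OT.ckEqW [X3, X5, X3, X4, X2, X4, X2, X4, X4, X3, X5, X3, X4, X4, X3, X5, X5] [X6]) (nat_lit 2550) (nat_lit 255) = true := by decide +kernel
theorem wk3_11 : allR (OT.ckEqW [X3, X5, X3, X4, X2, X4, X2, X4, X4, X3, X5, X3, X4, X4, X3, X5, X5] [X6]) (nat_lit 2805) (nat_lit 255) = true := by decide +kernel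
theorem wk3_12 : allR (OT.ckEqW [X3, X5, X3, X4, X2, X4, X2, X4, X4, X3, X5, X3, X4, X4, X3, X5, X5] [X6]) (nat_lit 3060) (nat_lit 255) = true := by decide +kernel
theorem wk3_13 : allR (OT.ckEqW [X3, X5, X3, X4, X2, X4, X2, X4, X4, X3, X5, X3, X4, X4, X3, X5, X5] [X6]) (nat_lit 3315) (nat_lit 255) = true := by decide +kernel
theorem wk3_14 : allR (OT.ckEqW [X3, X5, X3, X4, X2, X4, X2, X4, X4, X3, X5, X3, X4, X4, X3, X5, X5] [X6]) (nat_lit 3570) (nat_lit 255) = true := by decide +kernel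
theorem wk3_15 : allR (OT.ckEqW [X3, X5, X3, X4, X2, X4, X2, X4, X4, X3, X5, X3, X4, X4, X3, X5, X5] [X6]) (nat_lit 3825) (nat_lit 255) = true := by decide +kernel
theorem wk3_16 : allR (OT.ckEqW [X3, X5, X3, X4, X2, X4, X2, X4, X4, X3, X5, X3, X4, X4, X3, X5, X5] [X6]) (nat_lit 4080) (nat_lit 255) = true := by decide +kernel
theorem wk3_17 : allR (OT.ckEqW [X3, X5, X3, X4, X2, X4, X2, X4, X4, X3, X5, X3, X4, X4, X3, X5, X5] [X6]) (nat_lit 4335) (nat_lit 255) = true := by decide +kernel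
theorem wk5_0 : allR (OT.ckEqW [X6, X9, X6, X8, X7, X7, X8, X7, X9, X9, X7, X7, X9, X7] [X10]) (nat_lit 0) (nat_lit 306) = true := by decide +kernel
theorem wk5_1 : allR (OT.ckEqW [X6, X9, X6, X8, X7, X7, X8, X7, X9, X9, X7, X7, X9, X7] [X10]) (nat_lit 306) (nat_lit 306) = true := by decide +kernel
theorem wk5_2 : allR (OT.ckEqW [X6, X9, X6, X8, X7, X7, X8, X7, X9, X9, X7, X7, X9, X7] [X10]) (nat_lit 612) (nat_lit 306) = true := by decide +kernel
theorem wk5_3 : allR (OT.ckEqW [X6, X9, X6, X8, X7, X7, X8, X7, X9, X9, X7, X7, X9, X7] [X10]) (nat_lit 918) (nat_lit 306) = true := by decide +kernel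
theorem wk5_4 : allR (OT.ckEqW [X6, X9, X6, X8, X7, X7, X8, X7, X9, X9, X7, X7, X9, X7] [X10]) (nat_lit 1224) (nat_lit 306) = true := by decide +kernel
theorem wk5_5 : allR (OT.ckEqW [X6, X9, X6, X8, X7, X7, X8, X7, X9, X9, X7, X7, X9, X7] [X10]) (nat_lit 1530) (nat_lit 306) = true := by decide +kernel
theorem wk5_6 : allR (OT.ckEqW [X6, X9, X6, X8, X7, X7, X8, X7, X9, X9, X7, X7, X9, X7] [X10]) (nat_lit 1836) (nat_lit 306) = true := by decide +kernel
theorem wk5_7 : allR (OT.ckEqW [X6, X9, X6, X8, X7, X7, X8, X7, X9, X9, X7, X7, X9, X7] [X10]) (nat_lit 2142) (nat_lit 306) = true := by decide +kernel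
theorem wk5_8 : allR (OT.ckEqW [X6, X9, X6, X8, X7, X7, X8, X7, X9, X9, X7, X7, X9, X7] [X10]) (nat_lit 2448) (nat_lit 306) = true := by decide +kernel
theorem wk5_9 : allR (OT.ckEqW [X6, X9, X6, X8, X7, X7, X8, X7, X9, X9, X7, X7, X9, X7] [X10]) (nat_lit 2754) (nat_lit 306) = true := by decide +kernel
theorem wk5_10 : allR (OT.ckEqW [X6, X9, X6, X8, X7, X7, X8, X7, X9, X9, X7, X7, X9, X7] [X10]) (nat_lit 3060) (nat_lit 306) = true := by decide +kernel
theorem wk5_11 : allR (OT.ckEqW [X6, X9, X6, X8, X7, X7, X8, X7, X9, X9, X7, X7, X9, X7] [X10]) (nat_lit 3366) (nat_lit 306) = true := by decide +kernel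
theorem wk5_12 : allR (OT.ckEqW [X6, X9, X6, X8, X7, X7, X8, X7, X9, X9, X7, X7, X9, X7] [X10]) (nat_lit 3672) (nat_lit 306) = true := by decide +kernel
theorem wk5_13 : allR (OT.ckEqW [X6, X9, X6, X8, X7, X7, X8, X7, X9, X9, X7, X7, X9, X7] [X10]) (nat_lit 3978) (nat_lit 306) = true := by decide +kernel
theorem wk5_14 : allR (OT.ckEqW [X6, X9, X6, X8, X7, X7, X8, X7, X9, X9, X7, X7, X9, X7] [X10]) (nat_lit 4284) (nat_lit 306) = true := by decide +kernel
theorem wk8_0 : allR (OT.ckEqW [X14, X11, X11, X11, X11, X12, X12, X7, X8, X7, X9, X6, X9, X6, X4, X4, X2, X5, X2, X4, X4, X2, X5, X2, X4, X2, X5, X1, T1, X0, T2, X0, X0] [X16]) (nat_lit 0) (nat_lit 135) = true := by decide +kernel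
theorem wk8_1 : allR (OT.ckEqW [X14, X11, X11, X11, X11, X12, X12, X7, X8, X7, X9, X6, X9, X6, X4, X4, X2, X5, X2, X4, X4, X2, X5, X2, X4, X2, X5, X1, T1, X0, T2, X0, X0] [X16]) (nat_lit 135) (nat_lit 135) = true := by decide +kernel
theorem wk8_2 : allR (OT.ckEqW [X14, X11, X11, X11, X11, X12, X12, X7, X8, X7, X9, X6, X9, X6, X4, X4, X2, X5, X2, X4, X4, X2, X5, X2, X4, X2, X5, X1, T1, X0, T2, X0, X0] [X16]) (nat_lit 270) (nat_lit 135) = true := by decide +kernel
theorem wk8_3 : allR (OT.ckEqW [X14, X11, X11, X11, X11, X12, X12, X7, X8, X7, X9, X6, X9, X6, X4, X4, X2, X5, X2, X4, X4, X2, X5, X2, X4, X2, X5, X1, T1, X0, T2, X0, X0] [X16]) (nat_lit 405) (nat_lit 135) = true := by decide +kernel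
theorem wk8_4 : allR (OT.ckEqW [X14, X11, X11, X11, X11, X12, X12, X7, X8, X7, X9, X6, X9, X6, X4, X4, X2, X5, X2, X4, X4, X2, X5, X2, X4, X2, X5, X1, T1, X0, T2, X0, X0] [X16]) (nat_lit 540) (nat_lit 135) = true := by decide +kernel
theorem wk8_5 : allR (OT.ckEqW [X14, X11, X11, X11, X11, X12, X12, X7, X8, X7, X9, X6, X9, X6, X4, X4, X2, X5, X2, X4, X4, X2, X5, X2, X4, X2, X5, X1, T1, X0, T2, X0, X0] [X16]) (nat_lit 675) (nat_lit 135) = true := by decide +kernel
theorem wk8_6 : allR (OT.ckEqW [X14, X11, X11, X11, X11, X12, X12, X7, X8, X7, X9, X6, X9, X6, X4, X4, X2, X5, X2, X4, X4, X2, X5, X2, X4, X2, X5, X1, T1, X0, T2, X0, X0] [X16]) (nat_lit 810) (nat_lit 135) = true := by decide +kernel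
theorem wk8_7 : allR (OT.ckEqW [X14, X11, X11, X11, X11, X12, X12, X7, X8, X7, X9, X6, X9, X6, X4, X4, X2, X5, X2, X4, X4, X2, X5, X2, X4, X2, X5, X1, T1, X0, T2, X0, X0] [X16]) (nat_lit 945) (nat_lit 135) = true := by decide +kernel
theorem wk8_8 : allR (OT.ckEqW [X14, X11, X11, X11, X11, X12, X12, X7, X8, X7, X9, X6, X9, X6, X4, X4, X2, X5, X2, X4, X4, X2, X5, X2, X4, X2, X5, X1, T1, X0, T2, X0, X0] [X16]) (nat_lit 1080) (nat_lit 135) = true := by decide +kernel
theorem wk8_9 : allR (OT.ckEqW [X14, X11, X11, X11, X11, X12, X12, X7, X8, X7, X9, X6, X9, X6, X4, X4, X2, X5, X2, X4, X4, X2, X5, X2, X4, X2, X5, X1, T1, X0, T2, X0, X0] [X16]) (nat_lit 1215) (nat_lit 135) = true := by decide +kernel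
theorem wk8_10 : allR (OT.ckEqW [X14, X11, X11, X11, X11, X12, X12, X7, X8, X7, X9, X6, X9, X6, X4, X4, X2, X5, X2, X4, X4, X2, X5, X2, X4, X2, X5, X1, T1, X0, T2, X0, X0] [X16]) (nat_lit 1350) (nat_lit 135) = true := by decide +kernel
theorem wk8_11 : allR (OT.ckEqW [X14, X11, X11, X11, X11, X12, X12, X7, X8, X7, X9, X6, X9, X6, X4, X4, X2, X5, X2, X4, X4, X2, X5, X2, X4, X2, X5, X1, T1, X0, T2, X0, X0] [X16]) (nat_lit 1485) (nat_lit 135) = true := by decide +kernel
theorem wk8_12 : allR (OT.ckEqW [X14, X11, X11, X11, X11, X12, X12, X7, X8, X7, X9, X6, X9, X6, X4, X4, X2, X5, X2, X4, X4, X2, X5, X2, X4, X2, X5, X1, T1, X0, T2, X0, X0] [X16]) (nat_lit 1620) (nat_lit 135) = true := by decide +kernel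
theorem wk8_13 : allR (OT.ckEqW [X14, X11, X11, X11, X11, X12, X12, X7, X8, X7, X9, X6, X9, X6, X4, X4, X2, X5, X2, X4, X4, X2, X5, X2, X4, X2, X5, X1, T1, X0, T2, X0, X0] [X16]) (nat_lit 1755) (nat_lit 135) = true := by decide +kernel
theorem wk8_14 : allR (OT.ckEqW [X14, X11, X11, X11, X11, X12, X12, X7, X8, X7, X9, X6, X9, X6, X4, X4, X2, X5, X2, X4, X4, X2, X5, X2, X4, X2, X5, X1, T1, X0, T2, X0, X0] [X16]) (nat_lit 1890) (nat_lit 135) = true := by decide +kernel
theorem wk8_15 : allR (OT.ckEqW [X14, X11, X11, X11, X11, X12, X12, X7, X8, X7, X9, X6, X9, X6, X4, X4, X2, X5, X2, X4, X4, X2, X5, X2, X4, X2, X5, X1, T1, X0, T2, X0, X0] [X16]) (nat_lit 2025) (nat_lit 135) = true := by decide +kernel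
theorem wk8_16 : allR (OT.ckEqW [X14, X11, X11, X11, X11, X12, X12, X7, X8, X7, X9, X6, X9, X6, X4, X4, X2, X5, X2, X4, X4, X2, X5, X2, X4, X2, X5, X1, T1, X0, T2, X0, X0] [X16]) (nat_lit 2160) (nat_lit 135) = true := by decide +kernel
theorem wk8_17 : allR (OT.ckEqW [X14, X11, X11, X11, X11, X12, X12, X7, X8, X7, X9, X6, X9, X6, X4, X4, X2, X5, X2, X4, X4, X2, X5, X2, X4, X2, X5, X1, T1, X0, T2, X0, X0] [X16]) (nat_lit 2295) (nat_lit 135) = true := by decide +kernel
theorem wk8_18 : allR (OT.ckEqW [X14, X11, X11, X11, X11, X12, X12, X7, X8, X7, X9, X6, X9, X6, X4, X4, X2, X5, X2, X4, X4, X2, X5, X2, X4, X2, X5, X1, T1, X0, T2, X0, X0] [X16]) (nat_lit 2430) (nat_lit 135) = true := by decide +kernel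
theorem wk8_19 : allR (OT.ckEqW [X14, X11, X11, X11, X11, X12, X12, X7, X8, X7, X9, X6, X9, X6, X4, X4, X2, X5, X2, X4, X4, X2, X5, X2, X4, X2, X5, X1, T1, X0, T2, X0, X0] [X16]) (nat_lit 2565) (nat_lit 135) = true := by decide +kernel
theorem wk8_20 : allR (OT.ckEqW [X14, X11, X11, X11, X11, X12, X12, X7, X8, X7, X9, X6, X9, X6, X4, X4, X2, X5, X2, X4, X4, X2, X5, X2, X4, X2, X5, X1, T1, X0, T2, X0, X0] [X16]) (nat_lit 2700) (nat_lit 135) = true := by decide +kernel
theorem wk8_21 : allR (OT.ckEqW [X14, X11, X11, X11, X11, X12, X12, X7, X8, X7, X9, X6, X9, X6, X4, X4, X2, X5, X2, X4, X4, X2, X5, X2, X4, X2, X5, X1, T1, X0, T2, X0, X0] [X16]) (nat_lit 2835) (nat_lit 135) = true := by decide +kernel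
theorem wk8_22 : allR (OT.ckEqW [X14, X11, X11, X11, X11, X12, X12, X7, X8, X7, X9, X6, X9, X6, X4, X4, X2, X5, X2, X4, X4, X2, X5, X2, X4, X2, X5, X1, T1, X0, T2, X0, X0] [X16]) (nat_lit 2970) (nat_lit 135) = true := by decide +kernel
theorem wk8_23 : allR (OT.ckEqW [X14, X11, X11, X11, X11, X12, X12, X7, X8, X7, X9, X6, X9, X6, X4, X4, X2, X5, X2, X4, X4, X2, X5, X2, X4, X2, X5, X1, T1, X0, T2, X0, X0] [X16]) (nat_lit 3105) (nat_lit 135) = true := by decide +kernel
theorem wk8_24 : allR (OT.ckEqW [X14, X11, X11, X11, X11, X12, X12, X7, X8, X7, X9, X6, X9, X6, X4, X4, X2, X5, X2, X4, X4, X2, X5, X2, X4, X2, X5, X1, T1, X0, T2, X0, X0] [X16]) (nat_lit 3240) (nat_lit 135) = true := by decide +kernel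
theorem wk8_25 : allR (OT.ckEqW [X14, X11, X11, X11, X11, X12, X12, X7, X8, X7, X9, X6, X9, X6, X4, X4, X2, X5, X2, X4, X4, X2, X5, X2, X4, X2, X5, X1, T1, X0, T2, X0, X0] [X16]) (nat_lit 3375) (nat_lit 135) = true := by decide +kernel
theorem wk8_26 : allR (OT.ckEqW [X14, X11, X11, X11, X11, X12, X12, X7, X8, X7, X9, X6, X9, X6, X4, X4, X2, X5, X2, X4, X4, X2, X5, X2, X4, X2, X5, X1, T1, X0, T2, X0, X0] [X16]) (nat_lit 3510) (nat_lit 135) = true := by decide +kernel
theorem wk8_27 : allR (OT.ckEqW [X14, X11, X11, X11, X11, X12, X12, X7, X8, X7, X9, X6, X9, X6, X4, X4, X2, X5, X2, X4, X4, X2, X5, X2, X4, X2, X5, X1, T1, X0, T2, X0, X0] [X16]) (nat_lit 3645) (nat_lit 135) = true := by decide +kernel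
theorem wk8_28 : allR (OT.ckEqW [X14, X11, X11, X11, X11, X12, X12, X7, X8, X7, X9, X6, X9, X6, X4, X4, X2, X5, X2, X4, X4, X2, X5, X2, X4, X2, X5, X1, T1, X0, T2, X0, X0] [X16]) (nat_lit 3780) (nat_lit 135) = true := by decide +kernel
theorem wk8_29 : allR (OT.ckEqW [X14, X11, X11, X11, X11, X12, X12, X7, X8, X7, X9, X6, X9, X6, X4, X4, X2, X5, X2, X4, X4, X2, X5, X2, X4, X2, X5, X1, T1, X0, T2, X0, X0] [X16]) (nat_lit 3915) (nat_lit 135) = true := by decide +kernel
theorem wk8_30 : allR (OT.ckEqW [X14, X11, X11, X11, X11, X12, X12, X7, X8, X7, X9, X6, X9, X6, X4, X4, X2, X5, X2, X4, X4, X2, X5, X2, X4, X2, X5, X1, T1, X0, T2, X0, X0] [X16]) (nat_lit 4050) (nat_lit 135) = true := by decide +kernel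
theorem wk8_31 : allR (OT.ckEqW [X14, X11, X11, X11, X11, X12, X12, X7, X8, X7, X9, X6, X9, X6, X4, X4, X2, X5, X2, X4, X4, X2, X5, X2, X4, X2, X5, X1, T1, X0, T2, X0, X0] [X16]) (nat_lit 4185) (nat_lit 135) = true := by decide +kernel
theorem wk8_32 : allR (OT.ckEqW [X14, X11, X11, X11, X11, X12, X12, X7, X8, X7, X9, X6, X9, X6, X4, X4, X2, X5, X2, X4, X4, X2, X5, X2, X4, X2, X5, X1, T1, X0, T2, X0, X0] [X16]) (nat_lit 4320) (nat_lit 135) = true := by decide +kernel
theorem wk8_33 : allR (OT.ckEqW [X14, X11, X11, X11, X11, X12, X12, X7, X8, X7, X9, X6, X9, X6, X4, X4, X2, X5, X2, X4, X4, X2, X5, X2, X4, X2, X5, X1, T1, X0, T2, X0, X0] [X16]) (nat_lit 4455) (nat_lit 135) = true := by decide +kernel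
theorem wk12_0 : allR (OT.ckEqW [X19, X19, X16, X1, X18, X0, X16, X16, X19, X0, X19, X17, X1, X19, X1, X1, X18] [X24]) (nat_lit 0) (nat_lit 255) = true := by decide +kernel
theorem wk12_1 : allR (OT.ckEqW [X19, X19, X16, X1, X18, X0, X16, X16, X19, X0, X19, X17, X1, X19, X1, X1, X18] [X24]) (nat_lit 255) (nat_lit 255) = true := by decide +kernel
theorem wk12_2 : allR (OT.ckEqW [X19, X19, X16, X1, X18, X0, X16, X16, X19, X0, X19, X17, X1, X19, X1, X1, X18] [X24]) (nat_lit 510) (nat_lit 255) = true := by decide +kernel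
theorem wk12_3 : allR (OT.ckEqW [X19, X19, X16, X1, X18, X0, X16, X16, X19, X0, X19, X17, X1, X19, X1, X1, X18] [X24]) (nat_lit 765) (nat_lit 255) = true := by decide +kernel
theorem wk12_4 : allR (OT.ckEqW [X19, X19, X16, X1, X18, X0, X16, X16, X19, X0, X19, X17, X1, X19, X1, X1, X18] [X24]) (nat_lit 1020) (nat_lit 255) = true := by decide +kernel
theorem wk12_5 : allR (OT.ckEqW [X19, X19, X16, X1, X18, X0, X16, X16, X19, X0, X19, X17, X1, X19, X1, X1, X18] [X24]) (nat_lit 1275) (nat_lit 255) = true := by decide +kernel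
theorem wk12_6 : allR (OT.ckEqW [X19, X19, X16, X1, X18, X0, X16, X16, X19, X0, X19, X17, X1, X19, X1, X1, X18] [X24]) (nat_lit 1530) (nat_lit 255) = true := by decide +kernel
theorem wk12_7 : allR (OT.ckEqW [X19, X19, X16, X1, X18, X0, X16, X16, X19, X0, X19, X17, X1, X19, X1, X1, X18] [X24]) (nat_lit 1785) (nat_lit 255) = true := by decide +kernel
theorem wk12_8 : allR (OT.ckEqW [X19, X19, X16, X1, X18, X0, X16, X16, X19, X0, X19, X17, X1, X19, X1, X1, X18] [X24]) (nat_lit 2040) (nat_lit 255) = true := by decide +kernel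
theorem wk12_9 : allR (OT.ckEqW [X19, X19, X16, X1, X18, X0, X16, X16, X19, X0, X19, X17, X1, X19, X1, X1, X18] [X24]) (nat_lit 2295) (nat_lit 255) = true := by decide +kernel
theorem wk12_10 : allR (OT.ckEqW [X19, X19, X16, X1, X18, X0, X16, X16, X19, X0, X19, X17, X1, X19, X1, X1, X18] [X24]) (nat_lit 2550) (nat_lit 255) = true := by decide +kernel
theorem wk12_11 : allR (OT.ckEqW [X19, X19, X16, X1, X18, X0, X16, X16, X19, X0, X19, X17, X1, X19, X1, X1, X18] [X24]) (nat_lit 2805) (nat_lit 255) = true := by decide +kernel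
theorem wk12_12 : allR (OT.ckEqW [X19, X19, X16, X1, X18, X0, X16, X16, X19, X0, X19, X17, X1, X19, X1, X1, X18] [X24]) (nat_lit 3060) (nat_lit 255) = true := by decide +kernel
theorem wk12_13 : allR (OT.ckEqW [X19, X19, X16, X1, X18, X0, X16, X16, X19, X0, X19, X17, X1, X19, X1, X1, X18] [X24]) (nat_lit 3315) (nat_lit 255) = true := by decide +kernel
theorem wk12_14 : allR (OT.ckEqW [X19, X19, X16, X1, X18, X0, X16, X16, X19, X0, X19, X17, X1, X19, X1, X1, X18] [X24]) (nat_lit 3570) (nat_lit 255) = true := by decide +kernel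
theorem wk12_15 : allR (OT.ckEqW [X19, X19, X16, X1, X18, X0, X16, X16, X19, X0, X19, X17, X1, X19, X1, X1, X18] [X24]) (nat_lit 3825) (nat_lit 255) = true := by decide +kernel
theorem wk12_16 : allR (OT.ckEqW [X19, X19, X16, X1, X18, X0, X16, X16, X19, X0, X19, X17, X1, X19, X1, X1, X18] [X24]) (nat_lit 4080) (nat_lit 255) = true := by decide +kernel
theorem wk12_17 : allR (OT.ckEqW [X19, X19, X16, X1, X18, X0, X16, X16, X19, X0, X19, X17, X1, X19, X1, X1, X18] [X24]) (nat_lit 4335) (nat_lit 255) = true := by decide +kernel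
theorem wk13_0 : allR (OT.ckEqW [X25, X25, X25, X23, X24, X23, X24, X24, X22, X22, X22, X24, X24, X23, X25, X22] [X26]) (nat_lit 0) (nat_lit 270) = true := by decide +kernel
theorem wk13_1 : allR (OT.ckEqW [X25, X25, X25, X23, X24, X23, X24, X24, X22, X22, X22, X24, X24, X23, X25, X22] [X26]) (nat_lit 270) (nat_lit 270) = true := by decide +kernel
theorem wk13_2 : allR (OT.ckEqW [X25, X25, X25, X23, X24, X23, X24, X24, X22, X22, X22, X24, X24, X23, X25, X22] [X26]) (nat_lit 540) (nat_lit 270) = true := by decide +kernel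
theorem wk13_3 : allR (OT.ckEqW [X25, X25, X25, X23, X24, X23, X24, X24, X22, X22, X22, X24, X24, X23, X25, X22] [X26]) (nat_lit 810) (nat_lit 270) = true := by decide +kernel
theorem wk13_4 : allR (OT.ckEqW [X25, X25, X25, X23, X24, X23, X24, X24, X22, X22, X22, X24, X24, X23, X25, X22] [X26]) (nat_lit 1080) (nat_lit 270) = true := by decide +kernel
theorem wk13_5 : allR (OT.ckEqW [X25, X25, X25, X23, X24, X23, X24, X24, X22, X22, X22, X24, X24, X23, X25, X22] [X26]) (nat_lit 1350) (nat_lit 270) = true := by decide +kernel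
theorem wk13_6 : allR (OT.ckEqW [X25, X25, X25, X23, X24, X23, X24, X24, X22, X22, X22, X24, X24, X23, X25, X22] [X26]) (nat_lit 1620) (nat_lit 270) = true := by decide +kernel
theorem wk13_7 : allR (OT.ckEqW [X25, X25, X25, X23, X24, X23, X24, X24, X22, X22, X22, X24, X24, X23, X25, X22] [X26]) (nat_lit 1890) (nat_lit 270) = true := by decide +kernel
theorem wk13_8 : allR (OT.ckEqW [X25, X25, X25, X23, X24, X23, X24, X24, X22, X22, X22, X24, X24, X23, X25, X22] [X26]) (nat_lit 2160) (nat_lit 270) = true := by decide +kernel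
theorem wk13_9 : allR (OT.ckEqW [X25, X25, X25, X23, X24, X23, X24, X24, X22, X22, X22, X24, X24, X23, X25, X22] [X26]) (nat_lit 2430) (nat_lit 270) = true := by decide +kernel
theorem wk13_10 : allR (OT.ckEqW [X25, X25, X25, X23, X24, X23, X24, X24, X22, X22, X22, X24, X24, X23, X25, X22] [X26]) (nat_lit 2700) (nat_lit 270) = true := by decide +kernel
theorem wk13_11 : allR (OT.ckEqW [X25, X25, X25, X23, X24, X23, X24, X24, X22, X22, X22, X24, X24, X23, X25, X22] [X26]) (nat_lit 2970) (nat_lit 270) = true := by decide +kernel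
theorem wk13_12 : allR (OT.ckEqW [X25, X25, X25, X23, X24, X23, X24, X24, X22, X22, X22, X24, X24, X23, X25, X22] [X26]) (nat_lit 3240) (nat_lit 270) = true := by decide +kernel
theorem wk13_13 : allR (OT.ckEqW [X25, X25, X25, X23, X24, X23, X24, X24, X22, X22, X22, X24, X24, X23, X25, X22] [X26]) (nat_lit 3510) (nat_lit 270) = true := by decide +kernel
theorem wk13_14 : allR (OT.ckEqW [X25, X25, X25, X23, X24, X23, X24, X24, X22, X22, X22, X24, X24, X23, X25, X22] [X26]) (nat_lit 3780) (nat_lit 270) = true := by decide +kernel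
theorem wk13_15 : allR (OT.ckEqW [X25, X25, X25, X23, X24, X23, X24, X24, X22, X22, X22, X24, X24, X23, X25, X22] [X26]) (nat_lit 4050) (nat_lit 270) = true := by decide +kernel
theorem wk13_16 : allR (OT.ckEqW [X25, X25, X25, X23, X24, X23, X24, X24, X22, X22, X22, X24, X24, X23, X25, X22] [X26]) (nat_lit 4320) (nat_lit 270) = true := by decide +kernel
theorem wk14_0 : allR (OT.ckEqW [X25, X25, X22, X22, X22, X25, X23, X23, X23, X24, X24, X22, X25, X23, X24, X24, X24] [X28]) (nat_lit 0) (nat_lit 255) = true := by decide +kernel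
theorem wk14_1 : allR (OT.ckEqW [X25, X25, X22, X22, X22, X25, X23, X23, X23, X24, X24, X22, X25, X23, X24, X24, X24] [X28]) (nat_lit 255) (nat_lit 255) = true := by decide +kernel
theorem wk14_2 : allR (OT.ckEqW [X25, X25, X22, X22, X22, X25, X23, X23, X23, X24, X24, X22, X25, X23, X24, X24, X24] [X28]) (nat_lit 510) (nat_lit 255) = true := by decide +kernel
theorem wk14_3 : allR (OT.ckEqW [X25, X25, X22, X22, X22, X25, X23, X23, X23, X24, X24, X22, X25, X23, X24, X24, X24] [X28]) (nat_lit 765) (nat_lit 255) = true := by decide +kernel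
theorem wk14_4 : allR (OT.ckEqW [X25, X25, X22, X22, X22, X25, X23, X23, X23, X24, X24, X22, X25, X23, X24, X24, X24] [X28]) (nat_lit 1020) (nat_lit 255) = true := by decide +kernel
theorem wk14_5 : allR (OT.ckEqW [X25, X25, X22, X22, X22, X25, X23, X23, X23, X24, X24, X22, X25, X23, X24, X24, X24] [X28]) (nat_lit 1275) (nat_lit 255) = true := by decide +kernel
theorem wk14_6 : allR (OT.ckEqW [X25, X25, X22, X22, X22, X25, X23, X23, X23, X24, X24, X22, X25, X23, X24, X24, X24] [X28]) (nat_lit 1530) (nat_lit 255) = true := by decide +kernel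
theorem wk14_7 : allR (OT.ckEqW [X25, X25, X22, X22, X22, X25, X23, X23, X23, X24, X24, X22, X25, X23, X24, X24, X24] [X28]) (nat_lit 1785) (nat_lit 255) = true := by decide +kernel
theorem wk14_8 : allR (OT.ckEqW [X25, X25, X22, X22, X22, X25, X23, X23, X23, X24, X24, X22, X25, X23, X24, X24, X24] [X28]) (nat_lit 2040) (nat_lit 255) = true := by decide +kernel
theorem wk14_9 : allR (OT.ckEqW [X25, X25, X22, X22, X22, X25, X23, X23, X23, X24, X24, X22, X25, X23, X24, X24, X24] [X28]) (nat_lit 2295) (nat_lit 255) = true := by decide +kernel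
theorem wk14_10 : allR (OT.ckEqW [X25, X25, X22, X22, X22, X25, X23, X23, X23, X24, X24, X22, X25, X23, X24, X24, X24] [X28]) (nat_lit 2550) (nat_lit 255) = true := by decide +kernel
theorem wk14_11 : allR (OT.ckEqW [X25, X25, X22, X22, X22, X25, X23, X23, X23, X24, X24, X22, X25, X23, X24, X24, X24] [X28]) (nat_lit 2805) (nat_lit 255) = true := by decide +kernel
theorem wk14_12 : allR (OT.ckEqW [X25, X25, X22, X22, X22, X25, X23, X23, X23, X24, X24, X22, X25, X23, X24, X24, X24] [X28]) (nat_lit 3060) (nat_lit 255) = true := by decide +kernel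
theorem wk14_13 : allR (OT.ckEqW [X25, X25, X22, X22, X22, X25, X23, X23, X23, X24, X24, X22, X25, X23, X24, X24, X24] [X28]) (nat_lit 3315) (nat_lit 255) = true := by decide +kernel
theorem wk14_14 : allR (OT.ckEqW [X25, X25, X22, X22, X22, X25, X23, X23, X23, X24, X24, X22, X25, X23, X24, X24, X24] [X28]) (nat_lit 3570) (nat_lit 255) = true := by decide +kernel
theorem wk14_15 : allR (OT.ckEqW [X25, X25, X22, X22, X22, X25, X23, X23, X23, X24, X24, X22, X25, X23, X24, X24, X24] [X28]) (nat_lit 3825) (nat_lit 255) = true := by decide +kernel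
theorem wk14_16 : allR (OT.ckEqW [X25, X25, X22, X22, X22, X25, X23, X23, X23, X24, X24, X22, X25, X23, X24, X24, X24] [X28]) (nat_lit 4080) (nat_lit 255) = true := by decide +kernel
theorem wk14_17 : allR (OT.ckEqW [X25, X25, X22, X22, X22, X25, X23, X23, X23, X24, X24, X22, X25, X23, X24, X24, X24] [X28]) (nat_lit 4335) (nat_lit 255) = true := by decide +kernel
theorem wk19_0 : allR (OT.ckEqW [X0, X18, X16, X16, X0, X19, X0, X17, X1, X18, X1, X18, X0, X16] [X38]) (nat_lit 0) (nat_lit 306) = true := by decide +kernel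
theorem wk19_1 : allR (OT.ckEqW [X0, X18, X16, X16, X0, X19, X0, X17, X1, X18, X1, X18, X0, X16] [X38]) (nat_lit 306) (nat_lit 306) = true := by decide +kernel
theorem wk19_2 : allR (OT.ckEqW [X0, X18, X16, X16, X0, X19, X0, X17, X1, X18, X1, X18, X0, X16] [X38]) (nat_lit 612) (nat_lit 306) = true := by decide +kernel
theorem wk19_3 : allR (OT.ckEqW [X0, X18, X16, X16, X0, X19, X0, X17, X1, X18, X1, X18, X0, X16] [X38]) (nat_lit 918) (nat_lit 306) = true := by decide +kernel
theorem wk19_4 : allR (OT.ckEqW [X0, X18, X16, X16, X0, X19, X0, X17, X1, X18, X1, X18, X0, X16] [X38]) (nat_lit 1224) (nat_lit 306) = true := by decide +kernel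
theorem wk19_5 : allR (OT.ckEqW [X0, X18, X16, X16, X0, X19, X0, X17, X1, X18, X1, X18, X0, X16] [X38]) (nat_lit 1530) (nat_lit 306) = true := by decide +kernel
theorem wk19_6 : allR (OT.ckEqW [X0, X18, X16, X16, X0, X19, X0, X17, X1, X18, X1, X18, X0, X16] [X38]) (nat_lit 1836) (nat_lit 306) = true := by decide +kernel
theorem wk19_7 : allR (OT.ckEqW [X0, X18, X16, X16, X0, X19, X0, X17, X1, X18, X1, X18, X0, X16] [X38]) (nat_lit 2142) (nat_lit 306) = true := by decide +kernel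
theorem wk19_8 : allR (OT.ckEqW [X0, X18, X16, X16, X0, X19, X0, X17, X1, X18, X1, X18, X0, X16] [X38]) (nat_lit 2448) (nat_lit 306) = true := by decide +kernel
theorem wk19_9 : allR (OT.ckEqW [X0, X18, X16, X16, X0, X19, X0, X17, X1, X18, X1, X18, X0, X16] [X38]) (nat_lit 2754) (nat_lit 306) = true := by decide +kernel
theorem wk19_10 : allR (OT.ckEqW [X0, X18, X16, X16, X0, X19, X0, X17, X1, X18, X1, X18, X0, X16] [X38]) (nat_lit 3060) (nat_lit 306) = true := by decide +kernel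
theorem wk19_11 : allR (OT.ckEqW [X0, X18, X16, X16, X0, X19, X0, X17, X1, X18, X1, X18, X0, X16] [X38]) (nat_lit 3366) (nat_lit 306) = true := by decide +kernel
theorem wk19_12 : allR (OT.ckEqW [X0, X18, X16, X16, X0, X19, X0, X17, X1, X18, X1, X18, X0, X16] [X38]) (nat_lit 3672) (nat_lit 306) = true := by decide +kernel
theorem wk19_13 : allR (OT.ckEqW [X0, X18, X16, X16, X0, X19, X0, X17, X1, X18, X1, X18, X0, X16] [X38]) (nat_lit 3978) (nat_lit 306) = true := by decide +kernel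
theorem wk19_14 : allR (OT.ckEqW [X0, X18, X16, X16, X0, X19, X0, X17, X1, X18, X1, X18, X0, X16] [X38]) (nat_lit 4284) (nat_lit 306) = true := by decide +kernel
theorem wk20_0 : allR (OT.ckEqW [X19, X0, X16, X1, X19, X1, X1, X19, X19, X0, X18, X0, X19, X0, X18, X1, X1] [X40]) (nat_lit 0) (nat_lit 255) = true := by decide +kernel
theorem wk20_1 : allR (OT.ckEqW [X19, X0, X16, X1, X19, X1, X1, X19, X19, X0, X18, X0, X19, X0, X18, X1, X1] [X40]) (nat_lit 255) (nat_lit 255) = true := by decide +kernel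
theorem wk20_2 : allR (OT.ckEqW [X19, X0, X16, X1, X19, X1, X1, X19, X19, X0, X18, X0, X19, X0, X18, X1, X1] [X40]) (nat_lit 510) (nat_lit 255) = true := by decide +kernel
theorem wk20_3 : allR (OT.ckEqW [X19, X0, X16, X1, X19, X1, X1, X19, X19, X0, X18, X0, X19, X0, X18, X1, X1] [X40]) (nat_lit 765) (nat_lit 255) = true := by decide +kernel
theorem wk20_4 : allR (OT.ckEqW [X19, X0, X16, X1, X19, X1, X1, X19, X19, X0, X18, X0, X19, X0, X18, X1, X1] [X40]) (nat_lit 1020) (nat_lit 255) = true := by decide +kernel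
theorem wk20_5 : allR (OT.ckEqW [X19, X0, X16, X1, X19, X1, X1, X19, X19, X0, X18, X0, X19, X0, X18, X1, X1] [X40]) (nat_lit 1275) (nat_lit 255) = true := by decide +kernel
theorem wk20_6 : allR (OT.ckEqW [X19, X0, X16, X1, X19, X1, X1, X19, X19, X0, X18, X0, X19, X0, X18, X1, X1] [X40]) (nat_lit 1530) (nat_lit 255) = true := by decide +kernel
theorem wk20_7 : allR (OT.ckEqW [X19, X0, X16, X1, X19, X1, X1, X19, X19, X0, X18, X0, X19, X0, X18, X1, X1] [X40]) (nat_lit 1785) (nat_lit 255) = true := by decide +kernel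
theorem wk20_8 : allR (OT.ckEqW [X19, X0, X16, X1, X19, X1, X1, X19, X19, X0, X18, X0, X19, X0, X18, X1, X1] [X40]) (nat_lit 2040) (nat_lit 255) = true := by decide +kernel
theorem wk20_9 : allR (OT.ckEqW [X19, X0, X16, X1, X19, X1, X1, X19, X19, X0, X18, X0, X19, X0, X18, X1, X1] [X40]) (nat_lit 2295) (nat_lit 255) = true := by decide +kernel
theorem wk20_10 : allR (OT.ckEqW [X19, X0, X16, X1, X19, X1, X1, X19, X19, X0, X18, X0, X19, X0, X18, X1, X1] [X40]) (nat_lit 2550) (nat_lit 255) = true := by decide +kernel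
theorem wk20_11 : allR (OT.ckEqW [X19, X0, X16, X1, X19, X1, X1, X19, X19, X0, X18, X0, X19, X0, X18, X1, X1] [X40]) (nat_lit 2805) (nat_lit 255) = true := by decide +kernel
theorem wk20_12 : allR (OT.ckEqW [X19, X0, X16, X1, X19, X1, X1, X19, X19, X0, X18, X0, X19, X0, X18, X1, X1] [X40]) (nat_lit 3060) (nat_lit 255) = true := by decide +kernel
theorem wk20_13 : allR (OT.ckEqW [X19, X0, X16, X1, X19, X1, X1, X19, X19, X0, X18, X0, X19, X0, X18, X1, X1] [X40]) (nat_lit 3315) (nat_lit 255) = true := by decide +kernel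
theorem wk20_14 : allR (OT.ckEqW [X19, X0, X16, X1, X19, X1, X1, X19, X19, X0, X18, X0, X19, X0, X18, X1, X1] [X40]) (nat_lit 3570) (nat_lit 255) = true := by decide +kernel
theorem wk20_15 : allR (OT.ckEqW [X19, X0, X16, X1, X19, X1, X1, X19, X19, X0, X18, X0, X19, X0, X18, X1, X1] [X40]) (nat_lit 3825) (nat_lit 255) = true := by decide +kernel
theorem wk20_16 : allR (OT.ckEqW [X19, X0, X16, X1, X19, X1, X1, X19, X19, X0, X18, X0, X19, X0, X18, X1, X1] [X40]) (nat_lit 4080) (nat_lit 255) = true := by decide +kernel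
theorem wk20_17 : allR (OT.ckEqW [X19, X0, X16, X1, X19, X1, X1, X19, X19, X0, X18, X0, X19, X0, X18, X1, X1] [X40]) (nat_lit 4335) (nat_lit 255) = true := by decide +kernel
theorem wk9_0 : allR (OT.ckEqW [X10, X10, X10, X12, X11, X11, X13, X11, X6, X9, X7, X8, X6, X6, X9, X7, X4, X2, X4, X4, X4, X2, X4, X4, X4, X2, X4, X4, X2, X0, X0, T1, X0, T0, T1, T0, X1, T1] [X18]) (nat_lit 0) (nat_lit 117) = true := by decide +kernel
theorem wk9_1 : allR (OT.ckEqW [X10, X10, X10, X12, X11, X11, X13, X11, X6, X9, X7, X8, X6, X6, X9, X7, X4, X2, X4, X4, X4, X2, X4, X4, X4, X2, X4, X4, X2, X0, X0, T1, X0, T0, T1, T0, X1, T1] [X18]) (nat_lit 117) (nat_lit 117) = true := by decide +kernel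
theorem wk9_2 : allR (OT.ckEqW [X10, X10, X10, X12, X11, X11, X13, X11, X6, X9, X7, X8, X6, X6, X9, X7, X4, X2, X4, X4, X4, X2, X4, X4, X4, X2, X4, X4, X2, X0, X0, T1, X0, T0, T1, T0, X1, T1] [X18]) (nat_lit 234) (nat_lit 117) = true := by decide +kernel
theorem wk9_3 : allR (OT.ckEqW [X10, X10, X10, X12, X11, X11, X13, X11, X6, X9, X7, X8, X6, X6, X9, X7, X4, X2, X4, X4, X4, X2, X4, X4, X4, X2, X4, X4, X2, X0, X0, T1, X0, T0, T1, T0, X1, T1] [X18]) (nat_lit 351) (nat_lit 117) = true := by decide +kernel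
theorem wk9_4 : allR (OT.ckEqW [X10, X10, X10, X12, X11, X11, X13, X11, X6, X9, X7, X8, X6, X6, X9, X7, X4, X2, X4, X4, X4, X2, X4, X4, X4, X2, X4, X4, X2, X0, X0, T1, X0, T0, T1, T0, X1, T1] [X18]) (nat_lit 468) (nat_lit 117) = true := by decide +kernel
theorem wk9_5 : allR (OT.ckEqW [X10, X10, X10, X12, X11, X11, X13, X11, X6, X9, X7, X8, X6, X6, X9, X7, X4, X2, X4, X4, X4, X2, X4, X4, X4, X2, X4, X4, X2, X0, X0, T1, X0, T0, T1, T0, X1, T1] [X18]) (nat_lit 585) (nat_lit 117) = true := by decide +kernel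
theorem wk9_6 : allR (OT.ckEqW [X10, X10, X10, X12, X11, X11, X13, X11, X6, X9, X7, X8, X6, X6, X9, X7, X4, X2, X4, X4, X4, X2, X4, X4, X4, X2, X4, X4, X2, X0, X0, T1, X0, T0, T1, T0, X1, T1] [X18]) (nat_lit 702) (nat_lit 117) = true := by decide +kernel
theorem wk9_7 : allR (OT.ckEqW [X10, X10, X10, X12, X11, X11, X13, X11, X6, X9, X7, X8, X6, X6, X9, X7, X4, X2, X4, X4, X4, X2, X4, X4, X4, X2, X4, X4, X2, X0, X0, T1, X0, T0, T1, T0, X1, T1] [X18]) (nat_lit 819) (nat_lit 117) = true := by decide +kernel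
theorem wk9_8 : allR (OT.ckEqW [X10, X10, X10, X12, X11, X11, X13, X11, X6, X9, X7, X8, X6, X6, X9, X7, X4, X2, X4, X4, X4, X2, X4, X4, X4, X2, X4, X4, X2, X0, X0, T1, X0, T0, T1, T0, X1, T1] [X18]) (nat_lit 936) (nat_lit 117) = true := by decide +kernel
theorem wk9_9 : allR (OT.ckEqW [X10, X10, X10, X12, X11, X11, X13, X11, X6, X9, X7, X8, X6, X6, X9, X7, X4, X2, X4, X4, X4, X2, X4, X4, X4, X2, X4, X4, X2, X0, X0, T1, X0, T0, T1, T0, X1, T1] [X18]) (nat_lit 1053) (nat_lit 117) = true := by decide +kernel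
theorem wk9_10 : allR (OT.ckEqW [X10, X10, X10, X12, X11, X11, X13, X11, X6, X9, X7, X8, X6, X6, X9, X7, X4, X2, X4, X4, X4, X2, X4, X4, X4, X2, X4, X4, X2, X0, X0, T1, X0, T0, T1, T0, X1, T1] [X18]) (nat_lit 1170) (nat_lit 117) = true := by decide +kernel
theorem wk9_11 : allR (OT.ckEqW [X10, X10, X10, X12, X11, X11, X13, X11, X6, X9, X7, X8, X6, X6, X9, X7, X4, X2, X4, X4, X4, X2, X4, X4, X4, X2, X4, X4, X2, X0, X0, T1, X0, T0, T1, T0, X1, T1] [X18]) (nat_lit 1287) (nat_lit 117) = true := by decide +kernel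
theorem wk9_12 : allR (OT.ckEqW [X10, X10, X10, X12, X11, X11, X13, X11, X6, X9, X7, X8, X6, X6, X9, X7, X4, X2, X4, X4, X4, X2, X4, X4, X4, X2, X4, X4, X2, X0, X0, T1, X0, T0, T1, T0, X1, T1] [X18]) (nat_lit 1404) (nat_lit 117) = true := by decide +kernel
theorem wk9_13 : allR (OT.ckEqW [X10, X10, X10, X12, X11, X11, X13, X11, X6, X9, X7, X8, X6, X6, X9, X7, X4, X2, X4, X4, X4, X2, X4, X4, X4, X2, X4, X4, X2, X0, X0, T1, X0, T0, T1, T0, X1, T1] [X18]) (nat_lit 1521) (nat_lit 117) = true := by decide +kernel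
theorem wk9_14 : allR (OT.ckEqW [X10, X10, X10, X12, X11, X11, X13, X11, X6, X9, X7, X8, X6, X6, X9, X7, X4, X2, X4, X4, X4, X2, X4, X4, X4, X2, X4, X4, X2, X0, X0, T1, X0, T0, T1, T0, X1, T1] [X18]) (nat_lit 1638) (nat_lit 117) = true := by decide +kernel
theorem wk9_15 : allR (OT.ckEqW [X10, X10, X10, X12, X11, X11, X13, X11, X6, X9, X7, X8, X6, X6, X9, X7, X4, X2, X4, X4, X4, X2, X4, X4, X4, X2, X4, X4, X2, X0, X0, T1, X0, T0, T1, T0, X1, T1] [X18]) (nat_lit 1755) (nat_lit 117) = true := by decide +kernel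
theorem wk9_16 : allR (OT.ckEqW [X10, X10, X10, X12, X11, X11, X13, X11, X6, X9, X7, X8, X6, X6, X9, X7, X4, X2, X4, X4, X4, X2, X4, X4, X4, X2, X4, X4, X2, X0, X0, T1, X0, T0, T1, T0, X1, T1] [X18]) (nat_lit 1872) (nat_lit 117) = true := by decide +kernel
theorem wk9_17 : allR (OT.ckEqW [X10, X10, X10, X12, X11, X11, X13, X11, X6, X9, X7, X8, X6, X6, X9, X7, X4, X2, X4, X4, X4, X2, X4, X4, X4, X2, X4, X4, X2, X0, X0, T1, X0, T0, T1, T0, X1, T1] [X18]) (nat_lit 1989) (nat_lit 117) = true := by decide +kernel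
theorem wk9_18 : allR (OT.ckEqW [X10, X10, X10, X12, X11, X11, X13, X11, X6, X9, X7, X8, X6, X6, X9, X7, X4, X2, X4, X4, X4, X2, X4, X4, X4, X2, X4, X4, X2, X0, X0, T1, X0, T0, T1, T0, X1, T1] [X18]) (nat_lit 2106) (nat_lit 117) = true := by decide +kernel
theorem wk9_19 : allR (OT.ckEqW [X10, X10, X10, X12, X11, X11, X13, X11, X6, X9, X7, X8, X6, X6, X9, X7, X4, X2, X4, X4, X4, X2, X4, X4, X4, X2, X4, X4, X2, X0, X0, T1, X0, T0, T1, T0, X1, T1] [X18]) (nat_lit 2223) (nat_lit 117) = true := by decide +kernel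
theorem wk9_20 : allR (OT.ckEqW [X10, X10, X10, X12, X11, X11, X13, X11, X6, X9, X7, X8, X6, X6, X9, X7, X4, X2, X4, X4, X4, X2, X4, X4, X4, X2, X4, X4, X2, X0, X0, T1, X0, T0, T1, T0, X1, T1] [X18]) (nat_lit 2340) (nat_lit 117) = true := by decide +kernel
theorem wk9_21 : allR (OT.ckEqW [X10, X10, X10, X12, X11, X11, X13, X11, X6, X9, X7, X8, X6, X6, X9, X7, X4, X2, X4, X4, X4, X2, X4, X4, X4, X2, X4, X4, X2, X0, X0, T1, X0, T0, T1, T0, X1, T1] [X18]) (nat_lit 2457) (nat_lit 117) = true := by decide +kernel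
theorem wk9_22 : allR (OT.ckEqW [X10, X10, X10, X12, X11, X11, X13, X11, X6, X9, X7, X8, X6, X6, X9, X7, X4, X2, X4, X4, X4, X2, X4, X4, X4, X2, X4, X4, X2, X0, X0, T1, X0, T0, T1, T0, X1, T1] [X18]) (nat_lit 2574) (nat_lit 117) = true := by decide +kernel
theorem wk9_23 : allR (OT.ckEqW [X10, X10, X10, X12, X11, X11, X13, X11, X6, X9, X7, X8, X6, X6, X9, X7, X4, X2, X4, X4, X4, X2, X4, X4, X4, X2, X4, X4, X2, X0, X0, T1, X0, T0, T1, T0, X1, T1] [X18]) (nat_lit 2691) (nat_lit 117) = true := by decide +kernel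
theorem wk9_24 : allR (OT.ckEqW [X10, X10, X10, X12, X11, X11, X13, X11, X6, X9, X7, X8, X6, X6, X9, X7, X4, X2, X4, X4, X4, X2, X4, X4, X4, X2, X4, X4, X2, X0, X0, T1, X0, T0, T1, T0, X1, T1] [X18]) (nat_lit 2808) (nat_lit 117) = true := by decide +kernel
theorem wk9_25 : allR (OT.ckEqW [X10, X10, X10, X12, X11, X11, X13, X11, X6, X9, X7, X8, X6, X6, X9, X7, X4, X2, X4, X4, X4, X2, X4, X4, X4, X2, X4, X4, X2, X0, X0, T1, X0, T0, T1, T0, X1, T1] [X18]) (nat_lit 2925) (nat_lit 117) = true := by decide +kernel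
theorem wk9_26 : allR (OT.ckEqW [X10, X10, X10, X12, X11, X11, X13, X11, X6, X9, X7, X8, X6, X6, X9, X7, X4, X2, X4, X4, X4, X2, X4, X4, X4, X2, X4, X4, X2, X0, X0, T1, X0, T0, T1, T0, X1, T1] [X18]) (nat_lit 3042) (nat_lit 117) = true := by decide +kernel
theorem wk9_27 : allR (OT.ckEqW [X10, X10, X10, X12, X11, X11, X13, X11, X6, X9, X7, X8, X6, X6, X9, X7, X4, X2, X4, X4, X4, X2, X4, X4, X4, X2, X4, X4, X2, X0, X0, T1, X0, T0, T1, T0, X1, T1] [X18]) (nat_lit 3159) (nat_lit 117) = true := by decide +kernel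
theorem wk9_28 : allR (OT.ckEqW [X10, X10, X10, X12, X11, X11, X13, X11, X6, X9, X7, X8, X6, X6, X9, X7, X4, X2, X4, X4, X4, X2, X4, X4, X4, X2, X4, X4, X2, X0, X0, T1, X0, T0, T1, T0, X1, T1] [X18]) (nat_lit 3276) (nat_lit 117) = true := by decide +kernel
theorem wk9_29 : allR (OT.ckEqW [X10, X10, X10, X12, X11, X11, X13, X11, X6, X9, X7, X8, X6, X6, X9, X7, X4, X2, X4, X4, X4, X2, X4, X4, X4, X2, X4, X4, X2, X0, X0, T1, X0, T0, T1, T0, X1, T1] [X18]) (nat_lit 3393) (nat_lit 117) = true := by decide +kernel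
theorem wk9_30 : allR (OT.ckEqW [X10, X10, X10, X12, X11, X11, X13, X11, X6, X9, X7, X8, X6, X6, X9, X7, X4, X2, X4, X4, X4, X2, X4, X4, X4, X2, X4, X4, X2, X0, X0, T1, X0, T0, T1, T0, X1, T1] [X18]) (nat_lit 3510) (nat_lit 117) = true := by decide +kernel
theorem wk9_31 : allR (OT.ckEqW [X10, X10, X10, X12, X11, X11, X13, X11, X6, X9, X7, X8, X6, X6, X9, X7, X4, X2, X4, X4, X4, X2, X4, X4, X4, X2, X4, X4, X2, X0, X0, T1, X0, T0, T1, T0, X1, T1] [X18]) (nat_lit 3627) (nat_lit 117) = true := by decide +kernel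
theorem wk9_32 : allR (OT.ckEqW [X10, X10, X10, X12, X11, X11, X13, X11, X6, X9, X7, X8, X6, X6, X9, X7, X4, X2, X4, X4, X4, X2, X4, X4, X4, X2, X4, X4, X2, X0, X0, T1, X0, T0, T1, T0, X1, T1] [X18]) (nat_lit 3744) (nat_lit 117) = true := by decide +kernel
theorem wk9_33 : allR (OT.ckEqW [X10, X10, X10, X12, X11, X11, X13, X11, X6, X9, X7, X8, X6, X6, X9, X7, X4, X2, X4, X4, X4, X2, X4, X4, X4, X2, X4, X4, X2, X0, X0, T1, X0, T0, T1, T0, X1, T1] [X18]) (nat_lit 3861) (nat_lit 117) = true := by decide +kernel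
theorem wk9_34 : allR (OT.ckEqW [X10, X10, X10, X12, X11, X11, X13, X11, X6, X9, X7, X8, X6, X6, X9, X7, X4, X2, X4, X4, X4, X2, X4, X4, X4, X2, X4, X4, X2, X0, X0, T1, X0, T0, T1, T0, X1, T1] [X18]) (nat_lit 3978) (nat_lit 117) = true := by decide +kernel
theorem wk9_35 : allR (OT.ckEqW [X10, X10, X10, X12, X11, X11, X13, X11, X6, X9, X7, X8, X6, X6, X9, X7, X4, X2, X4, X4, X4, X2, X4, X4, X4, X2, X4, X4, X2, X0, X0, T1, X0, T0, T1, T0, X1, T1] [X18]) (nat_lit 4095) (nat_lit 117) = true := by decide +kernel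
theorem wk9_36 : allR (OT.ckEqW [X10, X10, X10, X12, X11, X11, X13, X11, X6, X9, X7, X8, X6, X6, X9, X7, X4, X2, X4, X4, X4, X2, X4, X4, X4, X2, X4, X4, X2, X0, X0, T1, X0, T0, T1, T0, X1, T1] [X18]) (nat_lit 4212) (nat_lit 117) = true := by decide +kernel
theorem wk9_37 : allR (OT.ckEqW [X10, X10, X10, X12, X11, X11, X13, X11, X6, X9, X7, X8, X6, X6, X9, X7, X4, X2, X4, X4, X4, X2, X4, X4, X4, X2, X4, X4, X2, X0, X0, T1, X0, T0, T1, T0, X1, T1] [X18]) (nat_lit 4329) (nat_lit 117) = true := by decide +kernel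
theorem wk9_38 : allR (OT.ckEqW [X10, X10, X10, X12, X11, X11, X13, X11, X6, X9, X7, X8, X6, X6, X9, X7, X4, X2, X4, X4, X4, X2, X4, X4, X4, X2, X4, X4, X2, X0, X0, T1, X0, T0, T1, T0, X1, T1] [X18]) (nat_lit 4446) (nat_lit 117) = true := by decide +kernel
theorem wk9_39 : allR (OT.ckEqW [X10, X10, X10, X12, X11, X11, X13, X11, X6, X9, X7, X8, X6, X6, X9, X7, X4, X2, X4, X4, X4, X2, X4, X4, X4, X2, X4, X4, X2, X0, X0, T1, X0, T0, T1, T0, X1, T1] [X18]) (nat_lit 4563) (nat_lit 37) = true := by decide +kernel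
theorem wk8_34 : allR (OT.ckEqW [X14, X11, X11, X11, X11, X12, X12, X7, X8, X7, X9, X6, X9, X6, X4, X4, X2, X5, X2, X4, X4, X2, X5, X2, X4, X2, X5, X1, T1, X0, T2, X0, X0] [X16]) (nat_lit 4590) (nat_lit 10) = true := by decide +kernel
theorem wk4_28 : allR (OT.ckEqW [X4, X3, X4, X4, X4, X4, X2, X4, X4, X4, X4, X4, X3, X5, X5, X5, X3, X5, X3, X5, X5, X3, X5, X5, X5, X5, X5] [X8]) (nat_lit 4592) (nat_lit 8) = true := by decide +kernel
theorem wk3_18 : allR (OT.ckEqW [X3, X5, X3, X4, X2, X4, X2, X4, X4, X3, X5, X3, X4, X4, X3, X5, X5] [X6]) (nat_lit 4590) (nat_lit 10) = true := by decide +kernel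
theorem wk12_18 : allR (OT.ckEqW [X19, X19, X16, X1, X18, X0, X16, X16, X19, X0, X19, X17, X1, X19, X1, X1, X18] [X24]) (nat_lit 4590) (nat_lit 10) = true := by decide +kernel
theorem wk14_18 : allR (OT.ckEqW [X25, X25, X22, X22, X22, X25, X23, X23, X23, X24, X24, X22, X25, X23, X24, X24, X24] [X28]) (nat_lit 4590) (nat_lit 10) = true := by decide +kernel
theorem wk20_18 : allR (OT.ckEqW [X19, X0, X16, X1, X19, X1, X1, X19, X19, X0, X18, X0, X19, X0, X18, X1, X1] [X40]) (nat_lit 4590) (nat_lit 10) = true := by decide +kernel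
theorem wk13_17 : allR (OT.ckEqW [X25, X25, X25, X23, X24, X23, X24, X24, X22, X22, X22, X24, X24, X23, X25, X22] [X26]) (nat_lit 4590) (nat_lit 10) = true := by decide +kernel
theorem wk5_15 : allR (OT.ckEqW [X6, X9, X6, X8, X7, X7, X8, X7, X9, X9, X7, X7, X9, X7] [X10]) (nat_lit 4590) (nat_lit 10) = true := by decide +kernel
theorem wk19_15 : allR (OT.ckEqW [X0, X18, X16, X16, X0, X19, X0, X17, X1, X18, X1, X18, X0, X16] [X38]) (nat_lit 4590) (nat_lit 10) = true := by decide +kernel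
theorem wk6_12 : allR (OT.ckEqW [X6, X8, X7, X7, X9, X7, X8, X7, X9, X7, X8] [X12]) (nat_lit 4596) (nat_lit 4) = true := by decide +kernel
theorem wk15_12 : allR (OT.ckEqW [X29, X26, X26, X28, X28, X26, X26, X28, X27, X29, X29] [X30]) (nat_lit 4596) (nat_lit 4) = true := by decide +kernel
theorem wk21_12 : allR (OT.ckEqW [X38, X41, X41, X39, X39, X40, X39, X39, X41, X41, X39] [X42]) (nat_lit 4596) (nat_lit 4) = true := by decide +kernel
theorem wk11_19 : allR (OT.ckEqW [X18, X17, X0, X16, X16, X19, X19, X19, X0, X19, X0, X17, X1, X18, X17, X0, X18, X17] [X22]) (nat_lit 4598) (nat_lit 2) = true := by decide +kernel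
theorem wk2_11 : allR (OT.ckEqW [T1, X0, T2, T0, X1, X1, T1, X1, T1, X0] [X4]) (nat_lit 4598) (nat_lit 2) = true := by decide +kernel
theorem wk23_11 : allR (OT.ckEqW [X43, X43, X45, X42, X44, X42, X44, X44, X43, X43] [X46]) (nat_lit 4598) (nat_lit 2) = true := by decide +kernel
theorem wk7_9 : allR (OT.ckEqW [X11, X13, X11, X13, X10, X13, X13, X10] [X14]) (nat_lit 4599) (nat_lit 1) = true := by decide +kernel
theorem wk18_9 : allR (OT.ckEqW [X31, X31, X31, X32, X30, X32, X30, X33] [X36]) (nat_lit 4599) (nat_lit 1) = true := by decide +kernel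
theorem wk22_9 : allR (OT.ckEqW [X41, X41, X38, X41, X39, X39, X39, X41] [X44]) (nat_lit 4599) (nat_lit 1) = true := by decide +kernel
theorem wk27_9 : allR (OT.ckEqW [X47, X49, X49, X49, X47, X49, X49, X49] [X54]) (nat_lit 4599) (nat_lit 1) = true := by decide +kernel
theorem wk16_7 : allR (OT.ckEqW [X29, X26, X28, X26, X26, X29] [X32]) (nat_lit 4599) (nat_lit 1) = true := by decide +kernel

end Cfsg.Agent.H8.Co2O
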