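import Cfsg.Agent.H8.T.Co3Oa

set_option Elab.async false
set_option autoImplicit false
set_option linter.all false
set_option maxRecDepth 100000
set_option maxHeartbeats 400000

namespace Cfsg.Agent.H8.Co3O
open Cfsg.Agent.H8.LtC3 (T0 T1 T2)

theorem pk0_0 : allR (ckPerm (nat_lit 552) X0 X1) (nat_lit 0) (nat_lit 276) = true := by decide +kernel
theorem pk0_1 : allR (ckPerm (nat_lit 552) X0 X1) (nat_lit 276) (nat_lit 276) = true := by decide +kernel
theorem pk1_0 : allR (ckPerm (nat_lit 552) X1 X0) (nat_lit 0) (nat_lit 276) = true := by decide +kernel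
theorem pk1_1 : allR (ckPerm (nat_lit 552) X1 X0) (nat_lit 276) (nat_lit 276) = true := by decide +kernel
theorem pk2_0 : allR (ckPerm (nat_lit 552) X2 X3) (nat_lit 0) (nat_lit 276) = true := by decide +kernel
theorem pk2_1 : allR (ckPerm (nat_lit 552) X2 X3) (nat_lit 276) (nat_lit 276) = true := by decide +kernel
theorem pk3_0 : allR (ckPerm (nat_lit 552) X3 X2) (nat_lit 0) (nat_lit 276) = true := by decide +kernel
theorem pk3_1 : allR (ckPerm (nat_lit 552) X3 X2) (nat_lit 276) (nat_lit 276) = true := by decide +kernel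
theorem pk4_0 : allR (ckPerm (nat_lit 552) X4 X5) (nat_lit 0) (nat_lit 276) = true := by decide +kernel
theorem pk4_1 : allR (ckPerm (nat_lit 552) X4 X5) (nat_lit 276) (nat_lit 276) = true := by decide +kernel
theorem pk5_0 : allR (ckPerm (nat_lit 552) X5 X4) (nat_lit 0) (nat_lit 276) = true := by decide +kernel
theorem pk5_1 : allR (ckPerm (nat_lit 552) X5 X4) (nat_lit 276) (nat_lit 276) = true := by decide +kernel
theorem pk6_0 : allR (ckPerm (nat_lit 552) X6 X7) (nat_lit 0) (nat_lit 276) = true := by decide +kernel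
theorem pk6_1 : allR (ckPerm (nat_lit 552) X6 X7) (nat_lit 276) (nat_lit 276) = true := by decide +kernel
theorem pk7_0 : allR (ckPerm (nat_lit 552) X7 X6) (nat_lit 0) (nat_lit 276) = true := by decide +kernel
theorem pk7_1 : allR (ckPerm (nat_lit 552) X7 X6) (nat_lit 276) (nat_lit 276) = true := by decide +kernel
theorem pk8_0 : allR (ckPerm (nat_lit 552) X8 X9) (nat_lit 0) (nat_lit 276) = true := by decide +kernel
theorem pk8_1 : allR (ckPerm (nat_lit 552) X8 X9) (nat_lit 276) (nat_lit 276) = true := by decide +kernel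
theorem pk9_0 : allR (ckPerm (nat_lit 552) X9 X8) (nat_lit 0) (nat_lit 276) = true := by decide +kernel
theorem pk9_1 : allR (ckPerm (nat_lit 552) X9 X8) (nat_lit 276) (nat_lit 276) = true := by decide +kernel
theorem pk10_0 : allR (ckPerm (nat_lit 552) X10 X11) (nat_lit 0) (nat_lit 276) = true := by decide +kernel
theorem pk10_1 : allR (ckPerm (nat_lit 552) X10 X11) (nat_lit 276) (nat_lit 276) = true := by decide +kernel
theorem pk11_0 : allR (ckPerm (nat_lit 552) X11 X10) (nat_lit 0) (nat_lit 276) = true := by decide +kernel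
theorem pk11_1 : allR (ckPerm (nat_lit 552) X11 X10) (nat_lit 276) (nat_lit 276) = true := by decide +kernel
theorem pk12_0 : allR (ckPerm (nat_lit 552) X12 X13) (nat_lit 0) (nat_lit 276) = true := by decide +kernel
theorem pk12_1 : allR (ckPerm (nat_lit 552) X12 X13) (nat_lit 276) (nat_lit 276) = true := by decide +kernel
theorem pk13_0 : allR (ckPerm (nat_lit 552) X13 X12) (nat_lit 0) (nat_lit 276) = true := by decide +kernel
theorem pk13_1 : allR (ckPerm (nat_lit 552) X13 X12) (nat_lit 276) (nat_lit 276) = true := by decide +kernel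
theorem pk14_0 : allR (ckPerm (nat_lit 552) X14 X15) (nat_lit 0) (nat_lit 276) = true := by decide +kernel
theorem pk14_1 : allR (ckPerm (nat_lit 552) X14 X15) (nat_lit 276) (nat_lit 276) = true := by decide +kernel
theorem pk15_0 : allR (ckPerm (nat_lit 552) X15 X14) (nat_lit 0) (nat_lit 276) = true := by decide +kernel
theorem pk15_1 : allR (ckPerm (nat_lit 552) X15 X14) (nat_lit 276) (nat_lit 276) = true := by decide +kernel
theorem pk16_0 : allR (ckPerm (nat_lit 552) X16 X17) (nat_lit 0) (nat_lit 276) = true := by decide +kernel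
theorem pk16_1 : allR (ckPerm (nat_lit 552) X16 X17) (nat_lit 276) (nat_lit 276) = true := by decide +kernel
theorem pk17_0 : allR (ckPerm (nat_lit 552) X17 X16) (nat_lit 0) (nat_lit 276) = true := by decide +kernel
theorem pk17_1 : allR (ckPerm (nat_lit 552) X17 X16) (nat_lit 276) (nat_lit 276) = true := by decide +kernel
theorem pk18_0 : allR (ckPerm (nat_lit 552) X18 X19) (nat_lit 0) (nat_lit 276) = true := by decide +kernel
theorem pk18_1 : allR (ckPerm (nat_lit 552) X18 X19) (nat_lit 276) (nat_lit 276) = true := by decide +kernel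
theorem pk19_0 : allR (ckPerm (nat_lit 552) X19 X18) (nat_lit 0) (nat_lit 276) = true := by decide +kernel
theorem pk19_1 : allR (ckPerm (nat_lit 552) X19 X18) (nat_lit 276) (nat_lit 276) = true := by decide +kernel
theorem pk20_0 : allR (ckPerm (nat_lit 552) X20 X21) (nat_lit 0) (nat_lit 276) = true := by decide +kernel
theorem pk20_1 : allR (ckPerm (nat_lit 552) X20 X21) (nat_lit 276) (nat_lit 276) = true := by decide +kernel
theorem pk21_0 : allR (ckPerm (nat_lit 552) X21 X20) (nat_lit 0) (nat_lit 276) = true := by decide +kernel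
theorem pk21_1 : allR (ckPerm (nat_lit 552) X21 X20) (nat_lit 276) (nat_lit 276) = true := by decide +kernel
theorem pk22_0 : allR (ckPerm (nat_lit 552) X22 X23) (nat_lit 0) (nat_lit 276) = true := by decide +kernel
theorem pk22_1 : allR (ckPerm (nat_lit 552) X22 X23) (nat_lit 276) (nat_lit 276) = true := by decide +kernel
theorem pk23_0 : allR (ckPerm (nat_lit 552) X23 X22) (nat_lit 0) (nat_lit 276) = true := by decide +kernel
theorem pk23_1 : allR (ckPerm (nat_lit 552) X23 X22) (nat_lit 276) (nat_lit 276) = true := by decide +kernel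
theorem pk24_0 : allR (ckPerm (nat_lit 552) X24 X25) (nat_lit 0) (nat_lit 276) = true := by decide +kernel
theorem pk24_1 : allR (ckPerm (nat_lit 552) X24 X25) (nat_lit 276) (nat_lit 276) = true := by decide +kernel
theorem pk25_0 : allR (ckPerm (nat_lit 552) X25 X24) (nat_lit 0) (nat_lit 276) = true := by decide +kernel
theorem pk25_1 : allR (ckPerm (nat_lit 552) X25 X24) (nat_lit 276) (nat_lit 276) = true := by decide +kernel
theorem pk26_0 : allR (ckPerm (nat_lit 552) X26 X27) (nat_lit 0) (nat_lit 276) = true := by decide +kernel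
theorem pk26_1 : allR (ckPerm (nat_lit 552) X26 X27) (nat_lit 276) (nat_lit 276) = true := by decide +kernel
theorem pk27_0 : allR (ckPerm (nat_lit 552) X27 X26) (nat_lit 0) (nat_lit 276) = true := by decide +kernel
theorem pk27_1 : allR (ckPerm (nat_lit 552) X27 X26) (nat_lit 276) (nat_lit 276) = true := by decide +kernel
theorem pk28_0 : allR (ckPerm (nat_lit 552) X28 X29) (nat_lit 0) (nat_lit 276) = true := by decide +kernel
theorem pk28_1 : allR (ckPerm (nat_lit 552) X28 X29) (nat_lit 276) (nat_lit 276) = true := by decide +kernel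
theorem pk29_0 : allR (ckPerm (nat_lit 552) X29 X28) (nat_lit 0) (nat_lit 276) = true := by decide +kernel
theorem pk29_1 : allR (ckPerm (nat_lit 552) X29 X28) (nat_lit 276) (nat_lit 276) = true := by decide +kernel
theorem pk30_0 : allR (ckPerm (nat_lit 552) X30 X31) (nat_lit 0) (nat_lit 276) = true := by decide +kernel
theorem pk30_1 : allR (ckPerm (nat_lit 552) X30 X31) (nat_lit 276) (nat_lit 276) = true := by decide +kernel
theorem pk31_0 : allR (ckPerm (nat_lit 552) X31 X30) (nat_lit 0) (nat_lit 276) = true := by decide +kernel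
theorem pk31_1 : allR (ckPerm (nat_lit 552) X31 X30) (nat_lit 276) (nat_lit 276) = true := by decide +kernel
theorem pk32_0 : allR (ckPerm (nat_lit 552) X32 X33) (nat_lit 0) (nat_lit 276) = true := by decide +kernel
theorem pk32_1 : allR (ckPerm (nat_lit 552) X32 X33) (nat_lit 276) (nat_lit 276) = true := by decide +kernel
theorem pk33_0 : allR (ckPerm (nat_lit 552) X33 X32) (nat_lit 0) (nat_lit 276) = true := by decide +kernel
theorem pk33_1 : allR (ckPerm (nat_lit 552) X33 X32) (nat_lit 276) (nat_lit 276) = true := by decide +kernel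
theorem pk34_0 : allR (ckPerm (nat_lit 552) X34 X35) (nat_lit 0) (nat_lit 276) = true := by decide +kernel
theorem pk34_1 : allR (ckPerm (nat_lit 552) X34 X35) (nat_lit 276) (nat_lit 276) = true := by decide +kernel
theorem pk35_0 : allR (ckPerm (nat_lit 552) X35 X34) (nat_lit 0) (nat_lit 276) = true := by decide +kernel
theorem pk35_1 : allR (ckPerm (nat_lit 552) X35 X34) (nat_lit 276) (nat_lit 276) = true := by decide +kernel
theorem pk36_0 : allR (ckPerm (nat_lit 552) X36 X37) (nat_lit 0) (nat_lit 276) = true := by decide +kernel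
theorem pk36_1 : allR (ckPerm (nat_lit 552) X36 X37) (nat_lit 276) (nat_lit 276) = true := by decide +kernel
theorem pk37_0 : allR (ckPerm (nat_lit 552) X37 X36) (nat_lit 0) (nat_lit 276) = true := by decide +kernel
theorem pk37_1 : allR (ckPerm (nat_lit 552) X37 X36) (nat_lit 276) (nat_lit 276) = true := by decide +kernel
theorem pk38_0 : allR (ckPerm (nat_lit 552) X38 X39) (nat_lit 0) (nat_lit 276) = true := by decide +kernel
theorem pk38_1 : allR (ckPerm (nat_lit 552) X38 X39) (nat_lit 276) (nat_lit 276) = true := by decide +kernel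
theorem pk39_0 : allR (ckPerm (nat_lit 552) X39 X38) (nat_lit 0) (nat_lit 276) = true := by decide +kernel
theorem pk39_1 : allR (ckPerm (nat_lit 552) X39 X38) (nat_lit 276) (nat_lit 276) = true := by decide +kernel
theorem pk40_0 : allR (ckPerm (nat_lit 552) X40 X41) (nat_lit 0) (nat_lit 276) = true := by decide +kernel
theorem pk40_1 : allR (ckPerm (nat_lit 552) X40 X41) (nat_lit 276) (nat_lit 276) = true := by decide +kernel
theorem pk41_0 : allR (ckPerm (nat_lit 552) X41 X40) (nat_lit 0) (nat_lit 276) = true := by decide +kernel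
theorem pk41_1 : allR (ckPerm (nat_lit 552) X41 X40) (nat_lit 276) (nat_lit 276) = true := by decide +kernel
theorem pk42_0 : allR (ckPerm (nat_lit 552) X42 X43) (nat_lit 0) (nat_lit 276) = true := by decide +kernel
theorem pk42_1 : allR (ckPerm (nat_lit 552) X42 X43) (nat_lit 276) (nat_lit 276) = true := by decide +kernel
theorem pk43_0 : allR (ckPerm (nat_lit 552) X43 X42) (nat_lit 0) (nat_lit 276) = true := by decide +kernel
theorem pk43_1 : allR (ckPerm (nat_lit 552) X43 X42) (nat_lit 276) (nat_lit 276) = true := by decide +kernel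
theorem pk44_0 : allR (ckPerm (nat_lit 552) X44 X45) (nat_lit 0) (nat_lit 276) = true := by decide +kernel
theorem pk44_1 : allR (ckPerm (nat_lit 552) X44 X45) (nat_lit 276) (nat_lit 276) = true := by decide +kernel
theorem pk45_0 : allR (ckPerm (nat_lit 552) X45 X44) (nat_lit 0) (nat_lit 276) = true := by decide +kernel
theorem pk45_1 : allR (ckPerm (nat_lit 552) X45 X44) (nat_lit 276) (nat_lit 276) = true := by decide +kernel
theorem pk46_0 : allR (ckPerm (nat_lit 552) X46 X47) (nat_lit 0) (nat_lit 276) = true := by decide +kernel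
theorem pk46_1 : allR (ckPerm (nat_lit 552) X46 X47) (nat_lit 276) (nat_lit 276) = true := by decide +kernel
theorem pk47_0 : allR (ckPerm (nat_lit 552) X47 X46) (nat_lit 0) (nat_lit 276) = true := by decide +kernel
theorem pk47_1 : allR (ckPerm (nat_lit 552) X47 X46) (nat_lit 276) (nat_lit 276) = true := by decide +kernel
theorem pk48_0 : allR (ckPerm (nat_lit 552) X48 X49) (nat_lit 0) (nat_lit 276) = true := by decide +kernel
theorem pk48_1 : allR (ckPerm (nat_lit 552) X48 X49) (nat_lit 276) (nat_lit 276) = true := by decide +kernel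
theorem pk49_0 : allR (ckPerm (nat_lit 552) X49 X48) (nat_lit 0) (nat_lit 276) = true := by decide +kernel
theorem pk49_1 : allR (ckPerm (nat_lit 552) X49 X48) (nat_lit 276) (nat_lit 276) = true := by decide +kernel
theorem pk50_0 : allR (ckPerm (nat_lit 552) X50 X51) (nat_lit 0) (nat_lit 276) = true := by decide +kernel
theorem pk50_1 : allR (ckPerm (nat_lit 552) X50 X51) (nat_lit 276) (nat_lit 276) = true := by decide +kernel
theorem pk51_0 : allR (ckPerm (nat_lit 552) X51 X50) (nat_lit 0) (nat_lit 276) = true := by decide +kernel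
theorem pk51_1 : allR (ckPerm (nat_lit 552) X51 X50) (nat_lit 276) (nat_lit 276) = true := by decide +kernel
theorem pk52_0 : allR (ckPerm (nat_lit 552) X52 X53) (nat_lit 0) (nat_lit 276) = true := by decide +kernel
theorem pk52_1 : allR (ckPerm (nat_lit 552) X52 X53) (nat_lit 276) (nat_lit 276) = true := by decide +kernel
theorem pk53_0 : allR (ckPerm (nat_lit 552) X53 X52) (nat_lit 0) (nat_lit 276) = true := by decide +kernel
theorem pk53_1 : allR (ckPerm (nat_lit 552) X53 X52) (nat_lit 276) (nat_lit 276) = true := by decide +kernel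
theorem pk54_0 : allR (ckPerm (nat_lit 552) X54 X55) (nat_lit 0) (nat_lit 276) = true := by decide +kernel
theorem pk54_1 : allR (ckPerm (nat_lit 552) X54 X55) (nat_lit 276) (nat_lit 276) = true := by decide +kernel
theorem pk55_0 : allR (ckPerm (nat_lit 552) X55 X54) (nat_lit 0) (nat_lit 276) = true := by decide +kernel
theorem pk55_1 : allR (ckPerm (nat_lit 552) X55 X54) (nat_lit 276) (nat_lit 276) = true := by decide +kernel
theorem pk56_0 : allR (ckPerm (nat_lit 552) X56 X57) (nat_lit 0) (nat_lit 276) = true := by decide +kernel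
theorem pk56_1 : allR (ckPerm (nat_lit 552) X56 X57) (nat_lit 276) (nat_lit 276) = true := by decide +kernel
theorem pk57_0 : allR (ckPerm (nat_lit 552) X57 X56) (nat_lit 0) (nat_lit 276) = true := by decide +kernel
theorem pk57_1 : allR (ckPerm (nat_lit 552) X57 X56) (nat_lit 276) (nat_lit 276) = true := by decide +kernel
theorem pk58_0 : allR (ckPerm (nat_lit 552) X58 X59) (nat_lit 0) (nat_lit 276) = true := by decide +kernel
theorem pk58_1 : allR (ckPerm (nat_lit 552) X58 X59) (nat_lit 276) (nat_lit 276) = true := by decide +kernel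
theorem pk59_0 : allR (ckPerm (nat_lit 552) X59 X58) (nat_lit 0) (nat_lit 276) = true := by decide +kernel
theorem pk59_1 : allR (ckPerm (nat_lit 552) X59 X58) (nat_lit 276) (nat_lit 276) = true := by decide +kernel
theorem pk60_0 : allR (ckPerm (nat_lit 552) X60 X61) (nat_lit 0) (nat_lit 276) = true := by decide +kernel
theorem pk60_1 : allR (ckPerm (nat_lit 552) X60 X61) (nat_lit 276) (nat_lit 276) = true := by decide +kernel
theorem pk61_0 : allR (ckPerm (nat_lit 552) X61 X60) (nat_lit 0) (nat_lit 276) = true := by decide +kernel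
theorem pk61_1 : allR (ckPerm (nat_lit 552) X61 X60) (nat_lit 276) (nat_lit 276) = true := by decide +kernel
theorem pk62_0 : allR (ckPerm (nat_lit 552) X62 X63) (nat_lit 0) (nat_lit 276) = true := by decide +kernel
theorem pk62_1 : allR (ckPerm (nat_lit 552) X62 X63) (nat_lit 276) (nat_lit 276) = true := by decide +kernel
theorem pk63_0 : allR (ckPerm (nat_lit 552) X63 X62) (nat_lit 0) (nat_lit 276) = true := by decide +kernel
theorem pk63_1 : allR (ckPerm (nat_lit 552) X63 X62) (nat_lit 276) (nat_lit 276) = true := by decide +kernel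
theorem pk64_0 : allR (ckPerm (nat_lit 552) X64 X65) (nat_lit 0) (nat_lit 276) = true := by decide +kernel
theorem pk64_1 : allR (ckPerm (nat_lit 552) X64 X65) (nat_lit 276) (nat_lit 276) = true := by decide +kernel
theorem pk65_0 : allR (ckPerm (nat_lit 552) X65 X64) (nat_lit 0) (nat_lit 276) = true := by decide +kernel
theorem pk65_1 : allR (ckPerm (nat_lit 552) X65 X64) (nat_lit 276) (nat_lit 276) = true := by decide +kernel
theorem pk66_0 : allR (ckPerm (nat_lit 552) X66 X67) (nat_lit 0) (nat_lit 276) = true := by decide +kernel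
theorem pk66_1 : allR (ckPerm (nat_lit 552) X66 X67) (nat_lit 276) (nat_lit 276) = true := by decide +kernel
theorem pk67_0 : allR (ckPerm (nat_lit 552) X67 X66) (nat_lit 0) (nat_lit 276) = true := by decide +kernel
theorem pk67_1 : allR (ckPerm (nat_lit 552) X67 X66) (nat_lit 276) (nat_lit 276) = true := by decide +kernel
theorem wk0_0 : allR (OT.ckEqW [T0, T1, T2, T0, T1] [X0]) (nat_lit 0) (nat_lit 92) = true := by decide +kernel
theorem wk0_1 : allR (OT.ckEqW [T0, T1, T2, T0, T1] [X0]) (nat_lit 92) (nat_lit 92) = true := by decide +kernel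
theorem wk0_2 : allR (OT.ckEqW [T0, T1, T2, T0, T1] [X0]) (nat_lit 184) (nat_lit 92) = true := by decide +kernel
theorem wk0_3 : allR (OT.ckEqW [T0, T1, T2, T0, T1] [X0]) (nat_lit 276) (nat_lit 92) = true := by decide +kernel
theorem wk0_4 : allR (OT.ckEqW [T0, T1, T2, T0, T1] [X0]) (nat_lit 368) (nat_lit 92) = true := by decide +kernel
theorem wk0_5 : allR (OT.ckEqW [T0, T1, T2, T0, T1] [X0]) (nat_lit 460) (nat_lit 92) = true := by decide +kernel
theorem wk4_0 : allR (OT.ckEqW [X4, X3, X3, X5, X3, X4, X3, X4, X4, X3, X3] [X8]) (nat_lit 0) (nat_lit 46) = true := by decide +kernel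
theorem wk4_1 : allR (OT.ckEqW [X4, X3, X3, X5, X3, X4, X3, X4, X4, X3, X3] [X8]) (nat_lit 46) (nat_lit 46) = true := by decide +kernel
theorem wk4_2 : allR (OT.ckEqW [X4, X3, X3, X5, X3, X4, X3, X4, X4, X3, X3] [X8]) (nat_lit 92) (nat_lit 46) = true := by decide +kernel
theorem wk4_3 : allR (OT.ckEqW [X4, X3, X3, X5, X3, X4, X3, X4, X4, X3, X3] [X8]) (nat_lit 138) (nat_lit 46) = true := by decide +kernel
theorem wk4_4 : allR (OT.ckEqW [X4, X3, X3, X5, X3, X4, X3, X4, X4, X3, X3] [X8]) (nat_lit 184) (nat_lit 46) = true := by decide +kernel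
theorem wk4_5 : allR (OT.ckEqW [X4, X3, X3, X5, X3, X4, X3, X4, X4, X3, X3] [X8]) (nat_lit 230) (nat_lit 46) = true := by decide +kernel
theorem wk4_6 : allR (OT.ckEqW [X4, X3, X3, X5, X3, X4, X3, X4, X4, X3, X3] [X8]) (nat_lit 276) (nat_lit 46) = true := by decide +kernel
theorem wk4_7 : allR (OT.ckEqW [X4, X3, X3, X5, X3, X4, X3, X4, X4, X3, X3] [X8]) (nat_lit 322) (nat_lit 46) = true := by decide +kernel
theorem wk4_8 : allR (OT.ckEqW [X4, X3, X3, X5, X3, X4, X3, X4, X4, X3, X3] [X8]) (nat_lit 368) (nat_lit 46) = true := by decide +kernel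
theorem wk4_9 : allR (OT.ckEqW [X4, X3, X3, X5, X3, X4, X3, X4, X4, X3, X3] [X8]) (nat_lit 414) (nat_lit 46) = true := by decide +kernel
theorem wk4_10 : allR (OT.ckEqW [X4, X3, X3, X5, X3, X4, X3, X4, X4, X3, X3] [X8]) (nat_lit 460) (nat_lit 46) = true := by decide +kernel
theorem wk4_11 : allR (OT.ckEqW [X4, X3, X3, X5, X3, X4, X3, X4, X4, X3, X3] [X8]) (nat_lit 506) (nat_lit 46) = true := by decide +kernel
theorem wk8_0 : allR (OT.ckEqW [X10, X10, X13, X11, X11, X13, X13] [X16]) (nat_lit 0) (nat_lit 69) = true := by decide +kernel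
theorem wk8_1 : allR (OT.ckEqW [X10, X10, X13, X11, X11, X13, X13] [X16]) (nat_lit 69) (nat_lit 69) = true := by decide +kernel
theorem wk8_2 : allR (OT.ckEqW [X10, X10, X13, X11, X11, X13, X13] [X16]) (nat_lit 138) (nat_lit 69) = true := by decide +kernel
theorem wk8_3 : allR (OT.ckEqW [X10, X10, X13, X11, X11, X13, X13] [X16]) (nat_lit 207) (nat_lit 69) = true := by decide +kernel
theorem wk8_4 : allR (OT.ckEqW [X10, X10, X13, X11, X11, X13, X13] [X16]) (nat_lit 276) (nat_lit 69) = true := by decide +kernel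
theorem wk8_5 : allR (OT.ckEqW [X10, X10, X13, X11, X11, X13, X13] [X16]) (nat_lit 345) (nat_lit 69) = true := by decide +kernel
theorem wk8_6 : allR (OT.ckEqW [X10, X10, X13, X11, X11, X13, X13] [X16]) (nat_lit 414) (nat_lit 69) = true := by decide +kernel
theorem wk8_7 : allR (OT.ckEqW [X10, X10, X13, X11, X11, X13, X13] [X16]) (nat_lit 483) (nat_lit 69) = true := by decide +kernel
theorem wk9_0 : allR (OT.ckEqW [X12, X12, X11, X11, X12, X10, X13, X13, X11, X12, X11] [X18]) (nat_lit 0) (nat_lit 46) = true := by decide +kernel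
theorem wk9_1 : allR (OT.ckEqW [X12, X12, X11, X11, X12, X10, X13, X13, X11, X12, X11] [X18]) (nat_lit 46) (nat_lit 46) = true := by decide +kernel
theorem wk9_2 : allR (OT.ckEqW [X12, X12, X11, X11, X12, X10, X13, X13, X11, X12, X11] [X18]) (nat_lit 92) (nat_lit 46) = true := by decide +kernel
theorem wk9_3 : allR (OT.ckEqW [X12, X12, X11, X11, X12, X10, X13, X13, X11, X12, X11] [X18]) (nat_lit 138) (nat_lit 46) = true := by decide +kernel
theorem wk9_4 : allR (OT.ckEqW [X12, X12, X11, X11, X12, X10, X13, X13, X11, X12, X11] [X18]) (nat_lit 184) (nat_lit 46) = true := by decide +kernel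
theorem wk9_5 : allR (OT.ckEqW [X12, X12, X11, X11, X12, X10, X13, X13, X11, X12, X11] [X18]) (nat_lit 230) (nat_lit 46) = true := by decide +kernel
theorem wk9_6 : allR (OT.ckEqW [X12, X12, X11, X11, X12, X10, X13, X13, X11, X12, X11] [X18]) (nat_lit 276) (nat_lit 46) = true := by decide +kernel
theorem wk9_7 : allR (OT.ckEqW [X12, X12, X11, X11, X12, X10, X13, X13, X11, X12, X11] [X18]) (nat_lit 322) (nat_lit 46) = true := by decide +kernel
theorem wk9_8 : allR (OT.ckEqW [X12, X12, X11, X11, X12, X10, X13, X13, X11, X12, X11] [X18]) (nat_lit 368) (nat_lit 46) = true := by decide +kernel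
theorem wk9_9 : allR (OT.ckEqW [X12, X12, X11, X11, X12, X10, X13, X13, X11, X12, X11] [X18]) (nat_lit 414) (nat_lit 46) = true := by decide +kernel
theorem wk9_10 : allR (OT.ckEqW [X12, X12, X11, X11, X12, X10, X13, X13, X11, X12, X11] [X18]) (nat_lit 460) (nat_lit 46) = true := by decide +kernel
theorem wk9_11 : allR (OT.ckEqW [X12, X12, X11, X11, X12, X10, X13, X13, X11, X12, X11] [X18]) (nat_lit 506) (nat_lit 46) = true := by decide +kernel
theorem wk13_0 : allR (OT.ckEqW [X22] [X26]) (nat_lit 0) (nat_lit 276) = true := by decide +kernel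
theorem wk13_1 : allR (OT.ckEqW [X22] [X26]) (nat_lit 276) (nat_lit 276) = true := by decide +kernel
theorem wk15_0 : allR (OT.ckEqW [X0, X23, X25, X22, X22, X25, X1, X1, X25, X1, X25] [X30]) (nat_lit 0) (nat_lit 46) = true := by decide +kernel
theorem wk15_1 : allR (OT.ckEqW [X0, X23, X25, X22, X22, X25, X1, X1, X25, X1, X25] [X30]) (nat_lit 46) (nat_lit 46) = true := by decide +kernel
theorem wk15_2 : allR (OT.ckEqW [X0, X23, X25, X22, X22, X25, X1, X1, X25, X1, X25] [X30]) (nat_lit 92) (nat_lit 46) = true := by decide +kernel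
theorem wk15_3 : allR (OT.ckEqW [X0, X23, X25, X22, X22, X25, X1, X1, X25, X1, X25] [X30]) (nat_lit 138) (nat_lit 46) = true := by decide +kernel
theorem wk15_4 : allR (OT.ckEqW [X0, X23, X25, X22, X22, X25, X1, X1, X25, X1, X25] [X30]) (nat_lit 184) (nat_lit 46) = true := by decide +kernel
theorem wk15_5 : allR (OT.ckEqW [X0, X23, X25, X22, X22, X25, X1, X1, X25, X1, X25] [X30]) (nat_lit 230) (nat_lit 46) = true := by decide +kernel
theorem wk15_6 : allR (OT.ckEqW [X0, X23, X25, X22, X22, X25, X1, X1, X25, X1, X25] [X30]) (nat_lit 276) (nat_lit 46) = true := by decide +kernel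
theorem wk15_7 : allR (OT.ckEqW [X0, X23, X25, X22, X22, X25, X1, X1, X25, X1, X25] [X30]) (nat_lit 322) (nat_lit 46) = true := by decide +kernel
theorem wk15_8 : allR (OT.ckEqW [X0, X23, X25, X22, X22, X25, X1, X1, X25, X1, X25] [X30]) (nat_lit 368) (nat_lit 46) = true := by decide +kernel
theorem wk15_9 : allR (OT.ckEqW [X0, X23, X25, X22, X22, X25, X1, X1, X25, X1, X25] [X30]) (nat_lit 414) (nat_lit 46) = true := by decide +kernel
theorem wk15_10 : allR (OT.ckEqW [X0, X23, X25, X22, X22, X25, X1, X1, X25, X1, X25] [X30]) (nat_lit 460) (nat_lit 46) = true := by decide +kernel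
theorem wk15_11 : allR (OT.ckEqW [X0, X23, X25, X22, X22, X25, X1, X1, X25, X1, X25] [X30]) (nat_lit 506) (nat_lit 46) = true := by decide +kernel
theorem wk18_0 : allR (OT.ckEqW [X32, X35, X32, X32, X32] [X36]) (nat_lit 0) (nat_lit 92) = true := by decide +kernel
theorem wk18_1 : allR (OT.ckEqW [X32, X35, X32, X32, X32] [X36]) (nat_lit 92) (nat_lit 92) = true := by decide +kernel
theorem wk18_2 : allR (OT.ckEqW [X32, X35, X32, X32, X32] [X36]) (nat_lit 184) (nat_lit 92) = true := by decide +kernel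
theorem wk18_3 : allR (OT.ckEqW [X32, X35, X32, X32, X32] [X36]) (nat_lit 276) (nat_lit 92) = true := by decide +kernel
theorem wk18_4 : allR (OT.ckEqW [X32, X35, X32, X32, X32] [X36]) (nat_lit 368) (nat_lit 92) = true := by decide +kernel
theorem wk18_5 : allR (OT.ckEqW [X32, X35, X32, X32, X32] [X36]) (nat_lit 460) (nat_lit 92) = true := by decide +kernel
theorem wk19_0 : allR (OT.ckEqW [X35, X32, X32, X32, X34, X34, X32] [X38]) (nat_lit 0) (nat_lit 69) = true := by decide +kernel
theorem wk19_1 : allR (OT.ckEqW [X35, X32, X32, X32, X34, X34, X32] [X38]) (nat_lit 69) (nat_lit 69) = true := by decide +kernel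
theorem wk19_2 : allR (OT.ckEqW [X35, X32, X32, X32, X34, X34, X32] [X38]) (nat_lit 138) (nat_lit 69) = true := by decide +kernel
theorem wk19_3 : allR (OT.ckEqW [X35, X32, X32, X32, X34, X34, X32] [X38]) (nat_lit 207) (nat_lit 69) = true := by decide +kernel
theorem wk19_4 : allR (OT.ckEqW [X35, X32, X32, X32, X34, X34, X32] [X38]) (nat_lit 276) (nat_lit 69) = true := by decide +kernel
theorem wk19_5 : allR (OT.ckEqW [X35, X32, X32, X32, X34, X34, X32] [X38]) (nat_lit 345) (nat_lit 69) = true := by decide +kernel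
theorem wk19_6 : allR (OT.ckEqW [X35, X32, X32, X32, X34, X34, X32] [X38]) (nat_lit 414) (nat_lit 69) = true := by decide +kernel
theorem wk19_7 : allR (OT.ckEqW [X35, X32, X32, X32, X34, X34, X32] [X38]) (nat_lit 483) (nat_lit 69) = true := by decide +kernel
theorem wk26_0 : allR (OT.ckEqW [X49, X49, X51, X51, X51] [X52]) (nat_lit 0) (nat_lit 92) = true := by decide +kernel
theorem wk26_1 : allR (OT.ckEqW [X49, X49, X51, X51, X51] [X52]) (nat_lit 92) (nat_lit 92) = true := by decide +kernel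
theorem wk26_2 : allR (OT.ckEqW [X49, X49, X51, X51, X51] [X52]) (nat_lit 184) (nat_lit 92) = true := by decide +kernel
theorem wk26_3 : allR (OT.ckEqW [X49, X49, X51, X51, X51] [X52]) (nat_lit 276) (nat_lit 92) = true := by decide +kernel
theorem wk26_4 : allR (OT.ckEqW [X49, X49, X51, X51, X51] [X52]) (nat_lit 368) (nat_lit 92) = true := by decide +kernel
theorem wk26_5 : allR (OT.ckEqW [X49, X49, X51, X51, X51] [X52]) (nat_lit 460) (nat_lit 92) = true := by decide +kernel
theorem wk28_0 : allR (OT.ckEqW [X55, X55, X53, X54, X52, X52, X52] [X56]) (nat_lit 0) (nat_lit 69) = true := by decide +kernel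
theorem wk28_1 : allR (OT.ckEqW [X55, X55, X53, X54, X52, X52, X52] [X56]) (nat_lit 69) (nat_lit 69) = true := by decide +kernel
theorem wk28_2 : allR (OT.ckEqW [X55, X55, X53, X54, X52, X52, X52] [X56]) (nat_lit 138) (nat_lit 69) = true := by decide +kernel
theorem wk28_3 : allR (OT.ckEqW [X55, X55, X53, X54, X52, X52, X52] [X56]) (nat_lit 207) (nat_lit 69) = true := by decide +kernel
theorem wk28_4 : allR (OT.ckEqW [X55, X55, X53, X54, X52, X52, X52] [X56]) (nat_lit 276) (nat_lit 69) = true := by decide +kernel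
theorem wk28_5 : allR (OT.ckEqW [X55, X55, X53, X54, X52, X52, X52] [X56]) (nat_lit 345) (nat_lit 69) = true := by decide +kernel
theorem wk28_6 : allR (OT.ckEqW [X55, X55, X53, X54, X52, X52, X52] [X56]) (nat_lit 414) (nat_lit 69) = true := by decide +kernel
theorem wk28_7 : allR (OT.ckEqW [X55, X55, X53, X54, X52, X52, X52] [X56]) (nat_lit 483) (nat_lit 69) = true := by decide +kernel
theorem wk32_0 : allR (OT.ckEqW [X62] [X64]) (nat_lit 0) (nat_lit 276) = true := by decide +kernel
theorem wk32_1 : allR (OT.ckEqW [X62] [X64]) (nat_lit 276) (nat_lit 276) = true := by decide +kernel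
theorem wk33_0 : allR (OT.ckEqW [X62, X61, X62, X60, X60, X60, X63, X63, X61, X62, X61] [X66]) (nat_lit 0) (nat_lit 46) = true := by decide +kernel
theorem wk33_1 : allR (OT.ckEqW [X62, X61, X62, X60, X60, X60, X63, X63, X61, X62, X61] [X66]) (nat_lit 46) (nat_lit 46) = true := by decide +kernel
theorem wk33_2 : allR (OT.ckEqW [X62, X61, X62, X60, X60, X60, X63, X63, X61, X62, X61] [X66]) (nat_lit 92) (nat_lit 46) = true := by decide +kernel
theorem wk33_3 : allR (OT.ckEqW [X62, X61, X62, X60, X60, X60, X63, X63, X61, X62, X61] [X66]) (nat_lit 138) (nat_lit 46) = true := by decide +kernel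
theorem wk33_4 : allR (OT.ckEqW [X62, X61, X62, X60, X60, X60, X63, X63, X61, X62, X61] [X66]) (nat_lit 184) (nat_lit 46) = true := by decide +kernel
theorem wk33_5 : allR (OT.ckEqW [X62, X61, X62, X60, X60, X60, X63, X63, X61, X62, X61] [X66]) (nat_lit 230) (nat_lit 46) = true := by decide +kernel
theorem wk33_6 : allR (OT.ckEqW [X62, X61, X62, X60, X60, X60, X63, X63, X61, X62, X61] [X66]) (nat_lit 276) (nat_lit 46) = true := by decide +kernel
theorem wk33_7 : allR (OT.ckEqW [X62, X61, X62, X60, X60, X60, X63, X63, X61, X62, X61] [X66]) (nat_lit 322) (nat_lit 46) = true := by decide +kernel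
theorem wk33_8 : allR (OT.ckEqW [X62, X61, X62, X60, X60, X60, X63, X63, X61, X62, X61] [X66]) (nat_lit 368) (nat_lit 46) = true := by decide +kernel
theorem wk33_9 : allR (OT.ckEqW [X62, X61, X62, X60, X60, X60, X63, X63, X61, X62, X61] [X66]) (nat_lit 414) (nat_lit 46) = true := by decide +kernel
theorem wk33_10 : allR (OT.ckEqW [X62, X61, X62, X60, X60, X60, X63, X63, X61, X62, X61] [X66]) (nat_lit 460) (nat_lit 46) = true := by decide +kernel
theorem wk33_11 : allR (OT.ckEqW [X62, X61, X62, X60, X60, X60, X63, X63, X61, X62, X61] [X66]) (nat_lit 506) (nat_lit 46) = true := by decide +kernel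
theorem wk3_0 : allR (OT.ckEqW [X4, X2, X5, X2, X5, X5, X2, X4, X4] [X6]) (nat_lit 0) (nat_lit 55) = true := by decide +kernel
theorem wk3_1 : allR (OT.ckEqW [X4, X2, X5, X2, X5, X5, X2, X4, X4] [X6]) (nat_lit 55) (nat_lit 55) = true := by decide +kernel
theorem wk3_2 : allR (OT.ckEqW [X4, X2, X5, X2, X5, X5, X2, X4, X4] [X6]) (nat_lit 110) (nat_lit 55) = true := by decide +kernel
theorem wk3_3 : allR (OT.ckEqW [X4, X2, X5, X2, X5, X5, X2, X4, X4] [X6]) (nat_lit 165) (nat_lit 55) = true := by decide +kernel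
theorem wk3_4 : allR (OT.ckEqW [X4, X2, X5, X2, X5, X5, X2, X4, X4] [X6]) (nat_lit 220) (nat_lit 55) = true := by decide +kernel
theorem wk3_5 : allR (OT.ckEqW [X4, X2, X5, X2, X5, X5, X2, X4, X4] [X6]) (nat_lit 275) (nat_lit 55) = true := by decide +kernel
theorem wk3_6 : allR (OT.ckEqW [X4, X2, X5, X2, X5, X5, X2, X4, X4] [X6]) (nat_lit 330) (nat_lit 55) = true := by decide +kernel
theorem wk3_7 : allR (OT.ckEqW [X4, X2, X5, X2, X5, X5, X2, X4, X4] [X6]) (nat_lit 385) (nat_lit 55) = true := by decide +kernel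
theorem wk3_8 : allR (OT.ckEqW [X4, X2, X5, X2, X5, X5, X2, X4, X4] [X6]) (nat_lit 440) (nat_lit 55) = true := by decide +kernel
theorem wk3_9 : allR (OT.ckEqW [X4, X2, X5, X2, X5, X5, X2, X4, X4] [X6]) (nat_lit 495) (nat_lit 55) = true := by decide +kernel
theorem wk12_0 : allR (OT.ckEqW [X21, X15, X16, X14, X18, X13, X10, X10, X8, X8, X6, X2, X5, X3, X5, X2, X1, T1, X0, T2, T1] [X24]) (nat_lit 0) (nat_lit 25) = true := by decide +kernel
theorem wk12_1 : allR (OT.ckEqW [X21, X15, X16, X14, X18, X13, X10, X10, X8, X8, X6, X2, X5, X3, X5, X2, X1, T1, X0, T2, T1] [X24]) (nat_lit 25) (nat_lit 25) = true := by decide +kernel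
theorem wk12_2 : allR (OT.ckEqW [X21, X15, X16, X14, X18, X13, X10, X10, X8, X8, X6, X2, X5, X3, X5, X2, X1, T1, X0, T2, T1] [X24]) (nat_lit 50) (nat_lit 25) = true := by decide +kernel
theorem wk12_3 : allR (OT.ckEqW [X21, X15, X16, X14, X18, X13, X10, X10, X8, X8, X6, X2, X5, X3, X5, X2, X1, T1, X0, T2, T1] [X24]) (nat_lit 75) (nat_lit 25) = true := by decide +kernel
theorem wk12_4 : allR (OT.ckEqW [X21, X15, X16, X14, X18, X13, X10, X10, X8, X8, X6, X2, X5, X3, X5, X2, X1, T1, X0, T2, T1] [X24]) (nat_lit 100) (nat_lit 25) = true := by decide +kernel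
theorem wk12_5 : allR (OT.ckEqW [X21, X15, X16, X14, X18, X13, X10, X10, X8, X8, X6, X2, X5, X3, X5, X2, X1, T1, X0, T2, T1] [X24]) (nat_lit 125) (nat_lit 25) = true := by decide +kernel
theorem wk12_6 : allR (OT.ckEqW [X21, X15, X16, X14, X18, X13, X10, X10, X8, X8, X6, X2, X5, X3, X5, X2, X1, T1, X0, T2, T1] [X24]) (nat_lit 150) (nat_lit 25) = true := by decide +kernel
theorem wk12_7 : allR (OT.ckEqW [X21, X15, X16, X14, X18, X13, X10, X10, X8, X8, X6, X2, X5, X3, X5, X2, X1, T1, X0, T2, T1] [X24]) (nat_lit 175) (nat_lit 25) = true := by decide +kernel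
theorem wk12_8 : allR (OT.ckEqW [X21, X15, X16, X14, X18, X13, X10, X10, X8, X8, X6, X2, X5, X3, X5, X2, X1, T1, X0, T2, T1] [X24]) (nat_lit 200) (nat_lit 25) = true := by decide +kernel
theorem wk12_9 : allR (OT.ckEqW [X21, X15, X16, X14, X18, X13, X10, X10, X8, X8, X6, X2, X5, X3, X5, X2, X1, T1, X0, T2, T1] [X24]) (nat_lit 225) (nat_lit 25) = true := by decide +kernel
theorem wk12_10 : allR (OT.ckEqW [X21, X15, X16, X14, X18, X13, X10, X10, X8, X8, X6, X2, X5, X3, X5, X2, X1, T1, X0, T2, T1] [X24]) (nat_lit 250) (nat_lit 25) = true := by decide +kernel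
theorem wk12_11 : allR (OT.ckEqW [X21, X15, X16, X14, X18, X13, X10, X10, X8, X8, X6, X2, X5, X3, X5, X2, X1, T1, X0, T2, T1] [X24]) (nat_lit 275) (nat_lit 25) = true := by decide +kernel
theorem wk12_12 : allR (OT.ckEqW [X21, X15, X16, X14, X18, X13, X10, X10, X8, X8, X6, X2, X5, X3, X5, X2, X1, T1, X0, T2, T1] [X24]) (nat_lit 300) (nat_lit 25) = true := by decide +kernel
theorem wk12_13 : allR (OT.ckEqW [X21, X15, X16, X14, X18, X13, X10, X10, X8, X8, X6, X2, X5, X3, X5, X2, X1, T1, X0, T2, T1] [X24]) (nat_lit 325) (nat_lit 25) = true := by decide +kernel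
theorem wk12_14 : allR (OT.ckEqW [X21, X15, X16, X14, X18, X13, X10, X10, X8, X8, X6, X2, X5, X3, X5, X2, X1, T1, X0, T2, T1] [X24]) (nat_lit 350) (nat_lit 25) = true := by decide +kernel
theorem wk12_15 : allR (OT.ckEqW [X21, X15, X16, X14, X18, X13, X10, X10, X8, X8, X6, X2, X5, X3, X5, X2, X1, T1, X0, T2, T1] [X24]) (nat_lit 375) (nat_lit 25) = true := by decide +kernel
theorem wk12_16 : allR (OT.ckEqW [X21, X15, X16, X14, X18, X13, X10, X10, X8, X8, X6, X2, X5, X3, X5, X2, X1, T1, X0, T2, T1] [X24]) (nat_lit 400) (nat_lit 25) = true := by decide +kernel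
theorem wk12_17 : allR (OT.ckEqW [X21, X15, X16, X14, X18, X13, X10, X10, X8, X8, X6, X2, X5, X3, X5, X2, X1, T1, X0, T2, T1] [X24]) (nat_lit 425) (nat_lit 25) = true := by decide +kernel
theorem wk12_18 : allR (OT.ckEqW [X21, X15, X16, X14, X18, X13, X10, X10, X8, X8, X6, X2, X5, X3, X5, X2, X1, T1, X0, T2, T1] [X24]) (nat_lit 450) (nat_lit 25) = true := by decide +kernel
theorem wk12_19 : allR (OT.ckEqW [X21, X15, X16, X14, X18, X13, X10, X10, X8, X8, X6, X2, X5, X3, X5, X2, X1, T1, X0, T2, T1] [X24]) (nat_lit 475) (nat_lit 25) = true := by decide +kernel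
theorem wk12_20 : allR (OT.ckEqW [X21, X15, X16, X14, X18, X13, X10, X10, X8, X8, X6, X2, X5, X3, X5, X2, X1, T1, X0, T2, T1] [X24]) (nat_lit 500) (nat_lit 25) = true := by decide +kernel
theorem wk12_21 : allR (OT.ckEqW [X21, X15, X16, X14, X18, X13, X10, X10, X8, X8, X6, X2, X5, X3, X5, X2, X1, T1, X0, T2, T1] [X24]) (nat_lit 525) (nat_lit 25) = true := by decide +kernel
theorem wk16_0 : allR (OT.ckEqW [X30, X30, X29, X29, X30, X28, X28, X31, X31, X29] [X32]) (nat_lit 0) (nat_lit 50) = true := by decide +kernel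
theorem wk16_1 : allR (OT.ckEqW [X30, X30, X29, X29, X30, X28, X28, X31, X31, X29] [X32]) (nat_lit 50) (nat_lit 50) = true := by decide +kernel
theorem wk16_2 : allR (OT.ckEqW [X30, X30, X29, X29, X30, X28, X28, X31, X31, X29] [X32]) (nat_lit 100) (nat_lit 50) = true := by decide +kernel
theorem wk16_3 : allR (OT.ckEqW [X30, X30, X29, X29, X30, X28, X28, X31, X31, X29] [X32]) (nat_lit 150) (nat_lit 50) = true := by decide +kernel
theorem wk16_4 : allR (OT.ckEqW [X30, X30, X29, X29, X30, X28, X28, X31, X31, X29] [X32]) (nat_lit 200) (nat_lit 50) = true := by decide +kernel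
theorem wk16_5 : allR (OT.ckEqW [X30, X30, X29, X29, X30, X28, X28, X31, X31, X29] [X32]) (nat_lit 250) (nat_lit 50) = true := by decide +kernel
theorem wk16_6 : allR (OT.ckEqW [X30, X30, X29, X29, X30, X28, X28, X31, X31, X29] [X32]) (nat_lit 300) (nat_lit 50) = true := by decide +kernel
theorem wk16_7 : allR (OT.ckEqW [X30, X30, X29, X29, X30, X28, X28, X31, X31, X29] [X32]) (nat_lit 350) (nat_lit 50) = true := by decide +kernel
theorem wk16_8 : allR (OT.ckEqW [X30, X30, X29, X29, X30, X28, X28, X31, X31, X29] [X32]) (nat_lit 400) (nat_lit 50) = true := by decide +kernel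
theorem wk16_9 : allR (OT.ckEqW [X30, X30, X29, X29, X30, X28, X28, X31, X31, X29] [X32]) (nat_lit 450) (nat_lit 50) = true := by decide +kernel
theorem wk16_10 : allR (OT.ckEqW [X30, X30, X29, X29, X30, X28, X28, X31, X31, X29] [X32]) (nat_lit 500) (nat_lit 50) = true := by decide +kernel
theorem wk21_0 : allR (OT.ckEqW [X37, X38, X37, X37] [X42]) (nat_lit 0) (nat_lit 110) = true := by decide +kernel
theorem wk21_1 : allR (OT.ckEqW [X37, X38, X37, X37] [X42]) (nat_lit 110) (nat_lit 110) = true := by decide +kernel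
theorem wk21_2 : allR (OT.ckEqW [X37, X38, X37, X37] [X42]) (nat_lit 220) (nat_lit 110) = true := by decide +kernel
theorem wk21_3 : allR (OT.ckEqW [X37, X38, X37, X37] [X42]) (nat_lit 330) (nat_lit 110) = true := by decide +kernel
theorem wk21_4 : allR (OT.ckEqW [X37, X38, X37, X37] [X42]) (nat_lit 440) (nat_lit 110) = true := by decide +kernel
theorem wk22_0 : allR (OT.ckEqW [X40, X43, X43, X41] [X44]) (nat_lit 0) (nat_lit 110) = true := by decide +kernel
theorem wk22_1 : allR (OT.ckEqW [X40, X43, X43, X41] [X44]) (nat_lit 110) (nat_lit 110) = true := by decide +kernel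
theorem wk22_2 : allR (OT.ckEqW [X40, X43, X43, X41] [X44]) (nat_lit 220) (nat_lit 110) = true := by decide +kernel
theorem wk22_3 : allR (OT.ckEqW [X40, X43, X43, X41] [X44]) (nat_lit 330) (nat_lit 110) = true := by decide +kernel
theorem wk22_4 : allR (OT.ckEqW [X40, X43, X43, X41] [X44]) (nat_lit 440) (nat_lit 110) = true := by decide +kernel
theorem wk24_0 : allR (OT.ckEqW [X24, X22, X22, X1, X23, X25, X25, X25, X1] [X48]) (nat_lit 0) (nat_lit 55) = true := by decide +kernel
theorem wk24_1 : allR (OT.ckEqW [X24, X22, X22, X1, X23, X25, X25, X25, X1] [X48]) (nat_lit 55) (nat_lit 55) = true := by decide +kernel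
theorem wk24_2 : allR (OT.ckEqW [X24, X22, X22, X1, X23, X25, X25, X25, X1] [X48]) (nat_lit 110) (nat_lit 55) = true := by decide +kernel
theorem wk24_3 : allR (OT.ckEqW [X24, X22, X22, X1, X23, X25, X25, X25, X1] [X48]) (nat_lit 165) (nat_lit 55) = true := by decide +kernel
theorem wk24_4 : allR (OT.ckEqW [X24, X22, X22, X1, X23, X25, X25, X25, X1] [X48]) (nat_lit 220) (nat_lit 55) = true := by decide +kernel
theorem wk24_5 : allR (OT.ckEqW [X24, X22, X22, X1, X23, X25, X25, X25, X1] [X48]) (nat_lit 275) (nat_lit 55) = true := by decide +kernel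
theorem wk24_6 : allR (OT.ckEqW [X24, X22, X22, X1, X23, X25, X25, X25, X1] [X48]) (nat_lit 330) (nat_lit 55) = true := by decide +kernel
theorem wk24_7 : allR (OT.ckEqW [X24, X22, X22, X1, X23, X25, X25, X25, X1] [X48]) (nat_lit 385) (nat_lit 55) = true := by decide +kernel
theorem wk24_8 : allR (OT.ckEqW [X24, X22, X22, X1, X23, X25, X25, X25, X1] [X48]) (nat_lit 440) (nat_lit 55) = true := by decide +kernel
theorem wk24_9 : allR (OT.ckEqW [X24, X22, X22, X1, X23, X25, X25, X25, X1] [X48]) (nat_lit 495) (nat_lit 55) = true := by decide +kernel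
theorem wk27_0 : allR (OT.ckEqW [X48, X50, X49, X50, X48, X50, X49, X50, X49] [X54]) (nat_lit 0) (nat_lit 55) = true := by decide +kernel
theorem wk27_1 : allR (OT.ckEqW [X48, X50, X49, X50, X48, X50, X49, X50, X49] [X54]) (nat_lit 55) (nat_lit 55) = true := by decide +kernel
theorem wk27_2 : allR (OT.ckEqW [X48, X50, X49, X50, X48, X50, X49, X50, X49] [X54]) (nat_lit 110) (nat_lit 55) = true := by decide +kernel
theorem wk27_3 : allR (OT.ckEqW [X48, X50, X49, X50, X48, X50, X49, X50, X49] [X54]) (nat_lit 165) (nat_lit 55) = true := by decide +kernel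
theorem wk27_4 : allR (OT.ckEqW [X48, X50, X49, X50, X48, X50, X49, X50, X49] [X54]) (nat_lit 220) (nat_lit 55) = true := by decide +kernel
theorem wk27_5 : allR (OT.ckEqW [X48, X50, X49, X50, X48, X50, X49, X50, X49] [X54]) (nat_lit 275) (nat_lit 55) = true := by decide +kernel
theorem wk27_6 : allR (OT.ckEqW [X48, X50, X49, X50, X48, X50, X49, X50, X49] [X54]) (nat_lit 330) (nat_lit 55) = true := by decide +kernel
theorem wk27_7 : allR (OT.ckEqW [X48, X50, X49, X50, X48, X50, X49, X50, X49] [X54]) (nat_lit 385) (nat_lit 55) = true := by decide +kernel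
theorem wk27_8 : allR (OT.ckEqW [X48, X50, X49, X50, X48, X50, X49, X50, X49] [X54]) (nat_lit 440) (nat_lit 55) = true := by decide +kernel
theorem wk27_9 : allR (OT.ckEqW [X48, X50, X49, X50, X48, X50, X49, X50, X49] [X54]) (nat_lit 495) (nat_lit 55) = true := by decide +kernel
theorem wk6_0 : allR (OT.ckEqW [X9, X6, X8, X6, X6, X8, X6, X6] [X12]) (nat_lit 0) (nat_lit 61) = true := by decide +kernel
theorem wk6_1 : allR (OT.ckEqW [X9, X6, X8, X6, X6, X8, X6, X6] [X12]) (nat_lit 61) (nat_lit 61) = true := by decide +kernel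
theorem wk6_2 : allR (OT.ckEqW [X9, X6, X8, X6, X6, X8, X6, X6] [X12]) (nat_lit 122) (nat_lit 61) = true := by decide +kernel
theorem wk6_3 : allR (OT.ckEqW [X9, X6, X8, X6, X6, X8, X6, X6] [X12]) (nat_lit 183) (nat_lit 61) = true := by decide +kernel
theorem wk6_4 : allR (OT.ckEqW [X9, X6, X8, X6, X6, X8, X6, X6] [X12]) (nat_lit 244) (nat_lit 61) = true := by decide +kernel
theorem wk6_5 : allR (OT.ckEqW [X9, X6, X8, X6, X6, X8, X6, X6] [X12]) (nat_lit 305) (nat_lit 61) = true := by decide +kernel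
theorem wk6_6 : allR (OT.ckEqW [X9, X6, X8, X6, X6, X8, X6, X6] [X12]) (nat_lit 366) (nat_lit 61) = true := by decide +kernel
theorem wk6_7 : allR (OT.ckEqW [X9, X6, X8, X6, X6, X8, X6, X6] [X12]) (nat_lit 427) (nat_lit 61) = true := by decide +kernel
theorem wk6_8 : allR (OT.ckEqW [X9, X6, X8, X6, X6, X8, X6, X6] [X12]) (nat_lit 488) (nat_lit 61) = true := by decide +kernel
theorem wk14_0 : allR (OT.ckEqW [X22, X22, X1, X23, X0, X25, X22, X1] [X28]) (nat_lit 0) (nat_lit 61) = true := by decide +kernel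
theorem wk14_1 : allR (OT.ckEqW [X22, X22, X1, X23, X0, X25, X22, X1] [X28]) (nat_lit 61) (nat_lit 61) = true := by decide +kernel
theorem wk14_2 : allR (OT.ckEqW [X22, X22, X1, X23, X0, X25, X22, X1] [X28]) (nat_lit 122) (nat_lit 61) = true := by decide +kernel
theorem wk14_3 : allR (OT.ckEqW [X22, X22, X1, X23, X0, X25, X22, X1] [X28]) (nat_lit 183) (nat_lit 61) = true := by decide +kernel
theorem wk14_4 : allR (OT.ckEqW [X22, X22, X1, X23, X0, X25, X22, X1] [X28]) (nat_lit 244) (nat_lit 61) = true := by decide +kernel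
theorem wk14_5 : allR (OT.ckEqW [X22, X22, X1, X23, X0, X25, X22, X1] [X28]) (nat_lit 305) (nat_lit 61) = true := by decide +kernel
theorem wk14_6 : allR (OT.ckEqW [X22, X22, X1, X23, X0, X25, X22, X1] [X28]) (nat_lit 366) (nat_lit 61) = true := by decide +kernel
theorem wk14_7 : allR (OT.ckEqW [X22, X22, X1, X23, X0, X25, X22, X1] [X28]) (nat_lit 427) (nat_lit 61) = true := by decide +kernel
theorem wk14_8 : allR (OT.ckEqW [X22, X22, X1, X23, X0, X25, X22, X1] [X28]) (nat_lit 488) (nat_lit 61) = true := by decide +kernel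
theorem wk2_0 : allR (OT.ckEqW [X1, T2, X0, T2, X0, T1, X0, X0, T1, X1, T0, X0, T2] [X4]) (nat_lit 0) (nat_lit 39) = true := by decide +kernel
theorem wk2_1 : allR (OT.ckEqW [X1, T2, X0, T2, X0, T1, X0, X0, T1, X1, T0, X0, T2] [X4]) (nat_lit 39) (nat_lit 39) = true := by decide +kernel
theorem wk2_2 : allR (OT.ckEqW [X1, T2, X0, T2, X0, T1, X0, X0, T1, X1, T0, X0, T2] [X4]) (nat_lit 78) (nat_lit 39) = true := by decide +kernel
theorem wk2_3 : allR (OT.ckEqW [X1, T2, X0, T2, X0, T1, X0, X0, T1, X1, T0, X0, T2] [X4]) (nat_lit 117) (nat_lit 39) = true := by decide +kernel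
theorem wk2_4 : allR (OT.ckEqW [X1, T2, X0, T2, X0, T1, X0, X0, T1, X1, T0, X0, T2] [X4]) (nat_lit 156) (nat_lit 39) = true := by decide +kernel
theorem wk2_5 : allR (OT.ckEqW [X1, T2, X0, T2, X0, T1, X0, X0, T1, X1, T0, X0, T2] [X4]) (nat_lit 195) (nat_lit 39) = true := by decide +kernel
theorem wk2_6 : allR (OT.ckEqW [X1, T2, X0, T2, X0, T1, X0, X0, T1, X1, T0, X0, T2] [X4]) (nat_lit 234) (nat_lit 39) = true := by decide +kernel
theorem wk2_7 : allR (OT.ckEqW [X1, T2, X0, T2, X0, T1, X0, X0, T1, X1, T0, X0, T2] [X4]) (nat_lit 273) (nat_lit 39) = true := by decide +kernel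
theorem wk2_8 : allR (OT.ckEqW [X1, T2, X0, T2, X0, T1, X0, X0, T1, X1, T0, X0, T2] [X4]) (nat_lit 312) (nat_lit 39) = true := by decide +kernel
theorem wk2_9 : allR (OT.ckEqW [X1, T2, X0, T2, X0, T1, X0, X0, T1, X1, T0, X0, T2] [X4]) (nat_lit 351) (nat_lit 39) = true := by decide +kernel
theorem wk2_10 : allR (OT.ckEqW [X1, T2, X0, T2, X0, T1, X0, X0, T1, X1, T0, X0, T2] [X4]) (nat_lit 390) (nat_lit 39) = true := by decide +kernel
theorem wk2_11 : allR (OT.ckEqW [X1, T2, X0, T2, X0, T1, X0, X0, T1, X1, T0, X0, T2] [X4]) (nat_lit 429) (nat_lit 39) = true := by decide +kernel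
theorem wk2_12 : allR (OT.ckEqW [X1, T2, X0, T2, X0, T1, X0, X0, T1, X1, T0, X0, T2] [X4]) (nat_lit 468) (nat_lit 39) = true := by decide +kernel
theorem wk2_13 : allR (OT.ckEqW [X1, T2, X0, T2, X0, T1, X0, X0, T1, X1, T0, X0, T2] [X4]) (nat_lit 507) (nat_lit 39) = true := by decide +kernel
theorem wk5_0 : allR (OT.ckEqW [X6, X6, X8, X7, X8, X6] [X10]) (nat_lit 0) (nat_lit 78) = true := by decide +kernel
theorem wk5_1 : allR (OT.ckEqW [X6, X6, X8, X7, X8, X6] [X10]) (nat_lit 78) (nat_lit 78) = true := by decide +kernel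
theorem wk5_2 : allR (OT.ckEqW [X6, X6, X8, X7, X8, X6] [X10]) (nat_lit 156) (nat_lit 78) = true := by decide +kernel
theorem wk5_3 : allR (OT.ckEqW [X6, X6, X8, X7, X8, X6] [X10]) (nat_lit 234) (nat_lit 78) = true := by decide +kernel
theorem wk5_4 : allR (OT.ckEqW [X6, X6, X8, X7, X8, X6] [X10]) (nat_lit 312) (nat_lit 78) = true := by decide +kernel
theorem wk5_5 : allR (OT.ckEqW [X6, X6, X8, X7, X8, X6] [X10]) (nat_lit 390) (nat_lit 78) = true := by decide +kernel
theorem wk5_6 : allR (OT.ckEqW [X6, X6, X8, X7, X8, X6] [X10]) (nat_lit 468) (nat_lit 78) = true := by decide +kernel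
theorem wk7_0 : allR (OT.ckEqW [X11, X13, X13, X13, X13, X11] [X14]) (nat_lit 0) (nat_lit 78) = true := by decide +kernel
theorem wk7_1 : allR (OT.ckEqW [X11, X13, X13, X13, X13, X11] [X14]) (nat_lit 78) (nat_lit 78) = true := by decide +kernel
theorem wk7_2 : allR (OT.ckEqW [X11, X13, X13, X13, X13, X11] [X14]) (nat_lit 156) (nat_lit 78) = true := by decide +kernel
theorem wk7_3 : allR (OT.ckEqW [X11, X13, X13, X13, X13, X11] [X14]) (nat_lit 234) (nat_lit 78) = true := by decide +kernel
theorem wk7_4 : allR (OT.ckEqW [X11, X13, X13, X13, X13, X11] [X14]) (nat_lit 312) (nat_lit 78) = true := by decide +kernel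
theorem wk7_5 : allR (OT.ckEqW [X11, X13, X13, X13, X13, X11] [X14]) (nat_lit 390) (nat_lit 78) = true := by decide +kernel
theorem wk7_6 : allR (OT.ckEqW [X11, X13, X13, X13, X13, X11] [X14]) (nat_lit 468) (nat_lit 78) = true := by decide +kernel
theorem wk10_0 : allR (OT.ckEqW [X19, X17, X14, X19, X14, X17] [X20]) (nat_lit 0) (nat_lit 78) = true := by decide +kernel
theorem wk10_1 : allR (OT.ckEqW [X19, X17, X14, X19, X14, X17] [X20]) (nat_lit 78) (nat_lit 78) = true := by decide +kernel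
theorem wk10_2 : allR (OT.ckEqW [X19, X17, X14, X19, X14, X17] [X20]) (nat_lit 156) (nat_lit 78) = true := by decide +kernel
theorem wk10_3 : allR (OT.ckEqW [X19, X17, X14, X19, X14, X17] [X20]) (nat_lit 234) (nat_lit 78) = true := by decide +kernel
theorem wk10_4 : allR (OT.ckEqW [X19, X17, X14, X19, X14, X17] [X20]) (nat_lit 312) (nat_lit 78) = true := by decide +kernel
theorem wk10_5 : allR (OT.ckEqW [X19, X17, X14, X19, X14, X17] [X20]) (nat_lit 390) (nat_lit 78) = true := by decide +kernel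
theorem wk10_6 : allR (OT.ckEqW [X19, X17, X14, X19, X14, X17] [X20]) (nat_lit 468) (nat_lit 78) = true := by decide +kernel
theorem wk11_0 : allR (OT.ckEqW [X21, X18, X14, X16, X15, X18, X11, X13, X11, X12, X8, X7, X9, X9, X7, X4, X3, X5, X2, X0, T2, X1, T0, X0, X0] [X22]) (nat_lit 0) (nat_lit 21) = true := by decide +kernel
theorem wk11_1 : allR (OT.ckEqW [X21, X18, X14, X16, X15, X18, X11, X13, X11, X12, X8, X7, X9, X9, X7, X4, X3, X5, X2, X0, T2, X1, T0, X0, X0] [X22]) (nat_lit 21) (nat_lit 21) = true := by decide +kernel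
theorem wk11_2 : allR (OT.ckEqW [X21, X18, X14, X16, X15, X18, X11, X13, X11, X12, X8, X7, X9, X9, X7, X4, X3, X5, X2, X0, T2, X1, T0, X0, X0] [X22]) (nat_lit 42) (nat_lit 21) = true := by decide +kernel
theorem wk11_3 : allR (OT.ckEqW [X21, X18, X14, X16, X15, X18, X11, X13, X11, X12, X8, X7, X9, X9, X7, X4, X3, X5, X2, X0, T2, X1, T0, X0, X0] [X22]) (nat_lit 63) (nat_lit 21) = true := by decide +kernel
theorem wk11_4 : allR (OT.ckEqW [X21, X18, X14, X16, X15, X18, X11, X13, X11, X12, X8, X7, X9, X9, X7, X4, X3, X5, X2, X0, T2, X1, T0, X0, X0] [X22]) (nat_lit 84) (nat_lit 21) = true := by decide +kernel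
theorem wk11_5 : allR (OT.ckEqW [X21, X18, X14, X16, X15, X18, X11, X13, X11, X12, X8, X7, X9, X9, X7, X4, X3, X5, X2, X0, T2, X1, T0, X0, X0] [X22]) (nat_lit 105) (nat_lit 21) = true := by decide +kernel
theorem wk11_6 : allR (OT.ckEqW [X21, X18, X14, X16, X15, X18, X11, X13, X11, X12, X8, X7, X9, X9, X7, X4, X3, X5, X2, X0, T2, X1, T0, X0, X0] [X22]) (nat_lit 126) (nat_lit 21) = true := by decide +kernel
theorem wk11_7 : allR (OT.ckEqW [X21, X18, X14, X16, X15, X18, X11, X13, X11, X12, X8, X7, X9, X9, X7, X4, X3, X5, X2, X0, T2, X1, T0, X0, X0] [X22]) (nat_lit 147) (nat_lit 21) = true := by decide +kernel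
theorem wk11_8 : allR (OT.ckEqW [X21, X18, X14, X16, X15, X18, X11, X13, X11, X12, X8, X7, X9, X9, X7, X4, X3, X5, X2, X0, T2, X1, T0, X0, X0] [X22]) (nat_lit 168) (nat_lit 21) = true := by decide +kernel
theorem wk11_9 : allR (OT.ckEqW [X21, X18, X14, X16, X15, X18, X11, X13, X11, X12, X8, X7, X9, X9, X7, X4, X3, X5, X2, X0, T2, X1, T0, X0, X0] [X22]) (nat_lit 189) (nat_lit 21) = true := by decide +kernel
theorem wk11_10 : allR (OT.ckEqW [X21, X18, X14, X16, X15, X18, X11, X13, X11, X12, X8, X7, X9, X9, X7, X4, X3, X5, X2, X0, T2, X1, T0, X0, X0] [X22]) (nat_lit 210) (nat_lit 21) = true := by decide +kernel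
theorem wk11_11 : allR (OT.ckEqW [X21, X18, X14, X16, X15, X18, X11, X13, X11, X12, X8, X7, X9, X9, X7, X4, X3, X5, X2, X0, T2, X1, T0, X0, X0] [X22]) (nat_lit 231) (nat_lit 21) = true := by decide +kernel
theorem wk11_12 : allR (OT.ckEqW [X21, X18, X14, X16, X15, X18, X11, X13, X11, X12, X8, X7, X9, X9, X7, X4, X3, X5, X2, X0, T2, X1, T0, X0, X0] [X22]) (nat_lit 252) (nat_lit 21) = true := by decide +kernel
theorem wk11_13 : allR (OT.ckEqW [X21, X18, X14, X16, X15, X18, X11, X13, X11, X12, X8, X7, X9, X9, X7, X4, X3, X5, X2, X0, T2, X1, T0, X0, X0] [X22]) (nat_lit 273) (nat_lit 21) = true := by decide +kernel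
theorem wk11_14 : allR (OT.ckEqW [X21, X18, X14, X16, X15, X18, X11, X13, X11, X12, X8, X7, X9, X9, X7, X4, X3, X5, X2, X0, T2, X1, T0, X0, X0] [X22]) (nat_lit 294) (nat_lit 21) = true := by decide +kernel
theorem wk11_15 : allR (OT.ckEqW [X21, X18, X14, X16, X15, X18, X11, X13, X11, X12, X8, X7, X9, X9, X7, X4, X3, X5, X2, X0, T2, X1, T0, X0, X0] [X22]) (nat_lit 315) (nat_lit 21) = true := by decide +kernel
theorem wk11_16 : allR (OT.ckEqW [X21, X18, X14, X16, X15, X18, X11, X13, X11, X12, X8, X7, X9, X9, X7, X4, X3, X5, X2, X0, T2, X1, T0, X0, X0] [X22]) (nat_lit 336) (nat_lit 21) = true := by decide +kernel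
theorem wk11_17 : allR (OT.ckEqW [X21, X18, X14, X16, X15, X18, X11, X13, X11, X12, X8, X7, X9, X9, X7, X4, X3, X5, X2, X0, T2, X1, T0, X0, X0] [X22]) (nat_lit 357) (nat_lit 21) = true := by decide +kernel
theorem wk11_18 : allR (OT.ckEqW [X21, X18, X14, X16, X15, X18, X11, X13, X11, X12, X8, X7, X9, X9, X7, X4, X3, X5, X2, X0, T2, X1, T0, X0, X0] [X22]) (nat_lit 378) (nat_lit 21) = true := by decide +kernel
theorem wk11_19 : allR (OT.ckEqW [X21, X18, X14, X16, X15, X18, X11, X13, X11, X12, X8, X7, X9, X9, X7, X4, X3, X5, X2, X0, T2, X1, T0, X0, X0] [X22]) (nat_lit 399) (nat_lit 21) = true := by decide +kernel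
theorem wk11_20 : allR (OT.ckEqW [X21, X18, X14, X16, X15, X18, X11, X13, X11, X12, X8, X7, X9, X9, X7, X4, X3, X5, X2, X0, T2, X1, T0, X0, X0] [X22]) (nat_lit 420) (nat_lit 21) = true := by decide +kernel
theorem wk11_21 : allR (OT.ckEqW [X21, X18, X14, X16, X15, X18, X11, X13, X11, X12, X8, X7, X9, X9, X7, X4, X3, X5, X2, X0, T2, X1, T0, X0, X0] [X22]) (nat_lit 441) (nat_lit 21) = true := by decide +kernel
theorem wk11_22 : allR (OT.ckEqW [X21, X18, X14, X16, X15, X18, X11, X13, X11, X12, X8, X7, X9, X9, X7, X4, X3, X5, X2, X0, T2, X1, T0, X0, X0] [X22]) (nat_lit 462) (nat_lit 21) = true := by decide +kernel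
theorem wk11_23 : allR (OT.ckEqW [X21, X18, X14, X16, X15, X18, X11, X13, X11, X12, X8, X7, X9, X9, X7, X4, X3, X5, X2, X0, T2, X1, T0, X0, X0] [X22]) (nat_lit 483) (nat_lit 21) = true := by decide +kernel
theorem wk11_24 : allR (OT.ckEqW [X21, X18, X14, X16, X15, X18, X11, X13, X11, X12, X8, X7, X9, X9, X7, X4, X3, X5, X2, X0, T2, X1, T0, X0, X0] [X22]) (nat_lit 504) (nat_lit 21) = true := by decide +kernel
theorem wk11_25 : allR (OT.ckEqW [X21, X18, X14, X16, X15, X18, X11, X13, X11, X12, X8, X7, X9, X9, X7, X4, X3, X5, X2, X0, T2, X1, T0, X0, X0] [X22]) (nat_lit 525) (nat_lit 21) = true := by decide +kernel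
theorem wk20_0 : allR (OT.ckEqW [X37, X39, X37, X37, X37, X37] [X40]) (nat_lit 0) (nat_lit 78) = true := by decide +kernel
theorem wk20_1 : allR (OT.ckEqW [X37, X39, X37, X37, X37, X37] [X40]) (nat_lit 78) (nat_lit 78) = true := by decide +kernel
theorem wk20_2 : allR (OT.ckEqW [X37, X39, X37, X37, X37, X37] [X40]) (nat_lit 156) (nat_lit 78) = true := by decide +kernel
theorem wk20_3 : allR (OT.ckEqW [X37, X39, X37, X37, X37, X37] [X40]) (nat_lit 234) (nat_lit 78) = true := by decide +kernel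
theorem wk20_4 : allR (OT.ckEqW [X37, X39, X37, X37, X37, X37] [X40]) (nat_lit 312) (nat_lit 78) = true := by decide +kernel
theorem wk20_5 : allR (OT.ckEqW [X37, X39, X37, X37, X37, X37] [X40]) (nat_lit 390) (nat_lit 78) = true := by decide +kernel
theorem wk20_6 : allR (OT.ckEqW [X37, X39, X37, X37, X37, X37] [X40]) (nat_lit 468) (nat_lit 78) = true := by decide +kernel
theorem wk23_0 : allR (OT.ckEqW [X43, X40, X43, X43, X41, X41] [X46]) (nat_lit 0) (nat_lit 78) = true := by decide +kernel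
theorem wk23_1 : allR (OT.ckEqW [X43, X40, X43, X43, X41, X41] [X46]) (nat_lit 78) (nat_lit 78) = true := by decide +kernel
theorem wk23_2 : allR (OT.ckEqW [X43, X40, X43, X43, X41, X41] [X46]) (nat_lit 156) (nat_lit 78) = true := by decide +kernel
theorem wk23_3 : allR (OT.ckEqW [X43, X40, X43, X43, X41, X41] [X46]) (nat_lit 234) (nat_lit 78) = true := by decide +kernel
theorem wk23_4 : allR (OT.ckEqW [X43, X40, X43, X43, X41, X41] [X46]) (nat_lit 312) (nat_lit 78) = true := by decide +kernel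
theorem wk23_5 : allR (OT.ckEqW [X43, X40, X43, X43, X41, X41] [X46]) (nat_lit 390) (nat_lit 78) = true := by decide +kernel
theorem wk23_6 : allR (OT.ckEqW [X43, X40, X43, X43, X41, X41] [X46]) (nat_lit 468) (nat_lit 78) = true := by decide +kernel
theorem wk25_0 : allR (OT.ckEqW [X0, X0, X22, X22, X25, X0] [X50]) (nat_lit 0) (nat_lit 78) = true := by decide +kernel
theorem wk25_1 : allR (OT.ckEqW [X0, X0, X22, X22, X25, X0] [X50]) (nat_lit 78) (nat_lit 78) = true := by decide +kernel
theorem wk25_2 : allR (OT.ckEqW [X0, X0, X22, X22, X25, X0] [X50]) (nat_lit 156) (nat_lit 78) = true := by decide +kernel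
theorem wk25_3 : allR (OT.ckEqW [X0, X0, X22, X22, X25, X0] [X50]) (nat_lit 234) (nat_lit 78) = true := by decide +kernel
theorem wk25_4 : allR (OT.ckEqW [X0, X0, X22, X22, X25, X0] [X50]) (nat_lit 312) (nat_lit 78) = true := by decide +kernel
theorem wk25_5 : allR (OT.ckEqW [X0, X0, X22, X22, X25, X0] [X50]) (nat_lit 390) (nat_lit 78) = true := by decide +kernel
theorem wk25_6 : allR (OT.ckEqW [X0, X0, X22, X22, X25, X0] [X50]) (nat_lit 468) (nat_lit 78) = true := by decide +kernel
theorem wk29_0 : allR (OT.ckEqW [X54, X54, X52, X52, X52, X54] [X58]) (nat_lit 0) (nat_lit 78) = true := by decide +kernel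
theorem wk29_1 : allR (OT.ckEqW [X54, X54, X52, X52, X52, X54] [X58]) (nat_lit 78) (nat_lit 78) = true := by decide +kernel
theorem wk29_2 : allR (OT.ckEqW [X54, X54, X52, X52, X52, X54] [X58]) (nat_lit 156) (nat_lit 78) = true := by decide +kernel
theorem wk29_3 : allR (OT.ckEqW [X54, X54, X52, X52, X52, X54] [X58]) (nat_lit 234) (nat_lit 78) = true := by decide +kernel
theorem wk29_4 : allR (OT.ckEqW [X54, X54, X52, X52, X52, X54] [X58]) (nat_lit 312) (nat_lit 78) = true := by decide +kernel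
theorem wk29_5 : allR (OT.ckEqW [X54, X54, X52, X52, X52, X54] [X58]) (nat_lit 390) (nat_lit 78) = true := by decide +kernel
theorem wk29_6 : allR (OT.ckEqW [X54, X54, X52, X52, X52, X54] [X58]) (nat_lit 468) (nat_lit 78) = true := by decide +kernel
theorem wk30_0 : allR (OT.ckEqW [X58, X56, X59, X56, X56, X59] [X60]) (nat_lit 0) (nat_lit 78) = true := by decide +kernel
theorem wk30_1 : allR (OT.ckEqW [X58, X56, X59, X56, X56, X59] [X60]) (nat_lit 78) (nat_lit 78) = true := by decide +kernel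
theorem wk30_2 : allR (OT.ckEqW [X58, X56, X59, X56, X56, X59] [X60]) (nat_lit 156) (nat_lit 78) = true := by decide +kernel
theorem wk30_3 : allR (OT.ckEqW [X58, X56, X59, X56, X56, X59] [X60]) (nat_lit 234) (nat_lit 78) = true := by decide +kernel
theorem wk30_4 : allR (OT.ckEqW [X58, X56, X59, X56, X56, X59] [X60]) (nat_lit 312) (nat_lit 78) = true := by decide +kernel
theorem wk30_5 : allR (OT.ckEqW [X58, X56, X59, X56, X56, X59] [X60]) (nat_lit 390) (nat_lit 78) = true := by decide +kernel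
theorem wk30_6 : allR (OT.ckEqW [X58, X56, X59, X56, X56, X59] [X60]) (nat_lit 468) (nat_lit 78) = true := by decide +kernel
theorem wk31_0 : allR (OT.ckEqW [X58, X58, X56, X56, X58, X57] [X62]) (nat_lit 0) (nat_lit 78) = true := by decide +kernel
theorem wk31_1 : allR (OT.ckEqW [X58, X58, X56, X56, X58, X57] [X62]) (nat_lit 78) (nat_lit 78) = true := by decide +kernel
theorem wk31_2 : allR (OT.ckEqW [X58, X58, X56, X56, X58, X57] [X62]) (nat_lit 156) (nat_lit 78) = true := by decide +kernel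
theorem wk31_3 : allR (OT.ckEqW [X58, X58, X56, X56, X58, X57] [X62]) (nat_lit 234) (nat_lit 78) = true := by decide +kernel
theorem wk31_4 : allR (OT.ckEqW [X58, X58, X56, X56, X58, X57] [X62]) (nat_lit 312) (nat_lit 78) = true := by decide +kernel
theorem wk31_5 : allR (OT.ckEqW [X58, X58, X56, X56, X58, X57] [X62]) (nat_lit 390) (nat_lit 78) = true := by decide +kernel
theorem wk31_6 : allR (OT.ckEqW [X58, X58, X56, X56, X58, X57] [X62]) (nat_lit 468) (nat_lit 78) = true := by decide +kernel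
theorem wk1_0 : allR (OT.ckEqW [X1, T0, T2, T1, T0, X1, T2, X0, X0, X0, T0, X0, T2, X1, X1] [X2]) (nat_lit 0) (nat_lit 34) = true := by decide +kernel
theorem wk1_1 : allR (OT.ckEqW [X1, T0, T2, T1, T0, X1, T2, X0, X0, X0, T0, X0, T2, X1, X1] [X2]) (nat_lit 34) (nat_lit 34) = true := by decide +kernel
theorem wk1_2 : allR (OT.ckEqW [X1, T0, T2, T1, T0, X1, T2, X0, X0, X0, T0, X0, T2, X1, X1] [X2]) (nat_lit 68) (nat_lit 34) = true := by decide +kernel
theorem wk1_3 : allR (OT.ckEqW [X1, T0, T2, T1, T0, X1, T2, X0, X0, X0, T0, X0, T2, X1, X1] [X2]) (nat_lit 102) (nat_lit 34) = true := by decide +kernel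
theorem wk1_4 : allR (OT.ckEqW [X1, T0, T2, T1, T0, X1, T2, X0, X0, X0, T0, X0, T2, X1, X1] [X2]) (nat_lit 136) (nat_lit 34) = true := by decide +kernel
theorem wk1_5 : allR (OT.ckEqW [X1, T0, T2, T1, T0, X1, T2, X0, X0, X0, T0, X0, T2, X1, X1] [X2]) (nat_lit 170) (nat_lit 34) = true := by decide +kernel
theorem wk1_6 : allR (OT.ckEqW [X1, T0, T2, T1, T0, X1, T2, X0, X0, X0, T0, X0, T2, X1, X1] [X2]) (nat_lit 204) (nat_lit 34) = true := by decide +kernel
theorem wk1_7 : allR (OT.ckEqW [X1, T0, T2, T1, T0, X1, T2, X0, X0, X0, T0, X0, T2, X1, X1] [X2]) (nat_lit 238) (nat_lit 34) = true := by decide +kernel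
theorem wk1_8 : allR (OT.ckEqW [X1, T0, T2, T1, T0, X1, T2, X0, X0, X0, T0, X0, T2, X1, X1] [X2]) (nat_lit 272) (nat_lit 34) = true := by decide +kernel
theorem wk1_9 : allR (OT.ckEqW [X1, T0, T2, T1, T0, X1, T2, X0, X0, X0, T0, X0, T2, X1, X1] [X2]) (nat_lit 306) (nat_lit 34) = true := by decide +kernel
theorem wk1_10 : allR (OT.ckEqW [X1, T0, T2, T1, T0, X1, T2, X0, X0, X0, T0, X0, T2, X1, X1] [X2]) (nat_lit 340) (nat_lit 34) = true := by decide +kernel
theorem wk1_11 : allR (OT.ckEqW [X1, T0, T2, T1, T0, X1, T2, X0, X0, X0, T0, X0, T2, X1, X1] [X2]) (nat_lit 374) (nat_lit 34) = true := by decide +kernel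
theorem wk1_12 : allR (OT.ckEqW [X1, T0, T2, T1, T0, X1, T2, X0, X0, X0, T0, X0, T2, X1, X1] [X2]) (nat_lit 408) (nat_lit 34) = true := by decide +kernel
theorem wk1_13 : allR (OT.ckEqW [X1, T0, T2, T1, T0, X1, T2, X0, X0, X0, T0, X0, T2, X1, X1] [X2]) (nat_lit 442) (nat_lit 34) = true := by decide +kernel
theorem wk1_14 : allR (OT.ckEqW [X1, T0, T2, T1, T0, X1, T2, X0, X0, X0, T0, X0, T2, X1, X1] [X2]) (nat_lit 476) (nat_lit 34) = true := by decide +kernel
theorem wk1_15 : allR (OT.ckEqW [X1, T0, T2, T1, T0, X1, T2, X0, X0, X0, T0, X0, T2, X1, X1] [X2]) (nat_lit 510) (nat_lit 34) = true := by decide +kernel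
theorem wk17_0 : allR (OT.ckEqW [X30, X30, X29, X31, X31, X28, X31, X31, X31, X31, X28, X28, X31, X29] [X34]) (nat_lit 0) (nat_lit 36) = true := by decide +kernel
theorem wk17_1 : allR (OT.ckEqW [X30, X30, X29, X31, X31, X28, X31, X31, X31, X31, X28, X28, X31, X29] [X34]) (nat_lit 36) (nat_lit 36) = true := by decide +kernel
theorem wk17_2 : allR (OT.ckEqW [X30, X30, X29, X31, X31, X28, X31, X31, X31, X31, X28, X28, X31, X29] [X34]) (nat_lit 72) (nat_lit 36) = true := by decide +kernel
theorem wk17_3 : allR (OT.ckEqW [X30, X30, X29, X31, X31, X28, X31, X31, X31, X31, X28, X28, X31, X29] [X34]) (nat_lit 108) (nat_lit 36) = true := by decide +kernel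
theorem wk17_4 : allR (OT.ckEqW [X30, X30, X29, X31, X31, X28, X31, X31, X31, X31, X28, X28, X31, X29] [X34]) (nat_lit 144) (nat_lit 36) = true := by decide +kernel
theorem wk17_5 : allR (OT.ckEqW [X30, X30, X29, X31, X31, X28, X31, X31, X31, X31, X28, X28, X31, X29] [X34]) (nat_lit 180) (nat_lit 36) = true := by decide +kernel
theorem wk17_6 : allR (OT.ckEqW [X30, X30, X29, X31, X31, X28, X31, X31, X31, X31, X28, X28, X31, X29] [X34]) (nat_lit 216) (nat_lit 36) = true := by decide +kernel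
theorem wk17_7 : allR (OT.ckEqW [X30, X30, X29, X31, X31, X28, X31, X31, X31, X31, X28, X28, X31, X29] [X34]) (nat_lit 252) (nat_lit 36) = true := by decide +kernel
theorem wk17_8 : allR (OT.ckEqW [X30, X30, X29, X31, X31, X28, X31, X31, X31, X31, X28, X28, X31, X29] [X34]) (nat_lit 288) (nat_lit 36) = true := by decide +kernel
theorem wk17_9 : allR (OT.ckEqW [X30, X30, X29, X31, X31, X28, X31, X31, X31, X31, X28, X28, X31, X29] [X34]) (nat_lit 324) (nat_lit 36) = true := by decide +kernel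
theorem wk17_10 : allR (OT.ckEqW [X30, X30, X29, X31, X31, X28, X31, X31, X31, X31, X28, X28, X31, X29] [X34]) (nat_lit 360) (nat_lit 36) = true := by decide +kernel
theorem wk17_11 : allR (OT.ckEqW [X30, X30, X29, X31, X31, X28, X31, X31, X31, X31, X28, X28, X31, X29] [X34]) (nat_lit 396) (nat_lit 36) = true := by decide +kernel
theorem wk17_12 : allR (OT.ckEqW [X30, X30, X29, X31, X31, X28, X31, X31, X31, X31, X28, X28, X31, X29] [X34]) (nat_lit 432) (nat_lit 36) = true := by decide +kernel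
theorem wk17_13 : allR (OT.ckEqW [X30, X30, X29, X31, X31, X28, X31, X31, X31, X31, X28, X28, X31, X29] [X34]) (nat_lit 468) (nat_lit 36) = true := by decide +kernel
theorem wk17_14 : allR (OT.ckEqW [X30, X30, X29, X31, X31, X28, X31, X31, X31, X31, X28, X28, X31, X29] [X34]) (nat_lit 504) (nat_lit 36) = true := by decide +kernel
theorem wk17_15 : allR (OT.ckEqW [X30, X30, X29, X31, X31, X28, X31, X31, X31, X31, X28, X28, X31, X29] [X34]) (nat_lit 540) (nat_lit 12) = true := by decide +kernel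
theorem wk11_26 : allR (OT.ckEqW [X21, X18, X14, X16, X15, X18, X11, X13, X11, X12, X8, X7, X9, X9, X7, X4, X3, X5, X2, X0, T2, X1, T0, X0, X0] [X22]) (nat_lit 546) (nat_lit 6) = true := by decide +kernel
theorem wk1_16 : allR (OT.ckEqW [X1, T0, T2, T1, T0, X1, T2, X0, X0, X0, T0, X0, T2, X1, X1] [X2]) (nat_lit 544) (nat_lit 8) = true := by decide +kernel
theorem wk2_14 : allR (OT.ckEqW [X1, T2, X0, T2, X0, T1, X0, X0, T1, X1, T0, X0, T2] [X4]) (nat_lit 546) (nat_lit 6) = true := by decide +kernel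
theorem wk12_22 : allR (OT.ckEqW [X21, X15, X16, X14, X18, X13, X10, X10, X8, X8, X6, X2, X5, X3, X5, X2, X1, T1, X0, T2, T1] [X24]) (nat_lit 550) (nat_lit 2) = true := by decide +kernel
theorem wk5_7 : allR (OT.ckEqW [X6, X6, X8, X7, X8, X6] [X10]) (nat_lit 546) (nat_lit 6) = true := by decide +kernel
theorem wk7_7 : allR (OT.ckEqW [X11, X13, X13, X13, X13, X11] [X14]) (nat_lit 546) (nat_lit 6) = true := by decide +kernel
theorem wk10_7 : allR (OT.ckEqW [X19, X17, X14, X19, X14, X17] [X20]) (nat_lit 546) (nat_lit 6) = true := by decide +kernel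
theorem wk20_7 : allR (OT.ckEqW [X37, X39, X37, X37, X37, X37] [X40]) (nat_lit 546) (nat_lit 6) = true := by decide +kernel
theorem wk23_7 : allR (OT.ckEqW [X43, X40, X43, X43, X41, X41] [X46]) (nat_lit 546) (nat_lit 6) = true := by decide +kernel
theorem wk25_7 : allR (OT.ckEqW [X0, X0, X22, X22, X25, X0] [X50]) (nat_lit 546) (nat_lit 6) = true := by decide +kernel
theorem wk29_7 : allR (OT.ckEqW [X54, X54, X52, X52, X52, X54] [X58]) (nat_lit 546) (nat_lit 6) = true := by decide +kernel
theorem wk30_7 : allR (OT.ckEqW [X58, X56, X59, X56, X56, X59] [X60]) (nat_lit 546) (nat_lit 6) = true := by decide +kernel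
theorem wk31_7 : allR (OT.ckEqW [X58, X58, X56, X56, X58, X57] [X62]) (nat_lit 546) (nat_lit 6) = true := by decide +kernel
theorem wk6_9 : allR (OT.ckEqW [X9, X6, X8, X6, X6, X8, X6, X6] [X12]) (nat_lit 549) (nat_lit 3) = true := by decide +kernel
theorem wk14_9 : allR (OT.ckEqW [X22, X22, X1, X23, X0, X25, X22, X1] [X28]) (nat_lit 549) (nat_lit 3) = true := by decide +kernel
theorem wk16_11 : allR (OT.ckEqW [X30, X30, X29, X29, X30, X28, X28, X31, X31, X29] [X32]) (nat_lit 550) (nat_lit 2) = true := by decide +kernel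
theorem wk3_10 : allR (OT.ckEqW [X4, X2, X5, X2, X5, X5, X2, X4, X4] [X6]) (nat_lit 550) (nat_lit 2) = true := by decide +kernel
theorem wk24_10 : allR (OT.ckEqW [X24, X22, X22, X1, X23, X25, X25, X25, X1] [X48]) (nat_lit 550) (nat_lit 2) = true := by decide +kernel
theorem wk27_10 : allR (OT.ckEqW [X48, X50, X49, X50, X48, X50, X49, X50, X49] [X54]) (nat_lit 550) (nat_lit 2) = true := by decide +kernel
theorem wk21_5 : allR (OT.ckEqW [X37, X38, X37, X37] [X42]) (nat_lit 550) (nat_lit 2) = true := by decide +kernel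
theorem wk22_5 : allR (OT.ckEqW [X40, X43, X43, X41] [X44]) (nat_lit 550) (nat_lit 2) = true := by decide +kernel

end Cfsg.Agent.H8.Co3O
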