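import Cfsg.Agent.H8.T.Co3Oa

set_option Elab.async false
set_option autoImplicit false
set_option linter.all false
set_option maxRecDepth 100000
set_option maxHeartbeats 400000

namespace Cfsg.Agent.H8.Co3O
open Cfsg.Agent.H8.LtC3 (T0 T1 T2)

noncomputable def xQ0c0 : Nat := nat_lit 0x8b86861a5468d269429e1c356ad4c956860c78aa6581872d585828d1a9930d1c716ac44512852a356ad2c98a144c4cf0c5a9572c063868c3c74205181428e2c55785583831d58b86850cb86854c18f2d2ab46a50ab93062c78ead5a3470b0e2d2964c98b2e4c947a54c916a51c7538c4c34d2c3a7160e0a1938e2a1132e4c1418c0a0c2853a6c20c5834a0e58b0a2648396141a9830d0ab56ae58b91945a112a61c442a55a342260c386061a3528e1cb0f0d4c357274a1570d5cb468d0a34a9e4c34f255a2d7a50a993af1c38e860c0c7255c552a64c953271ab8f2e0cb868d1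
noncomputable def xQ0c1 : Nat := nat_lit 0x818a854cb16843cb06852ab47053a94a8e2cb56864a506941a307164a1468b3cb418c0c38e921c7831b5a9829558b529c1c74a8d465472d4818b0e1c9820e3c7429d38bc20c2a355a52cb860b5a943153c352ad0a9162e3a14d0636347240898eae4a493040c302952c94f0e1ab928d4c14e050c0d30e4a98e9d485530e5a711941694a860c986a44a2c29e0c9928d3a7532d387528a3c142ae5a38e1d1c996150c7570d5cb4a864818e8d2c992855c1030c3a14e8c3a98a150a182a518b97155cb56a45ab468f1a18a255ab068d26ace05289561d2ab532308556a64a5429c4
noncomputable def xQ0c2 : Nat := nat_lit 0xc94f05581920e2cb81ae5a94a8e38157044a18a260a9922d0c556a54a183065cb462e4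
noncomputable def xQ0 : Nat → Nat := (fun h => @Nat.rec (fun _ => Nat → Nat)
 (fun h => @Nat.rec (fun _ => Nat → Nat)
 (fun i => Nat.land (Nat.shiftRight xQ0c0 (Nat.mul (nat_lit 7) (Nat.land i (nat_lit 255)))) (nat_lit 127))
 (fun _ _ => (fun i => Nat.land (Nat.shiftRight xQ0c1 (Nat.mul (nat_lit 7) (Nat.land i (nat_lit 255)))) (nat_lit 127))) (Nat.land h (nat_lit 256)) h)
 (fun _ _ => (fun i => Nat.land (Nat.shiftRight xQ0c2 (Nat.mul (nat_lit 7) (Nat.land i (nat_lit 255)))) (nat_lit 127))) (Nat.land h (nat_lit 512)) h)
theorem xr0 : allR (ckReach xQ0 [[X0], [X1], [X22], [X23], [X24], [X25], [X48], [X49], [X50], [X51], [X52], [X53], [X54], [X55], [X56], [X57], [X58], [X59], [X60], [X61], [X62], [X63], [X64], [X65], [X66], [X67]] (nat_lit 70)) (nat_lit 0) (nat_lit 552) = true := by decide +kernel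
theorem xc0 : cntT xQ0 (nat_lit 552) (nat_lit 552) (nat_lit 0) = true := by decide +kernel
def xG0 : List (List Nat) := [[3], [4], [25], [26], [27], [28], [51], [52], [53], [54], [55], [56], [57], [58], [59], [60], [61], [62], [63], [64], [65], [66], [67], [68], [69], [70]]
noncomputable def xQ1c0 : Nat := nat_lit 0x7262000053710000700060000051637100610000006200006162525161616241400000000000000000007333720000605362000000637000005061000000500081506370530000002270537342705261515162605262522383536281300000000000000000000000000000000000000000000000524232000083600050005100007300007100615200000060005100000000005272000061420000005100000000006300000000000000000000000020610000005000000000720000004051000040520000637182000053606070637161000000000000000000335000005100007250000000535000000000635072000000000061000000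
noncomputable def xQ1c1 : Nat := nat_lit 0x50520000007173000041620000506160006263706200633100000072414273507263627043106300714053526200706041000071600000606342715300330060626300006100626300603200610060000073710000006251704072616282715341705252216040525260515041000000000000000000000000000000000000000000706051000000000071007261600000316200005060300000003053000000705362518372606043000000000000000000635100616043007200000040600063004262000052430000634371506050516300000000000000000072627300000000005200007353004362636262000000536153404261607172
noncomputable def xQ1c2 : Nat := nat_lit 0x72513200715252534300000072625153000060614100003172006363000073415261626362616000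
noncomputable def xQ1 : Nat → Nat := (fun h => @Nat.rec (fun _ => Nat → Nat)
 (fun h => @Nat.rec (fun _ => Nat → Nat)
 (fun i => Nat.land (Nat.shiftRight xQ1c0 (Nat.mul (nat_lit 8) (Nat.land i (nat_lit 255)))) (nat_lit 255))
 (fun _ _ => (fun i => Nat.land (Nat.shiftRight xQ1c1 (Nat.mul (nat_lit 8) (Nat.land i (nat_lit 255)))) (nat_lit 255))) (Nat.land h (nat_lit 256)) h)
 (fun _ _ => (fun i => Nat.land (Nat.shiftRight xQ1c2 (Nat.mul (nat_lit 8) (Nat.land i (nat_lit 255)))) (nat_lit 255))) (Nat.land h (nat_lit 512)) h)
theorem xr1 : allR (ckReach xQ1 [[X48], [X49], [X50], [X51], [X52], [X53], [X54], [X55], [X56], [X57], [X58], [X59], [X60], [X61], [X62], [X63], [X64], [X65], [X66], [X67]] (nat_lit 468)) (nat_lit 0) (nat_lit 552) = true := by decide +kernel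
theorem xc1 : cntT xQ1 (nat_lit 275) (nat_lit 552) (nat_lit 0) = true := by decide +kernel
def xG1 : List (List Nat) := [[51], [52], [53], [54], [55], [56], [57], [58], [59], [60], [61], [62], [63], [64], [65], [66], [67], [68], [69], [70]]
noncomputable def xQ2c0 : Nat := nat_lit 0x6602000014b0c3000000000000000003100a740042000000000000000000023a000000a5440000000000014c0000003100014c0000000000c20288000029e3010e133a6031420000031c6000000000000000000000000000000000000000000000000002000a602080000000000028d200000000108000000005100000000000000000000000029000000000000000000000508400000000000000c80000000000000288000000000000063a68a9530000000000000000028000002880010c00000000510000000600000000000008000000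
noncomputable def xQ2c1 : Nat := nat_lit 0x208000000000000042a20000001840000000000000000001400000000800000000000028000182000000000000c80000148000014800000029530000000014c00064000000000000000000062000000000000a001800c54e9d1000295301080000000000000000000000000000000000000000021000000000a000041c6000000000000a00000000030000000000c201080850e98000000000000000000000000000000000033a600000c200000010c000c202080800004100000000000000000318000000000180000a40000000021800000000c6000630000031
noncomputable def xQ2c2 : Nat := nat_lit 0xa000030000000001480000000043c0000000003000000004000021a00000000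
noncomputable def xQ2 : Nat → Nat := (fun h => @Nat.rec (fun _ => Nat → Nat)
 (fun h => @Nat.rec (fun _ => Nat → Nat)
 (fun i => Nat.land (Nat.shiftRight xQ2c0 (Nat.mul (nat_lit 7) (Nat.land i (nat_lit 255)))) (nat_lit 127))
 (fun _ _ => (fun i => Nat.land (Nat.shiftRight xQ2c1 (Nat.mul (nat_lit 7) (Nat.land i (nat_lit 255)))) (nat_lit 127))) (Nat.land h (nat_lit 256)) h)
 (fun _ _ => (fun i => Nat.land (Nat.shiftRight xQ2c2 (Nat.mul (nat_lit 7) (Nat.land i (nat_lit 255)))) (nat_lit 127))) (Nat.land h (nat_lit 512)) h)
theorem xr2 : allR (ckReach xQ2 [[X52], [X53], [X54], [X55], [X56], [X57], [X58], [X59], [X60], [X61], [X62], [X63], [X64], [X65], [X66], [X67]] (nat_lit 473)) (nat_lit 0) (nat_lit 552) = true := by decide +kernel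
theorem xc2 : cntT xQ2 (nat_lit 112) (nat_lit 552) (nat_lit 0) = true := by decide +kernel
def xG2 : List (List Nat) := [[55], [56], [57], [58], [59], [60], [61], [62], [63], [64], [65], [66], [67], [68], [69], [70]]
noncomputable def xQ3c0 : Nat := nat_lit 0x14800000000008602150640190000000000000000000000000029800000000000200000020000000000a2000000140000000000000000400000000000000000000000000000000000001800410000000000000000020000001980a14800000000004000000014c0000000050000000000029000000041a104000000000001440000000053000006001020318400043a500000000005200c20b2000003042000000000000620000000000000000000000000000028420000000a2000530000000018800001880510000041008800000020c3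
noncomputable def xQ3c1 : Nat := nat_lit 0x40000000000001421800000000000000000000000000000000000000000000000000000000000000000000050000000000000000000000000005200000000000000000180000000000000000000000000000000000000000000000000000000000000288000000000001180a0000000000000860006100000000000000000288000000006200000014800000000000000000000000000029500000000000000000000000000000000004000029b300000000000000000005301080008400000a000000840210000000000000000000308000000000000000
noncomputable def xQ3c2 : Nat := nat_lit 0x19800000000000000000000000000000c60000000000000000000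
noncomputable def xQ3 : Nat → Nat := (fun h => @Nat.rec (fun _ => Nat → Nat)
 (fun h => @Nat.rec (fun _ => Nat → Nat)
 (fun i => Nat.land (Nat.shiftRight xQ3c0 (Nat.mul (nat_lit 7) (Nat.land i (nat_lit 255)))) (nat_lit 127))
 (fun _ _ => (fun i => Nat.land (Nat.shiftRight xQ3c1 (Nat.mul (nat_lit 7) (Nat.land i (nat_lit 255)))) (nat_lit 127))) (Nat.land h (nat_lit 256)) h)
 (fun _ _ => (fun i => Nat.land (Nat.shiftRight xQ3c2 (Nat.mul (nat_lit 7) (Nat.land i (nat_lit 255)))) (nat_lit 127))) (Nat.land h (nat_lit 512)) h)
theorem xr3 : allR (ckReach xQ3 [[X56], [X57], [X58], [X59], [X60], [X61], [X62], [X63], [X64], [X65], [X66], [X67]] (nat_lit 502)) (nat_lit 0) (nat_lit 552) = true := by decide +kernel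
theorem xc3 : cntT xQ3 (nat_lit 81) (nat_lit 552) (nat_lit 0) = true := by decide +kernel
def xG3 : List (List Nat) := [[59], [60], [61], [62], [63], [64], [65], [66], [67], [68], [69], [70]]
noncomputable def xQ4c0 : Nat := nat_lit 0x7000810000000000000000000000634300000000000000000000000000000000000000007300000000009300000000000000000000000000000000000000406200008200000000000000000000000000000000000000000000000000000000000000000000000000213000004300000000000000000000000000000000000000000000000000000000000000000000000071000000000000009200000000000000530000000000000000000000000000005200000000000000000000002000000000005300000000000000005200000000000000000000003300005100000000720000000000628000000000004100000000000000006000000000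
noncomputable def xQ4c1 : Nat := nat_lit 0x6100000000000000000000000000000000000000000000000000000000000000000000000000000000000000000000000000003200500000000000000000000000000000000000000000000000000000000000000000000000000000000000000042000000630000000000000000000000000000000000000000000000000000000000007300000000000000000000000000001000000000000000000000000000800000000000000000000000000000000000000000000000000000000000720000000000000000000000000000520000000000000000000000000000000000
noncomputable def xQ4c2 : Nat := nat_lit 0x0
noncomputable def xQ4 : Nat → Nat := (fun h => @Nat.rec (fun _ => Nat → Nat)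
 (fun h => @Nat.rec (fun _ => Nat → Nat)
 (fun i => Nat.land (Nat.shiftRight xQ4c0 (Nat.mul (nat_lit 8) (Nat.land i (nat_lit 255)))) (nat_lit 255))
 (fun _ _ => (fun i => Nat.land (Nat.shiftRight xQ4c1 (Nat.mul (nat_lit 8) (Nat.land i (nat_lit 255)))) (nat_lit 255))) (Nat.land h (nat_lit 256)) h)
 (fun _ _ => (fun i => Nat.land (Nat.shiftRight xQ4c2 (Nat.mul (nat_lit 8) (Nat.land i (nat_lit 255)))) (nat_lit 255))) (Nat.land h (nat_lit 512)) h)
theorem xr4 : allR (ckReach xQ4 [[X60], [X61], [X62], [X63], [X64], [X65], [X66], [X67]] (nat_lit 332)) (nat_lit 0) (nat_lit 552) = true := by decide +kernel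
theorem xc4 : cntT xQ4 (nat_lit 36) (nat_lit 552) (nat_lit 0) = true := by decide +kernel
def xG4 : List (List Nat) := [[63], [64], [65], [66], [67], [68], [69], [70]]
noncomputable def xQ5c0 : Nat := nat_lit 0x20000000000400000000000000000000000000000000000000000c0000000000000000000000000000000000000000000000000000000000000000000000000000000000000000000000000000000000000000000000000000000000000000000000000000000000000000000000000000000000000000000000000000110000000000000000000000000000000000000000000000000000000000000000000000000000000000000000000000000000
noncomputable def xQ5c1 : Nat := nat_lit 0x42000000000000620000000000000000000000000000000000000000000210000000000000000000000000000000000000000000000000000000000000000000000000000000000000000000000000000840000000000000000000000000000000000000000000000000000000000000000000000000000000000000000000000000000000000000000000000000000000003200000000000000000000000000000000000000000000000000000000000000000000000000000000000000c80000000000000000000000000000000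
noncomputable def xQ5c2 : Nat := nat_lit 0x0
noncomputable def xQ5 : Nat → Nat := (fun h => @Nat.rec (fun _ => Nat → Nat)
 (fun h => @Nat.rec (fun _ => Nat → Nat)
 (fun i => Nat.land (Nat.shiftRight xQ5c0 (Nat.mul (nat_lit 7) (Nat.land i (nat_lit 255)))) (nat_lit 127))
 (fun _ _ => (fun i => Nat.land (Nat.shiftRight xQ5c1 (Nat.mul (nat_lit 7) (Nat.land i (nat_lit 255)))) (nat_lit 127))) (Nat.land h (nat_lit 256)) h)
 (fun _ _ => (fun i => Nat.land (Nat.shiftRight xQ5c2 (Nat.mul (nat_lit 7) (Nat.land i (nat_lit 255)))) (nat_lit 127))) (Nat.land h (nat_lit 512)) h)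
theorem xr5 : allR (ckReach xQ5 [[X64], [X65], [X66], [X67]] (nat_lit 194)) (nat_lit 0) (nat_lit 552) = true := by decide +kernel
theorem xc5 : cntT xQ5 (nat_lit 10) (nat_lit 552) (nat_lit 0) = true := by decide +kernel
def xG5 : List (List Nat) := [[67], [68], [69], [70]]
noncomputable def xQ6c0 : Nat := nat_lit 0x0
noncomputable def xQ6c1 : Nat := nat_lit 0x8000000000000000000000000000000000000000000000000000000000000000000000000000000000000000000000000000000000000000000000000000000000000000000000000000000000000000000000000000000000000000000000000000000000000000000000000000000000000000000000000000000000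
noncomputable def xQ6c2 : Nat := nat_lit 0x0
noncomputable def xQ6 : Nat → Nat := (fun h => @Nat.rec (fun _ => Nat → Nat)
 (fun h => @Nat.rec (fun _ => Nat → Nat)
 (fun i => Nat.land (Nat.shiftRight xQ6c0 (Nat.mul (nat_lit 5) (Nat.land i (nat_lit 255)))) (nat_lit 31))
 (fun _ _ => (fun i => Nat.land (Nat.shiftRight xQ6c1 (Nat.mul (nat_lit 5) (Nat.land i (nat_lit 255)))) (nat_lit 31))) (Nat.land h (nat_lit 256)) h)
 (fun _ _ => (fun i => Nat.land (Nat.shiftRight xQ6c2 (Nat.mul (nat_lit 5) (Nat.land i (nat_lit 255)))) (nat_lit 31))) (Nat.land h (nat_lit 512)) h)
theorem xr6 : allR (ckReach xQ6 ([] : List (List (Nat → Nat))) (nat_lit 455)) (nat_lit 0) (nat_lit 552) = true := by decide +kernel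
theorem xc6 : cntT xQ6 (nat_lit 1) (nat_lit 552) (nat_lit 0) = true := by decide +kernel
def xG6 : List (List Nat) := []
noncomputable def xK6 : List Nat → Bool := levF xQ6 ([] : List (List (Nat → Nat))) (nat_lit 455) (fun _ => false) (nat_lit 10)
noncomputable def xK5 : List Nat → Bool := levF xQ5 [[X64], [X65], [X66], [X67]] (nat_lit 194) xK6 (nat_lit 10)
noncomputable def xK4 : List Nat → Bool := levF xQ4 [[X60], [X61], [X62], [X63], [X64], [X65], [X66], [X67]] (nat_lit 332) xK5 (nat_lit 10)
noncomputable def xK3 : List Nat → Bool := levF xQ3 [[X56], [X57], [X58], [X59], [X60], [X61], [X62], [X63], [X64], [X65], [X66], [X67]] (nat_lit 502) xK4 (nat_lit 10)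
noncomputable def xK2 : List Nat → Bool := levF xQ2 [[X52], [X53], [X54], [X55], [X56], [X57], [X58], [X59], [X60], [X61], [X62], [X63], [X64], [X65], [X66], [X67]] (nat_lit 473) xK3 (nat_lit 10)
noncomputable def xK1 : List Nat → Bool := levF xQ1 [[X48], [X49], [X50], [X51], [X52], [X53], [X54], [X55], [X56], [X57], [X58], [X59], [X60], [X61], [X62], [X63], [X64], [X65], [X66], [X67]] (nat_lit 468) xK2 (nat_lit 10)
noncomputable def xK0 : List Nat → Bool := levF xQ0 [[X0], [X1], [X22], [X23], [X24], [X25], [X48], [X49], [X50], [X51], [X52], [X53], [X54], [X55], [X56], [X57], [X58], [X59], [X60], [X61], [X62], [X63], [X64], [X65], [X66], [X67]] (nat_lit 70) xK1 (nat_lit 10)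
theorem xS : allR (OT.ckCand [X0] (nat_lit 7) xK0 [70, 194, 184]) (nat_lit 0) (nat_lit 552) = true := by decide +kernel

end Cfsg.Agent.H8.Co3O
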