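import Cfsg.Agent.H8.CosetCls
import Cfsg.Agent.H8.T.E7tP

set_option autoImplicit false
set_option linter.all false
set_option maxRecDepth 100000

namespace Cfsg.Agent.H8.E7t
noncomputable def chQ0c0 : Nat := nat_lit 0xe06c74593c35d2ed66b2d4eab459ac9689329a492292389c0e2d01833d9e4e27b399ace36a30160d361b1162a15a291449249a0d0c753b198c853210c44010
noncomputable def chQ0 : Nat → Nat := (fun i => Nat.land (Nat.shiftRight chQ0c0 (Nat.mul (nat_lit 9) (Nat.land i (nat_lit 255)))) (nat_lit 511))
theorem ch_r0 : allR (ckReach chQ0 [[T0], [T1], [T2], [T3], [T4], [T5], [T6]] (nat_lit 0)) (nat_lit 0) (nat_lit 56) = true := by decide +kernel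
theorem ch_c0 : cntT chQ0 (nat_lit 56) (nat_lit 56) (nat_lit 0) = true := by decide +kernel
noncomputable def chQ1c0 : Nat := nat_lit 0x44202f272b4daac5622c968a44a001469149a0c008239000ea6032800a2002a8000042198902000000000000000000000000000000000000000000000000
noncomputable def chQ1 : Nat → Nat := (fun i => Nat.land (Nat.shiftRight chQ1c0 (Nat.mul (nat_lit 9) (Nat.land i (nat_lit 255)))) (nat_lit 511))
theorem ch_r1 : allR (ckReach chQ1 [[T1], [T2], [T3], [T4], [T5], [T6]] (nat_lit 21)) (nat_lit 0) (nat_lit 56) = true := by decide +kernel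
theorem ch_c1 : cntT chQ1 (nat_lit 27) (nat_lit 56) (nat_lit 0) = true := by decide +kernel
noncomputable def chQ2c0 : Nat := nat_lit 0x9000000081007200006454534231201000
noncomputable def chQ2 : Nat → Nat := (fun i => Nat.land (Nat.shiftRight chQ2c0 (Nat.mul (nat_lit 8) (Nat.land i (nat_lit 255)))) (nat_lit 255))
theorem ch_r2 : allR (ckReach chQ2 [[T1], [T2], [T3], [T4], [T6]] (nat_lit 1)) (nat_lit 0) (nat_lit 56) = true := by decide +kernel
theorem ch_c2 : cntT chQ2 (nat_lit 10) (nat_lit 56) (nat_lit 0) = true := by decide +kernel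
noncomputable def chQ3c0 : Nat := nat_lit 0x39800000000c200000a50a000620119000000000000000
noncomputable def chQ3 : Nat → Nat := (fun i => Nat.land (Nat.shiftRight chQ3c0 (Nat.mul (nat_lit 7) (Nat.land i (nat_lit 255)))) (nat_lit 127))
theorem ch_r3 : allR (ckReach chQ3 [[T2], [T3], [T4], [T6]] (nat_lit 8)) (nat_lit 0) (nat_lit 56) = true := by decide +kernel
theorem ch_c3 : cntT chQ3 (nat_lit 8) (nat_lit 56) (nat_lit 0) = true := by decide +kernel
noncomputable def chQ4c0 : Nat := nat_lit 0x8226300000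
noncomputable def chQ4 : Nat → Nat := (fun i => Nat.land (Nat.shiftRight chQ4c0 (Nat.mul (nat_lit 7) (Nat.land i (nat_lit 255)))) (nat_lit 127))
theorem ch_r4 : allR (ckReach chQ4 [[T2], [T3], [T4]] (nat_lit 5)) (nat_lit 0) (nat_lit 56) = true := by decide +kernel
theorem ch_c4 : cntT chQ4 (nat_lit 4) (nat_lit 56) (nat_lit 0) = true := by decide +kernel
noncomputable def chQ5c0 : Nat := nat_lit 0x10870000
noncomputable def chQ5 : Nat → Nat := (fun i => Nat.land (Nat.shiftRight chQ5c0 (Nat.mul (nat_lit 6) (Nat.land i (nat_lit 255)))) (nat_lit 63))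
theorem ch_r5 : allR (ckReach chQ5 [[T2], [T3]] (nat_lit 4)) (nat_lit 0) (nat_lit 56) = true := by decide +kernel
theorem ch_c5 : cntT chQ5 (nat_lit 3) (nat_lit 56) (nat_lit 0) = true := by decide +kernel
noncomputable def chQ6c0 : Nat := nat_lit 0x810000
noncomputable def chQ6 : Nat → Nat := (fun i => Nat.land (Nat.shiftRight chQ6c0 (Nat.mul (nat_lit 6) (Nat.land i (nat_lit 255)))) (nat_lit 63))
theorem ch_r6 : allR (ckReach chQ6 [[T2]] (nat_lit 2)) (nat_lit 0) (nat_lit 56) = true := by decide +kernel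
theorem ch_c6 : cntT chQ6 (nat_lit 2) (nat_lit 56) (nat_lit 0) = true := by decide +kernel
def chG0 : List (List Nat) := [[0], [1], [2], [3], [4], [5], [6]]
def chG1 : List (List Nat) := [[1], [2], [3], [4], [5], [6]]
def chG2 : List (List Nat) := [[1], [2], [3], [4], [6]]
def chG3 : List (List Nat) := [[2], [3], [4], [6]]
def chG4 : List (List Nat) := [[2], [3], [4]]
def chG5 : List (List Nat) := [[2], [3]]
def chG6 : List (List Nat) := [[2]]
def chG7 : List (List Nat) := []

theorem ch_lower {G : Type*} [Group G] [Finite G] (s : Nat → G) (ρ : G →* Equiv.Perm (Fin 56))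
    (hρ : ∀ l < 7, ρ (s l) = permL tok l) :
    56 * (27 * (10 * (8 * (4 * (3 * (2 * (1))))))) ≤ Nat.card (wordGroup s chG0) := by
  have h0 := card_step s tok ρ hρ chQ0 56 chG0 chG1 (by decide) ⟨0, by decide⟩ ch_r0 ch_c0
    (by decide) (by decide +kernel) inferInstance
  have h1 := card_step s tok ρ hρ chQ1 27 chG1 chG2 (by decide) ⟨21, by decide⟩ ch_r1 ch_c1
    (by decide) (by decide +kernel) inferInstance
  have h2 := card_step s tok ρ hρ chQ2 10 chG2 chG3 (by decide) ⟨1, by decide⟩ ch_r2 ch_c2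
    (by decide) (by decide +kernel) inferInstance
  have h3 := card_step s tok ρ hρ chQ3 8 chG3 chG4 (by decide) ⟨8, by decide⟩ ch_r3 ch_c3
    (by decide) (by decide +kernel) inferInstance
  have h4 := card_step s tok ρ hρ chQ4 4 chG4 chG5 (by decide) ⟨5, by decide⟩ ch_r4 ch_c4
    (by decide) (by decide +kernel) inferInstance
  have h5 := card_step s tok ρ hρ chQ5 3 chG5 chG6 (by decide) ⟨4, by decide⟩ ch_r5 ch_c5
    (by decide) (by decide +kernel) inferInstance
  have h6 := card_step s tok ρ hρ chQ6 2 chG6 chG7 (by decide) ⟨2, by decide⟩ ch_r6 ch_c6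
    (by decide) (by decide +kernel) inferInstance
  have e7 : 1 ≤ Nat.card (wordGroup s chG7) := Nat.card_pos
  have e6 := le_trans (Nat.mul_le_mul_left 2 e7) h6
  have e5 := le_trans (Nat.mul_le_mul_left 3 e6) h5
  have e4 := le_trans (Nat.mul_le_mul_left 4 e5) h4
  have e3 := le_trans (Nat.mul_le_mul_left 8 e4) h3
  have e2 := le_trans (Nat.mul_le_mul_left 10 e3) h2
  have e1 := le_trans (Nat.mul_le_mul_left 27 e2) h1
  have e0 := le_trans (Nat.mul_le_mul_left 56 e1) h0
  exact e0

end Cfsg.Agent.H8.E7t
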