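import Cfsg.Agent.H8.CosetPres

set_option autoImplicit false
set_option linter.all false
set_option maxRecDepth 100000

namespace Cfsg.Agent.H8.E8t
noncomputable def E0c0 : Nat := nat_lit 0x94f794f694f581f47a737c727b7171f0786d7b6b7c6f006a786e00ec186700651be93a6300e80062386600e4726171e069df13dc005b105e00dd69da61d9005559d732d300d80052305600d46d516a506acf61ce624d354a59cb304c004800c962475a4659c551c42b422843004000c15bbf63be5bbd62bc5a3b5aba51b9523823b549b62037003300b463325b315ab0522f52ae49ad4a2c1c2941aa182b002700a85b26532553244b2352a24a214aa0419f421e141b399c101d0019009a4a98421739960014009542933a923a113190000e008f320d2a0c298b0009008a218819870005008600030084000100820900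
noncomputable def E0 : Nat → Nat := (fun i => Nat.land (Nat.shiftRight E0c0 (Nat.mul (nat_lit 16) (Nat.land i (nat_lit 255)))) (nat_lit 0xffff))
noncomputable def E1c0 : Nat := nat_lit 0x622be300657c6779f3806e006d6c6c82ef82f200f16870746b6c6a7ae9836878748be600f591e4287600f771e1005e635d00e0605f6b5c635b62580056605a4a5400d963d548575a5352526bd169d06a4f584c61cd5bce4bc95bca484b53c861c759c6004342c100c552c240444ac05b3f633e5b3d623c59bb5a3a403751b843393b344b353836433362b25ab15a3051af522e382b49ac3cad34a84429302a3ca75aa652a552a44aa3522249a14a20301d419e341f2c1a3c1b281c34194a1841972b952816339442133a123991230f20102b0e318d298c1a8a180b22891206000410081a0500871183150200000081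
noncomputable def E1 : Nat → Nat := (fun i => Nat.land (Nat.shiftRight E1c0 (Nat.mul (nat_lit 16) (Nat.land i (nat_lit 255)))) (nat_lit 0xffff))
noncomputable def E2c0 : Nat := nat_lit 0x5bf763f66bf583f400708bf27bf100f3806e866f6deb736c686d6b6a005e0858125c00560055085408530052005f83e000e100e96a5d1067625b8bda94d90d688dd700e600e50d640ce300e26c515c4e6acf5850004b644c00cd5c4a5c49544851c50044504700c659c351c251c149c05a3f623e5a3d62bc22395aba203b0036523700b84a354a34423361b259b15ab01b2d52ae182f002a4b2b00ac432944a83ca759a651a551a449a352a2131f4aa01021001c431d009e3b1b3b1a33194a98001600973c15341442933a9200100091320f2a0e080b0008098d298a2189008c1b8722861a85080200010d0400830900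
noncomputable def E2 : Nat → Nat := (fun i => Nat.land (Nat.shiftRight E2c0 (Nat.mul (nat_lit 16) (Nat.land i (nat_lit 255)))) (nat_lit 0xffff))
noncomputable def E3c0 : Nat := nat_lit 0x5cf764f66cf58374927378707b717af27aef7dec636d786e006a00eb72696a686a67626662655a645a6352628a61705f71e01d5d185e005b00dc004e08453d4c00440043004a0841084200406bd1925043cd00da404f385863cb00d55bc953c89a4792460cd900d700d60c530d5400d259bf61be59bd383b39bc31b859b9303a51b751b649b549b441b363325b31302f34302c2c52ad282e4aab4c2a42a944283c275b26532553244b2328212aa2229e4a9f2020429d429c3a9b3a9a32992397201843963b9533941991000d18133990318f298e0092220c330b2b0a230900070088080400030d0600851d0214810900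
noncomputable def E3 : Nat → Nat := (fun i => Nat.land (Nat.shiftRight E3c0 (Nat.mul (nat_lit 16) (Nat.land i (nat_lit 255)))) (nat_lit 0xffff))
noncomputable def E4c0 : Nat := nat_lit 0x5c7764766c75107271f311f4086069f079dc0067005e61ec736959ea706b6b6800ee636663655b645b6353626ae10c7162df00ed5add786f52db6a5a625962585a575a565a55525452534a526bd133cd9a4f004b305033c900ce0048304c00ca003b08384c39003600370835083400335abf62be5abda23c00c79a3a48450b4600c300c40cc20d4100c01cb0002e183259af00b151ad54ac49ab4caa41a944a83ca7002208200818001300a651a109a5499f499e419d419c399b399a31990ba44b9743963b95339400a32a1242913a90328f2a8e000c008d000808060005008b2c070d0a008925041b031d0214010900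
noncomputable def E4 : Nat → Nat := (fun i => Nat.land (Nat.shiftRight E4c0 (Nat.mul (nat_lit 16) (Nat.land i (nat_lit 255)))) (nat_lit 0xffff))
noncomputable def E5c0 : Nat := nat_lit 0x5cf764f684f4807571f371f2727169f071ef6a6e6a6d61ec61eb59ea136810690065636600e75b645b63536263506cda004e00583d4c0855004a6860645900de5c575c560c5c545454534c526ad160616acf00df62cd385d5acb00db52c94ac862475a465a45524452434a424a41424000251bb100241bb0002f00221bad1b21002b001f1ba91d1d001ba1b2183e183c00bb5bae183953ac00b74baa183543a83ba7a22600bf00bd322300ba183851a000b6499e1834419c00b3399a319952984a9742963a95329400120093130d000b080a000910113b0c00900d0f008e34882c872d06240525041b031d0214810900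
noncomputable def E5 : Nat → Nat := (fun i => Nat.land (Nat.shiftRight E5c0 (Nat.mul (nat_lit 16) (Nat.land i (nat_lit 255)))) (nat_lit 0xffff))
noncomputable def E6c0 : Nat := nat_lit 0x5d77007500f681f474737c7279f16c70746f69ee69ed646c646b5c6a6a69486662674b6823635b64206553626a617260625f625e5a5d5a5c525b5bd9585a40565bd743d81bd353d418554bd2003e0047003c51c52b3b0043003911c22cb7003500d059c6504e51c400cc104a49c141c0a5bf00d13a3d00cf284d5a3a00cb523828494a3600c842343a336ab262b162b05aaf5aae52ad52ac4aab4aaa42a942a83aa711a51026002300a40020181e00a2001c1b21181a009f00191c9d009b001308110010080f000e00984b920b1700960c950094418d3b0c398b318a298935082d072c86238524841b031c8215010900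
noncomputable def E6 : Nat → Nat := (fun i => Nat.land (Nat.shiftRight E6c0 (Nat.mul (nat_lit 16) (Nat.land i (nat_lit 255)))) (nat_lit 0xffff))
noncomputable def E7c0 : Nat := nat_lit 0x347630776275837472f37af27b716af072ef6b6e73ed62ec62eb5aea69e9626861e73be45a653866006200e369e171e061df61de59dd59dc51db625a58575a585d59355452553056005200d342516250624f5a4e5a4d524c524b4a4a4a4942482b462847504453452b410040284300c269bf003d00be003a21b800bc0036203b21b400b90033203700b50026132412a200210018129f0817001d0016129b0815001400b2632510315b23103000af5aa0102d529e00ab4a9c1029429a3a9900ae0bac00aa0ca800a751934d1249914190398f318e430d3b8c3b0b330a2b0934082c072c86250524841b831c8214010900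
noncomputable def E7 : Nat → Nat := (fun i => Nat.land (Nat.shiftRight E7c0 (Nat.mul (nat_lit 16) (Nat.land i (nat_lit 255)))) (nat_lit 0xffff))
noncomputable def E8c0 : Nat := nat_lit 0x5c7764766c7500710861006000f4005f0069785e7067085d085c005b00ef6ae872ed62e662e55ae45ae352e20af300f200f079ee0cec0a6b00ea6a5a625962585a575a565a55525452534a52a3d169d06bcf61ce63cd59cc5bcb51ca53c94bc861c759c659c551c451c349c249c141c03b3f9dbea53d633c5b3b5b3a533953384b374b36433543343b3325312032002e152c00b0002a102f152800ad0027102b00a9182400231ba600a508180017001308160811001500100814080f000e0ba200a10b9f009d0b9b00a04a120a9e009c0c9a0099418d3a8c398b318a298934082c072c86220524841a831c8214010900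
noncomputable def E8 : Nat → Nat := (fun i => Nat.land (Nat.shiftRight E8c0 (Nat.mul (nat_lit 16) (Nat.land i (nat_lit 255)))) (nat_lit 0xffff))
noncomputable def Dc0 : Nat := nat_lit 0xc41ea6ca1e28e02c08da1be8d28ce4bc4d40d43b68bc2ca0ca5ac2aa2c40c47a42be2bc19c5b05b60b639459c3ac1aa0883863943a40a478037c68e67869649628667269049006a67648828616c46e48078006644a57a74857475e54456c76c25653e56676603654c75c45c84273075485423a72c74e84e02874444684662644062e82683863822a82083263201c82662c22062801c62451a32021651c01251841021041200a40e30810a0063060022020001000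
noncomputable def D : Nat → Nat := (fun i => Nat.land (Nat.shiftRight Dc0 (Nat.mul (nat_lit 12) (Nat.land i (nat_lit 255)))) (nat_lit 0xfff))
noncomputable def T0 : Nat → Nat := fun i => Nat.land (E0 i) (nat_lit 127)
noncomputable def T1 : Nat → Nat := fun i => Nat.land (E1 i) (nat_lit 127)
noncomputable def T2 : Nat → Nat := fun i => Nat.land (E2 i) (nat_lit 127)
noncomputable def T3 : Nat → Nat := fun i => Nat.land (E3 i) (nat_lit 127)
noncomputable def T4 : Nat → Nat := fun i => Nat.land (E4 i) (nat_lit 127)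
noncomputable def T5 : Nat → Nat := fun i => Nat.land (E5 i) (nat_lit 127)
noncomputable def T6 : Nat → Nat := fun i => Nat.land (E6 i) (nat_lit 127)
noncomputable def T7 : Nat → Nat := fun i => Nat.land (E7 i) (nat_lit 127)
noncomputable def T8 : Nat → Nat := fun i => Nat.land (E8 i) (nat_lit 127)
noncomputable def E : Nat → Nat → Nat := fun l => (@Nat.rec (fun _ => Nat → Nat) E0 (fun l _ => (@Nat.rec (fun _ => Nat → Nat) E1 (fun l _ => (@Nat.rec (fun _ => Nat → Nat) E2 (fun l _ => (@Nat.rec (fun _ => Nat → Nat) E3 (fun l _ => (@Nat.rec (fun _ => Nat → Nat) E4 (fun l _ => (@Nat.rec (fun _ => Nat → Nat) E5 (fun l _ => (@Nat.rec (fun _ => Nat → Nat) E6 (fun l _ => (@Nat.rec (fun _ => Nat → Nat) E7 (fun l _ => E8) l)) l)) l)) l)) l)) l)) l)) l)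
noncomputable def T : Nat → Nat → Nat := fun l => (@Nat.rec (fun _ => Nat → Nat) T0 (fun l _ => (@Nat.rec (fun _ => Nat → Nat) T1 (fun l _ => (@Nat.rec (fun _ => Nat → Nat) T2 (fun l _ => (@Nat.rec (fun _ => Nat → Nat) T3 (fun l _ => (@Nat.rec (fun _ => Nat → Nat) T4 (fun l _ => (@Nat.rec (fun _ => Nat → Nat) T5 (fun l _ => (@Nat.rec (fun _ => Nat → Nat) T6 (fun l _ => (@Nat.rec (fun _ => Nat → Nat) T7 (fun l _ => T8) l)) l)) l)) l)) l)) l)) l)) l)
noncomputable def inv : Nat → Nat := fun l => l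
def rels2 : List (List Nat × Nat) := [([2, 3], 3), ([2, 4], 2), ([2, 5], 2), ([2, 6], 2), ([2, 7], 2), ([2, 8], 2), ([2, 1], 3), ([2, 0], 2), ([3, 4], 3), ([3, 5], 2), ([3, 6], 2), ([3, 7], 2), ([3, 8], 2), ([3, 1], 2), ([3, 0], 2), ([4, 5], 3), ([4, 6], 2), ([4, 7], 2), ([4, 8], 2), ([4, 1], 2), ([4, 0], 2), ([5, 6], 3), ([5, 7], 2), ([5, 8], 3), ([5, 1], 2), ([5, 0], 2), ([6, 7], 3), ([6, 8], 2), ([6, 1], 2), ([6, 0], 2), ([7, 8], 2), ([7, 1], 2), ([7, 0], 2), ([8, 1], 2), ([8, 0], 2), ([1, 0], 3), ([0, 2, 3, 4, 5, 6, 7, 8, 2, 3, 4, 5, 6, 7, 8, 2, 3, 4, 5, 6, 7, 8, 2, 3, 4, 5, 6, 7, 8, 2, 3, 4, 5, 6, 7, 8, 2, 3, 4, 5, 6, 7, 8, 2, 3, 4, 5, 6, 7, 8, 2, 3, 4, 5, 6, 7, 8, 2, 3, 4, 5, 6, 7, 8], 1)]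
def rels : List (List Nat) := rels2.map (fun p => wpow p.1 p.2)
def relsP : List (List Nat × Nat) := [([2, 3], 3), ([2, 4], 2), ([2, 5], 2), ([2, 6], 2), ([2, 7], 2), ([2, 8], 2), ([2, 1], 3), ([2, 0], 2), ([3, 4], 3), ([3, 5], 2), ([3, 6], 2), ([3, 7], 2), ([3, 8], 2), ([3, 1], 2), ([3, 0], 2), ([4, 5], 3), ([4, 6], 2), ([4, 7], 2), ([4, 8], 2), ([4, 1], 2), ([4, 0], 2), ([5, 6], 3), ([5, 7], 2), ([5, 8], 3), ([5, 1], 2), ([5, 0], 2), ([6, 7], 3), ([6, 8], 2), ([6, 1], 2), ([6, 0], 2), ([7, 8], 2), ([7, 1], 2), ([7, 0], 2), ([8, 1], 2), ([8, 0], 2), ([1, 0], 3), ([0, 2, 3, 4, 5, 6, 7, 8, 2, 3, 4, 5, 6, 7, 8, 2, 3, 4, 5, 6, 7, 8, 2, 3, 4, 5, 6, 7, 8, 2, 3, 4, 5, 6, 7, 8, 2, 3, 4, 5, 6, 7, 8, 2, 3, 4, 5, 6, 7, 8, 2, 3, 4, 5, 6, 7, 8, 2, 3, 4, 5, 6, 7, 8], 1)]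
def subw : List (List Nat) := [[0], [2], [3], [4], [5], [6], [7], [8]]
def RW0 : List (List Nat) := [[1, 0, 1, 0, 1], [2, 0, 2], [3, 0, 3], [4, 0, 4], [5, 0, 5], [8, 0, 8], [2, 3, 4, 5, 6, 7, 8, 2, 3, 4, 5, 6, 7, 8, 2, 3, 4, 5, 6, 7, 8, 2, 3, 4, 5, 6, 7, 8, 2, 3, 4, 5, 6, 7, 8, 2, 3, 4, 5, 6, 7, 8, 2, 3, 4, 5, 6, 7, 8, 2, 3, 4, 5, 6, 7, 8, 2, 3, 4, 5, 6, 7, 8], [6, 0, 6]]
noncomputable def RF0 : List (List (Nat → Nat)) := [[E1, E0, E1, E0, E1], [E2, E0, E2], [E3, E0, E3], [E4, E0, E4], [E5, E0, E5], [E8, E0, E8], [E2, E3, E4, E5, E6, E7, E8, E2, E3, E4, E5, E6, E7, E8, E2, E3, E4, E5, E6, E7, E8, E2, E3, E4, E5, E6, E7, E8, E2, E3, E4, E5, E6, E7, E8, E2, E3, E4, E5, E6, E7, E8, E2, E3, E4, E5, E6, E7, E8, E2, E3, E4, E5, E6, E7, E8, E2, E3, E4, E5, E6, E7, E8], [E6, E0, E6]]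
def RC0 : List Nat := [17922, 3586, 7170, 10242, 12802, 17410, 18432, 14850]
def RW1 : List (List Nat) := [[2, 1, 2, 1, 2], [3, 1, 3], [4, 1, 4], [5, 1, 5], [6, 1, 6], [8, 1, 8], [7, 1, 7], [0, 1, 0, 1, 0]]
noncomputable def RF1 : List (List (Nat → Nat)) := [[E2, E1, E2, E1, E2], [E3, E1, E3], [E4, E1, E4], [E5, E1, E5], [E6, E1, E6], [E8, E1, E8], [E7, E1, E7], [E0, E1, E0, E1, E0]]
def RC1 : List Nat := [3074, 6658, 9730, 12290, 14338, 16898, 15874, 17920]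
def RW2 : List (List Nat) := [[4, 2, 4], [5, 2, 5], [3, 2, 3, 2, 3], [8, 2, 8], [1, 2, 1, 2, 1], [6, 2, 6], [7, 2, 7], [0, 2, 0], [3, 4, 5, 6, 7, 8, 2, 3, 4, 5, 6, 7, 8, 2, 3, 4, 5, 6, 7, 8, 2, 3, 4, 5, 6, 7, 8, 2, 3, 4, 5, 6, 7, 8, 2, 3, 4, 5, 6, 7, 8, 2, 3, 4, 5, 6, 7, 8, 2, 3, 4, 5, 6, 7, 8, 0, 2, 3, 4, 5, 6, 7, 8], [3, 4, 5, 6, 7, 8, 0, 2, 3, 4, 5, 6, 7, 8, 2, 3, 4, 5, 6, 7, 8, 2, 3, 4, 5, 6, 7, 8, 2, 3, 4, 5, 6, 7, 8, 2, 3, 4, 5, 6, 7, 8, 2, 3, 4, 5, 6, 7, 8, 2, 3, 4, 5, 6, 7, 8, 2, 3, 4, 5, 6, 7, 8]]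
noncomputable def RF2 : List (List (Nat → Nat)) := [[E4, E2, E4], [E5, E2, E5], [E3, E2, E3, E2, E3], [E8, E2, E8], [E1, E2, E1, E2, E1], [E6, E2, E6], [E7, E2, E7], [E0, E2, E0], [E3, E4, E5, E6, E7, E8, E2, E3, E4, E5, E6, E7, E8, E2, E3, E4, E5, E6, E7, E8, E2, E3, E4, E5, E6, E7, E8, E2, E3, E4, E5, E6, E7, E8, E2, E3, E4, E5, E6, E7, E8, E2, E3, E4, E5, E6, E7, E8, E2, E3, E4, E5, E6, E7, E8, E0, E2, E3, E4, E5, E6, E7, E8], [E3, E4, E5, E6, E7, E8, E0, E2, E3, E4, E5, E6, E7, E8, E2, E3, E4, E5, E6, E7, E8, E2, E3, E4, E5, E6, E7, E8, E2, E3, E4, E5, E6, E7, E8, E2, E3, E4, E5, E6, E7, E8, E2, E3, E4, E5, E6, E7, E8, E2, E3, E4, E5, E6, E7, E8, E2, E3, E4, E5, E6, E7, E8]]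
def RC2 : List Nat := [512, 1024, 0, 2560, 3072, 1536, 2048, 3584, 18448, 18546]
def RW3 : List (List Nat) := [[5, 3, 5], [2, 3, 2, 3, 2], [8, 3, 8], [4, 3, 4, 3, 4], [6, 3, 6], [7, 3, 7], [1, 3, 1], [0, 3, 0], [4, 5, 6, 7, 8, 2, 3, 4, 5, 6, 7, 8, 2, 3, 4, 5, 6, 7, 8, 2, 3, 4, 5, 6, 7, 8, 2, 3, 4, 5, 6, 7, 8, 2, 3, 4, 5, 6, 7, 8, 2, 3, 4, 5, 6, 7, 8, 2, 3, 4, 5, 6, 7, 8, 2, 3, 4, 5, 6, 7, 8, 0, 2]]
noncomputable def RF3 : List (List (Nat → Nat)) := [[E5, E3, E5], [E2, E3, E2, E3, E2], [E8, E3, E8], [E4, E3, E4, E3, E4], [E6, E3, E6], [E7, E3, E7], [E1, E3, E1], [E0, E3, E0], [E4, E5, E6, E7, E8, E2, E3, E4, E5, E6, E7, E8, E2, E3, E4, E5, E6, E7, E8, E2, E3, E4, E5, E6, E7, E8, E2, E3, E4, E5, E6, E7, E8, E2, E3, E4, E5, E6, E7, E8, E2, E3, E4, E5, E6, E7, E8, E2, E3, E4, E5, E6, E7, E8, E2, E3, E4, E5, E6, E7, E8, E0, E2]]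
def RC3 : List Nat := [4608, 2, 6144, 4096, 5120, 5632, 6656, 7168, 18436]
def RW4 : List (List Nat) := [[8, 4, 8], [3, 4, 3, 4, 3], [5, 4, 5, 4, 5], [2, 4, 2], [6, 4, 6], [1, 4, 1], [7, 4, 7], [0, 4, 0]]
noncomputable def RF4 : List (List (Nat → Nat)) := [[E8, E4, E8], [E3, E4, E3, E4, E3], [E5, E4, E5, E4, E5], [E2, E4, E2], [E6, E4, E6], [E1, E4, E1], [E7, E4, E7], [E0, E4, E0]]
def RC4 : List Nat := [9216, 4098, 7680, 514, 8192, 9728, 8704, 10240]
def RW5 : List (List Nat) := [[8, 5, 8, 5, 8], [4, 5, 4, 5, 4], [6, 5, 6, 5, 6], [2, 5, 2], [7, 5, 7], [3, 5, 3], [1, 5, 1], [0, 5, 0]]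
noncomputable def RF5 : List (List (Nat → Nat)) := [[E8, E5, E8, E5, E8], [E4, E5, E4, E5, E4], [E6, E5, E6, E5, E6], [E2, E5, E2], [E7, E5, E7], [E3, E5, E3], [E1, E5, E1], [E0, E5, E0]]
def RC5 : List Nat := [11776, 7682, 10752, 1026, 11264, 4610, 12288, 12800]
def RW6 : List (List Nat) := [[4, 6, 4], [5, 6, 5, 6, 5], [7, 6, 7, 6, 7], [2, 6, 2], [3, 6, 3], [8, 6, 8], [0, 6, 0], [1, 6, 1], [7, 8, 2, 3, 4, 5, 6, 7, 8, 2, 3, 4, 5, 6, 7, 8, 2, 3, 4, 5, 6, 7, 8, 2, 3, 4, 5, 6, 7, 8, 0, 2, 3, 4, 5, 6, 7, 8, 2, 3, 4, 5, 6, 7, 8, 2, 3, 4, 5, 6, 7, 8, 2, 3, 4, 5, 6, 7, 8, 2, 3, 4, 5]]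
noncomputable def RF6 : List (List (Nat → Nat)) := [[E4, E6, E4], [E5, E6, E5, E6, E5], [E7, E6, E7, E6, E7], [E2, E6, E2], [E3, E6, E3], [E8, E6, E8], [E0, E6, E0], [E1, E6, E1], [E7, E8, E2, E3, E4, E5, E6, E7, E8, E2, E3, E4, E5, E6, E7, E8, E2, E3, E4, E5, E6, E7, E8, E2, E3, E4, E5, E6, E7, E8, E0, E2, E3, E4, E5, E6, E7, E8, E2, E3, E4, E5, E6, E7, E8, E2, E3, E4, E5, E6, E7, E8, E2, E3, E4, E5, E6, E7, E8, E2, E3, E4, E5]]
def RC6 : List Nat := [8194, 10754, 13312, 1538, 5122, 13824, 14848, 14336, 18498]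
def RW7 : List (List Nat) := [[5, 7, 5], [6, 7, 6, 7, 6], [8, 7, 8], [4, 7, 4], [2, 7, 2], [1, 7, 1], [0, 7, 0], [3, 7, 3]]
noncomputable def RF7 : List (List (Nat → Nat)) := [[E5, E7, E5], [E6, E7, E6, E7, E6], [E8, E7, E8], [E4, E7, E4], [E2, E7, E2], [E1, E7, E1], [E0, E7, E0], [E3, E7, E3]]
def RC7 : List Nat := [11266, 13314, 15360, 8706, 2050, 15872, 16384, 5634]
def RW8 : List (List Nat) := [[4, 8, 4], [3, 8, 3], [2, 8, 2], [5, 8, 5, 8, 5], [6, 8, 6], [1, 8, 1], [0, 8, 0], [7, 8, 7], [2, 3, 4, 5, 6, 7, 8, 2, 3, 4, 5, 6, 7, 8, 2, 3, 4, 5, 6, 7, 8, 2, 3, 4, 5, 6, 7, 8, 0, 2, 3, 4, 5, 6, 7, 8, 2, 3, 4, 5, 6, 7, 8, 2, 3, 4, 5, 6, 7, 8, 2, 3, 4, 5, 6, 7, 8, 2, 3, 4, 5, 6, 7]]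
noncomputable def RF8 : List (List (Nat → Nat)) := [[E4, E8, E4], [E3, E8, E3], [E2, E8, E2], [E5, E8, E5, E8, E5], [E6, E8, E6], [E1, E8, E1], [E0, E8, E0], [E7, E8, E7], [E2, E3, E4, E5, E6, E7, E8, E2, E3, E4, E5, E6, E7, E8, E2, E3, E4, E5, E6, E7, E8, E2, E3, E4, E5, E6, E7, E8, E0, E2, E3, E4, E5, E6, E7, E8, E2, E3, E4, E5, E6, E7, E8, E2, E3, E4, E5, E6, E7, E8, E2, E3, E4, E5, E6, E7, E8, E2, E3, E4, E5, E6, E7]]
def RC8 : List Nat := [9218, 6146, 2562, 11778, 13826, 16896, 17408, 15362, 18502]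
def RW : Nat → List (List Nat) := fun l => (@Nat.rec (fun _ => List (List Nat)) RW0 (fun l _ => (@Nat.rec (fun _ => List (List Nat)) RW1 (fun l _ => (@Nat.rec (fun _ => List (List Nat)) RW2 (fun l _ => (@Nat.rec (fun _ => List (List Nat)) RW3 (fun l _ => (@Nat.rec (fun _ => List (List Nat)) RW4 (fun l _ => (@Nat.rec (fun _ => List (List Nat)) RW5 (fun l _ => (@Nat.rec (fun _ => List (List Nat)) RW6 (fun l _ => (@Nat.rec (fun _ => List (List Nat)) RW7 (fun l _ => RW8) l)) l)) l)) l)) l)) l)) l)) l)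
def sp : List Nat := [0, 2, 3, 4, 5, 6, 7, 8]
theorem ck0 : allR (ckE (nat_lit 120) (nat_lit 127) (nat_lit 7) (nat_lit 15) (nat_lit 11) (nat_lit 0) D E0 E0 RF0 sp) (nat_lit 0) (nat_lit 120) = true := by decide +kernel
theorem rf0 : RF0 = (RW0).map (·.map E) := rfl
theorem rc0 : ckRels 9 inv rels 0 RW0 RC0 = true := by decide +kernel
theorem ck1 : allR (ckE (nat_lit 120) (nat_lit 127) (nat_lit 7) (nat_lit 15) (nat_lit 11) (nat_lit 1) D E1 E1 RF1 sp) (nat_lit 0) (nat_lit 120) = true := by decide +kernel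
theorem rf1 : RF1 = (RW1).map (·.map E) := rfl
theorem rc1 : ckRels 9 inv rels 1 RW1 RC1 = true := by decide +kernel
theorem ck2 : allR (ckE (nat_lit 120) (nat_lit 127) (nat_lit 7) (nat_lit 15) (nat_lit 11) (nat_lit 2) D E2 E2 RF2 sp) (nat_lit 0) (nat_lit 120) = true := by decide +kernel
theorem rf2 : RF2 = (RW2).map (·.map E) := rfl
theorem rc2 : ckRels 9 inv rels 2 RW2 RC2 = true := by decide +kernel
theorem ck3 : allR (ckE (nat_lit 120) (nat_lit 127) (nat_lit 7) (nat_lit 15) (nat_lit 11) (nat_lit 3) D E3 E3 RF3 sp) (nat_lit 0) (nat_lit 120) = true := by decide +kernel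
theorem rf3 : RF3 = (RW3).map (·.map E) := rfl
theorem rc3 : ckRels 9 inv rels 3 RW3 RC3 = true := by decide +kernel
theorem ck4 : allR (ckE (nat_lit 120) (nat_lit 127) (nat_lit 7) (nat_lit 15) (nat_lit 11) (nat_lit 4) D E4 E4 RF4 sp) (nat_lit 0) (nat_lit 120) = true := by decide +kernel
theorem rf4 : RF4 = (RW4).map (·.map E) := rfl
theorem rc4 : ckRels 9 inv rels 4 RW4 RC4 = true := by decide +kernel
theorem ck5 : allR (ckE (nat_lit 120) (nat_lit 127) (nat_lit 7) (nat_lit 15) (nat_lit 11) (nat_lit 5) D E5 E5 RF5 sp) (nat_lit 0) (nat_lit 120) = true := by decide +kernel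
theorem rf5 : RF5 = (RW5).map (·.map E) := rfl
theorem rc5 : ckRels 9 inv rels 5 RW5 RC5 = true := by decide +kernel
theorem ck6 : allR (ckE (nat_lit 120) (nat_lit 127) (nat_lit 7) (nat_lit 15) (nat_lit 11) (nat_lit 6) D E6 E6 RF6 sp) (nat_lit 0) (nat_lit 120) = true := by decide +kernel
theorem rf6 : RF6 = (RW6).map (·.map E) := rfl
theorem rc6 : ckRels 9 inv rels 6 RW6 RC6 = true := by decide +kernel
theorem ck7 : allR (ckE (nat_lit 120) (nat_lit 127) (nat_lit 7) (nat_lit 15) (nat_lit 11) (nat_lit 7) D E7 E7 RF7 sp) (nat_lit 0) (nat_lit 120) = true := by decide +kernel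
theorem rf7 : RF7 = (RW7).map (·.map E) := rfl
theorem rc7 : ckRels 9 inv rels 7 RW7 RC7 = true := by decide +kernel
theorem ck8 : allR (ckE (nat_lit 120) (nat_lit 127) (nat_lit 7) (nat_lit 15) (nat_lit 11) (nat_lit 8) D E8 E8 RF8 sp) (nat_lit 0) (nat_lit 120) = true := by decide +kernel
theorem rf8 : RF8 = (RW8).map (·.map E) := rfl
theorem rc8 : ckRels 9 inv rels 8 RW8 RC8 = true := by decide +kernel

theorem edgeOK : ∀ l < 9, ∀ i < 120, EdgeOK E 127 120 11 7 15 inv D RW sp l i := by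
  intro l hl i hi
  interval_cases l

  · exact ckE_sound 120 127 7 15 11 0 inv D E RW sp i (by
      have := allR_zero _ _ ck0 i hi
      rw [rf0] at this
      exact this)
  · exact ckE_sound 120 127 7 15 11 1 inv D E RW sp i (by
      have := allR_zero _ _ ck1 i hi
      rw [rf1] at this
      exact this)
  · exact ckE_sound 120 127 7 15 11 2 inv D E RW sp i (by
      have := allR_zero _ _ ck2 i hi
      rw [rf2] at this
      exact this)
  · exact ckE_sound 120 127 7 15 11 3 inv D E RW sp i (by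
      have := allR_zero _ _ ck3 i hi
      rw [rf3] at this
      exact this)
  · exact ckE_sound 120 127 7 15 11 4 inv D E RW sp i (by
      have := allR_zero _ _ ck4 i hi
      rw [rf4] at this
      exact this)
  · exact ckE_sound 120 127 7 15 11 5 inv D E RW sp i (by
      have := allR_zero _ _ ck5 i hi
      rw [rf5] at this
      exact this)
  · exact ckE_sound 120 127 7 15 11 6 inv D E RW sp i (by
      have := allR_zero _ _ ck6 i hi
      rw [rf6] at this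
      exact this)
  · exact ckE_sound 120 127 7 15 11 7 inv D E RW sp i (by
      have := allR_zero _ _ ck7 i hi
      rw [rf7] at this
      exact this)
  · exact ckE_sound 120 127 7 15 11 8 inv D E RW sp i (by
      have := allR_zero _ _ ck8 i hi
      rw [rf8] at this
      exact this)
theorem sp0k : ckSub (nat_lit 127) (nat_lit 11) E0 [] [] (nat_lit 0) = true := by decide +kernel
theorem sp0 {G : Type*} [Group G] (H : Subgroup G) (s : Nat → G) (hinv : ∀ l, s l = (s l)⁻¹) (h31 : s 31 = 1)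
    (hrels : ∀ W ∈ rels, (W.map s).prod = 1) (hsub : ∀ w ∈ subw, (w.map s).prod ∈ H)
    (htgt : ∀ l < 9, ∀ i < 120, Nat.land (E l i) 127 < 120)
    (hlow : ∀ l' < 9, ∀ i' < 120, E l' i' < Nat.shiftLeft (Nat.shiftRight (E 0 0) 11) 11 →
      EdgeP H s (repOf s D) E 127 l' i') : EdgeP H s (repOf s D) E 127 0 0 := by
  have h1 := ckSub_sound E 127 11 0 0 [] [] sp0k
  exact special_sub H s (repOf s D) E 127 120 9 _ htgt hlow (repOf_zero s D) [] [] 0 0 (by decide) (by decide)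
    (by decide) (by decide) (hsub _ (by decide)) h1.1 h1.2
theorem sp2k : ckSub (nat_lit 127) (nat_lit 11) E2 [] [] (nat_lit 0) = true := by decide +kernel
theorem sp2 {G : Type*} [Group G] (H : Subgroup G) (s : Nat → G) (hinv : ∀ l, s l = (s l)⁻¹) (h31 : s 31 = 1)
    (hrels : ∀ W ∈ rels, (W.map s).prod = 1) (hsub : ∀ w ∈ subw, (w.map s).prod ∈ H)
    (htgt : ∀ l < 9, ∀ i < 120, Nat.land (E l i) 127 < 120)
    (hlow : ∀ l' < 9, ∀ i' < 120, E l' i' < Nat.shiftLeft (Nat.shiftRight (E 2 0) 11) 11 →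
      EdgeP H s (repOf s D) E 127 l' i') : EdgeP H s (repOf s D) E 127 2 0 := by
  have h1 := ckSub_sound E 127 11 2 0 [] [] sp2k
  exact special_sub H s (repOf s D) E 127 120 9 _ htgt hlow (repOf_zero s D) [] [] 2 0 (by decide) (by decide)
    (by decide) (by decide) (hsub _ (by decide)) h1.1 h1.2
theorem sp3k : ckSub (nat_lit 127) (nat_lit 11) E3 [] [] (nat_lit 0) = true := by decide +kernel
theorem sp3 {G : Type*} [Group G] (H : Subgroup G) (s : Nat → G) (hinv : ∀ l, s l = (s l)⁻¹) (h31 : s 31 = 1)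
    (hrels : ∀ W ∈ rels, (W.map s).prod = 1) (hsub : ∀ w ∈ subw, (w.map s).prod ∈ H)
    (htgt : ∀ l < 9, ∀ i < 120, Nat.land (E l i) 127 < 120)
    (hlow : ∀ l' < 9, ∀ i' < 120, E l' i' < Nat.shiftLeft (Nat.shiftRight (E 3 0) 11) 11 →
      EdgeP H s (repOf s D) E 127 l' i') : EdgeP H s (repOf s D) E 127 3 0 := by
  have h1 := ckSub_sound E 127 11 3 0 [] [] sp3k
  exact special_sub H s (repOf s D) E 127 120 9 _ htgt hlow (repOf_zero s D) [] [] 3 0 (by decide) (by decide)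
    (by decide) (by decide) (hsub _ (by decide)) h1.1 h1.2
theorem sp4k : ckSub (nat_lit 127) (nat_lit 11) E4 [] [] (nat_lit 0) = true := by decide +kernel
theorem sp4 {G : Type*} [Group G] (H : Subgroup G) (s : Nat → G) (hinv : ∀ l, s l = (s l)⁻¹) (h31 : s 31 = 1)
    (hrels : ∀ W ∈ rels, (W.map s).prod = 1) (hsub : ∀ w ∈ subw, (w.map s).prod ∈ H)
    (htgt : ∀ l < 9, ∀ i < 120, Nat.land (E l i) 127 < 120)
    (hlow : ∀ l' < 9, ∀ i' < 120, E l' i' < Nat.shiftLeft (Nat.shiftRight (E 4 0) 11) 11 →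
      EdgeP H s (repOf s D) E 127 l' i') : EdgeP H s (repOf s D) E 127 4 0 := by
  have h1 := ckSub_sound E 127 11 4 0 [] [] sp4k
  exact special_sub H s (repOf s D) E 127 120 9 _ htgt hlow (repOf_zero s D) [] [] 4 0 (by decide) (by decide)
    (by decide) (by decide) (hsub _ (by decide)) h1.1 h1.2
theorem sp5k : ckSub (nat_lit 127) (nat_lit 11) E5 [] [] (nat_lit 0) = true := by decide +kernel
theorem sp5 {G : Type*} [Group G] (H : Subgroup G) (s : Nat → G) (hinv : ∀ l, s l = (s l)⁻¹) (h31 : s 31 = 1)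
    (hrels : ∀ W ∈ rels, (W.map s).prod = 1) (hsub : ∀ w ∈ subw, (w.map s).prod ∈ H)
    (htgt : ∀ l < 9, ∀ i < 120, Nat.land (E l i) 127 < 120)
    (hlow : ∀ l' < 9, ∀ i' < 120, E l' i' < Nat.shiftLeft (Nat.shiftRight (E 5 0) 11) 11 →
      EdgeP H s (repOf s D) E 127 l' i') : EdgeP H s (repOf s D) E 127 5 0 := by
  have h1 := ckSub_sound E 127 11 5 0 [] [] sp5k
  exact special_sub H s (repOf s D) E 127 120 9 _ htgt hlow (repOf_zero s D) [] [] 5 0 (by decide) (by decide)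
    (by decide) (by decide) (hsub _ (by decide)) h1.1 h1.2
theorem sp6k : ckSub (nat_lit 127) (nat_lit 11) E6 [] [] (nat_lit 0) = true := by decide +kernel
theorem sp6 {G : Type*} [Group G] (H : Subgroup G) (s : Nat → G) (hinv : ∀ l, s l = (s l)⁻¹) (h31 : s 31 = 1)
    (hrels : ∀ W ∈ rels, (W.map s).prod = 1) (hsub : ∀ w ∈ subw, (w.map s).prod ∈ H)
    (htgt : ∀ l < 9, ∀ i < 120, Nat.land (E l i) 127 < 120)
    (hlow : ∀ l' < 9, ∀ i' < 120, E l' i' < Nat.shiftLeft (Nat.shiftRight (E 6 0) 11) 11 →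
      EdgeP H s (repOf s D) E 127 l' i') : EdgeP H s (repOf s D) E 127 6 0 := by
  have h1 := ckSub_sound E 127 11 6 0 [] [] sp6k
  exact special_sub H s (repOf s D) E 127 120 9 _ htgt hlow (repOf_zero s D) [] [] 6 0 (by decide) (by decide)
    (by decide) (by decide) (hsub _ (by decide)) h1.1 h1.2
theorem sp7k : ckSub (nat_lit 127) (nat_lit 11) E7 [] [] (nat_lit 0) = true := by decide +kernel
theorem sp7 {G : Type*} [Group G] (H : Subgroup G) (s : Nat → G) (hinv : ∀ l, s l = (s l)⁻¹) (h31 : s 31 = 1)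
    (hrels : ∀ W ∈ rels, (W.map s).prod = 1) (hsub : ∀ w ∈ subw, (w.map s).prod ∈ H)
    (htgt : ∀ l < 9, ∀ i < 120, Nat.land (E l i) 127 < 120)
    (hlow : ∀ l' < 9, ∀ i' < 120, E l' i' < Nat.shiftLeft (Nat.shiftRight (E 7 0) 11) 11 →
      EdgeP H s (repOf s D) E 127 l' i') : EdgeP H s (repOf s D) E 127 7 0 := by
  have h1 := ckSub_sound E 127 11 7 0 [] [] sp7k
  exact special_sub H s (repOf s D) E 127 120 9 _ htgt hlow (repOf_zero s D) [] [] 7 0 (by decide) (by decide)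
    (by decide) (by decide) (hsub _ (by decide)) h1.1 h1.2
theorem sp8k : ckSub (nat_lit 127) (nat_lit 11) E8 [] [] (nat_lit 0) = true := by decide +kernel
theorem sp8 {G : Type*} [Group G] (H : Subgroup G) (s : Nat → G) (hinv : ∀ l, s l = (s l)⁻¹) (h31 : s 31 = 1)
    (hrels : ∀ W ∈ rels, (W.map s).prod = 1) (hsub : ∀ w ∈ subw, (w.map s).prod ∈ H)
    (htgt : ∀ l < 9, ∀ i < 120, Nat.land (E l i) 127 < 120)
    (hlow : ∀ l' < 9, ∀ i' < 120, E l' i' < Nat.shiftLeft (Nat.shiftRight (E 8 0) 11) 11 →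
      EdgeP H s (repOf s D) E 127 l' i') : EdgeP H s (repOf s D) E 127 8 0 := by
  have h1 := ckSub_sound E 127 11 8 0 [] [] sp8k
  exact special_sub H s (repOf s D) E 127 120 9 _ htgt hlow (repOf_zero s D) [] [] 8 0 (by decide) (by decide)
    (by decide) (by decide) (hsub _ (by decide)) h1.1 h1.2

theorem htgt : ∀ l < 9, ∀ i < 120, Nat.land (E l i) 127 < 120 := fun l hl i hi => (edgeOK l hl i hi).1

theorem edges {G : Type*} [Group G] (H : Subgroup G) (s : Nat → G) (hinv : ∀ l, s l = (s l)⁻¹) (h31 : s 31 = 1)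
    (hrels : ∀ W ∈ rels, (W.map s).prod = 1) (hsub : ∀ w ∈ subw, (w.map s).prod ∈ H) :
    ∀ l < 9, ∀ i < 120, EdgeP H s (repOf s D) E 127 l i := by
  refine edges_correct H s E 127 120 9 11 7 15 inv D RW sp (by decide) (fun l hl => hl) (fun l _ => hinv l)
    ?_ ?_ ?_ edgeOK
  · intro l hl w hw
    interval_cases l
    · exact (ckRels_sound 9 inv rels 0 RW0 RC0 rc0 w hw).1
    · exact (ckRels_sound 9 inv rels 1 RW1 RC1 rc1 w hw).1
    · exact (ckRels_sound 9 inv rels 2 RW2 RC2 rc2 w hw).1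
    · exact (ckRels_sound 9 inv rels 3 RW3 RC3 rc3 w hw).1
    · exact (ckRels_sound 9 inv rels 4 RW4 RC4 rc4 w hw).1
    · exact (ckRels_sound 9 inv rels 5 RW5 RC5 rc5 w hw).1
    · exact (ckRels_sound 9 inv rels 6 RW6 RC6 rc6 w hw).1
    · exact (ckRels_sound 9 inv rels 7 RW7 RC7 rc7 w hw).1
    · exact (ckRels_sound 9 inv rels 8 RW8 RC8 rc8 w hw).1
  · intro l hl w hw
    interval_cases l
    · obtain ⟨_, c, hc⟩ := ckRels_sound 9 inv rels 0 RW0 RC0 rc0 w hw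
      exact ckRel_sound s inv rels hrels 0 w c (fun l' _ => hinv l') hc
    · obtain ⟨_, c, hc⟩ := ckRels_sound 9 inv rels 1 RW1 RC1 rc1 w hw
      exact ckRel_sound s inv rels hrels 1 w c (fun l' _ => hinv l') hc
    · obtain ⟨_, c, hc⟩ := ckRels_sound 9 inv rels 2 RW2 RC2 rc2 w hw
      exact ckRel_sound s inv rels hrels 2 w c (fun l' _ => hinv l') hc
    · obtain ⟨_, c, hc⟩ := ckRels_sound 9 inv rels 3 RW3 RC3 rc3 w hw
      exact ckRel_sound s inv rels hrels 3 w c (fun l' _ => hinv l') hc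
    · obtain ⟨_, c, hc⟩ := ckRels_sound 9 inv rels 4 RW4 RC4 rc4 w hw
      exact ckRel_sound s inv rels hrels 4 w c (fun l' _ => hinv l') hc
    · obtain ⟨_, c, hc⟩ := ckRels_sound 9 inv rels 5 RW5 RC5 rc5 w hw
      exact ckRel_sound s inv rels hrels 5 w c (fun l' _ => hinv l') hc
    · obtain ⟨_, c, hc⟩ := ckRels_sound 9 inv rels 6 RW6 RC6 rc6 w hw
      exact ckRel_sound s inv rels hrels 6 w c (fun l' _ => hinv l') hc
    · obtain ⟨_, c, hc⟩ := ckRels_sound 9 inv rels 7 RW7 RC7 rc7 w hw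
      exact ckRel_sound s inv rels hrels 7 w c (fun l' _ => hinv l') hc
    · obtain ⟨_, c, hc⟩ := ckRels_sound 9 inv rels 8 RW8 RC8 rc8 w hw
      exact ckRel_sound s inv rels hrels 8 w c (fun l' _ => hinv l') hc
  · refine hsp_of H s (repOf s D) E 127 120 9 11 sp (by decide) ?_
    refine List.forall_mem_cons.2 ⟨fun _ _ h => sp0 H s hinv h31 hrels hsub htgt h, ?_⟩
    refine List.forall_mem_cons.2 ⟨fun _ _ h => sp2 H s hinv h31 hrels hsub htgt h, ?_⟩
    refine List.forall_mem_cons.2 ⟨fun _ _ h => sp3 H s hinv h31 hrels hsub htgt h, ?_⟩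
    refine List.forall_mem_cons.2 ⟨fun _ _ h => sp4 H s hinv h31 hrels hsub htgt h, ?_⟩
    refine List.forall_mem_cons.2 ⟨fun _ _ h => sp5 H s hinv h31 hrels hsub htgt h, ?_⟩
    refine List.forall_mem_cons.2 ⟨fun _ _ h => sp6 H s hinv h31 hrels hsub htgt h, ?_⟩
    refine List.forall_mem_cons.2 ⟨fun _ _ h => sp7 H s hinv h31 hrels hsub htgt h, ?_⟩
    refine List.forall_mem_cons.2 ⟨fun _ _ h => sp8 H s hinv h31 hrels hsub htgt h, ?_⟩
    intro c hc
    exact absurd hc List.not_mem_nil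

theorem covers {G : Type*} [Group G] (s : Nat → G) (hinv : ∀ l, s l = (s l)⁻¹) (h31 : s 31 = 1)
    (hrels2 : ∀ p ∈ rels2, ((p.1.map s).prod) ^ p.2 = 1) (H : Subgroup G) (hsub : ∀ w ∈ subw, (w.map s).prod ∈ H) :
    ∀ g ∈ letterGroup s 9, ∀ i < 120, ∃ j < 120, repOf s D i * g * (repOf s D j)⁻¹ ∈ H :=
  cover H s (repOf s D) E 127 120 9 inv (fun l hl => hl) (fun l _ => hinv l) htgt
    (edges H s hinv h31 (hrels_of s rels2 hrels2) hsub)

theorem upper {G : Type*} [Group G] (s : Nat → G) (hinv : ∀ l, s l = (s l)⁻¹) (h31 : s 31 = 1)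
    (hrels2 : ∀ p ∈ rels2, ((p.1.map s).prod) ^ p.2 = 1) (H : Subgroup G) (hsub : ∀ w ∈ subw, (w.map s).prod ∈ H)
    (hH : Finite H) : Finite (letterGroup s 9) ∧ Nat.card (letterGroup s 9) ≤ 120 * Nat.card H :=
  card_le_of_cover H (repOf s D) 120 (by decide) (repOf_zero s D) _
    (covers s hinv h31 hrels2 H hsub) hH

theorem upperIndex {G : Type*} [Group G] (s : Nat → G) (hinv : ∀ l, s l = (s l)⁻¹) (h31 : s 31 = 1)
    (hrels2 : ∀ p ∈ rels2, ((p.1.map s).prod) ^ p.2 = 1) (H : Subgroup G) (hsub : ∀ w ∈ subw, (w.map s).prod ∈ H)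
    (htop : letterGroup s 9 = ⊤) : H.FiniteIndex ∧ H.index ≤ 120 :=
  index_le_of_cover H (repOf s D) 120 (by decide) (repOf_zero s D)
    (fun g => covers s hinv h31 hrels2 H hsub g (by rw [htop]; exact Subgroup.mem_top g))


end Cfsg.Agent.H8.E8t
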