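import Cfsg.Agent.H8.T.Fi22Oa

set_option Elab.async false
set_option autoImplicit false
set_option linter.all false
set_option maxRecDepth 100000
set_option maxHeartbeats 400000

namespace Cfsg.Agent.H8.Fi22O
open Cfsg.Agent.H8.Fi22bt (T0 T1 T2 T3 T4 T5 T6 T7 T8)

theorem pk0_0 : allR (ckPerm (nat_lit 3510) X0 X1) (nat_lit 0) (nat_lit 1755) = true := by decide +kernel
theorem pk0_1 : allR (ckPerm (nat_lit 3510) X0 X1) (nat_lit 1755) (nat_lit 1755) = true := by decide +kernel
theorem pk1_0 : allR (ckPerm (nat_lit 3510) X1 X0) (nat_lit 0) (nat_lit 1755) = true := by decide +kernel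
theorem pk1_1 : allR (ckPerm (nat_lit 3510) X1 X0) (nat_lit 1755) (nat_lit 1755) = true := by decide +kernel
theorem pk2_0 : allR (ckPerm (nat_lit 3510) X2 X3) (nat_lit 0) (nat_lit 1755) = true := by decide +kernel
theorem pk2_1 : allR (ckPerm (nat_lit 3510) X2 X3) (nat_lit 1755) (nat_lit 1755) = true := by decide +kernel
theorem pk3_0 : allR (ckPerm (nat_lit 3510) X3 X2) (nat_lit 0) (nat_lit 1755) = true := by decide +kernel
theorem pk3_1 : allR (ckPerm (nat_lit 3510) X3 X2) (nat_lit 1755) (nat_lit 1755) = true := by decide +kernel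
theorem pk4_0 : allR (ckPerm (nat_lit 3510) X4 X5) (nat_lit 0) (nat_lit 1755) = true := by decide +kernel
theorem pk4_1 : allR (ckPerm (nat_lit 3510) X4 X5) (nat_lit 1755) (nat_lit 1755) = true := by decide +kernel
theorem pk5_0 : allR (ckPerm (nat_lit 3510) X5 X4) (nat_lit 0) (nat_lit 1755) = true := by decide +kernel
theorem pk5_1 : allR (ckPerm (nat_lit 3510) X5 X4) (nat_lit 1755) (nat_lit 1755) = true := by decide +kernel
theorem pk6_0 : allR (ckPerm (nat_lit 3510) X6 X7) (nat_lit 0) (nat_lit 1755) = true := by decide +kernel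
theorem pk6_1 : allR (ckPerm (nat_lit 3510) X6 X7) (nat_lit 1755) (nat_lit 1755) = true := by decide +kernel
theorem pk7_0 : allR (ckPerm (nat_lit 3510) X7 X6) (nat_lit 0) (nat_lit 1755) = true := by decide +kernel
theorem pk7_1 : allR (ckPerm (nat_lit 3510) X7 X6) (nat_lit 1755) (nat_lit 1755) = true := by decide +kernel
theorem pk8_0 : allR (ckPerm (nat_lit 3510) X8 X9) (nat_lit 0) (nat_lit 1755) = true := by decide +kernel
theorem pk8_1 : allR (ckPerm (nat_lit 3510) X8 X9) (nat_lit 1755) (nat_lit 1755) = true := by decide +kernel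
theorem pk9_0 : allR (ckPerm (nat_lit 3510) X9 X8) (nat_lit 0) (nat_lit 1755) = true := by decide +kernel
theorem pk9_1 : allR (ckPerm (nat_lit 3510) X9 X8) (nat_lit 1755) (nat_lit 1755) = true := by decide +kernel
theorem pk10_0 : allR (ckPerm (nat_lit 3510) X10 X11) (nat_lit 0) (nat_lit 1755) = true := by decide +kernel
theorem pk10_1 : allR (ckPerm (nat_lit 3510) X10 X11) (nat_lit 1755) (nat_lit 1755) = true := by decide +kernel
theorem pk11_0 : allR (ckPerm (nat_lit 3510) X11 X10) (nat_lit 0) (nat_lit 1755) = true := by decide +kernel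
theorem pk11_1 : allR (ckPerm (nat_lit 3510) X11 X10) (nat_lit 1755) (nat_lit 1755) = true := by decide +kernel
theorem pk12_0 : allR (ckPerm (nat_lit 3510) X12 X13) (nat_lit 0) (nat_lit 1755) = true := by decide +kernel
theorem pk12_1 : allR (ckPerm (nat_lit 3510) X12 X13) (nat_lit 1755) (nat_lit 1755) = true := by decide +kernel
theorem pk13_0 : allR (ckPerm (nat_lit 3510) X13 X12) (nat_lit 0) (nat_lit 1755) = true := by decide +kernel
theorem pk13_1 : allR (ckPerm (nat_lit 3510) X13 X12) (nat_lit 1755) (nat_lit 1755) = true := by decide +kernel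
theorem pk14_0 : allR (ckPerm (nat_lit 3510) X14 X15) (nat_lit 0) (nat_lit 1755) = true := by decide +kernel
theorem pk14_1 : allR (ckPerm (nat_lit 3510) X14 X15) (nat_lit 1755) (nat_lit 1755) = true := by decide +kernel
theorem pk15_0 : allR (ckPerm (nat_lit 3510) X15 X14) (nat_lit 0) (nat_lit 1755) = true := by decide +kernel
theorem pk15_1 : allR (ckPerm (nat_lit 3510) X15 X14) (nat_lit 1755) (nat_lit 1755) = true := by decide +kernel
theorem pk16_0 : allR (ckPerm (nat_lit 3510) X16 X17) (nat_lit 0) (nat_lit 1755) = true := by decide +kernel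
theorem pk16_1 : allR (ckPerm (nat_lit 3510) X16 X17) (nat_lit 1755) (nat_lit 1755) = true := by decide +kernel
theorem pk17_0 : allR (ckPerm (nat_lit 3510) X17 X16) (nat_lit 0) (nat_lit 1755) = true := by decide +kernel
theorem pk17_1 : allR (ckPerm (nat_lit 3510) X17 X16) (nat_lit 1755) (nat_lit 1755) = true := by decide +kernel
theorem pk18_0 : allR (ckPerm (nat_lit 3510) X18 X19) (nat_lit 0) (nat_lit 1755) = true := by decide +kernel
theorem pk18_1 : allR (ckPerm (nat_lit 3510) X18 X19) (nat_lit 1755) (nat_lit 1755) = true := by decide +kernel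
theorem pk19_0 : allR (ckPerm (nat_lit 3510) X19 X18) (nat_lit 0) (nat_lit 1755) = true := by decide +kernel
theorem pk19_1 : allR (ckPerm (nat_lit 3510) X19 X18) (nat_lit 1755) (nat_lit 1755) = true := by decide +kernel
theorem pk20_0 : allR (ckPerm (nat_lit 3510) X20 X21) (nat_lit 0) (nat_lit 1755) = true := by decide +kernel
theorem pk20_1 : allR (ckPerm (nat_lit 3510) X20 X21) (nat_lit 1755) (nat_lit 1755) = true := by decide +kernel
theorem pk21_0 : allR (ckPerm (nat_lit 3510) X21 X20) (nat_lit 0) (nat_lit 1755) = true := by decide +kernel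
theorem pk21_1 : allR (ckPerm (nat_lit 3510) X21 X20) (nat_lit 1755) (nat_lit 1755) = true := by decide +kernel
theorem pk22_0 : allR (ckPerm (nat_lit 3510) X22 X23) (nat_lit 0) (nat_lit 1755) = true := by decide +kernel
theorem pk22_1 : allR (ckPerm (nat_lit 3510) X22 X23) (nat_lit 1755) (nat_lit 1755) = true := by decide +kernel
theorem pk23_0 : allR (ckPerm (nat_lit 3510) X23 X22) (nat_lit 0) (nat_lit 1755) = true := by decide +kernel
theorem pk23_1 : allR (ckPerm (nat_lit 3510) X23 X22) (nat_lit 1755) (nat_lit 1755) = true := by decide +kernel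
theorem pk24_0 : allR (ckPerm (nat_lit 3510) X24 X25) (nat_lit 0) (nat_lit 1755) = true := by decide +kernel
theorem pk24_1 : allR (ckPerm (nat_lit 3510) X24 X25) (nat_lit 1755) (nat_lit 1755) = true := by decide +kernel
theorem pk25_0 : allR (ckPerm (nat_lit 3510) X25 X24) (nat_lit 0) (nat_lit 1755) = true := by decide +kernel
theorem pk25_1 : allR (ckPerm (nat_lit 3510) X25 X24) (nat_lit 1755) (nat_lit 1755) = true := by decide +kernel
theorem pk26_0 : allR (ckPerm (nat_lit 3510) X26 X27) (nat_lit 0) (nat_lit 1755) = true := by decide +kernel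
theorem pk26_1 : allR (ckPerm (nat_lit 3510) X26 X27) (nat_lit 1755) (nat_lit 1755) = true := by decide +kernel
theorem pk27_0 : allR (ckPerm (nat_lit 3510) X27 X26) (nat_lit 0) (nat_lit 1755) = true := by decide +kernel
theorem pk27_1 : allR (ckPerm (nat_lit 3510) X27 X26) (nat_lit 1755) (nat_lit 1755) = true := by decide +kernel
theorem pk28_0 : allR (ckPerm (nat_lit 3510) X28 X29) (nat_lit 0) (nat_lit 1755) = true := by decide +kernel
theorem pk28_1 : allR (ckPerm (nat_lit 3510) X28 X29) (nat_lit 1755) (nat_lit 1755) = true := by decide +kernel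
theorem pk29_0 : allR (ckPerm (nat_lit 3510) X29 X28) (nat_lit 0) (nat_lit 1755) = true := by decide +kernel
theorem pk29_1 : allR (ckPerm (nat_lit 3510) X29 X28) (nat_lit 1755) (nat_lit 1755) = true := by decide +kernel
theorem pk30_0 : allR (ckPerm (nat_lit 3510) X30 X31) (nat_lit 0) (nat_lit 1755) = true := by decide +kernel
theorem pk30_1 : allR (ckPerm (nat_lit 3510) X30 X31) (nat_lit 1755) (nat_lit 1755) = true := by decide +kernel
theorem pk31_0 : allR (ckPerm (nat_lit 3510) X31 X30) (nat_lit 0) (nat_lit 1755) = true := by decide +kernel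
theorem pk31_1 : allR (ckPerm (nat_lit 3510) X31 X30) (nat_lit 1755) (nat_lit 1755) = true := by decide +kernel
theorem pk32_0 : allR (ckPerm (nat_lit 3510) X32 X33) (nat_lit 0) (nat_lit 1755) = true := by decide +kernel
theorem pk32_1 : allR (ckPerm (nat_lit 3510) X32 X33) (nat_lit 1755) (nat_lit 1755) = true := by decide +kernel
theorem pk33_0 : allR (ckPerm (nat_lit 3510) X33 X32) (nat_lit 0) (nat_lit 1755) = true := by decide +kernel
theorem pk33_1 : allR (ckPerm (nat_lit 3510) X33 X32) (nat_lit 1755) (nat_lit 1755) = true := by decide +kernel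
theorem pk34_0 : allR (ckPerm (nat_lit 3510) X34 X35) (nat_lit 0) (nat_lit 1755) = true := by decide +kernel
theorem pk34_1 : allR (ckPerm (nat_lit 3510) X34 X35) (nat_lit 1755) (nat_lit 1755) = true := by decide +kernel
theorem pk35_0 : allR (ckPerm (nat_lit 3510) X35 X34) (nat_lit 0) (nat_lit 1755) = true := by decide +kernel
theorem pk35_1 : allR (ckPerm (nat_lit 3510) X35 X34) (nat_lit 1755) (nat_lit 1755) = true := by decide +kernel
theorem pk36_0 : allR (ckPerm (nat_lit 3510) X36 X37) (nat_lit 0) (nat_lit 1755) = true := by decide +kernel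
theorem pk36_1 : allR (ckPerm (nat_lit 3510) X36 X37) (nat_lit 1755) (nat_lit 1755) = true := by decide +kernel
theorem pk37_0 : allR (ckPerm (nat_lit 3510) X37 X36) (nat_lit 0) (nat_lit 1755) = true := by decide +kernel
theorem pk37_1 : allR (ckPerm (nat_lit 3510) X37 X36) (nat_lit 1755) (nat_lit 1755) = true := by decide +kernel
theorem pk38_0 : allR (ckPerm (nat_lit 3510) X38 X39) (nat_lit 0) (nat_lit 1755) = true := by decide +kernel
theorem pk38_1 : allR (ckPerm (nat_lit 3510) X38 X39) (nat_lit 1755) (nat_lit 1755) = true := by decide +kernel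
theorem pk39_0 : allR (ckPerm (nat_lit 3510) X39 X38) (nat_lit 0) (nat_lit 1755) = true := by decide +kernel
theorem pk39_1 : allR (ckPerm (nat_lit 3510) X39 X38) (nat_lit 1755) (nat_lit 1755) = true := by decide +kernel
theorem pk40_0 : allR (ckPerm (nat_lit 3510) X40 X41) (nat_lit 0) (nat_lit 1755) = true := by decide +kernel
theorem pk40_1 : allR (ckPerm (nat_lit 3510) X40 X41) (nat_lit 1755) (nat_lit 1755) = true := by decide +kernel
theorem pk41_0 : allR (ckPerm (nat_lit 3510) X41 X40) (nat_lit 0) (nat_lit 1755) = true := by decide +kernel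
theorem pk41_1 : allR (ckPerm (nat_lit 3510) X41 X40) (nat_lit 1755) (nat_lit 1755) = true := by decide +kernel
theorem pk42_0 : allR (ckPerm (nat_lit 3510) X42 X43) (nat_lit 0) (nat_lit 1755) = true := by decide +kernel
theorem pk42_1 : allR (ckPerm (nat_lit 3510) X42 X43) (nat_lit 1755) (nat_lit 1755) = true := by decide +kernel
theorem pk43_0 : allR (ckPerm (nat_lit 3510) X43 X42) (nat_lit 0) (nat_lit 1755) = true := by decide +kernel
theorem pk43_1 : allR (ckPerm (nat_lit 3510) X43 X42) (nat_lit 1755) (nat_lit 1755) = true := by decide +kernel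
theorem pk44_0 : allR (ckPerm (nat_lit 3510) X44 X45) (nat_lit 0) (nat_lit 1755) = true := by decide +kernel
theorem pk44_1 : allR (ckPerm (nat_lit 3510) X44 X45) (nat_lit 1755) (nat_lit 1755) = true := by decide +kernel
theorem pk45_0 : allR (ckPerm (nat_lit 3510) X45 X44) (nat_lit 0) (nat_lit 1755) = true := by decide +kernel
theorem pk45_1 : allR (ckPerm (nat_lit 3510) X45 X44) (nat_lit 1755) (nat_lit 1755) = true := by decide +kernel
theorem pk46_0 : allR (ckPerm (nat_lit 3510) X46 X47) (nat_lit 0) (nat_lit 1755) = true := by decide +kernel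
theorem pk46_1 : allR (ckPerm (nat_lit 3510) X46 X47) (nat_lit 1755) (nat_lit 1755) = true := by decide +kernel
theorem pk47_0 : allR (ckPerm (nat_lit 3510) X47 X46) (nat_lit 0) (nat_lit 1755) = true := by decide +kernel
theorem pk47_1 : allR (ckPerm (nat_lit 3510) X47 X46) (nat_lit 1755) (nat_lit 1755) = true := by decide +kernel
theorem pk48_0 : allR (ckPerm (nat_lit 3510) X48 X49) (nat_lit 0) (nat_lit 1755) = true := by decide +kernel
theorem pk48_1 : allR (ckPerm (nat_lit 3510) X48 X49) (nat_lit 1755) (nat_lit 1755) = true := by decide +kernel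
theorem pk49_0 : allR (ckPerm (nat_lit 3510) X49 X48) (nat_lit 0) (nat_lit 1755) = true := by decide +kernel
theorem pk49_1 : allR (ckPerm (nat_lit 3510) X49 X48) (nat_lit 1755) (nat_lit 1755) = true := by decide +kernel
theorem pk50_0 : allR (ckPerm (nat_lit 3510) X50 X51) (nat_lit 0) (nat_lit 1755) = true := by decide +kernel
theorem pk50_1 : allR (ckPerm (nat_lit 3510) X50 X51) (nat_lit 1755) (nat_lit 1755) = true := by decide +kernel
theorem pk51_0 : allR (ckPerm (nat_lit 3510) X51 X50) (nat_lit 0) (nat_lit 1755) = true := by decide +kernel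
theorem pk51_1 : allR (ckPerm (nat_lit 3510) X51 X50) (nat_lit 1755) (nat_lit 1755) = true := by decide +kernel
theorem pk52_0 : allR (ckPerm (nat_lit 3510) X52 X53) (nat_lit 0) (nat_lit 1755) = true := by decide +kernel
theorem pk52_1 : allR (ckPerm (nat_lit 3510) X52 X53) (nat_lit 1755) (nat_lit 1755) = true := by decide +kernel
theorem pk53_0 : allR (ckPerm (nat_lit 3510) X53 X52) (nat_lit 0) (nat_lit 1755) = true := by decide +kernel
theorem pk53_1 : allR (ckPerm (nat_lit 3510) X53 X52) (nat_lit 1755) (nat_lit 1755) = true := by decide +kernel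
theorem pk54_0 : allR (ckPerm (nat_lit 3510) X54 X55) (nat_lit 0) (nat_lit 1755) = true := by decide +kernel
theorem pk54_1 : allR (ckPerm (nat_lit 3510) X54 X55) (nat_lit 1755) (nat_lit 1755) = true := by decide +kernel
theorem pk55_0 : allR (ckPerm (nat_lit 3510) X55 X54) (nat_lit 0) (nat_lit 1755) = true := by decide +kernel
theorem pk55_1 : allR (ckPerm (nat_lit 3510) X55 X54) (nat_lit 1755) (nat_lit 1755) = true := by decide +kernel
theorem pk56_0 : allR (ckPerm (nat_lit 3510) X56 X57) (nat_lit 0) (nat_lit 1755) = true := by decide +kernel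
theorem pk56_1 : allR (ckPerm (nat_lit 3510) X56 X57) (nat_lit 1755) (nat_lit 1755) = true := by decide +kernel
theorem pk57_0 : allR (ckPerm (nat_lit 3510) X57 X56) (nat_lit 0) (nat_lit 1755) = true := by decide +kernel
theorem pk57_1 : allR (ckPerm (nat_lit 3510) X57 X56) (nat_lit 1755) (nat_lit 1755) = true := by decide +kernel
theorem pk58_0 : allR (ckPerm (nat_lit 3510) X58 X59) (nat_lit 0) (nat_lit 1755) = true := by decide +kernel
theorem pk58_1 : allR (ckPerm (nat_lit 3510) X58 X59) (nat_lit 1755) (nat_lit 1755) = true := by decide +kernel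
theorem pk59_0 : allR (ckPerm (nat_lit 3510) X59 X58) (nat_lit 0) (nat_lit 1755) = true := by decide +kernel
theorem pk59_1 : allR (ckPerm (nat_lit 3510) X59 X58) (nat_lit 1755) (nat_lit 1755) = true := by decide +kernel
theorem pk60_0 : allR (ckPerm (nat_lit 3510) X60 X61) (nat_lit 0) (nat_lit 1755) = true := by decide +kernel
theorem pk60_1 : allR (ckPerm (nat_lit 3510) X60 X61) (nat_lit 1755) (nat_lit 1755) = true := by decide +kernel
theorem pk61_0 : allR (ckPerm (nat_lit 3510) X61 X60) (nat_lit 0) (nat_lit 1755) = true := by decide +kernel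
theorem pk61_1 : allR (ckPerm (nat_lit 3510) X61 X60) (nat_lit 1755) (nat_lit 1755) = true := by decide +kernel
theorem pk62_0 : allR (ckPerm (nat_lit 3510) X62 X63) (nat_lit 0) (nat_lit 1755) = true := by decide +kernel
theorem pk62_1 : allR (ckPerm (nat_lit 3510) X62 X63) (nat_lit 1755) (nat_lit 1755) = true := by decide +kernel
theorem pk63_0 : allR (ckPerm (nat_lit 3510) X63 X62) (nat_lit 0) (nat_lit 1755) = true := by decide +kernel
theorem pk63_1 : allR (ckPerm (nat_lit 3510) X63 X62) (nat_lit 1755) (nat_lit 1755) = true := by decide +kernel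
theorem pk64_0 : allR (ckPerm (nat_lit 3510) X64 X65) (nat_lit 0) (nat_lit 1755) = true := by decide +kernel
theorem pk64_1 : allR (ckPerm (nat_lit 3510) X64 X65) (nat_lit 1755) (nat_lit 1755) = true := by decide +kernel
theorem pk65_0 : allR (ckPerm (nat_lit 3510) X65 X64) (nat_lit 0) (nat_lit 1755) = true := by decide +kernel
theorem pk65_1 : allR (ckPerm (nat_lit 3510) X65 X64) (nat_lit 1755) (nat_lit 1755) = true := by decide +kernel
theorem pk66_0 : allR (ckPerm (nat_lit 3510) X66 X67) (nat_lit 0) (nat_lit 1755) = true := by decide +kernel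
theorem pk66_1 : allR (ckPerm (nat_lit 3510) X66 X67) (nat_lit 1755) (nat_lit 1755) = true := by decide +kernel
theorem pk67_0 : allR (ckPerm (nat_lit 3510) X67 X66) (nat_lit 0) (nat_lit 1755) = true := by decide +kernel
theorem pk67_1 : allR (ckPerm (nat_lit 3510) X67 X66) (nat_lit 1755) (nat_lit 1755) = true := by decide +kernel
theorem wk0_0 : allR (OT.ckEqW [T0, T1, T2, T3, T4, T5, T8, T7] [X0]) (nat_lit 0) (nat_lit 390) = true := by decide +kernel
theorem wk0_1 : allR (OT.ckEqW [T0, T1, T2, T3, T4, T5, T8, T7] [X0]) (nat_lit 390) (nat_lit 390) = true := by decide +kernel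
theorem wk0_2 : allR (OT.ckEqW [T0, T1, T2, T3, T4, T5, T8, T7] [X0]) (nat_lit 780) (nat_lit 390) = true := by decide +kernel
theorem wk0_3 : allR (OT.ckEqW [T0, T1, T2, T3, T4, T5, T8, T7] [X0]) (nat_lit 1170) (nat_lit 390) = true := by decide +kernel
theorem wk0_4 : allR (OT.ckEqW [T0, T1, T2, T3, T4, T5, T8, T7] [X0]) (nat_lit 1560) (nat_lit 390) = true := by decide +kernel
theorem wk0_5 : allR (OT.ckEqW [T0, T1, T2, T3, T4, T5, T8, T7] [X0]) (nat_lit 1950) (nat_lit 390) = true := by decide +kernel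
theorem wk0_6 : allR (OT.ckEqW [T0, T1, T2, T3, T4, T5, T8, T7] [X0]) (nat_lit 2340) (nat_lit 390) = true := by decide +kernel
theorem wk0_7 : allR (OT.ckEqW [T0, T1, T2, T3, T4, T5, T8, T7] [X0]) (nat_lit 2730) (nat_lit 390) = true := by decide +kernel
theorem wk0_8 : allR (OT.ckEqW [T0, T1, T2, T3, T4, T5, T8, T7] [X0]) (nat_lit 3120) (nat_lit 390) = true := by decide +kernel
theorem wk4_0 : allR (OT.ckEqW [X2, X4, X3, X3, X3, X4, X2, X4, X3] [X8]) (nat_lit 0) (nat_lit 351) = true := by decide +kernel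
theorem wk4_1 : allR (OT.ckEqW [X2, X4, X3, X3, X3, X4, X2, X4, X3] [X8]) (nat_lit 351) (nat_lit 351) = true := by decide +kernel
theorem wk4_2 : allR (OT.ckEqW [X2, X4, X3, X3, X3, X4, X2, X4, X3] [X8]) (nat_lit 702) (nat_lit 351) = true := by decide +kernel
theorem wk4_3 : allR (OT.ckEqW [X2, X4, X3, X3, X3, X4, X2, X4, X3] [X8]) (nat_lit 1053) (nat_lit 351) = true := by decide +kernel
theorem wk4_4 : allR (OT.ckEqW [X2, X4, X3, X3, X3, X4, X2, X4, X3] [X8]) (nat_lit 1404) (nat_lit 351) = true := by decide +kernel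
theorem wk4_5 : allR (OT.ckEqW [X2, X4, X3, X3, X3, X4, X2, X4, X3] [X8]) (nat_lit 1755) (nat_lit 351) = true := by decide +kernel
theorem wk4_6 : allR (OT.ckEqW [X2, X4, X3, X3, X3, X4, X2, X4, X3] [X8]) (nat_lit 2106) (nat_lit 351) = true := by decide +kernel
theorem wk4_7 : allR (OT.ckEqW [X2, X4, X3, X3, X3, X4, X2, X4, X3] [X8]) (nat_lit 2457) (nat_lit 351) = true := by decide +kernel
theorem wk4_8 : allR (OT.ckEqW [X2, X4, X3, X3, X3, X4, X2, X4, X3] [X8]) (nat_lit 2808) (nat_lit 351) = true := by decide +kernel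
theorem wk4_9 : allR (OT.ckEqW [X2, X4, X3, X3, X3, X4, X2, X4, X3] [X8]) (nat_lit 3159) (nat_lit 351) = true := by decide +kernel
theorem wk8_0 : allR (OT.ckEqW [X12, X11] [X16]) (nat_lit 0) (nat_lit 1170) = true := by decide +kernel
theorem wk8_1 : allR (OT.ckEqW [X12, X11] [X16]) (nat_lit 1170) (nat_lit 1170) = true := by decide +kernel
theorem wk8_2 : allR (OT.ckEqW [X12, X11] [X16]) (nat_lit 2340) (nat_lit 1170) = true := by decide +kernel
theorem wk10_0 : allR (OT.ckEqW [X15, X15, X11, X15, X11, X13, X11, X15, X11] [X20]) (nat_lit 0) (nat_lit 351) = true := by decide +kernel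
theorem wk10_1 : allR (OT.ckEqW [X15, X15, X11, X15, X11, X13, X11, X15, X11] [X20]) (nat_lit 351) (nat_lit 351) = true := by decide +kernel
theorem wk10_2 : allR (OT.ckEqW [X15, X15, X11, X15, X11, X13, X11, X15, X11] [X20]) (nat_lit 702) (nat_lit 351) = true := by decide +kernel
theorem wk10_3 : allR (OT.ckEqW [X15, X15, X11, X15, X11, X13, X11, X15, X11] [X20]) (nat_lit 1053) (nat_lit 351) = true := by decide +kernel
theorem wk10_4 : allR (OT.ckEqW [X15, X15, X11, X15, X11, X13, X11, X15, X11] [X20]) (nat_lit 1404) (nat_lit 351) = true := by decide +kernel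
theorem wk10_5 : allR (OT.ckEqW [X15, X15, X11, X15, X11, X13, X11, X15, X11] [X20]) (nat_lit 1755) (nat_lit 351) = true := by decide +kernel
theorem wk10_6 : allR (OT.ckEqW [X15, X15, X11, X15, X11, X13, X11, X15, X11] [X20]) (nat_lit 2106) (nat_lit 351) = true := by decide +kernel
theorem wk10_7 : allR (OT.ckEqW [X15, X15, X11, X15, X11, X13, X11, X15, X11] [X20]) (nat_lit 2457) (nat_lit 351) = true := by decide +kernel
theorem wk10_8 : allR (OT.ckEqW [X15, X15, X11, X15, X11, X13, X11, X15, X11] [X20]) (nat_lit 2808) (nat_lit 351) = true := by decide +kernel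
theorem wk10_9 : allR (OT.ckEqW [X15, X15, X11, X15, X11, X13, X11, X15, X11] [X20]) (nat_lit 3159) (nat_lit 351) = true := by decide +kernel
theorem wk13_0 : allR (OT.ckEqW [X22] [X26]) (nat_lit 0) (nat_lit 1755) = true := by decide +kernel
theorem wk13_1 : allR (OT.ckEqW [X22] [X26]) (nat_lit 1755) (nat_lit 1755) = true := by decide +kernel
theorem wk19_0 : allR (OT.ckEqW [X32, X32, X35, X32, X32, X34, X33, X33, X33, X33, X34, X34, X33, X33] [X38]) (nat_lit 0) (nat_lit 234) = true := by decide +kernel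
theorem wk19_1 : allR (OT.ckEqW [X32, X32, X35, X32, X32, X34, X33, X33, X33, X33, X34, X34, X33, X33] [X38]) (nat_lit 234) (nat_lit 234) = true := by decide +kernel
theorem wk19_2 : allR (OT.ckEqW [X32, X32, X35, X32, X32, X34, X33, X33, X33, X33, X34, X34, X33, X33] [X38]) (nat_lit 468) (nat_lit 234) = true := by decide +kernel
theorem wk19_3 : allR (OT.ckEqW [X32, X32, X35, X32, X32, X34, X33, X33, X33, X33, X34, X34, X33, X33] [X38]) (nat_lit 702) (nat_lit 234) = true := by decide +kernel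
theorem wk19_4 : allR (OT.ckEqW [X32, X32, X35, X32, X32, X34, X33, X33, X33, X33, X34, X34, X33, X33] [X38]) (nat_lit 936) (nat_lit 234) = true := by decide +kernel
theorem wk19_5 : allR (OT.ckEqW [X32, X32, X35, X32, X32, X34, X33, X33, X33, X33, X34, X34, X33, X33] [X38]) (nat_lit 1170) (nat_lit 234) = true := by decide +kernel
theorem wk19_6 : allR (OT.ckEqW [X32, X32, X35, X32, X32, X34, X33, X33, X33, X33, X34, X34, X33, X33] [X38]) (nat_lit 1404) (nat_lit 234) = true := by decide +kernel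
theorem wk19_7 : allR (OT.ckEqW [X32, X32, X35, X32, X32, X34, X33, X33, X33, X33, X34, X34, X33, X33] [X38]) (nat_lit 1638) (nat_lit 234) = true := by decide +kernel
theorem wk19_8 : allR (OT.ckEqW [X32, X32, X35, X32, X32, X34, X33, X33, X33, X33, X34, X34, X33, X33] [X38]) (nat_lit 1872) (nat_lit 234) = true := by decide +kernel
theorem wk19_9 : allR (OT.ckEqW [X32, X32, X35, X32, X32, X34, X33, X33, X33, X33, X34, X34, X33, X33] [X38]) (nat_lit 2106) (nat_lit 234) = true := by decide +kernel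
theorem wk19_10 : allR (OT.ckEqW [X32, X32, X35, X32, X32, X34, X33, X33, X33, X33, X34, X34, X33, X33] [X38]) (nat_lit 2340) (nat_lit 234) = true := by decide +kernel
theorem wk19_11 : allR (OT.ckEqW [X32, X32, X35, X32, X32, X34, X33, X33, X33, X33, X34, X34, X33, X33] [X38]) (nat_lit 2574) (nat_lit 234) = true := by decide +kernel
theorem wk19_12 : allR (OT.ckEqW [X32, X32, X35, X32, X32, X34, X33, X33, X33, X33, X34, X34, X33, X33] [X38]) (nat_lit 2808) (nat_lit 234) = true := by decide +kernel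
theorem wk19_13 : allR (OT.ckEqW [X32, X32, X35, X32, X32, X34, X33, X33, X33, X33, X34, X34, X33, X33] [X38]) (nat_lit 3042) (nat_lit 234) = true := by decide +kernel
theorem wk19_14 : allR (OT.ckEqW [X32, X32, X35, X32, X32, X34, X33, X33, X33, X33, X34, X34, X33, X33] [X38]) (nat_lit 3276) (nat_lit 234) = true := by decide +kernel
theorem wk26_0 : allR (OT.ckEqW [X48, X50, X49, X49, X50, X48, X48, X51, X51, X48, X51, X48, X51, X51] [X52]) (nat_lit 0) (nat_lit 234) = true := by decide +kernel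
theorem wk26_1 : allR (OT.ckEqW [X48, X50, X49, X49, X50, X48, X48, X51, X51, X48, X51, X48, X51, X51] [X52]) (nat_lit 234) (nat_lit 234) = true := by decide +kernel
theorem wk26_2 : allR (OT.ckEqW [X48, X50, X49, X49, X50, X48, X48, X51, X51, X48, X51, X48, X51, X51] [X52]) (nat_lit 468) (nat_lit 234) = true := by decide +kernel
theorem wk26_3 : allR (OT.ckEqW [X48, X50, X49, X49, X50, X48, X48, X51, X51, X48, X51, X48, X51, X51] [X52]) (nat_lit 702) (nat_lit 234) = true := by decide +kernel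
theorem wk26_4 : allR (OT.ckEqW [X48, X50, X49, X49, X50, X48, X48, X51, X51, X48, X51, X48, X51, X51] [X52]) (nat_lit 936) (nat_lit 234) = true := by decide +kernel
theorem wk26_5 : allR (OT.ckEqW [X48, X50, X49, X49, X50, X48, X48, X51, X51, X48, X51, X48, X51, X51] [X52]) (nat_lit 1170) (nat_lit 234) = true := by decide +kernel
theorem wk26_6 : allR (OT.ckEqW [X48, X50, X49, X49, X50, X48, X48, X51, X51, X48, X51, X48, X51, X51] [X52]) (nat_lit 1404) (nat_lit 234) = true := by decide +kernel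
theorem wk26_7 : allR (OT.ckEqW [X48, X50, X49, X49, X50, X48, X48, X51, X51, X48, X51, X48, X51, X51] [X52]) (nat_lit 1638) (nat_lit 234) = true := by decide +kernel
theorem wk26_8 : allR (OT.ckEqW [X48, X50, X49, X49, X50, X48, X48, X51, X51, X48, X51, X48, X51, X51] [X52]) (nat_lit 1872) (nat_lit 234) = true := by decide +kernel
theorem wk26_9 : allR (OT.ckEqW [X48, X50, X49, X49, X50, X48, X48, X51, X51, X48, X51, X48, X51, X51] [X52]) (nat_lit 2106) (nat_lit 234) = true := by decide +kernel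
theorem wk26_10 : allR (OT.ckEqW [X48, X50, X49, X49, X50, X48, X48, X51, X51, X48, X51, X48, X51, X51] [X52]) (nat_lit 2340) (nat_lit 234) = true := by decide +kernel
theorem wk26_11 : allR (OT.ckEqW [X48, X50, X49, X49, X50, X48, X48, X51, X51, X48, X51, X48, X51, X51] [X52]) (nat_lit 2574) (nat_lit 234) = true := by decide +kernel
theorem wk26_12 : allR (OT.ckEqW [X48, X50, X49, X49, X50, X48, X48, X51, X51, X48, X51, X48, X51, X51] [X52]) (nat_lit 2808) (nat_lit 234) = true := by decide +kernel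
theorem wk26_13 : allR (OT.ckEqW [X48, X50, X49, X49, X50, X48, X48, X51, X51, X48, X51, X48, X51, X51] [X52]) (nat_lit 3042) (nat_lit 234) = true := by decide +kernel
theorem wk26_14 : allR (OT.ckEqW [X48, X50, X49, X49, X50, X48, X48, X51, X51, X48, X51, X48, X51, X51] [X52]) (nat_lit 3276) (nat_lit 234) = true := by decide +kernel
theorem wk27_0 : allR (OT.ckEqW [X49, X50, X48, X51, X49, X51, X51, X49, X51, X48, X48, X48, X50, X49] [X54]) (nat_lit 0) (nat_lit 234) = true := by decide +kernel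
theorem wk27_1 : allR (OT.ckEqW [X49, X50, X48, X51, X49, X51, X51, X49, X51, X48, X48, X48, X50, X49] [X54]) (nat_lit 234) (nat_lit 234) = true := by decide +kernel
theorem wk27_2 : allR (OT.ckEqW [X49, X50, X48, X51, X49, X51, X51, X49, X51, X48, X48, X48, X50, X49] [X54]) (nat_lit 468) (nat_lit 234) = true := by decide +kernel
theorem wk27_3 : allR (OT.ckEqW [X49, X50, X48, X51, X49, X51, X51, X49, X51, X48, X48, X48, X50, X49] [X54]) (nat_lit 702) (nat_lit 234) = true := by decide +kernel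
theorem wk27_4 : allR (OT.ckEqW [X49, X50, X48, X51, X49, X51, X51, X49, X51, X48, X48, X48, X50, X49] [X54]) (nat_lit 936) (nat_lit 234) = true := by decide +kernel
theorem wk27_5 : allR (OT.ckEqW [X49, X50, X48, X51, X49, X51, X51, X49, X51, X48, X48, X48, X50, X49] [X54]) (nat_lit 1170) (nat_lit 234) = true := by decide +kernel
theorem wk27_6 : allR (OT.ckEqW [X49, X50, X48, X51, X49, X51, X51, X49, X51, X48, X48, X48, X50, X49] [X54]) (nat_lit 1404) (nat_lit 234) = true := by decide +kernel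
theorem wk27_7 : allR (OT.ckEqW [X49, X50, X48, X51, X49, X51, X51, X49, X51, X48, X48, X48, X50, X49] [X54]) (nat_lit 1638) (nat_lit 234) = true := by decide +kernel
theorem wk27_8 : allR (OT.ckEqW [X49, X50, X48, X51, X49, X51, X51, X49, X51, X48, X48, X48, X50, X49] [X54]) (nat_lit 1872) (nat_lit 234) = true := by decide +kernel
theorem wk27_9 : allR (OT.ckEqW [X49, X50, X48, X51, X49, X51, X51, X49, X51, X48, X48, X48, X50, X49] [X54]) (nat_lit 2106) (nat_lit 234) = true := by decide +kernel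
theorem wk27_10 : allR (OT.ckEqW [X49, X50, X48, X51, X49, X51, X51, X49, X51, X48, X48, X48, X50, X49] [X54]) (nat_lit 2340) (nat_lit 234) = true := by decide +kernel
theorem wk27_11 : allR (OT.ckEqW [X49, X50, X48, X51, X49, X51, X51, X49, X51, X48, X48, X48, X50, X49] [X54]) (nat_lit 2574) (nat_lit 234) = true := by decide +kernel
theorem wk27_12 : allR (OT.ckEqW [X49, X50, X48, X51, X49, X51, X51, X49, X51, X48, X48, X48, X50, X49] [X54]) (nat_lit 2808) (nat_lit 234) = true := by decide +kernel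
theorem wk27_13 : allR (OT.ckEqW [X49, X50, X48, X51, X49, X51, X51, X49, X51, X48, X48, X48, X50, X49] [X54]) (nat_lit 3042) (nat_lit 234) = true := by decide +kernel
theorem wk27_14 : allR (OT.ckEqW [X49, X50, X48, X51, X49, X51, X51, X49, X51, X48, X48, X48, X50, X49] [X54]) (nat_lit 3276) (nat_lit 234) = true := by decide +kernel
theorem wk28_0 : allR (OT.ckEqW [X54, X52, X52, X52, X54, X54, X54, X53, X55] [X56]) (nat_lit 0) (nat_lit 351) = true := by decide +kernel
theorem wk28_1 : allR (OT.ckEqW [X54, X52, X52, X52, X54, X54, X54, X53, X55] [X56]) (nat_lit 351) (nat_lit 351) = true := by decide +kernel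
theorem wk28_2 : allR (OT.ckEqW [X54, X52, X52, X52, X54, X54, X54, X53, X55] [X56]) (nat_lit 702) (nat_lit 351) = true := by decide +kernel
theorem wk28_3 : allR (OT.ckEqW [X54, X52, X52, X52, X54, X54, X54, X53, X55] [X56]) (nat_lit 1053) (nat_lit 351) = true := by decide +kernel
theorem wk28_4 : allR (OT.ckEqW [X54, X52, X52, X52, X54, X54, X54, X53, X55] [X56]) (nat_lit 1404) (nat_lit 351) = true := by decide +kernel
theorem wk28_5 : allR (OT.ckEqW [X54, X52, X52, X52, X54, X54, X54, X53, X55] [X56]) (nat_lit 1755) (nat_lit 351) = true := by decide +kernel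
theorem wk28_6 : allR (OT.ckEqW [X54, X52, X52, X52, X54, X54, X54, X53, X55] [X56]) (nat_lit 2106) (nat_lit 351) = true := by decide +kernel
theorem wk28_7 : allR (OT.ckEqW [X54, X52, X52, X52, X54, X54, X54, X53, X55] [X56]) (nat_lit 2457) (nat_lit 351) = true := by decide +kernel
theorem wk28_8 : allR (OT.ckEqW [X54, X52, X52, X52, X54, X54, X54, X53, X55] [X56]) (nat_lit 2808) (nat_lit 351) = true := by decide +kernel
theorem wk28_9 : allR (OT.ckEqW [X54, X52, X52, X52, X54, X54, X54, X53, X55] [X56]) (nat_lit 3159) (nat_lit 351) = true := by decide +kernel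
theorem wk30_0 : allR (OT.ckEqW [X54, X52, X55, X53, X54, X52, X52, X55, X52, X54, X53, X55, X55, X52] [X60]) (nat_lit 0) (nat_lit 234) = true := by decide +kernel
theorem wk30_1 : allR (OT.ckEqW [X54, X52, X55, X53, X54, X52, X52, X55, X52, X54, X53, X55, X55, X52] [X60]) (nat_lit 234) (nat_lit 234) = true := by decide +kernel
theorem wk30_2 : allR (OT.ckEqW [X54, X52, X55, X53, X54, X52, X52, X55, X52, X54, X53, X55, X55, X52] [X60]) (nat_lit 468) (nat_lit 234) = true := by decide +kernel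
theorem wk30_3 : allR (OT.ckEqW [X54, X52, X55, X53, X54, X52, X52, X55, X52, X54, X53, X55, X55, X52] [X60]) (nat_lit 702) (nat_lit 234) = true := by decide +kernel
theorem wk30_4 : allR (OT.ckEqW [X54, X52, X55, X53, X54, X52, X52, X55, X52, X54, X53, X55, X55, X52] [X60]) (nat_lit 936) (nat_lit 234) = true := by decide +kernel
theorem wk30_5 : allR (OT.ckEqW [X54, X52, X55, X53, X54, X52, X52, X55, X52, X54, X53, X55, X55, X52] [X60]) (nat_lit 1170) (nat_lit 234) = true := by decide +kernel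
theorem wk30_6 : allR (OT.ckEqW [X54, X52, X55, X53, X54, X52, X52, X55, X52, X54, X53, X55, X55, X52] [X60]) (nat_lit 1404) (nat_lit 234) = true := by decide +kernel
theorem wk30_7 : allR (OT.ckEqW [X54, X52, X55, X53, X54, X52, X52, X55, X52, X54, X53, X55, X55, X52] [X60]) (nat_lit 1638) (nat_lit 234) = true := by decide +kernel
theorem wk30_8 : allR (OT.ckEqW [X54, X52, X55, X53, X54, X52, X52, X55, X52, X54, X53, X55, X55, X52] [X60]) (nat_lit 1872) (nat_lit 234) = true := by decide +kernel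
theorem wk30_9 : allR (OT.ckEqW [X54, X52, X55, X53, X54, X52, X52, X55, X52, X54, X53, X55, X55, X52] [X60]) (nat_lit 2106) (nat_lit 234) = true := by decide +kernel
theorem wk30_10 : allR (OT.ckEqW [X54, X52, X55, X53, X54, X52, X52, X55, X52, X54, X53, X55, X55, X52] [X60]) (nat_lit 2340) (nat_lit 234) = true := by decide +kernel
theorem wk30_11 : allR (OT.ckEqW [X54, X52, X55, X53, X54, X52, X52, X55, X52, X54, X53, X55, X55, X52] [X60]) (nat_lit 2574) (nat_lit 234) = true := by decide +kernel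
theorem wk30_12 : allR (OT.ckEqW [X54, X52, X55, X53, X54, X52, X52, X55, X52, X54, X53, X55, X55, X52] [X60]) (nat_lit 2808) (nat_lit 234) = true := by decide +kernel
theorem wk30_13 : allR (OT.ckEqW [X54, X52, X55, X53, X54, X52, X52, X55, X52, X54, X53, X55, X55, X52] [X60]) (nat_lit 3042) (nat_lit 234) = true := by decide +kernel
theorem wk30_14 : allR (OT.ckEqW [X54, X52, X55, X53, X54, X52, X52, X55, X52, X54, X53, X55, X55, X52] [X60]) (nat_lit 3276) (nat_lit 234) = true := by decide +kernel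
theorem wk32_0 : allR (OT.ckEqW [X60, X56, X58, X61, X57, X57, X60, X57] [X64]) (nat_lit 0) (nat_lit 390) = true := by decide +kernel
theorem wk32_1 : allR (OT.ckEqW [X60, X56, X58, X61, X57, X57, X60, X57] [X64]) (nat_lit 390) (nat_lit 390) = true := by decide +kernel
theorem wk32_2 : allR (OT.ckEqW [X60, X56, X58, X61, X57, X57, X60, X57] [X64]) (nat_lit 780) (nat_lit 390) = true := by decide +kernel
theorem wk32_3 : allR (OT.ckEqW [X60, X56, X58, X61, X57, X57, X60, X57] [X64]) (nat_lit 1170) (nat_lit 390) = true := by decide +kernel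
theorem wk32_4 : allR (OT.ckEqW [X60, X56, X58, X61, X57, X57, X60, X57] [X64]) (nat_lit 1560) (nat_lit 390) = true := by decide +kernel
theorem wk32_5 : allR (OT.ckEqW [X60, X56, X58, X61, X57, X57, X60, X57] [X64]) (nat_lit 1950) (nat_lit 390) = true := by decide +kernel
theorem wk32_6 : allR (OT.ckEqW [X60, X56, X58, X61, X57, X57, X60, X57] [X64]) (nat_lit 2340) (nat_lit 390) = true := by decide +kernel
theorem wk32_7 : allR (OT.ckEqW [X60, X56, X58, X61, X57, X57, X60, X57] [X64]) (nat_lit 2730) (nat_lit 390) = true := by decide +kernel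
theorem wk32_8 : allR (OT.ckEqW [X60, X56, X58, X61, X57, X57, X60, X57] [X64]) (nat_lit 3120) (nat_lit 390) = true := by decide +kernel
theorem wk33_0 : allR (OT.ckEqW [X57, X59, X56, X59, X57, X61, X61, X57, X59] [X66]) (nat_lit 0) (nat_lit 351) = true := by decide +kernel
theorem wk33_1 : allR (OT.ckEqW [X57, X59, X56, X59, X57, X61, X61, X57, X59] [X66]) (nat_lit 351) (nat_lit 351) = true := by decide +kernel
theorem wk33_2 : allR (OT.ckEqW [X57, X59, X56, X59, X57, X61, X61, X57, X59] [X66]) (nat_lit 702) (nat_lit 351) = true := by decide +kernel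
theorem wk33_3 : allR (OT.ckEqW [X57, X59, X56, X59, X57, X61, X61, X57, X59] [X66]) (nat_lit 1053) (nat_lit 351) = true := by decide +kernel
theorem wk33_4 : allR (OT.ckEqW [X57, X59, X56, X59, X57, X61, X61, X57, X59] [X66]) (nat_lit 1404) (nat_lit 351) = true := by decide +kernel
theorem wk33_5 : allR (OT.ckEqW [X57, X59, X56, X59, X57, X61, X61, X57, X59] [X66]) (nat_lit 1755) (nat_lit 351) = true := by decide +kernel
theorem wk33_6 : allR (OT.ckEqW [X57, X59, X56, X59, X57, X61, X61, X57, X59] [X66]) (nat_lit 2106) (nat_lit 351) = true := by decide +kernel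
theorem wk33_7 : allR (OT.ckEqW [X57, X59, X56, X59, X57, X61, X61, X57, X59] [X66]) (nat_lit 2457) (nat_lit 351) = true := by decide +kernel
theorem wk33_8 : allR (OT.ckEqW [X57, X59, X56, X59, X57, X61, X61, X57, X59] [X66]) (nat_lit 2808) (nat_lit 351) = true := by decide +kernel
theorem wk33_9 : allR (OT.ckEqW [X57, X59, X56, X59, X57, X61, X61, X57, X59] [X66]) (nat_lit 3159) (nat_lit 351) = true := by decide +kernel
theorem wk20_0 : allR (OT.ckEqW [X35, X33, X35, X35, X33, X35, X35, X33, X33, X35] [X40]) (nat_lit 0) (nat_lit 319) = true := by decide +kernel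
theorem wk20_1 : allR (OT.ckEqW [X35, X33, X35, X35, X33, X35, X35, X33, X33, X35] [X40]) (nat_lit 319) (nat_lit 319) = true := by decide +kernel
theorem wk20_2 : allR (OT.ckEqW [X35, X33, X35, X35, X33, X35, X35, X33, X33, X35] [X40]) (nat_lit 638) (nat_lit 319) = true := by decide +kernel
theorem wk20_3 : allR (OT.ckEqW [X35, X33, X35, X35, X33, X35, X35, X33, X33, X35] [X40]) (nat_lit 957) (nat_lit 319) = true := by decide +kernel
theorem wk20_4 : allR (OT.ckEqW [X35, X33, X35, X35, X33, X35, X35, X33, X33, X35] [X40]) (nat_lit 1276) (nat_lit 319) = true := by decide +kernel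
theorem wk20_5 : allR (OT.ckEqW [X35, X33, X35, X35, X33, X35, X35, X33, X33, X35] [X40]) (nat_lit 1595) (nat_lit 319) = true := by decide +kernel
theorem wk20_6 : allR (OT.ckEqW [X35, X33, X35, X35, X33, X35, X35, X33, X33, X35] [X40]) (nat_lit 1914) (nat_lit 319) = true := by decide +kernel
theorem wk20_7 : allR (OT.ckEqW [X35, X33, X35, X35, X33, X35, X35, X33, X33, X35] [X40]) (nat_lit 2233) (nat_lit 319) = true := by decide +kernel
theorem wk20_8 : allR (OT.ckEqW [X35, X33, X35, X35, X33, X35, X35, X33, X33, X35] [X40]) (nat_lit 2552) (nat_lit 319) = true := by decide +kernel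
theorem wk20_9 : allR (OT.ckEqW [X35, X33, X35, X35, X33, X35, X35, X33, X33, X35] [X40]) (nat_lit 2871) (nat_lit 319) = true := by decide +kernel
theorem wk20_10 : allR (OT.ckEqW [X35, X33, X35, X35, X33, X35, X35, X33, X33, X35] [X40]) (nat_lit 3190) (nat_lit 319) = true := by decide +kernel
theorem wk22_0 : allR (OT.ckEqW [X38, X40, X40, X39, X36, X38, X36, X41, X37, X41] [X44]) (nat_lit 0) (nat_lit 319) = true := by decide +kernel
theorem wk22_1 : allR (OT.ckEqW [X38, X40, X40, X39, X36, X38, X36, X41, X37, X41] [X44]) (nat_lit 319) (nat_lit 319) = true := by decide +kernel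
theorem wk22_2 : allR (OT.ckEqW [X38, X40, X40, X39, X36, X38, X36, X41, X37, X41] [X44]) (nat_lit 638) (nat_lit 319) = true := by decide +kernel
theorem wk22_3 : allR (OT.ckEqW [X38, X40, X40, X39, X36, X38, X36, X41, X37, X41] [X44]) (nat_lit 957) (nat_lit 319) = true := by decide +kernel
theorem wk22_4 : allR (OT.ckEqW [X38, X40, X40, X39, X36, X38, X36, X41, X37, X41] [X44]) (nat_lit 1276) (nat_lit 319) = true := by decide +kernel
theorem wk22_5 : allR (OT.ckEqW [X38, X40, X40, X39, X36, X38, X36, X41, X37, X41] [X44]) (nat_lit 1595) (nat_lit 319) = true := by decide +kernel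
theorem wk22_6 : allR (OT.ckEqW [X38, X40, X40, X39, X36, X38, X36, X41, X37, X41] [X44]) (nat_lit 1914) (nat_lit 319) = true := by decide +kernel
theorem wk22_7 : allR (OT.ckEqW [X38, X40, X40, X39, X36, X38, X36, X41, X37, X41] [X44]) (nat_lit 2233) (nat_lit 319) = true := by decide +kernel
theorem wk22_8 : allR (OT.ckEqW [X38, X40, X40, X39, X36, X38, X36, X41, X37, X41] [X44]) (nat_lit 2552) (nat_lit 319) = true := by decide +kernel
theorem wk22_9 : allR (OT.ckEqW [X38, X40, X40, X39, X36, X38, X36, X41, X37, X41] [X44]) (nat_lit 2871) (nat_lit 319) = true := by decide +kernel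
theorem wk22_10 : allR (OT.ckEqW [X38, X40, X40, X39, X36, X38, X36, X41, X37, X41] [X44]) (nat_lit 3190) (nat_lit 319) = true := by decide +kernel
theorem wk29_0 : allR (OT.ckEqW [X55, X53, X53, X53, X53, X55, X53, X54, X52, X55] [X58]) (nat_lit 0) (nat_lit 319) = true := by decide +kernel
theorem wk29_1 : allR (OT.ckEqW [X55, X53, X53, X53, X53, X55, X53, X54, X52, X55] [X58]) (nat_lit 319) (nat_lit 319) = true := by decide +kernel
theorem wk29_2 : allR (OT.ckEqW [X55, X53, X53, X53, X53, X55, X53, X54, X52, X55] [X58]) (nat_lit 638) (nat_lit 319) = true := by decide +kernel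
theorem wk29_3 : allR (OT.ckEqW [X55, X53, X53, X53, X53, X55, X53, X54, X52, X55] [X58]) (nat_lit 957) (nat_lit 319) = true := by decide +kernel
theorem wk29_4 : allR (OT.ckEqW [X55, X53, X53, X53, X53, X55, X53, X54, X52, X55] [X58]) (nat_lit 1276) (nat_lit 319) = true := by decide +kernel
theorem wk29_5 : allR (OT.ckEqW [X55, X53, X53, X53, X53, X55, X53, X54, X52, X55] [X58]) (nat_lit 1595) (nat_lit 319) = true := by decide +kernel
theorem wk29_6 : allR (OT.ckEqW [X55, X53, X53, X53, X53, X55, X53, X54, X52, X55] [X58]) (nat_lit 1914) (nat_lit 319) = true := by decide +kernel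
theorem wk29_7 : allR (OT.ckEqW [X55, X53, X53, X53, X53, X55, X53, X54, X52, X55] [X58]) (nat_lit 2233) (nat_lit 319) = true := by decide +kernel
theorem wk29_8 : allR (OT.ckEqW [X55, X53, X53, X53, X53, X55, X53, X54, X52, X55] [X58]) (nat_lit 2552) (nat_lit 319) = true := by decide +kernel
theorem wk29_9 : allR (OT.ckEqW [X55, X53, X53, X53, X53, X55, X53, X54, X52, X55] [X58]) (nat_lit 2871) (nat_lit 319) = true := by decide +kernel
theorem wk29_10 : allR (OT.ckEqW [X55, X53, X53, X53, X53, X55, X53, X54, X52, X55] [X58]) (nat_lit 3190) (nat_lit 319) = true := by decide +kernel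
theorem wk23_0 : allR (OT.ckEqW [X39, X41, X39] [X46]) (nat_lit 0) (nat_lit 877) = true := by decide +kernel
theorem wk23_1 : allR (OT.ckEqW [X39, X41, X39] [X46]) (nat_lit 877) (nat_lit 877) = true := by decide +kernel
theorem wk23_2 : allR (OT.ckEqW [X39, X41, X39] [X46]) (nat_lit 1754) (nat_lit 877) = true := by decide +kernel
theorem wk23_3 : allR (OT.ckEqW [X39, X41, X39] [X46]) (nat_lit 2631) (nat_lit 877) = true := by decide +kernel
theorem wk9_0 : allR (OT.ckEqW [X15, X13, X14, X11, X11, X14] [X18]) (nat_lit 0) (nat_lit 501) = true := by decide +kernel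
theorem wk9_1 : allR (OT.ckEqW [X15, X13, X14, X11, X11, X14] [X18]) (nat_lit 501) (nat_lit 501) = true := by decide +kernel
theorem wk9_2 : allR (OT.ckEqW [X15, X13, X14, X11, X11, X14] [X18]) (nat_lit 1002) (nat_lit 501) = true := by decide +kernel
theorem wk9_3 : allR (OT.ckEqW [X15, X13, X14, X11, X11, X14] [X18]) (nat_lit 1503) (nat_lit 501) = true := by decide +kernel
theorem wk9_4 : allR (OT.ckEqW [X15, X13, X14, X11, X11, X14] [X18]) (nat_lit 2004) (nat_lit 501) = true := by decide +kernel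
theorem wk9_5 : allR (OT.ckEqW [X15, X13, X14, X11, X11, X14] [X18]) (nat_lit 2505) (nat_lit 501) = true := by decide +kernel
theorem wk9_6 : allR (OT.ckEqW [X15, X13, X14, X11, X11, X14] [X18]) (nat_lit 3006) (nat_lit 501) = true := by decide +kernel
theorem wk21_0 : allR (OT.ckEqW [X38, X36, X38, X36, X41, X36] [X42]) (nat_lit 0) (nat_lit 501) = true := by decide +kernel
theorem wk21_1 : allR (OT.ckEqW [X38, X36, X38, X36, X41, X36] [X42]) (nat_lit 501) (nat_lit 501) = true := by decide +kernel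
theorem wk21_2 : allR (OT.ckEqW [X38, X36, X38, X36, X41, X36] [X42]) (nat_lit 1002) (nat_lit 501) = true := by decide +kernel
theorem wk21_3 : allR (OT.ckEqW [X38, X36, X38, X36, X41, X36] [X42]) (nat_lit 1503) (nat_lit 501) = true := by decide +kernel
theorem wk21_4 : allR (OT.ckEqW [X38, X36, X38, X36, X41, X36] [X42]) (nat_lit 2004) (nat_lit 501) = true := by decide +kernel
theorem wk21_5 : allR (OT.ckEqW [X38, X36, X38, X36, X41, X36] [X42]) (nat_lit 2505) (nat_lit 501) = true := by decide +kernel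
theorem wk21_6 : allR (OT.ckEqW [X38, X36, X38, X36, X41, X36] [X42]) (nat_lit 3006) (nat_lit 501) = true := by decide +kernel
theorem wk31_0 : allR (OT.ckEqW [X60, X59, X59, X60, X60, X57] [X62]) (nat_lit 0) (nat_lit 501) = true := by decide +kernel
theorem wk31_1 : allR (OT.ckEqW [X60, X59, X59, X60, X60, X57] [X62]) (nat_lit 501) (nat_lit 501) = true := by decide +kernel
theorem wk31_2 : allR (OT.ckEqW [X60, X59, X59, X60, X60, X57] [X62]) (nat_lit 1002) (nat_lit 501) = true := by decide +kernel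
theorem wk31_3 : allR (OT.ckEqW [X60, X59, X59, X60, X60, X57] [X62]) (nat_lit 1503) (nat_lit 501) = true := by decide +kernel
theorem wk31_4 : allR (OT.ckEqW [X60, X59, X59, X60, X60, X57] [X62]) (nat_lit 2004) (nat_lit 501) = true := by decide +kernel
theorem wk31_5 : allR (OT.ckEqW [X60, X59, X59, X60, X60, X57] [X62]) (nat_lit 2505) (nat_lit 501) = true := by decide +kernel
theorem wk31_6 : allR (OT.ckEqW [X60, X59, X59, X60, X60, X57] [X62]) (nat_lit 3006) (nat_lit 501) = true := by decide +kernel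
theorem wk1_0 : allR (OT.ckEqW [T6, T4, T5, T0, T1, T5, X1, T2, T4, T8, X0] [X2]) (nat_lit 0) (nat_lit 292) = true := by decide +kernel
theorem wk1_1 : allR (OT.ckEqW [T6, T4, T5, T0, T1, T5, X1, T2, T4, T8, X0] [X2]) (nat_lit 292) (nat_lit 292) = true := by decide +kernel
theorem wk1_2 : allR (OT.ckEqW [T6, T4, T5, T0, T1, T5, X1, T2, T4, T8, X0] [X2]) (nat_lit 584) (nat_lit 292) = true := by decide +kernel
theorem wk1_3 : allR (OT.ckEqW [T6, T4, T5, T0, T1, T5, X1, T2, T4, T8, X0] [X2]) (nat_lit 876) (nat_lit 292) = true := by decide +kernel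
theorem wk1_4 : allR (OT.ckEqW [T6, T4, T5, T0, T1, T5, X1, T2, T4, T8, X0] [X2]) (nat_lit 1168) (nat_lit 292) = true := by decide +kernel
theorem wk1_5 : allR (OT.ckEqW [T6, T4, T5, T0, T1, T5, X1, T2, T4, T8, X0] [X2]) (nat_lit 1460) (nat_lit 292) = true := by decide +kernel
theorem wk1_6 : allR (OT.ckEqW [T6, T4, T5, T0, T1, T5, X1, T2, T4, T8, X0] [X2]) (nat_lit 1752) (nat_lit 292) = true := by decide +kernel
theorem wk1_7 : allR (OT.ckEqW [T6, T4, T5, T0, T1, T5, X1, T2, T4, T8, X0] [X2]) (nat_lit 2044) (nat_lit 292) = true := by decide +kernel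
theorem wk1_8 : allR (OT.ckEqW [T6, T4, T5, T0, T1, T5, X1, T2, T4, T8, X0] [X2]) (nat_lit 2336) (nat_lit 292) = true := by decide +kernel
theorem wk1_9 : allR (OT.ckEqW [T6, T4, T5, T0, T1, T5, X1, T2, T4, T8, X0] [X2]) (nat_lit 2628) (nat_lit 292) = true := by decide +kernel
theorem wk1_10 : allR (OT.ckEqW [T6, T4, T5, T0, T1, T5, X1, T2, T4, T8, X0] [X2]) (nat_lit 2920) (nat_lit 292) = true := by decide +kernel
theorem wk1_11 : allR (OT.ckEqW [T6, T4, T5, T0, T1, T5, X1, T2, T4, T8, X0] [X2]) (nat_lit 3212) (nat_lit 292) = true := by decide +kernel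
theorem wk3_0 : allR (OT.ckEqW [X2, X4, X4, X2, X4, X3, X3] [X6]) (nat_lit 0) (nat_lit 438) = true := by decide +kernel
theorem wk3_1 : allR (OT.ckEqW [X2, X4, X4, X2, X4, X3, X3] [X6]) (nat_lit 438) (nat_lit 438) = true := by decide +kernel
theorem wk3_2 : allR (OT.ckEqW [X2, X4, X4, X2, X4, X3, X3] [X6]) (nat_lit 876) (nat_lit 438) = true := by decide +kernel
theorem wk3_3 : allR (OT.ckEqW [X2, X4, X4, X2, X4, X3, X3] [X6]) (nat_lit 1314) (nat_lit 438) = true := by decide +kernel
theorem wk3_4 : allR (OT.ckEqW [X2, X4, X4, X2, X4, X3, X3] [X6]) (nat_lit 1752) (nat_lit 438) = true := by decide +kernel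
theorem wk3_5 : allR (OT.ckEqW [X2, X4, X4, X2, X4, X3, X3] [X6]) (nat_lit 2190) (nat_lit 438) = true := by decide +kernel
theorem wk3_6 : allR (OT.ckEqW [X2, X4, X4, X2, X4, X3, X3] [X6]) (nat_lit 2628) (nat_lit 438) = true := by decide +kernel
theorem wk3_7 : allR (OT.ckEqW [X2, X4, X4, X2, X4, X3, X3] [X6]) (nat_lit 3066) (nat_lit 438) = true := by decide +kernel
theorem wk6_0 : allR (OT.ckEqW [X9, X7, X8, X7, X8, X6, X6, X8, X6, X9, X7, X8, X6, X8, X8] [X12]) (nat_lit 0) (nat_lit 219) = true := by decide +kernel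
theorem wk6_1 : allR (OT.ckEqW [X9, X7, X8, X7, X8, X6, X6, X8, X6, X9, X7, X8, X6, X8, X8] [X12]) (nat_lit 219) (nat_lit 219) = true := by decide +kernel
theorem wk6_2 : allR (OT.ckEqW [X9, X7, X8, X7, X8, X6, X6, X8, X6, X9, X7, X8, X6, X8, X8] [X12]) (nat_lit 438) (nat_lit 219) = true := by decide +kernel
theorem wk6_3 : allR (OT.ckEqW [X9, X7, X8, X7, X8, X6, X6, X8, X6, X9, X7, X8, X6, X8, X8] [X12]) (nat_lit 657) (nat_lit 219) = true := by decide +kernel
theorem wk6_4 : allR (OT.ckEqW [X9, X7, X8, X7, X8, X6, X6, X8, X6, X9, X7, X8, X6, X8, X8] [X12]) (nat_lit 876) (nat_lit 219) = true := by decide +kernel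
theorem wk6_5 : allR (OT.ckEqW [X9, X7, X8, X7, X8, X6, X6, X8, X6, X9, X7, X8, X6, X8, X8] [X12]) (nat_lit 1095) (nat_lit 219) = true := by decide +kernel
theorem wk6_6 : allR (OT.ckEqW [X9, X7, X8, X7, X8, X6, X6, X8, X6, X9, X7, X8, X6, X8, X8] [X12]) (nat_lit 1314) (nat_lit 219) = true := by decide +kernel
theorem wk6_7 : allR (OT.ckEqW [X9, X7, X8, X7, X8, X6, X6, X8, X6, X9, X7, X8, X6, X8, X8] [X12]) (nat_lit 1533) (nat_lit 219) = true := by decide +kernel
theorem wk6_8 : allR (OT.ckEqW [X9, X7, X8, X7, X8, X6, X6, X8, X6, X9, X7, X8, X6, X8, X8] [X12]) (nat_lit 1752) (nat_lit 219) = true := by decide +kernel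
theorem wk6_9 : allR (OT.ckEqW [X9, X7, X8, X7, X8, X6, X6, X8, X6, X9, X7, X8, X6, X8, X8] [X12]) (nat_lit 1971) (nat_lit 219) = true := by decide +kernel
theorem wk6_10 : allR (OT.ckEqW [X9, X7, X8, X7, X8, X6, X6, X8, X6, X9, X7, X8, X6, X8, X8] [X12]) (nat_lit 2190) (nat_lit 219) = true := by decide +kernel
theorem wk6_11 : allR (OT.ckEqW [X9, X7, X8, X7, X8, X6, X6, X8, X6, X9, X7, X8, X6, X8, X8] [X12]) (nat_lit 2409) (nat_lit 219) = true := by decide +kernel
theorem wk6_12 : allR (OT.ckEqW [X9, X7, X8, X7, X8, X6, X6, X8, X6, X9, X7, X8, X6, X8, X8] [X12]) (nat_lit 2628) (nat_lit 219) = true := by decide +kernel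
theorem wk6_13 : allR (OT.ckEqW [X9, X7, X8, X7, X8, X6, X6, X8, X6, X9, X7, X8, X6, X8, X8] [X12]) (nat_lit 2847) (nat_lit 219) = true := by decide +kernel
theorem wk6_14 : allR (OT.ckEqW [X9, X7, X8, X7, X8, X6, X6, X8, X6, X9, X7, X8, X6, X8, X8] [X12]) (nat_lit 3066) (nat_lit 219) = true := by decide +kernel
theorem wk6_15 : allR (OT.ckEqW [X9, X7, X8, X7, X8, X6, X6, X8, X6, X9, X7, X8, X6, X8, X8] [X12]) (nat_lit 3285) (nat_lit 219) = true := by decide +kernel
theorem wk7_0 : allR (OT.ckEqW [X9, X7, X8, X6, X8, X6, X9, X7, X8, X6, X8] [X14]) (nat_lit 0) (nat_lit 292) = true := by decide +kernel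
theorem wk7_1 : allR (OT.ckEqW [X9, X7, X8, X6, X8, X6, X9, X7, X8, X6, X8] [X14]) (nat_lit 292) (nat_lit 292) = true := by decide +kernel
theorem wk7_2 : allR (OT.ckEqW [X9, X7, X8, X6, X8, X6, X9, X7, X8, X6, X8] [X14]) (nat_lit 584) (nat_lit 292) = true := by decide +kernel
theorem wk7_3 : allR (OT.ckEqW [X9, X7, X8, X6, X8, X6, X9, X7, X8, X6, X8] [X14]) (nat_lit 876) (nat_lit 292) = true := by decide +kernel
theorem wk7_4 : allR (OT.ckEqW [X9, X7, X8, X6, X8, X6, X9, X7, X8, X6, X8] [X14]) (nat_lit 1168) (nat_lit 292) = true := by decide +kernel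
theorem wk7_5 : allR (OT.ckEqW [X9, X7, X8, X6, X8, X6, X9, X7, X8, X6, X8] [X14]) (nat_lit 1460) (nat_lit 292) = true := by decide +kernel
theorem wk7_6 : allR (OT.ckEqW [X9, X7, X8, X6, X8, X6, X9, X7, X8, X6, X8] [X14]) (nat_lit 1752) (nat_lit 292) = true := by decide +kernel
theorem wk7_7 : allR (OT.ckEqW [X9, X7, X8, X6, X8, X6, X9, X7, X8, X6, X8] [X14]) (nat_lit 2044) (nat_lit 292) = true := by decide +kernel
theorem wk7_8 : allR (OT.ckEqW [X9, X7, X8, X6, X8, X6, X9, X7, X8, X6, X8] [X14]) (nat_lit 2336) (nat_lit 292) = true := by decide +kernel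
theorem wk7_9 : allR (OT.ckEqW [X9, X7, X8, X6, X8, X6, X9, X7, X8, X6, X8] [X14]) (nat_lit 2628) (nat_lit 292) = true := by decide +kernel
theorem wk7_10 : allR (OT.ckEqW [X9, X7, X8, X6, X8, X6, X9, X7, X8, X6, X8] [X14]) (nat_lit 2920) (nat_lit 292) = true := by decide +kernel
theorem wk7_11 : allR (OT.ckEqW [X9, X7, X8, X6, X8, X6, X9, X7, X8, X6, X8] [X14]) (nat_lit 3212) (nat_lit 292) = true := by decide +kernel
theorem wk11_0 : allR (OT.ckEqW [X20, X13, X11, X15, X6, X8, X6, X6, X6, X9, X2, X5, X5, X2, X2, X5, X5, T1, X0, X0, X0, X0, X0] [X22]) (nat_lit 0) (nat_lit 146) = true := by decide +kernel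
theorem wk11_1 : allR (OT.ckEqW [X20, X13, X11, X15, X6, X8, X6, X6, X6, X9, X2, X5, X5, X2, X2, X5, X5, T1, X0, X0, X0, X0, X0] [X22]) (nat_lit 146) (nat_lit 146) = true := by decide +kernel
theorem wk11_2 : allR (OT.ckEqW [X20, X13, X11, X15, X6, X8, X6, X6, X6, X9, X2, X5, X5, X2, X2, X5, X5, T1, X0, X0, X0, X0, X0] [X22]) (nat_lit 292) (nat_lit 146) = true := by decide +kernel
theorem wk11_3 : allR (OT.ckEqW [X20, X13, X11, X15, X6, X8, X6, X6, X6, X9, X2, X5, X5, X2, X2, X5, X5, T1, X0, X0, X0, X0, X0] [X22]) (nat_lit 438) (nat_lit 146) = true := by decide +kernel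
theorem wk11_4 : allR (OT.ckEqW [X20, X13, X11, X15, X6, X8, X6, X6, X6, X9, X2, X5, X5, X2, X2, X5, X5, T1, X0, X0, X0, X0, X0] [X22]) (nat_lit 584) (nat_lit 146) = true := by decide +kernel
theorem wk11_5 : allR (OT.ckEqW [X20, X13, X11, X15, X6, X8, X6, X6, X6, X9, X2, X5, X5, X2, X2, X5, X5, T1, X0, X0, X0, X0, X0] [X22]) (nat_lit 730) (nat_lit 146) = true := by decide +kernel
theorem wk11_6 : allR (OT.ckEqW [X20, X13, X11, X15, X6, X8, X6, X6, X6, X9, X2, X5, X5, X2, X2, X5, X5, T1, X0, X0, X0, X0, X0] [X22]) (nat_lit 876) (nat_lit 146) = true := by decide +kernel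
theorem wk11_7 : allR (OT.ckEqW [X20, X13, X11, X15, X6, X8, X6, X6, X6, X9, X2, X5, X5, X2, X2, X5, X5, T1, X0, X0, X0, X0, X0] [X22]) (nat_lit 1022) (nat_lit 146) = true := by decide +kernel
theorem wk11_8 : allR (OT.ckEqW [X20, X13, X11, X15, X6, X8, X6, X6, X6, X9, X2, X5, X5, X2, X2, X5, X5, T1, X0, X0, X0, X0, X0] [X22]) (nat_lit 1168) (nat_lit 146) = true := by decide +kernel
theorem wk11_9 : allR (OT.ckEqW [X20, X13, X11, X15, X6, X8, X6, X6, X6, X9, X2, X5, X5, X2, X2, X5, X5, T1, X0, X0, X0, X0, X0] [X22]) (nat_lit 1314) (nat_lit 146) = true := by decide +kernel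
theorem wk11_10 : allR (OT.ckEqW [X20, X13, X11, X15, X6, X8, X6, X6, X6, X9, X2, X5, X5, X2, X2, X5, X5, T1, X0, X0, X0, X0, X0] [X22]) (nat_lit 1460) (nat_lit 146) = true := by decide +kernel
theorem wk11_11 : allR (OT.ckEqW [X20, X13, X11, X15, X6, X8, X6, X6, X6, X9, X2, X5, X5, X2, X2, X5, X5, T1, X0, X0, X0, X0, X0] [X22]) (nat_lit 1606) (nat_lit 146) = true := by decide +kernel
theorem wk11_12 : allR (OT.ckEqW [X20, X13, X11, X15, X6, X8, X6, X6, X6, X9, X2, X5, X5, X2, X2, X5, X5, T1, X0, X0, X0, X0, X0] [X22]) (nat_lit 1752) (nat_lit 146) = true := by decide +kernel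
theorem wk11_13 : allR (OT.ckEqW [X20, X13, X11, X15, X6, X8, X6, X6, X6, X9, X2, X5, X5, X2, X2, X5, X5, T1, X0, X0, X0, X0, X0] [X22]) (nat_lit 1898) (nat_lit 146) = true := by decide +kernel
theorem wk11_14 : allR (OT.ckEqW [X20, X13, X11, X15, X6, X8, X6, X6, X6, X9, X2, X5, X5, X2, X2, X5, X5, T1, X0, X0, X0, X0, X0] [X22]) (nat_lit 2044) (nat_lit 146) = true := by decide +kernel
theorem wk11_15 : allR (OT.ckEqW [X20, X13, X11, X15, X6, X8, X6, X6, X6, X9, X2, X5, X5, X2, X2, X5, X5, T1, X0, X0, X0, X0, X0] [X22]) (nat_lit 2190) (nat_lit 146) = true := by decide +kernel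
theorem wk11_16 : allR (OT.ckEqW [X20, X13, X11, X15, X6, X8, X6, X6, X6, X9, X2, X5, X5, X2, X2, X5, X5, T1, X0, X0, X0, X0, X0] [X22]) (nat_lit 2336) (nat_lit 146) = true := by decide +kernel
theorem wk11_17 : allR (OT.ckEqW [X20, X13, X11, X15, X6, X8, X6, X6, X6, X9, X2, X5, X5, X2, X2, X5, X5, T1, X0, X0, X0, X0, X0] [X22]) (nat_lit 2482) (nat_lit 146) = true := by decide +kernel
theorem wk11_18 : allR (OT.ckEqW [X20, X13, X11, X15, X6, X8, X6, X6, X6, X9, X2, X5, X5, X2, X2, X5, X5, T1, X0, X0, X0, X0, X0] [X22]) (nat_lit 2628) (nat_lit 146) = true := by decide +kernel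
theorem wk11_19 : allR (OT.ckEqW [X20, X13, X11, X15, X6, X8, X6, X6, X6, X9, X2, X5, X5, X2, X2, X5, X5, T1, X0, X0, X0, X0, X0] [X22]) (nat_lit 2774) (nat_lit 146) = true := by decide +kernel
theorem wk11_20 : allR (OT.ckEqW [X20, X13, X11, X15, X6, X8, X6, X6, X6, X9, X2, X5, X5, X2, X2, X5, X5, T1, X0, X0, X0, X0, X0] [X22]) (nat_lit 2920) (nat_lit 146) = true := by decide +kernel
theorem wk11_21 : allR (OT.ckEqW [X20, X13, X11, X15, X6, X8, X6, X6, X6, X9, X2, X5, X5, X2, X2, X5, X5, T1, X0, X0, X0, X0, X0] [X22]) (nat_lit 3066) (nat_lit 146) = true := by decide +kernel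
theorem wk11_22 : allR (OT.ckEqW [X20, X13, X11, X15, X6, X8, X6, X6, X6, X9, X2, X5, X5, X2, X2, X5, X5, T1, X0, X0, X0, X0, X0] [X22]) (nat_lit 3212) (nat_lit 146) = true := by decide +kernel
theorem wk11_23 : allR (OT.ckEqW [X20, X13, X11, X15, X6, X8, X6, X6, X6, X9, X2, X5, X5, X2, X2, X5, X5, T1, X0, X0, X0, X0, X0] [X22]) (nat_lit 3358) (nat_lit 146) = true := by decide +kernel
theorem wk15_0 : allR (OT.ckEqW [X22, X0, X25, X22, X1, X25, X0, X23, X25, X22, X0] [X30]) (nat_lit 0) (nat_lit 292) = true := by decide +kernel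
theorem wk15_1 : allR (OT.ckEqW [X22, X0, X25, X22, X1, X25, X0, X23, X25, X22, X0] [X30]) (nat_lit 292) (nat_lit 292) = true := by decide +kernel
theorem wk15_2 : allR (OT.ckEqW [X22, X0, X25, X22, X1, X25, X0, X23, X25, X22, X0] [X30]) (nat_lit 584) (nat_lit 292) = true := by decide +kernel
theorem wk15_3 : allR (OT.ckEqW [X22, X0, X25, X22, X1, X25, X0, X23, X25, X22, X0] [X30]) (nat_lit 876) (nat_lit 292) = true := by decide +kernel
theorem wk15_4 : allR (OT.ckEqW [X22, X0, X25, X22, X1, X25, X0, X23, X25, X22, X0] [X30]) (nat_lit 1168) (nat_lit 292) = true := by decide +kernel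
theorem wk15_5 : allR (OT.ckEqW [X22, X0, X25, X22, X1, X25, X0, X23, X25, X22, X0] [X30]) (nat_lit 1460) (nat_lit 292) = true := by decide +kernel
theorem wk15_6 : allR (OT.ckEqW [X22, X0, X25, X22, X1, X25, X0, X23, X25, X22, X0] [X30]) (nat_lit 1752) (nat_lit 292) = true := by decide +kernel
theorem wk15_7 : allR (OT.ckEqW [X22, X0, X25, X22, X1, X25, X0, X23, X25, X22, X0] [X30]) (nat_lit 2044) (nat_lit 292) = true := by decide +kernel
theorem wk15_8 : allR (OT.ckEqW [X22, X0, X25, X22, X1, X25, X0, X23, X25, X22, X0] [X30]) (nat_lit 2336) (nat_lit 292) = true := by decide +kernel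
theorem wk15_9 : allR (OT.ckEqW [X22, X0, X25, X22, X1, X25, X0, X23, X25, X22, X0] [X30]) (nat_lit 2628) (nat_lit 292) = true := by decide +kernel
theorem wk15_10 : allR (OT.ckEqW [X22, X0, X25, X22, X1, X25, X0, X23, X25, X22, X0] [X30]) (nat_lit 2920) (nat_lit 292) = true := by decide +kernel
theorem wk15_11 : allR (OT.ckEqW [X22, X0, X25, X22, X1, X25, X0, X23, X25, X22, X0] [X30]) (nat_lit 3212) (nat_lit 292) = true := by decide +kernel
theorem wk17_0 : allR (OT.ckEqW [X31, X31, X28, X28, X28, X28, X28, X30, X29, X31, X28, X31, X28, X30, X30] [X34]) (nat_lit 0) (nat_lit 219) = true := by decide +kernel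
theorem wk17_1 : allR (OT.ckEqW [X31, X31, X28, X28, X28, X28, X28, X30, X29, X31, X28, X31, X28, X30, X30] [X34]) (nat_lit 219) (nat_lit 219) = true := by decide +kernel
theorem wk17_2 : allR (OT.ckEqW [X31, X31, X28, X28, X28, X28, X28, X30, X29, X31, X28, X31, X28, X30, X30] [X34]) (nat_lit 438) (nat_lit 219) = true := by decide +kernel
theorem wk17_3 : allR (OT.ckEqW [X31, X31, X28, X28, X28, X28, X28, X30, X29, X31, X28, X31, X28, X30, X30] [X34]) (nat_lit 657) (nat_lit 219) = true := by decide +kernel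
theorem wk17_4 : allR (OT.ckEqW [X31, X31, X28, X28, X28, X28, X28, X30, X29, X31, X28, X31, X28, X30, X30] [X34]) (nat_lit 876) (nat_lit 219) = true := by decide +kernel
theorem wk17_5 : allR (OT.ckEqW [X31, X31, X28, X28, X28, X28, X28, X30, X29, X31, X28, X31, X28, X30, X30] [X34]) (nat_lit 1095) (nat_lit 219) = true := by decide +kernel
theorem wk17_6 : allR (OT.ckEqW [X31, X31, X28, X28, X28, X28, X28, X30, X29, X31, X28, X31, X28, X30, X30] [X34]) (nat_lit 1314) (nat_lit 219) = true := by decide +kernel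
theorem wk17_7 : allR (OT.ckEqW [X31, X31, X28, X28, X28, X28, X28, X30, X29, X31, X28, X31, X28, X30, X30] [X34]) (nat_lit 1533) (nat_lit 219) = true := by decide +kernel
theorem wk17_8 : allR (OT.ckEqW [X31, X31, X28, X28, X28, X28, X28, X30, X29, X31, X28, X31, X28, X30, X30] [X34]) (nat_lit 1752) (nat_lit 219) = true := by decide +kernel
theorem wk17_9 : allR (OT.ckEqW [X31, X31, X28, X28, X28, X28, X28, X30, X29, X31, X28, X31, X28, X30, X30] [X34]) (nat_lit 1971) (nat_lit 219) = true := by decide +kernel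
theorem wk17_10 : allR (OT.ckEqW [X31, X31, X28, X28, X28, X28, X28, X30, X29, X31, X28, X31, X28, X30, X30] [X34]) (nat_lit 2190) (nat_lit 219) = true := by decide +kernel
theorem wk17_11 : allR (OT.ckEqW [X31, X31, X28, X28, X28, X28, X28, X30, X29, X31, X28, X31, X28, X30, X30] [X34]) (nat_lit 2409) (nat_lit 219) = true := by decide +kernel
theorem wk17_12 : allR (OT.ckEqW [X31, X31, X28, X28, X28, X28, X28, X30, X29, X31, X28, X31, X28, X30, X30] [X34]) (nat_lit 2628) (nat_lit 219) = true := by decide +kernel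
theorem wk17_13 : allR (OT.ckEqW [X31, X31, X28, X28, X28, X28, X28, X30, X29, X31, X28, X31, X28, X30, X30] [X34]) (nat_lit 2847) (nat_lit 219) = true := by decide +kernel
theorem wk17_14 : allR (OT.ckEqW [X31, X31, X28, X28, X28, X28, X28, X30, X29, X31, X28, X31, X28, X30, X30] [X34]) (nat_lit 3066) (nat_lit 219) = true := by decide +kernel
theorem wk17_15 : allR (OT.ckEqW [X31, X31, X28, X28, X28, X28, X28, X30, X29, X31, X28, X31, X28, X30, X30] [X34]) (nat_lit 3285) (nat_lit 219) = true := by decide +kernel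
theorem wk24_0 : allR (OT.ckEqW [X25, X0, X22, X22, X0, X23, X25, X22, X1, X25, X1] [X48]) (nat_lit 0) (nat_lit 292) = true := by decide +kernel
theorem wk24_1 : allR (OT.ckEqW [X25, X0, X22, X22, X0, X23, X25, X22, X1, X25, X1] [X48]) (nat_lit 292) (nat_lit 292) = true := by decide +kernel
theorem wk24_2 : allR (OT.ckEqW [X25, X0, X22, X22, X0, X23, X25, X22, X1, X25, X1] [X48]) (nat_lit 584) (nat_lit 292) = true := by decide +kernel
theorem wk24_3 : allR (OT.ckEqW [X25, X0, X22, X22, X0, X23, X25, X22, X1, X25, X1] [X48]) (nat_lit 876) (nat_lit 292) = true := by decide +kernel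
theorem wk24_4 : allR (OT.ckEqW [X25, X0, X22, X22, X0, X23, X25, X22, X1, X25, X1] [X48]) (nat_lit 1168) (nat_lit 292) = true := by decide +kernel
theorem wk24_5 : allR (OT.ckEqW [X25, X0, X22, X22, X0, X23, X25, X22, X1, X25, X1] [X48]) (nat_lit 1460) (nat_lit 292) = true := by decide +kernel
theorem wk24_6 : allR (OT.ckEqW [X25, X0, X22, X22, X0, X23, X25, X22, X1, X25, X1] [X48]) (nat_lit 1752) (nat_lit 292) = true := by decide +kernel
theorem wk24_7 : allR (OT.ckEqW [X25, X0, X22, X22, X0, X23, X25, X22, X1, X25, X1] [X48]) (nat_lit 2044) (nat_lit 292) = true := by decide +kernel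
theorem wk24_8 : allR (OT.ckEqW [X25, X0, X22, X22, X0, X23, X25, X22, X1, X25, X1] [X48]) (nat_lit 2336) (nat_lit 292) = true := by decide +kernel
theorem wk24_9 : allR (OT.ckEqW [X25, X0, X22, X22, X0, X23, X25, X22, X1, X25, X1] [X48]) (nat_lit 2628) (nat_lit 292) = true := by decide +kernel
theorem wk24_10 : allR (OT.ckEqW [X25, X0, X22, X22, X0, X23, X25, X22, X1, X25, X1] [X48]) (nat_lit 2920) (nat_lit 292) = true := by decide +kernel
theorem wk24_11 : allR (OT.ckEqW [X25, X0, X22, X22, X0, X23, X25, X22, X1, X25, X1] [X48]) (nat_lit 3212) (nat_lit 292) = true := by decide +kernel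
theorem wk12_0 : allR (OT.ckEqW [X20, X13, X15, X12, X7, X8, X7, X8, X6, X8, X7, X5, X3, X4, X3, X4, X3, X4, X4, X3, X3, T1, X0, T3, T4, T6, X0, X0, X0, X0] [X24]) (nat_lit 0) (nat_lit 113) = true := by decide +kernel
theorem wk12_1 : allR (OT.ckEqW [X20, X13, X15, X12, X7, X8, X7, X8, X6, X8, X7, X5, X3, X4, X3, X4, X3, X4, X4, X3, X3, T1, X0, T3, T4, T6, X0, X0, X0, X0] [X24]) (nat_lit 113) (nat_lit 113) = true := by decide +kernel
theorem wk12_2 : allR (OT.ckEqW [X20, X13, X15, X12, X7, X8, X7, X8, X6, X8, X7, X5, X3, X4, X3, X4, X3, X4, X4, X3, X3, T1, X0, T3, T4, T6, X0, X0, X0, X0] [X24]) (nat_lit 226) (nat_lit 113) = true := by decide +kernel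
theorem wk12_3 : allR (OT.ckEqW [X20, X13, X15, X12, X7, X8, X7, X8, X6, X8, X7, X5, X3, X4, X3, X4, X3, X4, X4, X3, X3, T1, X0, T3, T4, T6, X0, X0, X0, X0] [X24]) (nat_lit 339) (nat_lit 113) = true := by decide +kernel
theorem wk12_4 : allR (OT.ckEqW [X20, X13, X15, X12, X7, X8, X7, X8, X6, X8, X7, X5, X3, X4, X3, X4, X3, X4, X4, X3, X3, T1, X0, T3, T4, T6, X0, X0, X0, X0] [X24]) (nat_lit 452) (nat_lit 113) = true := by decide +kernel
theorem wk12_5 : allR (OT.ckEqW [X20, X13, X15, X12, X7, X8, X7, X8, X6, X8, X7, X5, X3, X4, X3, X4, X3, X4, X4, X3, X3, T1, X0, T3, T4, T6, X0, X0, X0, X0] [X24]) (nat_lit 565) (nat_lit 113) = true := by decide +kernel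
theorem wk12_6 : allR (OT.ckEqW [X20, X13, X15, X12, X7, X8, X7, X8, X6, X8, X7, X5, X3, X4, X3, X4, X3, X4, X4, X3, X3, T1, X0, T3, T4, T6, X0, X0, X0, X0] [X24]) (nat_lit 678) (nat_lit 113) = true := by decide +kernel
theorem wk12_7 : allR (OT.ckEqW [X20, X13, X15, X12, X7, X8, X7, X8, X6, X8, X7, X5, X3, X4, X3, X4, X3, X4, X4, X3, X3, T1, X0, T3, T4, T6, X0, X0, X0, X0] [X24]) (nat_lit 791) (nat_lit 113) = true := by decide +kernel
theorem wk12_8 : allR (OT.ckEqW [X20, X13, X15, X12, X7, X8, X7, X8, X6, X8, X7, X5, X3, X4, X3, X4, X3, X4, X4, X3, X3, T1, X0, T3, T4, T6, X0, X0, X0, X0] [X24]) (nat_lit 904) (nat_lit 113) = true := by decide +kernel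
theorem wk12_9 : allR (OT.ckEqW [X20, X13, X15, X12, X7, X8, X7, X8, X6, X8, X7, X5, X3, X4, X3, X4, X3, X4, X4, X3, X3, T1, X0, T3, T4, T6, X0, X0, X0, X0] [X24]) (nat_lit 1017) (nat_lit 113) = true := by decide +kernel
theorem wk12_10 : allR (OT.ckEqW [X20, X13, X15, X12, X7, X8, X7, X8, X6, X8, X7, X5, X3, X4, X3, X4, X3, X4, X4, X3, X3, T1, X0, T3, T4, T6, X0, X0, X0, X0] [X24]) (nat_lit 1130) (nat_lit 113) = true := by decide +kernel
theorem wk12_11 : allR (OT.ckEqW [X20, X13, X15, X12, X7, X8, X7, X8, X6, X8, X7, X5, X3, X4, X3, X4, X3, X4, X4, X3, X3, T1, X0, T3, T4, T6, X0, X0, X0, X0] [X24]) (nat_lit 1243) (nat_lit 113) = true := by decide +kernel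
theorem wk12_12 : allR (OT.ckEqW [X20, X13, X15, X12, X7, X8, X7, X8, X6, X8, X7, X5, X3, X4, X3, X4, X3, X4, X4, X3, X3, T1, X0, T3, T4, T6, X0, X0, X0, X0] [X24]) (nat_lit 1356) (nat_lit 113) = true := by decide +kernel
theorem wk12_13 : allR (OT.ckEqW [X20, X13, X15, X12, X7, X8, X7, X8, X6, X8, X7, X5, X3, X4, X3, X4, X3, X4, X4, X3, X3, T1, X0, T3, T4, T6, X0, X0, X0, X0] [X24]) (nat_lit 1469) (nat_lit 113) = true := by decide +kernel
theorem wk12_14 : allR (OT.ckEqW [X20, X13, X15, X12, X7, X8, X7, X8, X6, X8, X7, X5, X3, X4, X3, X4, X3, X4, X4, X3, X3, T1, X0, T3, T4, T6, X0, X0, X0, X0] [X24]) (nat_lit 1582) (nat_lit 113) = true := by decide +kernel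
theorem wk12_15 : allR (OT.ckEqW [X20, X13, X15, X12, X7, X8, X7, X8, X6, X8, X7, X5, X3, X4, X3, X4, X3, X4, X4, X3, X3, T1, X0, T3, T4, T6, X0, X0, X0, X0] [X24]) (nat_lit 1695) (nat_lit 113) = true := by decide +kernel
theorem wk12_16 : allR (OT.ckEqW [X20, X13, X15, X12, X7, X8, X7, X8, X6, X8, X7, X5, X3, X4, X3, X4, X3, X4, X4, X3, X3, T1, X0, T3, T4, T6, X0, X0, X0, X0] [X24]) (nat_lit 1808) (nat_lit 113) = true := by decide +kernel
theorem wk12_17 : allR (OT.ckEqW [X20, X13, X15, X12, X7, X8, X7, X8, X6, X8, X7, X5, X3, X4, X3, X4, X3, X4, X4, X3, X3, T1, X0, T3, T4, T6, X0, X0, X0, X0] [X24]) (nat_lit 1921) (nat_lit 113) = true := by decide +kernel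
theorem wk12_18 : allR (OT.ckEqW [X20, X13, X15, X12, X7, X8, X7, X8, X6, X8, X7, X5, X3, X4, X3, X4, X3, X4, X4, X3, X3, T1, X0, T3, T4, T6, X0, X0, X0, X0] [X24]) (nat_lit 2034) (nat_lit 113) = true := by decide +kernel
theorem wk12_19 : allR (OT.ckEqW [X20, X13, X15, X12, X7, X8, X7, X8, X6, X8, X7, X5, X3, X4, X3, X4, X3, X4, X4, X3, X3, T1, X0, T3, T4, T6, X0, X0, X0, X0] [X24]) (nat_lit 2147) (nat_lit 113) = true := by decide +kernel
theorem wk12_20 : allR (OT.ckEqW [X20, X13, X15, X12, X7, X8, X7, X8, X6, X8, X7, X5, X3, X4, X3, X4, X3, X4, X4, X3, X3, T1, X0, T3, T4, T6, X0, X0, X0, X0] [X24]) (nat_lit 2260) (nat_lit 113) = true := by decide +kernel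
theorem wk12_21 : allR (OT.ckEqW [X20, X13, X15, X12, X7, X8, X7, X8, X6, X8, X7, X5, X3, X4, X3, X4, X3, X4, X4, X3, X3, T1, X0, T3, T4, T6, X0, X0, X0, X0] [X24]) (nat_lit 2373) (nat_lit 113) = true := by decide +kernel
theorem wk12_22 : allR (OT.ckEqW [X20, X13, X15, X12, X7, X8, X7, X8, X6, X8, X7, X5, X3, X4, X3, X4, X3, X4, X4, X3, X3, T1, X0, T3, T4, T6, X0, X0, X0, X0] [X24]) (nat_lit 2486) (nat_lit 113) = true := by decide +kernel
theorem wk12_23 : allR (OT.ckEqW [X20, X13, X15, X12, X7, X8, X7, X8, X6, X8, X7, X5, X3, X4, X3, X4, X3, X4, X4, X3, X3, T1, X0, T3, T4, T6, X0, X0, X0, X0] [X24]) (nat_lit 2599) (nat_lit 113) = true := by decide +kernel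
theorem wk12_24 : allR (OT.ckEqW [X20, X13, X15, X12, X7, X8, X7, X8, X6, X8, X7, X5, X3, X4, X3, X4, X3, X4, X4, X3, X3, T1, X0, T3, T4, T6, X0, X0, X0, X0] [X24]) (nat_lit 2712) (nat_lit 113) = true := by decide +kernel
theorem wk12_25 : allR (OT.ckEqW [X20, X13, X15, X12, X7, X8, X7, X8, X6, X8, X7, X5, X3, X4, X3, X4, X3, X4, X4, X3, X3, T1, X0, T3, T4, T6, X0, X0, X0, X0] [X24]) (nat_lit 2825) (nat_lit 113) = true := by decide +kernel
theorem wk12_26 : allR (OT.ckEqW [X20, X13, X15, X12, X7, X8, X7, X8, X6, X8, X7, X5, X3, X4, X3, X4, X3, X4, X4, X3, X3, T1, X0, T3, T4, T6, X0, X0, X0, X0] [X24]) (nat_lit 2938) (nat_lit 113) = true := by decide +kernel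
theorem wk12_27 : allR (OT.ckEqW [X20, X13, X15, X12, X7, X8, X7, X8, X6, X8, X7, X5, X3, X4, X3, X4, X3, X4, X4, X3, X3, T1, X0, T3, T4, T6, X0, X0, X0, X0] [X24]) (nat_lit 3051) (nat_lit 113) = true := by decide +kernel
theorem wk12_28 : allR (OT.ckEqW [X20, X13, X15, X12, X7, X8, X7, X8, X6, X8, X7, X5, X3, X4, X3, X4, X3, X4, X4, X3, X3, T1, X0, T3, T4, T6, X0, X0, X0, X0] [X24]) (nat_lit 3164) (nat_lit 113) = true := by decide +kernel
theorem wk12_29 : allR (OT.ckEqW [X20, X13, X15, X12, X7, X8, X7, X8, X6, X8, X7, X5, X3, X4, X3, X4, X3, X4, X4, X3, X3, T1, X0, T3, T4, T6, X0, X0, X0, X0] [X24]) (nat_lit 3277) (nat_lit 113) = true := by decide +kernel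
theorem wk12_30 : allR (OT.ckEqW [X20, X13, X15, X12, X7, X8, X7, X8, X6, X8, X7, X5, X3, X4, X3, X4, X3, X4, X4, X3, X3, T1, X0, T3, T4, T6, X0, X0, X0, X0] [X24]) (nat_lit 3390) (nat_lit 113) = true := by decide +kernel
theorem wk14_0 : allR (OT.ckEqW [X24, X1, X23, X0, X0, X0, X0, X25, X1, X22, X25, X22, X1, X25, X22, X1] [X28]) (nat_lit 0) (nat_lit 206) = true := by decide +kernel
theorem wk14_1 : allR (OT.ckEqW [X24, X1, X23, X0, X0, X0, X0, X25, X1, X22, X25, X22, X1, X25, X22, X1] [X28]) (nat_lit 206) (nat_lit 206) = true := by decide +kernel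
theorem wk14_2 : allR (OT.ckEqW [X24, X1, X23, X0, X0, X0, X0, X25, X1, X22, X25, X22, X1, X25, X22, X1] [X28]) (nat_lit 412) (nat_lit 206) = true := by decide +kernel
theorem wk14_3 : allR (OT.ckEqW [X24, X1, X23, X0, X0, X0, X0, X25, X1, X22, X25, X22, X1, X25, X22, X1] [X28]) (nat_lit 618) (nat_lit 206) = true := by decide +kernel
theorem wk14_4 : allR (OT.ckEqW [X24, X1, X23, X0, X0, X0, X0, X25, X1, X22, X25, X22, X1, X25, X22, X1] [X28]) (nat_lit 824) (nat_lit 206) = true := by decide +kernel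
theorem wk14_5 : allR (OT.ckEqW [X24, X1, X23, X0, X0, X0, X0, X25, X1, X22, X25, X22, X1, X25, X22, X1] [X28]) (nat_lit 1030) (nat_lit 206) = true := by decide +kernel
theorem wk14_6 : allR (OT.ckEqW [X24, X1, X23, X0, X0, X0, X0, X25, X1, X22, X25, X22, X1, X25, X22, X1] [X28]) (nat_lit 1236) (nat_lit 206) = true := by decide +kernel
theorem wk14_7 : allR (OT.ckEqW [X24, X1, X23, X0, X0, X0, X0, X25, X1, X22, X25, X22, X1, X25, X22, X1] [X28]) (nat_lit 1442) (nat_lit 206) = true := by decide +kernel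
theorem wk14_8 : allR (OT.ckEqW [X24, X1, X23, X0, X0, X0, X0, X25, X1, X22, X25, X22, X1, X25, X22, X1] [X28]) (nat_lit 1648) (nat_lit 206) = true := by decide +kernel
theorem wk14_9 : allR (OT.ckEqW [X24, X1, X23, X0, X0, X0, X0, X25, X1, X22, X25, X22, X1, X25, X22, X1] [X28]) (nat_lit 1854) (nat_lit 206) = true := by decide +kernel
theorem wk14_10 : allR (OT.ckEqW [X24, X1, X23, X0, X0, X0, X0, X25, X1, X22, X25, X22, X1, X25, X22, X1] [X28]) (nat_lit 2060) (nat_lit 206) = true := by decide +kernel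
theorem wk14_11 : allR (OT.ckEqW [X24, X1, X23, X0, X0, X0, X0, X25, X1, X22, X25, X22, X1, X25, X22, X1] [X28]) (nat_lit 2266) (nat_lit 206) = true := by decide +kernel
theorem wk14_12 : allR (OT.ckEqW [X24, X1, X23, X0, X0, X0, X0, X25, X1, X22, X25, X22, X1, X25, X22, X1] [X28]) (nat_lit 2472) (nat_lit 206) = true := by decide +kernel
theorem wk14_13 : allR (OT.ckEqW [X24, X1, X23, X0, X0, X0, X0, X25, X1, X22, X25, X22, X1, X25, X22, X1] [X28]) (nat_lit 2678) (nat_lit 206) = true := by decide +kernel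
theorem wk14_14 : allR (OT.ckEqW [X24, X1, X23, X0, X0, X0, X0, X25, X1, X22, X25, X22, X1, X25, X22, X1] [X28]) (nat_lit 2884) (nat_lit 206) = true := by decide +kernel
theorem wk14_15 : allR (OT.ckEqW [X24, X1, X23, X0, X0, X0, X0, X25, X1, X22, X25, X22, X1, X25, X22, X1] [X28]) (nat_lit 3090) (nat_lit 206) = true := by decide +kernel
theorem wk14_16 : allR (OT.ckEqW [X24, X1, X23, X0, X0, X0, X0, X25, X1, X22, X25, X22, X1, X25, X22, X1] [X28]) (nat_lit 3296) (nat_lit 206) = true := by decide +kernel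
theorem wk25_0 : allR (OT.ckEqW [X24, X23, X25, X22, X22, X0, X25, X1, X1, X25, X22, X0, X0, X25, X1, X1] [X50]) (nat_lit 0) (nat_lit 206) = true := by decide +kernel
theorem wk25_1 : allR (OT.ckEqW [X24, X23, X25, X22, X22, X0, X25, X1, X1, X25, X22, X0, X0, X25, X1, X1] [X50]) (nat_lit 206) (nat_lit 206) = true := by decide +kernel
theorem wk25_2 : allR (OT.ckEqW [X24, X23, X25, X22, X22, X0, X25, X1, X1, X25, X22, X0, X0, X25, X1, X1] [X50]) (nat_lit 412) (nat_lit 206) = true := by decide +kernel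
theorem wk25_3 : allR (OT.ckEqW [X24, X23, X25, X22, X22, X0, X25, X1, X1, X25, X22, X0, X0, X25, X1, X1] [X50]) (nat_lit 618) (nat_lit 206) = true := by decide +kernel
theorem wk25_4 : allR (OT.ckEqW [X24, X23, X25, X22, X22, X0, X25, X1, X1, X25, X22, X0, X0, X25, X1, X1] [X50]) (nat_lit 824) (nat_lit 206) = true := by decide +kernel
theorem wk25_5 : allR (OT.ckEqW [X24, X23, X25, X22, X22, X0, X25, X1, X1, X25, X22, X0, X0, X25, X1, X1] [X50]) (nat_lit 1030) (nat_lit 206) = true := by decide +kernel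
theorem wk25_6 : allR (OT.ckEqW [X24, X23, X25, X22, X22, X0, X25, X1, X1, X25, X22, X0, X0, X25, X1, X1] [X50]) (nat_lit 1236) (nat_lit 206) = true := by decide +kernel
theorem wk25_7 : allR (OT.ckEqW [X24, X23, X25, X22, X22, X0, X25, X1, X1, X25, X22, X0, X0, X25, X1, X1] [X50]) (nat_lit 1442) (nat_lit 206) = true := by decide +kernel
theorem wk25_8 : allR (OT.ckEqW [X24, X23, X25, X22, X22, X0, X25, X1, X1, X25, X22, X0, X0, X25, X1, X1] [X50]) (nat_lit 1648) (nat_lit 206) = true := by decide +kernel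
theorem wk25_9 : allR (OT.ckEqW [X24, X23, X25, X22, X22, X0, X25, X1, X1, X25, X22, X0, X0, X25, X1, X1] [X50]) (nat_lit 1854) (nat_lit 206) = true := by decide +kernel
theorem wk25_10 : allR (OT.ckEqW [X24, X23, X25, X22, X22, X0, X25, X1, X1, X25, X22, X0, X0, X25, X1, X1] [X50]) (nat_lit 2060) (nat_lit 206) = true := by decide +kernel
theorem wk25_11 : allR (OT.ckEqW [X24, X23, X25, X22, X22, X0, X25, X1, X1, X25, X22, X0, X0, X25, X1, X1] [X50]) (nat_lit 2266) (nat_lit 206) = true := by decide +kernel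
theorem wk25_12 : allR (OT.ckEqW [X24, X23, X25, X22, X22, X0, X25, X1, X1, X25, X22, X0, X0, X25, X1, X1] [X50]) (nat_lit 2472) (nat_lit 206) = true := by decide +kernel
theorem wk25_13 : allR (OT.ckEqW [X24, X23, X25, X22, X22, X0, X25, X1, X1, X25, X22, X0, X0, X25, X1, X1] [X50]) (nat_lit 2678) (nat_lit 206) = true := by decide +kernel
theorem wk25_14 : allR (OT.ckEqW [X24, X23, X25, X22, X22, X0, X25, X1, X1, X25, X22, X0, X0, X25, X1, X1] [X50]) (nat_lit 2884) (nat_lit 206) = true := by decide +kernel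
theorem wk25_15 : allR (OT.ckEqW [X24, X23, X25, X22, X22, X0, X25, X1, X1, X25, X22, X0, X0, X25, X1, X1] [X50]) (nat_lit 3090) (nat_lit 206) = true := by decide +kernel
theorem wk25_16 : allR (OT.ckEqW [X24, X23, X25, X22, X22, X0, X25, X1, X1, X25, X22, X0, X0, X25, X1, X1] [X50]) (nat_lit 3296) (nat_lit 206) = true := by decide +kernel
theorem wk2_0 : allR (OT.ckEqW [T8, T0, T3, X1, T1, T2, T3, X1, T8, T5, T2, T3, X1] [X4]) (nat_lit 0) (nat_lit 250) = true := by decide +kernel
theorem wk2_1 : allR (OT.ckEqW [T8, T0, T3, X1, T1, T2, T3, X1, T8, T5, T2, T3, X1] [X4]) (nat_lit 250) (nat_lit 250) = true := by decide +kernel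
theorem wk2_2 : allR (OT.ckEqW [T8, T0, T3, X1, T1, T2, T3, X1, T8, T5, T2, T3, X1] [X4]) (nat_lit 500) (nat_lit 250) = true := by decide +kernel
theorem wk2_3 : allR (OT.ckEqW [T8, T0, T3, X1, T1, T2, T3, X1, T8, T5, T2, T3, X1] [X4]) (nat_lit 750) (nat_lit 250) = true := by decide +kernel
theorem wk2_4 : allR (OT.ckEqW [T8, T0, T3, X1, T1, T2, T3, X1, T8, T5, T2, T3, X1] [X4]) (nat_lit 1000) (nat_lit 250) = true := by decide +kernel
theorem wk2_5 : allR (OT.ckEqW [T8, T0, T3, X1, T1, T2, T3, X1, T8, T5, T2, T3, X1] [X4]) (nat_lit 1250) (nat_lit 250) = true := by decide +kernel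
theorem wk2_6 : allR (OT.ckEqW [T8, T0, T3, X1, T1, T2, T3, X1, T8, T5, T2, T3, X1] [X4]) (nat_lit 1500) (nat_lit 250) = true := by decide +kernel
theorem wk2_7 : allR (OT.ckEqW [T8, T0, T3, X1, T1, T2, T3, X1, T8, T5, T2, T3, X1] [X4]) (nat_lit 1750) (nat_lit 250) = true := by decide +kernel
theorem wk2_8 : allR (OT.ckEqW [T8, T0, T3, X1, T1, T2, T3, X1, T8, T5, T2, T3, X1] [X4]) (nat_lit 2000) (nat_lit 250) = true := by decide +kernel
theorem wk2_9 : allR (OT.ckEqW [T8, T0, T3, X1, T1, T2, T3, X1, T8, T5, T2, T3, X1] [X4]) (nat_lit 2250) (nat_lit 250) = true := by decide +kernel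
theorem wk2_10 : allR (OT.ckEqW [T8, T0, T3, X1, T1, T2, T3, X1, T8, T5, T2, T3, X1] [X4]) (nat_lit 2500) (nat_lit 250) = true := by decide +kernel
theorem wk2_11 : allR (OT.ckEqW [T8, T0, T3, X1, T1, T2, T3, X1, T8, T5, T2, T3, X1] [X4]) (nat_lit 2750) (nat_lit 250) = true := by decide +kernel
theorem wk2_12 : allR (OT.ckEqW [T8, T0, T3, X1, T1, T2, T3, X1, T8, T5, T2, T3, X1] [X4]) (nat_lit 3000) (nat_lit 250) = true := by decide +kernel
theorem wk2_13 : allR (OT.ckEqW [T8, T0, T3, X1, T1, T2, T3, X1, T8, T5, T2, T3, X1] [X4]) (nat_lit 3250) (nat_lit 250) = true := by decide +kernel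
theorem wk16_0 : allR (OT.ckEqW [X29, X31, X28, X28, X28, X28, X31, X28, X31, X31, X28, X28, X30] [X32]) (nat_lit 0) (nat_lit 250) = true := by decide +kernel
theorem wk16_1 : allR (OT.ckEqW [X29, X31, X28, X28, X28, X28, X31, X28, X31, X31, X28, X28, X30] [X32]) (nat_lit 250) (nat_lit 250) = true := by decide +kernel
theorem wk16_2 : allR (OT.ckEqW [X29, X31, X28, X28, X28, X28, X31, X28, X31, X31, X28, X28, X30] [X32]) (nat_lit 500) (nat_lit 250) = true := by decide +kernel
theorem wk16_3 : allR (OT.ckEqW [X29, X31, X28, X28, X28, X28, X31, X28, X31, X31, X28, X28, X30] [X32]) (nat_lit 750) (nat_lit 250) = true := by decide +kernel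
theorem wk16_4 : allR (OT.ckEqW [X29, X31, X28, X28, X28, X28, X31, X28, X31, X31, X28, X28, X30] [X32]) (nat_lit 1000) (nat_lit 250) = true := by decide +kernel
theorem wk16_5 : allR (OT.ckEqW [X29, X31, X28, X28, X28, X28, X31, X28, X31, X31, X28, X28, X30] [X32]) (nat_lit 1250) (nat_lit 250) = true := by decide +kernel
theorem wk16_6 : allR (OT.ckEqW [X29, X31, X28, X28, X28, X28, X31, X28, X31, X31, X28, X28, X30] [X32]) (nat_lit 1500) (nat_lit 250) = true := by decide +kernel
theorem wk16_7 : allR (OT.ckEqW [X29, X31, X28, X28, X28, X28, X31, X28, X31, X31, X28, X28, X30] [X32]) (nat_lit 1750) (nat_lit 250) = true := by decide +kernel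
theorem wk16_8 : allR (OT.ckEqW [X29, X31, X28, X28, X28, X28, X31, X28, X31, X31, X28, X28, X30] [X32]) (nat_lit 2000) (nat_lit 250) = true := by decide +kernel
theorem wk16_9 : allR (OT.ckEqW [X29, X31, X28, X28, X28, X28, X31, X28, X31, X31, X28, X28, X30] [X32]) (nat_lit 2250) (nat_lit 250) = true := by decide +kernel
theorem wk16_10 : allR (OT.ckEqW [X29, X31, X28, X28, X28, X28, X31, X28, X31, X31, X28, X28, X30] [X32]) (nat_lit 2500) (nat_lit 250) = true := by decide +kernel
theorem wk16_11 : allR (OT.ckEqW [X29, X31, X28, X28, X28, X28, X31, X28, X31, X31, X28, X28, X30] [X32]) (nat_lit 2750) (nat_lit 250) = true := by decide +kernel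
theorem wk16_12 : allR (OT.ckEqW [X29, X31, X28, X28, X28, X28, X31, X28, X31, X31, X28, X28, X30] [X32]) (nat_lit 3000) (nat_lit 250) = true := by decide +kernel
theorem wk16_13 : allR (OT.ckEqW [X29, X31, X28, X28, X28, X28, X31, X28, X31, X31, X28, X28, X30] [X32]) (nat_lit 3250) (nat_lit 250) = true := by decide +kernel
theorem wk18_0 : allR (OT.ckEqW [X33, X34, X32, X35, X32, X35, X33, X33, X35, X35, X33, X34, X32] [X36]) (nat_lit 0) (nat_lit 250) = true := by decide +kernel
theorem wk18_1 : allR (OT.ckEqW [X33, X34, X32, X35, X32, X35, X33, X33, X35, X35, X33, X34, X32] [X36]) (nat_lit 250) (nat_lit 250) = true := by decide +kernel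
theorem wk18_2 : allR (OT.ckEqW [X33, X34, X32, X35, X32, X35, X33, X33, X35, X35, X33, X34, X32] [X36]) (nat_lit 500) (nat_lit 250) = true := by decide +kernel
theorem wk18_3 : allR (OT.ckEqW [X33, X34, X32, X35, X32, X35, X33, X33, X35, X35, X33, X34, X32] [X36]) (nat_lit 750) (nat_lit 250) = true := by decide +kernel
theorem wk18_4 : allR (OT.ckEqW [X33, X34, X32, X35, X32, X35, X33, X33, X35, X35, X33, X34, X32] [X36]) (nat_lit 1000) (nat_lit 250) = true := by decide +kernel
theorem wk18_5 : allR (OT.ckEqW [X33, X34, X32, X35, X32, X35, X33, X33, X35, X35, X33, X34, X32] [X36]) (nat_lit 1250) (nat_lit 250) = true := by decide +kernel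
theorem wk18_6 : allR (OT.ckEqW [X33, X34, X32, X35, X32, X35, X33, X33, X35, X35, X33, X34, X32] [X36]) (nat_lit 1500) (nat_lit 250) = true := by decide +kernel
theorem wk18_7 : allR (OT.ckEqW [X33, X34, X32, X35, X32, X35, X33, X33, X35, X35, X33, X34, X32] [X36]) (nat_lit 1750) (nat_lit 250) = true := by decide +kernel
theorem wk18_8 : allR (OT.ckEqW [X33, X34, X32, X35, X32, X35, X33, X33, X35, X35, X33, X34, X32] [X36]) (nat_lit 2000) (nat_lit 250) = true := by decide +kernel
theorem wk18_9 : allR (OT.ckEqW [X33, X34, X32, X35, X32, X35, X33, X33, X35, X35, X33, X34, X32] [X36]) (nat_lit 2250) (nat_lit 250) = true := by decide +kernel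
theorem wk18_10 : allR (OT.ckEqW [X33, X34, X32, X35, X32, X35, X33, X33, X35, X35, X33, X34, X32] [X36]) (nat_lit 2500) (nat_lit 250) = true := by decide +kernel
theorem wk18_11 : allR (OT.ckEqW [X33, X34, X32, X35, X32, X35, X33, X33, X35, X35, X33, X34, X32] [X36]) (nat_lit 2750) (nat_lit 250) = true := by decide +kernel
theorem wk18_12 : allR (OT.ckEqW [X33, X34, X32, X35, X32, X35, X33, X33, X35, X35, X33, X34, X32] [X36]) (nat_lit 3000) (nat_lit 250) = true := by decide +kernel
theorem wk18_13 : allR (OT.ckEqW [X33, X34, X32, X35, X32, X35, X33, X33, X35, X35, X33, X34, X32] [X36]) (nat_lit 3250) (nat_lit 250) = true := by decide +kernel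
theorem wk5_0 : allR (OT.ckEqW [X8, X7, X8, X7, X7, X9, X9, X7, X9, X9, X6, X6, X9, X6, X9, X9, X7, X9] [X10]) (nat_lit 0) (nat_lit 184) = true := by decide +kernel
theorem wk5_1 : allR (OT.ckEqW [X8, X7, X8, X7, X7, X9, X9, X7, X9, X9, X6, X6, X9, X6, X9, X9, X7, X9] [X10]) (nat_lit 184) (nat_lit 184) = true := by decide +kernel
theorem wk5_2 : allR (OT.ckEqW [X8, X7, X8, X7, X7, X9, X9, X7, X9, X9, X6, X6, X9, X6, X9, X9, X7, X9] [X10]) (nat_lit 368) (nat_lit 184) = true := by decide +kernel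
theorem wk5_3 : allR (OT.ckEqW [X8, X7, X8, X7, X7, X9, X9, X7, X9, X9, X6, X6, X9, X6, X9, X9, X7, X9] [X10]) (nat_lit 552) (nat_lit 184) = true := by decide +kernel
theorem wk5_4 : allR (OT.ckEqW [X8, X7, X8, X7, X7, X9, X9, X7, X9, X9, X6, X6, X9, X6, X9, X9, X7, X9] [X10]) (nat_lit 736) (nat_lit 184) = true := by decide +kernel
theorem wk5_5 : allR (OT.ckEqW [X8, X7, X8, X7, X7, X9, X9, X7, X9, X9, X6, X6, X9, X6, X9, X9, X7, X9] [X10]) (nat_lit 920) (nat_lit 184) = true := by decide +kernel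
theorem wk5_6 : allR (OT.ckEqW [X8, X7, X8, X7, X7, X9, X9, X7, X9, X9, X6, X6, X9, X6, X9, X9, X7, X9] [X10]) (nat_lit 1104) (nat_lit 184) = true := by decide +kernel
theorem wk5_7 : allR (OT.ckEqW [X8, X7, X8, X7, X7, X9, X9, X7, X9, X9, X6, X6, X9, X6, X9, X9, X7, X9] [X10]) (nat_lit 1288) (nat_lit 184) = true := by decide +kernel
theorem wk5_8 : allR (OT.ckEqW [X8, X7, X8, X7, X7, X9, X9, X7, X9, X9, X6, X6, X9, X6, X9, X9, X7, X9] [X10]) (nat_lit 1472) (nat_lit 184) = true := by decide +kernel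
theorem wk5_9 : allR (OT.ckEqW [X8, X7, X8, X7, X7, X9, X9, X7, X9, X9, X6, X6, X9, X6, X9, X9, X7, X9] [X10]) (nat_lit 1656) (nat_lit 184) = true := by decide +kernel
theorem wk5_10 : allR (OT.ckEqW [X8, X7, X8, X7, X7, X9, X9, X7, X9, X9, X6, X6, X9, X6, X9, X9, X7, X9] [X10]) (nat_lit 1840) (nat_lit 184) = true := by decide +kernel
theorem wk5_11 : allR (OT.ckEqW [X8, X7, X8, X7, X7, X9, X9, X7, X9, X9, X6, X6, X9, X6, X9, X9, X7, X9] [X10]) (nat_lit 2024) (nat_lit 184) = true := by decide +kernel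
theorem wk5_12 : allR (OT.ckEqW [X8, X7, X8, X7, X7, X9, X9, X7, X9, X9, X6, X6, X9, X6, X9, X9, X7, X9] [X10]) (nat_lit 2208) (nat_lit 184) = true := by decide +kernel
theorem wk5_13 : allR (OT.ckEqW [X8, X7, X8, X7, X7, X9, X9, X7, X9, X9, X6, X6, X9, X6, X9, X9, X7, X9] [X10]) (nat_lit 2392) (nat_lit 184) = true := by decide +kernel
theorem wk5_14 : allR (OT.ckEqW [X8, X7, X8, X7, X7, X9, X9, X7, X9, X9, X6, X6, X9, X6, X9, X9, X7, X9] [X10]) (nat_lit 2576) (nat_lit 184) = true := by decide +kernel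
theorem wk5_15 : allR (OT.ckEqW [X8, X7, X8, X7, X7, X9, X9, X7, X9, X9, X6, X6, X9, X6, X9, X9, X7, X9] [X10]) (nat_lit 2760) (nat_lit 184) = true := by decide +kernel
theorem wk5_16 : allR (OT.ckEqW [X8, X7, X8, X7, X7, X9, X9, X7, X9, X9, X6, X6, X9, X6, X9, X9, X7, X9] [X10]) (nat_lit 2944) (nat_lit 184) = true := by decide +kernel
theorem wk5_17 : allR (OT.ckEqW [X8, X7, X8, X7, X7, X9, X9, X7, X9, X9, X6, X6, X9, X6, X9, X9, X7, X9] [X10]) (nat_lit 3128) (nat_lit 184) = true := by decide +kernel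
theorem wk5_18 : allR (OT.ckEqW [X8, X7, X8, X7, X7, X9, X9, X7, X9, X9, X6, X6, X9, X6, X9, X9, X7, X9] [X10]) (nat_lit 3312) (nat_lit 184) = true := by decide +kernel
theorem wk5_19 : allR (OT.ckEqW [X8, X7, X8, X7, X7, X9, X9, X7, X9, X9, X6, X6, X9, X6, X9, X9, X7, X9] [X10]) (nat_lit 3496) (nat_lit 14) = true := by decide +kernel
theorem wk12_31 : allR (OT.ckEqW [X20, X13, X15, X12, X7, X8, X7, X8, X6, X8, X7, X5, X3, X4, X3, X4, X3, X4, X4, X3, X3, T1, X0, T3, T4, T6, X0, X0, X0, X0] [X24]) (nat_lit 3503) (nat_lit 7) = true := by decide +kernel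
theorem wk11_24 : allR (OT.ckEqW [X20, X13, X11, X15, X6, X8, X6, X6, X6, X9, X2, X5, X5, X2, X2, X5, X5, T1, X0, X0, X0, X0, X0] [X22]) (nat_lit 3504) (nat_lit 6) = true := by decide +kernel
theorem wk2_14 : allR (OT.ckEqW [T8, T0, T3, X1, T1, T2, T3, X1, T8, T5, T2, T3, X1] [X4]) (nat_lit 3500) (nat_lit 10) = true := by decide +kernel
theorem wk16_14 : allR (OT.ckEqW [X29, X31, X28, X28, X28, X28, X31, X28, X31, X31, X28, X28, X30] [X32]) (nat_lit 3500) (nat_lit 10) = true := by decide +kernel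
theorem wk18_14 : allR (OT.ckEqW [X33, X34, X32, X35, X32, X35, X33, X33, X35, X35, X33, X34, X32] [X36]) (nat_lit 3500) (nat_lit 10) = true := by decide +kernel
theorem wk14_17 : allR (OT.ckEqW [X24, X1, X23, X0, X0, X0, X0, X25, X1, X22, X25, X22, X1, X25, X22, X1] [X28]) (nat_lit 3502) (nat_lit 8) = true := by decide +kernel
theorem wk25_17 : allR (OT.ckEqW [X24, X23, X25, X22, X22, X0, X25, X1, X1, X25, X22, X0, X0, X25, X1, X1] [X50]) (nat_lit 3502) (nat_lit 8) = true := by decide +kernel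
theorem wk6_16 : allR (OT.ckEqW [X9, X7, X8, X7, X8, X6, X6, X8, X6, X9, X7, X8, X6, X8, X8] [X12]) (nat_lit 3504) (nat_lit 6) = true := by decide +kernel
theorem wk17_16 : allR (OT.ckEqW [X31, X31, X28, X28, X28, X28, X28, X30, X29, X31, X28, X31, X28, X30, X30] [X34]) (nat_lit 3504) (nat_lit 6) = true := by decide +kernel
theorem wk1_12 : allR (OT.ckEqW [T6, T4, T5, T0, T1, T5, X1, T2, T4, T8, X0] [X2]) (nat_lit 3504) (nat_lit 6) = true := by decide +kernel
theorem wk7_12 : allR (OT.ckEqW [X9, X7, X8, X6, X8, X6, X9, X7, X8, X6, X8] [X14]) (nat_lit 3504) (nat_lit 6) = true := by decide +kernel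
theorem wk15_12 : allR (OT.ckEqW [X22, X0, X25, X22, X1, X25, X0, X23, X25, X22, X0] [X30]) (nat_lit 3504) (nat_lit 6) = true := by decide +kernel
theorem wk24_12 : allR (OT.ckEqW [X25, X0, X22, X22, X0, X23, X25, X22, X1, X25, X1] [X48]) (nat_lit 3504) (nat_lit 6) = true := by decide +kernel
theorem wk3_8 : allR (OT.ckEqW [X2, X4, X4, X2, X4, X3, X3] [X6]) (nat_lit 3504) (nat_lit 6) = true := by decide +kernel
theorem wk9_7 : allR (OT.ckEqW [X15, X13, X14, X11, X11, X14] [X18]) (nat_lit 3507) (nat_lit 3) = true := by decide +kernel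
theorem wk21_7 : allR (OT.ckEqW [X38, X36, X38, X36, X41, X36] [X42]) (nat_lit 3507) (nat_lit 3) = true := by decide +kernel
theorem wk31_7 : allR (OT.ckEqW [X60, X59, X59, X60, X60, X57] [X62]) (nat_lit 3507) (nat_lit 3) = true := by decide +kernel
theorem wk20_11 : allR (OT.ckEqW [X35, X33, X35, X35, X33, X35, X35, X33, X33, X35] [X40]) (nat_lit 3509) (nat_lit 1) = true := by decide +kernel
theorem wk22_11 : allR (OT.ckEqW [X38, X40, X40, X39, X36, X38, X36, X41, X37, X41] [X44]) (nat_lit 3509) (nat_lit 1) = true := by decide +kernel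
theorem wk29_11 : allR (OT.ckEqW [X55, X53, X53, X53, X53, X55, X53, X54, X52, X55] [X58]) (nat_lit 3509) (nat_lit 1) = true := by decide +kernel
theorem wk23_4 : allR (OT.ckEqW [X39, X41, X39] [X46]) (nat_lit 3508) (nat_lit 2) = true := by decide +kernel

end Cfsg.Agent.H8.Fi22O
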