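import Cfsg.Agent.H8.T.Fi22atTab

set_option autoImplicit false
set_option linter.all false
set_option maxRecDepth 100000

namespace Cfsg.Agent.H8.Fi22at
theorem rk3 : allR (fun i => powT [T0, T4] i (nat_lit 2) i) (nat_lit 0) (nat_lit 0x3700) = true := by decide +kernel
theorem rk6 : allR (fun i => powT [T0, T7] i (nat_lit 2) i) (nat_lit 0) (nat_lit 0x3700) = true := by decide +kernel
theorem rk10 : allR (fun i => powT [T1, T4] i (nat_lit 2) i) (nat_lit 0) (nat_lit 0x3700) = true := by decide +kernel
theorem rk13 : allR (fun i => powT [T1, T7] i (nat_lit 2) i) (nat_lit 0) (nat_lit 0x3700) = true := by decide +kernel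
theorem rk17 : allR (fun i => powT [T2, T5] i (nat_lit 2) i) (nat_lit 0) (nat_lit 0x3700) = true := by decide +kernel
theorem rk20 : allR (fun i => powT [T2, T8] i (nat_lit 2) i) (nat_lit 0) (nat_lit 0x3700) = true := by decide +kernel
theorem rk25 : allR (fun i => powT [T3, T8] i (nat_lit 2) i) (nat_lit 0) (nat_lit 0x3700) = true := by decide +kernel
theorem rk29 : allR (fun i => powT [T4, T8] i (nat_lit 2) i) (nat_lit 0) (nat_lit 0x3700) = true := by decide +kernel
theorem rk33 : allR (fun i => powT [T6, T7] i (nat_lit 2) i) (nat_lit 0) (nat_lit 0x3700) = true := by decide +kernel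
theorem rk36 : allR (fun i => powT [T3, T2, T1, T3, T4, T5, T3, T7, T8] i (nat_lit 10) i) (nat_lit 0) (nat_lit 0x3700) = true := by decide +kernel

end Cfsg.Agent.H8.Fi22at
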