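import Cfsg.Agent.H8.T.Fi22atTab

set_option autoImplicit false
set_option linter.all false
set_option maxRecDepth 100000

namespace Cfsg.Agent.H8.Fi22at
theorem rk2 : allR (fun i => powT [T0, T3] i (nat_lit 2) i) (nat_lit 0) (nat_lit 0x3700) = true := by decide +kernel
theorem rk5 : allR (fun i => powT [T0, T6] i (nat_lit 2) i) (nat_lit 0) (nat_lit 0x3700) = true := by decide +kernel
theorem rk8 : allR (fun i => powT [T1, T2] i (nat_lit 3) i) (nat_lit 0) (nat_lit 0x3700) = true := by decide +kernel
theorem rk9 : allR (fun i => powT [T1, T3] i (nat_lit 2) i) (nat_lit 0) (nat_lit 0x3700) = true := by decide +kernel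
theorem rk12 : allR (fun i => powT [T1, T6] i (nat_lit 2) i) (nat_lit 0) (nat_lit 0x3700) = true := by decide +kernel
theorem rk16 : allR (fun i => powT [T2, T4] i (nat_lit 2) i) (nat_lit 0) (nat_lit 0x3700) = true := by decide +kernel
theorem rk19 : allR (fun i => powT [T2, T7] i (nat_lit 2) i) (nat_lit 0) (nat_lit 0x3700) = true := by decide +kernel
theorem rk21 : allR (fun i => powT [T3, T4] i (nat_lit 3) i) (nat_lit 0) (nat_lit 0x3700) = true := by decide +kernel
theorem rk23 : allR (fun i => powT [T3, T6] i (nat_lit 2) i) (nat_lit 0) (nat_lit 0x3700) = true := by decide +kernel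
theorem rk26 : allR (fun i => powT [T4, T5] i (nat_lit 3) i) (nat_lit 0) (nat_lit 0x3700) = true := by decide +kernel
theorem rk28 : allR (fun i => powT [T4, T7] i (nat_lit 2) i) (nat_lit 0) (nat_lit 0x3700) = true := by decide +kernel
theorem rk32 : allR (fun i => powT [T5, T8] i (nat_lit 2) i) (nat_lit 0) (nat_lit 0x3700) = true := by decide +kernel
theorem rk35 : allR (fun i => powT [T7, T8] i (nat_lit 3) i) (nat_lit 0) (nat_lit 0x3700) = true := by decide +kernel
theorem rk38 : allR (fun i => powT [T1, T2, T3, T4, T5, T6, T7] i (nat_lit 9) i) (nat_lit 0) (nat_lit 0x3700) = true := by decide +kernel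

end Cfsg.Agent.H8.Fi22at
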