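import Cfsg.Agent.H8.T.Fi23Oa

set_option Elab.async false
set_option autoImplicit false
set_option linter.all false
set_option maxRecDepth 100000
set_option maxHeartbeats 400000

namespace Cfsg.Agent.H8.Fi23O
open Cfsg.Agent.H8.Fi23t (T0 T1 T2 T3 T4 T5 T6 T7 T8 T9)

theorem wk5_0 : allR (OT.ckEqW [X6, X8, X8, X7, X7, X8, X6, X6, X9, X9, X7, X8, X8, X6, X9, X7] [X10]) (nat_lit 0) (nat_lit 1863) = true := by decide +kernel
theorem wk5_7 : allR (OT.ckEqW [X6, X8, X8, X7, X7, X8, X6, X6, X9, X9, X7, X8, X8, X6, X9, X7] [X10]) (nat_lit 13041) (nat_lit 1863) = true := by decide +kernel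
theorem wk5_14 : allR (OT.ckEqW [X6, X8, X8, X7, X7, X8, X6, X6, X9, X9, X7, X8, X8, X6, X9, X7] [X10]) (nat_lit 26082) (nat_lit 1863) = true := by decide +kernel
theorem wk25_1 : allR (OT.ckEqW [X1, X23, X1, X23, X24, X1, X25, X1, X25, X23, X0, X0, X25, X0, X25, X1] [X50]) (nat_lit 1863) (nat_lit 1863) = true := by decide +kernel
theorem wk25_8 : allR (OT.ckEqW [X1, X23, X1, X23, X24, X1, X25, X1, X25, X23, X0, X0, X25, X0, X25, X1] [X50]) (nat_lit 14904) (nat_lit 1863) = true := by decide +kernel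
theorem wk25_15 : allR (OT.ckEqW [X1, X23, X1, X23, X24, X1, X25, X1, X25, X23, X0, X0, X25, X0, X25, X1] [X50]) (nat_lit 27945) (nat_lit 1863) = true := by decide +kernel
theorem pk5_0 : allR (ckPerm (nat_lit 31671) X5 X4) (nat_lit 0) (nat_lit 15835) = true := by decide +kernel
theorem pk8_1 : allR (ckPerm (nat_lit 31671) X8 X9) (nat_lit 15835) (nat_lit 15835) = true := by decide +kernel
theorem pk12_0 : allR (ckPerm (nat_lit 31671) X12 X13) (nat_lit 0) (nat_lit 15835) = true := by decide +kernel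
theorem pk15_1 : allR (ckPerm (nat_lit 31671) X15 X14) (nat_lit 15835) (nat_lit 15835) = true := by decide +kernel
theorem pk19_0 : allR (ckPerm (nat_lit 31671) X19 X18) (nat_lit 0) (nat_lit 15835) = true := by decide +kernel
theorem pk22_1 : allR (ckPerm (nat_lit 31671) X22 X23) (nat_lit 15835) (nat_lit 15835) = true := by decide +kernel
theorem pk26_0 : allR (ckPerm (nat_lit 31671) X26 X27) (nat_lit 0) (nat_lit 15835) = true := by decide +kernel
theorem pk29_1 : allR (ckPerm (nat_lit 31671) X29 X28) (nat_lit 15835) (nat_lit 15835) = true := by decide +kernel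
theorem pk33_0 : allR (ckPerm (nat_lit 31671) X33 X32) (nat_lit 0) (nat_lit 15835) = true := by decide +kernel
theorem pk36_1 : allR (ckPerm (nat_lit 31671) X36 X37) (nat_lit 15835) (nat_lit 15835) = true := by decide +kernel
theorem pk40_0 : allR (ckPerm (nat_lit 31671) X40 X41) (nat_lit 0) (nat_lit 15835) = true := by decide +kernel
theorem pk43_1 : allR (ckPerm (nat_lit 31671) X43 X42) (nat_lit 15835) (nat_lit 15835) = true := by decide +kernel
theorem pk47_0 : allR (ckPerm (nat_lit 31671) X47 X46) (nat_lit 0) (nat_lit 15835) = true := by decide +kernel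
theorem pk50_1 : allR (ckPerm (nat_lit 31671) X50 X51) (nat_lit 15835) (nat_lit 15835) = true := by decide +kernel
theorem pk54_0 : allR (ckPerm (nat_lit 31671) X54 X55) (nat_lit 0) (nat_lit 15835) = true := by decide +kernel
theorem pk57_1 : allR (ckPerm (nat_lit 31671) X57 X56) (nat_lit 15835) (nat_lit 15835) = true := by decide +kernel
theorem pk61_0 : allR (ckPerm (nat_lit 31671) X61 X60) (nat_lit 0) (nat_lit 15835) = true := by decide +kernel
theorem wk0_1 : allR (OT.ckEqW [T0, T1, T2, T3, T4, T5, T7, T6, T8] [X0]) (nat_lit 3167) (nat_lit 3167) = true := by decide +kernel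
theorem wk0_8 : allR (OT.ckEqW [T0, T1, T2, T3, T4, T5, T7, T6, T8] [X0]) (nat_lit 25336) (nat_lit 3167) = true := by decide +kernel
theorem wk3_0 : allR (OT.ckEqW [X5] [X6]) (nat_lit 0) (nat_lit 15835) = true := by decide +kernel
theorem wk10_5 : allR (OT.ckEqW [X10, X12, X11, X14, X14, X14, X10, X12, X10] [X20]) (nat_lit 15835) (nat_lit 3167) = true := by decide +kernel
theorem wk21_2 : allR (OT.ckEqW [X39, X37, X37, X38, X40, X37, X37, X38, X41] [X42]) (nat_lit 6334) (nat_lit 3167) = true := by decide +kernel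
theorem wk21_9 : allR (OT.ckEqW [X39, X37, X37, X38, X40, X37, X37, X38, X41] [X42]) (nat_lit 28503) (nat_lit 3167) = true := by decide +kernel
theorem wk4_7 : allR (OT.ckEqW [X3, X5, X3, X5, X3, X5, X5, X2, X2, X2] [X8]) (nat_lit 20153) (nat_lit 2879) = true := by decide +kernel
theorem wk31_3 : allR (OT.ckEqW [X59, X56, X56, X58, X57, X59, X59, X59, X57, X58] [X62]) (nat_lit 8637) (nat_lit 2879) = true := by decide +kernel
theorem wk31_10 : allR (OT.ckEqW [X59, X56, X56, X58, X57, X59, X59, X59, X57, X58] [X62]) (nat_lit 28790) (nat_lit 2879) = true := by decide +kernel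
theorem wk6_0 : allR (OT.ckEqW [X6, X9, X6, X8, X8, X7, X9, X7, X7, X7, X9, X6, X6, X8, X6, X8, X6, X8, X6, X9] [X12]) (nat_lit 0) (nat_lit 1508) = true := by decide +kernel
theorem wk6_7 : allR (OT.ckEqW [X6, X9, X6, X8, X8, X7, X9, X7, X7, X7, X9, X6, X6, X8, X6, X8, X6, X8, X6, X9] [X12]) (nat_lit 10556) (nat_lit 1508) = true := by decide +kernel
theorem wk6_14 : allR (OT.ckEqW [X6, X9, X6, X8, X8, X7, X9, X7, X7, X7, X9, X6, X6, X8, X6, X8, X6, X8, X6, X9] [X12]) (nat_lit 21112) (nat_lit 1508) = true := by decide +kernel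
theorem wk8_0 : allR (OT.ckEqW [X13, X13, X13, X14, X12, X12, X10, X15, X13, X10, X12, X10] [X16]) (nat_lit 0) (nat_lit 2436) = true := by decide +kernel
theorem wk8_7 : allR (OT.ckEqW [X13, X13, X13, X14, X12, X12, X10, X15, X13, X10, X12, X10] [X16]) (nat_lit 17052) (nat_lit 2436) = true := by decide +kernel
theorem wk9_1 : allR (OT.ckEqW [X10, X15, X15, X11, X12, X10, X14, X11, X15, X10, X12, X10] [X18]) (nat_lit 2436) (nat_lit 2436) = true := by decide +kernel
theorem wk9_8 : allR (OT.ckEqW [X10, X15, X15, X11, X12, X10, X14, X11, X15, X10, X12, X10] [X18]) (nat_lit 19488) (nat_lit 2436) = true := by decide +kernel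
theorem wk19_2 : allR (OT.ckEqW [X35, X32, X34, X32, X35, X33, X34, X33, X34, X33, X34, X34] [X38]) (nat_lit 4872) (nat_lit 2436) = true := by decide +kernel
theorem wk19_9 : allR (OT.ckEqW [X35, X32, X34, X32, X35, X33, X34, X33, X34, X33, X34, X34] [X38]) (nat_lit 21924) (nat_lit 2436) = true := by decide +kernel
theorem wk20_3 : allR (OT.ckEqW [X35, X35, X32, X32, X32, X32, X32, X34, X34, X32, X32, X32] [X40]) (nat_lit 7308) (nat_lit 2436) = true := by decide +kernel
theorem wk20_10 : allR (OT.ckEqW [X35, X35, X32, X32, X32, X32, X32, X34, X34, X32, X32, X32] [X40]) (nat_lit 24360) (nat_lit 2436) = true := by decide +kernel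
theorem wk23_4 : allR (OT.ckEqW [X39, X39, X36, X40, X36, X38, X37, X38, X41, X37, X39] [X46]) (nat_lit 10556) (nat_lit 2639) = true := by decide +kernel
theorem wk23_11 : allR (OT.ckEqW [X39, X39, X36, X40, X36, X38, X37, X38, X41, X37, X39] [X46]) (nat_lit 29029) (nat_lit 2639) = true := by decide +kernel
theorem wk26_6 : allR (OT.ckEqW [X49, X51, X48, X50, X48, X50, X50, X48, X51, X49, X49, X51, X51, X51, X48, X48, X51, X48, X50, X49] [X52]) (nat_lit 9048) (nat_lit 1508) = true := by decide +kernel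
theorem wk26_13 : allR (OT.ckEqW [X49, X51, X48, X50, X48, X50, X50, X48, X51, X49, X49, X51, X51, X51, X48, X48, X51, X48, X50, X49] [X52]) (nat_lit 19604) (nat_lit 1508) = true := by decide +kernel
theorem wk26_20 : allR (OT.ckEqW [X49, X51, X48, X50, X48, X50, X50, X48, X51, X49, X49, X51, X51, X51, X48, X48, X51, X48, X50, X49] [X52]) (nat_lit 30160) (nat_lit 1508) = true := by decide +kernel
theorem wk27_6 : allR (OT.ckEqW [X51, X48, X51, X49, X51, X48, X48, X48, X50, X50, X49, X49, X51, X51, X51, X51, X49, X50, X48, X48] [X54]) (nat_lit 9048) (nat_lit 1508) = true := by decide +kernel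
theorem wk27_13 : allR (OT.ckEqW [X51, X48, X51, X49, X51, X48, X48, X48, X50, X50, X49, X49, X51, X51, X51, X51, X49, X50, X48, X48] [X54]) (nat_lit 19604) (nat_lit 1508) = true := by decide +kernel
theorem wk27_20 : allR (OT.ckEqW [X51, X48, X51, X49, X51, X48, X48, X48, X50, X50, X49, X49, X51, X51, X51, X51, X49, X50, X48, X48] [X54]) (nat_lit 30160) (nat_lit 1508) = true := by decide +kernel
theorem wk28_6 : allR (OT.ckEqW [X55, X52, X54, X54, X54, X52] [X56]) (nat_lit 27144) (nat_lit 4524) = true := by decide +kernel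
theorem wk29_6 : allR (OT.ckEqW [X52, X54, X52, X55, X53, X54, X52, X54, X54, X53, X54, X53] [X58]) (nat_lit 14616) (nat_lit 2436) = true := by decide +kernel
theorem wk30_0 : allR (OT.ckEqW [X57, X59, X57, X58, X57, X57, X58, X56, X56, X56, X56, X58] [X60]) (nat_lit 0) (nat_lit 2436) = true := by decide +kernel
theorem wk30_7 : allR (OT.ckEqW [X57, X59, X57, X58, X57, X57, X58, X56, X56, X56, X56, X58] [X60]) (nat_lit 17052) (nat_lit 2436) = true := by decide +kernel
theorem wk22_1 : allR (OT.ckEqW [X38, X36, X38, X38, X41, X41, X37, X40, X36, X36, X36, X38, X36, X36] [X44]) (nat_lit 2111) (nat_lit 2111) = true := by decide +kernel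
theorem wk22_3 : allR (OT.ckEqW [X38, X36, X38, X38, X41, X41, X37, X40, X36, X36, X36, X38, X36, X36] [X44]) (nat_lit 6333) (nat_lit 2111) = true := by decide +kernel
theorem wk22_10 : allR (OT.ckEqW [X38, X36, X38, X38, X41, X41, X37, X40, X36, X36, X36, X38, X36, X36] [X44]) (nat_lit 21110) (nat_lit 2111) = true := by decide +kernel
theorem wk14_2 : allR (OT.ckEqW [X0, X25, X25, X0, X23, X24, X0, X24, X1, X25, X23, X25, X23, X1, X22] [X28]) (nat_lit 3958) (nat_lit 1979) = true := by decide +kernel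
theorem wk14_9 : allR (OT.ckEqW [X0, X25, X25, X0, X23, X24, X0, X24, X1, X25, X23, X25, X23, X1, X22] [X28]) (nat_lit 17811) (nat_lit 1979) = true := by decide +kernel
theorem wk15_0 : allR (OT.ckEqW [X24, X24, X0, X0, X24, X1, X23, X24, X22, X0, X25, X0, X25, X25, X0] [X30]) (nat_lit 0) (nat_lit 1979) = true := by decide +kernel
theorem wk15_7 : allR (OT.ckEqW [X24, X24, X0, X0, X24, X1, X23, X24, X22, X0, X25, X0, X25, X25, X0] [X30]) (nat_lit 13853) (nat_lit 1979) = true := by decide +kernel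
theorem wk15_14 : allR (OT.ckEqW [X24, X24, X0, X0, X24, X1, X23, X24, X22, X0, X25, X0, X25, X25, X0] [X30]) (nat_lit 27706) (nat_lit 1979) = true := by decide +kernel
theorem wk16_5 : allR (OT.ckEqW [X30, X30, X29, X29, X29, X30, X30, X29, X31, X31, X28, X28, X28, X30, X28, X28, X31] [X32]) (nat_lit 8795) (nat_lit 1759) = true := by decide +kernel
theorem wk16_12 : allR (OT.ckEqW [X30, X30, X29, X29, X29, X30, X30, X29, X31, X31, X28, X28, X28, X30, X28, X28, X31] [X32]) (nat_lit 21108) (nat_lit 1759) = true := by decide +kernel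
theorem wk24_1 : allR (OT.ckEqW [X0, X22, X0, X24, X24, X1, X24, X23, X25, X25, X22, X0, X0, X24, X22, X25, X0] [X48]) (nat_lit 1759) (nat_lit 1759) = true := by decide +kernel
theorem wk24_8 : allR (OT.ckEqW [X0, X22, X0, X24, X24, X1, X24, X23, X25, X25, X22, X0, X0, X24, X22, X25, X0] [X48]) (nat_lit 14072) (nat_lit 1759) = true := by decide +kernel
theorem wk24_15 : allR (OT.ckEqW [X0, X22, X0, X24, X24, X1, X24, X23, X25, X25, X22, X0, X0, X24, X22, X25, X0] [X48]) (nat_lit 26385) (nat_lit 1759) = true := by decide +kernel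
theorem wk17_7 : allR (OT.ckEqW [X30, X29, X31, X31, X31, X28, X30, X29, X29, X30, X29, X29, X31, X29, X30, X30, X29, X29, X29] [X34]) (nat_lit 11081) (nat_lit 1583) = true := by decide +kernel
theorem wk17_14 : allR (OT.ckEqW [X30, X29, X31, X31, X31, X28, X30, X29, X29, X30, X29, X29, X31, X29, X30, X30, X29, X29, X29] [X34]) (nat_lit 22162) (nat_lit 1583) = true := by decide +kernel
theorem wk18_1 : allR (OT.ckEqW [X33, X33, X33, X33, X35, X32, X34, X34, X33, X35, X33, X34, X32, X35, X33, X35, X35, X35, X33] [X36]) (nat_lit 1583) (nat_lit 1583) = true := by decide +kernel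
theorem wk18_8 : allR (OT.ckEqW [X33, X33, X33, X33, X35, X32, X34, X34, X33, X35, X33, X34, X32, X35, X33, X35, X35, X35, X33] [X36]) (nat_lit 12664) (nat_lit 1583) = true := by decide +kernel
theorem wk18_15 : allR (OT.ckEqW [X33, X33, X33, X33, X35, X32, X34, X34, X33, X35, X33, X34, X32, X35, X33, X35, X35, X35, X33] [X36]) (nat_lit 23745) (nat_lit 1583) = true := by decide +kernel
theorem wk7_2 : allR (OT.ckEqW [X6, X9, X7, X9, X6, X9, X7, X9, X6, X8, X8, X8, X8, X8, X7, X8, X8, X7] [X14]) (nat_lit 3332) (nat_lit 1666) = true := by decide +kernel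
theorem wk7_7 : allR (OT.ckEqW [X6, X9, X7, X9, X6, X9, X7, X9, X6, X8, X8, X8, X8, X8, X7, X8, X8, X7] [X14]) (nat_lit 11662) (nat_lit 1666) = true := by decide +kernel
theorem wk7_14 : allR (OT.ckEqW [X6, X9, X7, X9, X6, X9, X7, X9, X6, X8, X8, X8, X8, X8, X7, X8, X8, X7] [X14]) (nat_lit 23324) (nat_lit 1666) = true := by decide +kernel
theorem wk11_2 : allR (OT.ckEqW [X16, X18, X12, X11, X12, X8, X7, X8, X6, X9, X6, X6, X9, X7, X2, X4, X3, X4, X3, X3, X5, X5, X2, X4, X4, X2, T7, X1, X1, T9, X1, T4, X1, T8, T9, X0, X0, X0, T3, T2] [X22]) (nat_lit 1544) (nat_lit 772) = true := by decide +kernel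
theorem wk11_9 : allR (OT.ckEqW [X16, X18, X12, X11, X12, X8, X7, X8, X6, X9, X6, X6, X9, X7, X2, X4, X3, X4, X3, X3, X5, X5, X2, X4, X4, X2, T7, X1, X1, T9, X1, T4, X1, T8, T9, X0, X0, X0, T3, T2] [X22]) (nat_lit 6948) (nat_lit 772) = true := by decide +kernel
theorem wk11_16 : allR (OT.ckEqW [X16, X18, X12, X11, X12, X8, X7, X8, X6, X9, X6, X6, X9, X7, X2, X4, X3, X4, X3, X3, X5, X5, X2, X4, X4, X2, T7, X1, X1, T9, X1, T4, X1, T8, T9, X0, X0, X0, T3, T2] [X22]) (nat_lit 12352) (nat_lit 772) = true := by decide +kernel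
theorem wk11_23 : allR (OT.ckEqW [X16, X18, X12, X11, X12, X8, X7, X8, X6, X9, X6, X6, X9, X7, X2, X4, X3, X4, X3, X3, X5, X5, X2, X4, X4, X2, T7, X1, X1, T9, X1, T4, X1, T8, T9, X0, X0, X0, T3, T2] [X22]) (nat_lit 17756) (nat_lit 772) = true := by decide +kernel
theorem wk11_30 : allR (OT.ckEqW [X16, X18, X12, X11, X12, X8, X7, X8, X6, X9, X6, X6, X9, X7, X2, X4, X3, X4, X3, X3, X5, X5, X2, X4, X4, X2, T7, X1, X1, T9, X1, T4, X1, T8, T9, X0, X0, X0, T3, T2] [X22]) (nat_lit 23160) (nat_lit 772) = true := by decide +kernel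
theorem wk11_37 : allR (OT.ckEqW [X16, X18, X12, X11, X12, X8, X7, X8, X6, X9, X6, X6, X9, X7, X2, X4, X3, X4, X3, X3, X5, X5, X2, X4, X4, X2, T7, X1, X1, T9, X1, T4, X1, T8, T9, X0, X0, X0, T3, T2] [X22]) (nat_lit 28564) (nat_lit 772) = true := by decide +kernel
theorem wk12_3 : allR (OT.ckEqW [X18, X20, X15, X10, X10, X13, X10, X8, X6, X6, X8, X8, X8, X8, X7, X2, X4, X2, X4, X3, X4, X3, X4, X4, X3, X5, X3, X5, X3, X3, X3, T7, X1, X1, X1, T8, T3, T4, T9, T8, X0, X0] [X24]) (nat_lit 2208) (nat_lit 736) = true := by decide +kernel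
theorem wk12_10 : allR (OT.ckEqW [X18, X20, X15, X10, X10, X13, X10, X8, X6, X6, X8, X8, X8, X8, X7, X2, X4, X2, X4, X3, X4, X3, X4, X4, X3, X5, X3, X5, X3, X3, X3, T7, X1, X1, X1, T8, T3, T4, T9, T8, X0, X0] [X24]) (nat_lit 7360) (nat_lit 736) = true := by decide +kernel
theorem wk12_17 : allR (OT.ckEqW [X18, X20, X15, X10, X10, X13, X10, X8, X6, X6, X8, X8, X8, X8, X7, X2, X4, X2, X4, X3, X4, X3, X4, X4, X3, X5, X3, X5, X3, X3, X3, T7, X1, X1, X1, T8, T3, T4, T9, T8, X0, X0] [X24]) (nat_lit 12512) (nat_lit 736) = true := by decide +kernel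
theorem wk12_24 : allR (OT.ckEqW [X18, X20, X15, X10, X10, X13, X10, X8, X6, X6, X8, X8, X8, X8, X7, X2, X4, X2, X4, X3, X4, X3, X4, X4, X3, X5, X3, X5, X3, X3, X3, T7, X1, X1, X1, T8, T3, T4, T9, T8, X0, X0] [X24]) (nat_lit 17664) (nat_lit 736) = true := by decide +kernel
theorem wk12_31 : allR (OT.ckEqW [X18, X20, X15, X10, X10, X13, X10, X8, X6, X6, X8, X8, X8, X8, X7, X2, X4, X2, X4, X3, X4, X3, X4, X4, X3, X5, X3, X5, X3, X3, X3, T7, X1, X1, X1, T8, T3, T4, T9, T8, X0, X0] [X24]) (nat_lit 22816) (nat_lit 736) = true := by decide +kernel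
theorem wk12_38 : allR (OT.ckEqW [X18, X20, X15, X10, X10, X13, X10, X8, X6, X6, X8, X8, X8, X8, X7, X2, X4, X2, X4, X3, X4, X3, X4, X4, X3, X5, X3, X5, X3, X3, X3, T7, X1, X1, X1, T8, T3, T4, T9, T8, X0, X0] [X24]) (nat_lit 27968) (nat_lit 736) = true := by decide +kernel
theorem wk7_19 : allR (OT.ckEqW [X6, X9, X7, X9, X6, X9, X7, X9, X6, X8, X8, X8, X8, X8, X7, X8, X8, X7] [X14]) (nat_lit 31654) (nat_lit 17) = true := by decide +kernel
theorem wk20_13 : allR (OT.ckEqW [X35, X35, X32, X32, X32, X32, X32, X34, X34, X32, X32, X32] [X40]) (nat_lit 31668) (nat_lit 3) = true := by decide +kernel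
theorem wk31_11 : allR (OT.ckEqW [X59, X56, X56, X58, X57, X59, X59, X59, X57, X58] [X62]) (nat_lit 31669) (nat_lit 2) = true := by decide +kernel
theorem wk10_10 : allR (OT.ckEqW [X10, X12, X11, X14, X14, X14, X10, X12, X10] [X20]) (nat_lit 31670) (nat_lit 1) = true := by decide +kernel
theorem pk0_2 : allR (ckPerm (nat_lit 31671) X0 X1) (nat_lit 31670) (nat_lit 1) = true := by decide +kernel
theorem pk2_2 : allR (ckPerm (nat_lit 31671) X2 X3) (nat_lit 31670) (nat_lit 1) = true := by decide +kernel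
theorem pk5_2 : allR (ckPerm (nat_lit 31671) X5 X4) (nat_lit 31670) (nat_lit 1) = true := by decide +kernel
theorem pk10_2 : allR (ckPerm (nat_lit 31671) X10 X11) (nat_lit 31670) (nat_lit 1) = true := by decide +kernel
theorem pk15_2 : allR (ckPerm (nat_lit 31671) X15 X14) (nat_lit 31670) (nat_lit 1) = true := by decide +kernel
theorem pk20_2 : allR (ckPerm (nat_lit 31671) X20 X21) (nat_lit 31670) (nat_lit 1) = true := by decide +kernel
theorem pk25_2 : allR (ckPerm (nat_lit 31671) X25 X24) (nat_lit 31670) (nat_lit 1) = true := by decide +kernel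
theorem pk30_2 : allR (ckPerm (nat_lit 31671) X30 X31) (nat_lit 31670) (nat_lit 1) = true := by decide +kernel
theorem pk35_2 : allR (ckPerm (nat_lit 31671) X35 X34) (nat_lit 31670) (nat_lit 1) = true := by decide +kernel
theorem pk40_2 : allR (ckPerm (nat_lit 31671) X40 X41) (nat_lit 31670) (nat_lit 1) = true := by decide +kernel
theorem pk45_2 : allR (ckPerm (nat_lit 31671) X45 X44) (nat_lit 31670) (nat_lit 1) = true := by decide +kernel
theorem pk50_2 : allR (ckPerm (nat_lit 31671) X50 X51) (nat_lit 31670) (nat_lit 1) = true := by decide +kernel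
theorem pk55_2 : allR (ckPerm (nat_lit 31671) X55 X54) (nat_lit 31670) (nat_lit 1) = true := by decide +kernel
theorem pk60_2 : allR (ckPerm (nat_lit 31671) X60 X61) (nat_lit 31670) (nat_lit 1) = true := by decide +kernel

end Cfsg.Agent.H8.Fi23O
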