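import Cfsg.Agent.H8.CosetCls
import Cfsg.Agent.H8.T.Fi24atP

set_option autoImplicit false
set_option linter.all false
set_option maxRecDepth 100000

namespace Cfsg.Agent.H8.Fi24at
noncomputable def chQ0c0 : Nat := nat_lit 0x4650944d033cd18459064a103465093e4f338d083e0e934d264e1585614852168521584a5384e54652549559164d9394d1264a549565284e53651146451344d924519344911949114411484e1385612852138521384a1484a1384a128461184e0f842108461184a118421144e1284912846108451043d136519354d9254d926499254912846115459154612642116420f8451053e1053d906419163a0f5410f4394d84e1484a138521294e128465294e53949d16499294e1294652845d1845d0841d19419143e50446109424f43d8e43a0d84e1283a1384a118520f842108420f8461184e1284a1284612846118421184a1183e118420f8421083e0e84e5264d9164a5194594949939499394e4f94a5094a529459263d916419193a5194a5163e506465064250946506425063d8f6358e63d8e63e4e63d109411063d91942519318d9424f63a4f9398d64e4f5495054a5154552946519415084a5184650542515464f641909420f9424f83e0f7388e73a0d23a0d8461283e0e8461083e108451294111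9390f446509410f9424f43e4e43a4d4364c44a5094551941519415093d4f53d9093d4f93e0e6415193a1093d4e5420f9358e7424e83e4e93e0e9364f93a0d834cd7310d82dcc831cb529890414f5465093d5093a4f9394d53d4e5394d5314e93e5093d4e5354e53e4e5364f9314c93a4b5354e9364d5314f9424e93e4e6364d63a0f83a4d83a0c735cd830cc82ccc93a4d93e4e5354c52d4e9364c9364b9364c9324b9324e9364b93e4e9364c92a4b92a499358d831cc62d0a73a0b7320d8320b829496204b8320c6360a82dcc82d8b8290a7250b6320a62e0a8258982a0b82a098220a725c952187225c8521c7521c7719c7618c6615854114380a410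
noncomputable def chQ0c1 : Nat := nat_lit 0x4a515495495653956529561395e1685255559569561485214956519525594d568555585a169561795a1585a1694e57856549525285e1884e5785a155595785a55849578521684d5684a568565485a1585a538561595956556149515395d5585254855549521485a558465594a16856549515255a57852519565684e55556558561294e14956539595595a15956168525394e1755615952539565294e53856148565754a539525684a549595495a1585213952119521554e149521494a1384a53956139521454e1654d53955548425295152946548561394d5494e1383e5084a5494e5394e5184a1484a11946129461454e1094a52846538425284a5194a51946509424f93a5254551545525515255153541535555254d515515255553551535515355154555545555554956559565555555554555535515454d5454d535515254d5254d5254d5254552545515414f54155845d5859d384a5684dd5751d255e1484a5284e13949d574554855d285a1474dd3852158521475216849d694654949d35565574e1274a148561474e13751d594dd49495374dd475211845d395a1385654756518525585153741d2751d4945d074e5584a558521184e5375252849d1949d074d50956108521494e117421494e117425193e137425274a53945cf94e5294e5074dd274a1293a4f7464f745ce73e5073dcd739d38521344615441d45511253dd28521284e1175a1375613556138425595211949d29525074e5494e51641d19465284a518420f1414f549515555454d5454d51549535515054d525495154d9465614850d564d946499465253948d3644d264a1334cd3648d49459584cd394e15852123499235216844d59521494e1394e5384a1034a5384a5294a51944d18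
noncomputable def chQ0c2 : Nat := nat_lit 0x58978565686558855577621885e19866577655895e185561875d5795a5885557661568525996558859d88565785d578625855a148625855a5955a5685a56855998565885a5785e5696616562178599465d579555575e5575e16959d885e5675dd68599795e5595e1895a1755a5785a54251556521525a146559585a1665a5655596956159509594e15955d394c949525475654251932525224c9364a539449225955559555455555157555575595655656556547615695097552558521675a1795613855578565595156856149515484e55752539521695a1595a548561584d559555494d93751d294e1384a145525224c9494212755d484e522519394d9024d5254991251d374e5264a5164a5353c9124650246528461093e4e25d5855d57559585595656555561575595855d57561585655755d5855d585595755d565615955d58559585555555d5655d56559575595755955555545615955d585615755d5655957559555555655d565555455954555555515355e53551d59515695956955d79625695258959d795d5795a1695a5685656955d655e17956189561595a1555e5695e57952177565655a5555614559d55555695a17856545565585a1595a558525495a1485a1785a169561785e1594d5785a543621535615951d535e18858d68621785e5695a1465a5795cd565995658d8954d795a5795a55950d3351535515555d5855d5655956555555555655d5754d5455956555555515455955555535515255153550d335616548d795a5695655552149565454e17954d64555455a56955159511694d5435255949533525444d1355652456549525394e5294556955d595a5595157959d4955547565375a557525355152551d395653549d394dd4952539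
noncomputable def chQ0c3 : Nat := nat_lit 0x55966665a86a1696e198641495a181661a95e1996255861998621795d988625885d97851979559666657666168559695e189599885e56956588661986a16765d6462584625546a57761d99665875d1996256466174665885dd885e1896257959d5451164591575d1545dd87621785e5675a5895dd78625795e5795a5695a1795e569565a66118465994599545a186559685d176619985d9965d1785e185561965d5755d5645a15859548621656558661578621955a1855e1855d586695665d966555955d5886156556175595655555855578521455a168561484e1665d14561984555645957455576591745517659974591565516455935515445916455154511465113455124451345112455134511444d176591665517461964591865d996551965d9565d1865d1845d1745118465164619945d176611645d98459984611665d9845d1565d1645d1745917455164611945d184591665d1546118459174591745d164591545915451164551545514455134511664d95651935519766193651976519565997661976599565d9255996655966599665595655946559464d934511344910445124451064d14455926519164d926651846597461984619645d96459974599845d1545d154611645d16459176619735d97458d64551545d9665d1665116455954591545594651153511344d9865d996619765d916599765594659986491365d9766196659966559664d1265d966511565195655156519664d93659146559465994655954599765594655966559564d943519464d9265e595625755c9655d56562579615695a589665855d58559595555755896762595549855d585695955e5785898861579695655d595615525e5a550958595855e178625525e579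
noncomputable def chQ0c4 : Nat := nat_lit 0x64d735d5595e17864d48655885997559539615686e5a95a199565955e594665695cd965c1985dd496a18565579515645216960d3960d854855868d5859993565b962186555996e54962568595896a1866615961da75a55655d99485996a1896a598695316a5855a588665756258962567661756a5606a5986216866599525795e199625756e56665d5562595611495d9656e5985a559655316a5795658555d796a559665a95e1a466531505a951985695565a596625b962167615515a5896a5a95e567625886a5846a588499a9505785e175625756a5935e5a96a1574d9896659851d3650599565a9621966a1515e546625695a579665866658966169661a66517955979661775d1994dd99665685e57965161545955dd885a5796197669969611b9625465a14755da959976665a966576665615d95459d71665876655965978625785a57959999665996a556619885a568561996e5875e588599a76a5a96198959d976a5995e18962598619876159762595625976657962568625a962599665785e176625875e57955d67625875dd89659695dd69621756259859d9762557651695d17955d685e5846156461d76665785dd895e56654d7461d635e5775dd795a567525994dd655d5886a567625796257761d8756559621475dd995a5895a5795e56751d7755d796256859d5762567599775e5a9665846259462578591796a574665996159561199619796258962599665855d97559589625795d1695a5795e5765e5655d5895e5795a1755e566615765955556569595895d556565695a57955569599565197659956559595a566599795a55956546559465594552536525464d939499585a1785a1885a5595597855d695115951d34525865e546599594d9a8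
noncomputable def chQ0c5 : Nat := nat_lit 0x661755e1b55e188661954e178695095d5495a1886a198661a8655796a18961598621986a1b56a1886d550715a56d5715a165661985e5586d5604c170695585d159501985e511625a8621a8661295212169558621a5661476e168661596a19869595695595a1a5665a55a15969580655846a1885897866188621505e1a5624f1655955e585665965e185651a95a588541906497866578625786217566598715955e195581885e178621986d59862578591896a588665455d1605c969545786e157559885d588625594d966665a56256960d985e168655706a1995dd466659965577565876257860578699895599869579615785a16955d88521886a1885596669586611b55a576621956a5785e18861d88615935a188599985a57965588661696a1586610161588621b56a1895d9865e5b85e57958d795d978665985d9a862540665555dd696e18065567585a85e5986a1565e588661646a18955198661885e581621995e1896a19762567625555994659db86159966177665795e5886656965d695dd98599895858961d555a541619805d5864e57466185625986a151615655c1a5541a8661895c595621886256869568661695d9875e5756117869567665b85e196661885a186589685d9985d579665a8661825a5796a529625795c9876257962579595686a5766a5965e1885dd89655656a1986a5775e1666e5996a5b95e59562178625785a1a5615a9565716d5806219856199561765a5756e18460db955d866a5735499956176651a85a1786657969d696a5785d56868d49595b866189521a96e59958d864e5a4561855e18865195621a84e1995e589695a96659958188655a9615555a1655e5896a5976e5455e149621a96e558445865e173655895e199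
noncomputable def chQ0c6 : Nat := nat_lit 0x651a66597369d84611946cdb4719b4651946d9b6691a46d984691b4651c4691b469186711a45d194691b4611a4699b46519464d93611c2711a4699b6651a465184611836d9d46dd84611c6751845d1a3651965d1b4691846d1a469974611b261194689c45d9a46519469194691c4611b47119468d945d1965d1a465964691966918664d946d1b469d845d1a65d9b4659945d196691b46d194651a4691a471194691b4711a4711846d19765986591b4711746d1b461984611b461184711b4651a45d1836199469184651945d974691646919459166691a4611746d1b4691945d194691a465184651946518461174591546d9b671997659b6699a761d7761dc669d86699b769dd665d96659c7659766d9b76596459d6669da65599665d866197661d87619a665d775d9a659986551865d99661944599765d976599565c98158d65591845d555699736a1b6645825a1585d1a4691785a1c6711925cd836d1a1651b465196621866d5655d1c56598365179615a46d1b1609b561100691985d592611756897564d7461195611984e119695a56d5b5715845a18368d9465528555a66c9a6561885d585695925d9a5595955e1b6695484e194521a45d57569195655b56d5a55a18565558651a56558546196651c569194595944a58564d75699286955869558695955e18569585615a559585521a25e1755d1396e188665496d5855e1485a1956199544159655b5481a86a1786115858da8661954c56865995501685e1855d5956219561585561894c198615655a1955a198481856d5956d5b5621786a1755e19562185715a5595985c9a55253062189695495e5a8621886958256188655a562188661594655459d736d569621855e5b55a139501536e1685e1695e549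
noncomputable def chQ0c7 : Nat := nat_lit 0x6d9a66199665996659a65d9a6659a6759a665996659a6619e66d986619a66998661996619a6759d659976719866d9c6599966d9d669986659b6619b6619b671996619b6619a6619966199669996659a66998661996619a66d9965d9b6619a6659766598665986619965d986619a66198669986619665d99665976619865d9865d9765d96665986659765d9865d97661966659665d976619865d96659986559665997659976599565d9565d96655946711c4711d46d1d4751e4711e4751d4791c4751a56d1c4711a46d1c5695b4711d4691d4755b4651b4715a4691c4711b4691b4651b5715c8695b5691b46a1b86a1986d19862194691b56d5b466188661b86e1a865188691b465598651c85d5b8721786e1c8695a86e1b572198621a86a1c56a178615b86e1786e1a86a1886e1b86e184655c8715b861188755c566194721b8611a86a1a862184721a871594615b5695a85d168615b56e1b5621a8695b8651786a1756e1956a1b8661c86a1c8691786e195721a4661a8661b8691b85e178651a86e1886d598695856a198661a8615a5621a86d5b8661d56617566195655b85e1956a1a8721c4615a8661886a19572198621b861598661686e1a8715685d5b8661a5661986a1886d5b86a1a465588615a5655b86e1a8661886a17862178661a5655656e198661a5621a862198661c8561856a1956218866198661b8661a86a1a8621986e1785a19862188621a86e16866198621a86618866178621786a1a862178621986217861d635dd7761da765d9761d7761d675d1975514355d675dd875dd6754d646ddd771db6699b6799a4619d67599671194711c66d1c6719d4691b4699d6651a4659c7711b46d1b669986751c669994691a6611b46ddb6651c4611a6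
noncomputable def chQ0c8 : Nat := nat_lit 0x58d966197258d435c5975cd736dd8169d77649b769d7365d935dd9769da769d975d9975897761d775d98761d8769d535dd6361d976196765d9748d6369d8765d826459261d665dd725cd8365d6761d7761d5361d535c96750d52609435dd625dd674cd4759d575dd5759d674dd575095755d4751d37711b4799b6719d4711c4759b6719d6751d6691b4711b4719c4711b4759b4799b4691b46d9c6719b6719d66d1c6759a4719b4691c66d9a46919469194691b6651b6691a66d9b6651a669996651a66999469984611966199661174719b6659a66d9c66d9b6699b6719a66d9b66d9c6719c6759b6699e669996759c6659c66d9a671996699b66d9a6699866d9a66d9d6759d66d9b669996799b6759a6699a665996719966d9b6699c6719a671986759d67d9b6719d6699e6759d6719b6659c6619a6619c6619d6799c6759b66d9b65d996799966d9b6719a6719c6699a6659c6759c6759b65d9a6699c6699c66d99671996699b6659c66d9c66d9d6719a6619c6759a66d9c6659e66d9b671976719c67598679986719d671996599c66d986659c66d9b6699a6699a67d9c6659c6659a6699b6699d67199671996699a6759d6759b661996759b665996799b6659c6699a6799b6699b66d996759c6619a66d9a665996619966d9b6699b6699e6659d66d9966d9a6719b6699a6619a665996699866d9866d9a6699b66d9a65d9b679996659c6659a6699c6699966d9a6659d6659966d9d66d99671976699b6759e65d9a6719a669996699a66998661996719d6699b66d9a6699c6719a6699766d9d65d9f6719866d986659d6719c661986659b66d9966d996619b6699a6659c6719b6659765d986659c669996659a6719b6699766d9a66d9b6659c6699b679996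
noncomputable def chQ0c9 : Nat := nat_lit 0x68d83699c36cdb96d9a3661836cd9364d9368d835cdc364d83699636cda368d9364da35cd8664da364d93659835cd8360d835cd13719c3759e66cdc6719b6799d370dd66cdc66cdc3755d3719d668db3799b668dd670de66cda2759d6719c574db66d5c66cda6759b6719d670dc6755926cd93689c5715a66c992699b16d9a3719d370da3661b668d936a5b3665a1609a6719a96599264d886d5a370db6689b36c9b6689966d9b36e5c36199268d9369993699b5685b6689c660d73649986a1b3715b86858368db671da3645b764da669da36d5826c5b6649a168993695a5695955cd63659a660d936458360d736199664dc8699b8655b5695a86e1a560d966558569595619736d9e5755956c9a6701c66d5d56999668993745b16d5a2705b668dc5719c56c9d06d5c16dda5701a1705b2649a2609d66d9b1615c264d92755a2715a36c5c5695b5719a571da5649b264da5645b76d5b664da160db5695b5715b0695b5655b3689a66c5a569da3685a56dd9265595615836959565da2655a75d59561585695b565d95655957158760da765da360da76157364d825cd9564db56558561583649755cda5609936158360d63695955c9855d5755cd655dd87615755d5966058660995595766057260972555635cd6258d535cd635c5816459160d835cdc760db26059664da3705b16498271dc6589a16857354982649d6689b05c992719a0609a15cd6369d86699b675db7645b671db16199679d726596175da26dda7719736d9975d9a675db66dda7699b771dc76d9a66dd8665962601a754da7659d76dd966d997699b7699b768d9360d5371d636099761997659c771db7699a7649b761db7641a764d6371da76996365db760987689a75c99761d5369d7260d83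
noncomputable def chQ0c10 : Nat := nat_lit 0x719d6799c67d9c675995719c36d5e6759c5719a5759b6759e66d9c670da5799d6719b674db4759c6719e67d9c6799b670db6791a6759d6699d670db56d9c5719c6755a46d5b3699b6719d6695a5755d5759c66d996699b6699e6719c5799b6759a5719e66d5b3759b56d9c56d9d675596715c56d5a568db5719c56d9b5755b4715d46d5d36d1a66d1b36d1c56d5a6711b6759d46d5c6759c4655c6699d669196655a574db4715c6615b6711a4751956d9b5695d4699b6715c5719c6759b6715a5711a5695c6655b56597571575715857999571986695e4699a46d9d5759b575996619b56d5a5759e6755c5699d4691d4711a4711856d5b56d9c56d585711a5615a6655c4715c5755c475595699c5719b46d9c5715b569585699b4695b56d1c4751855d595595c4791d465995715c56d5c46d18469594651b4655a5711955d9a66d9d4695a5695b46d5b5715b5711c5655c671196695b56d5b5695a5615b5691956d5a5695b5755967159565586691a5695a4655c46959469595691b4791956159675194655d5655c56d9d46d1c55d5a66d5a5751a66d5b5711b66d1c5655a56d5a561595695856958561595711b4695a56d5d46d5b5655b4655a56d195695a5691e4695d46d5a5655c4655b56d595615a5655a56959561575695955d5856959565585615856557565595615956d5a5695a5695b5715b5695b5655a571db7695a76ddb569595655a25d986649c56d9856d5a5655b5659a56999669996619866999360da669976659666d9a664d866d9c664d96659b668db6699b66e193719c66a1c96d9c66cda3659a3699a3719a36cda368db368d866cd966e5a66cdc6759c6699d664d736cdb66d9b66cd835d9867199670db6719a860dd66a59664da66d9a6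
noncomputable def chQ0c11 : Nat := nat_lit 0x6d9d6715e568dc374db574dd6719c6799b17cdd3689e374dd37d5a1819b779de378dc3719f3715e6799c36d99678da678de37cdb3699d6759f6719d67d9d36cdf670dc7799d374dc378dd37cdb374dd378de36d9e66d9e6799f374dc6709c3759d378de6759e374de66cdc3759d670dd6759d768df378dc3719b678db3799c6799e370db3719b3759c6819c36d9b36c9b67cde374dd67d9b2799c670da378dd66cde378dc3799b270de674df674dc675a066cdd674dc36cde370df3689c368d9364db6719f6799a670db370db3759d3799e370dd3709c674dd375de674dd668dd670df670da368dd370dc678dd268dd6719b66cdd370d9370dc3719c370dd36cda37d9d374df6759e66d9e6799d378db370dd670dc66cdb36d9b370dd370dc668db368d9360dd36cdb370db37d9c6799b368da3799d675993719d66d9c66cda3799d6759c66cdc3715b5719a36d9f6761b3719e6759d9759c3719e374dc57a1b66cdc6721d67a5d670dd9725c7761d8719c8761e9721d9799b574dd8765d370dc8699c868de36d9b370db8719b36d9b36dda770dc6765d3725b9725b8725b86d9a86ddc86e1a3695a36d5c8699b364da56d5a66959564da36599360d855d595615955955561585595755d585655655d585655855d584685b0701b1691b1711b364dc1701926919468997755a26d1c168d7460d65695956d5c6689d05d5856d9b2655b6705a6759b6715b3615b2659c0699a3741b46d9c665dc269995695a6691b4719a56c5b268db2711b36d9d670dd36d1d3709c45d5b4711b569194719c16d5c66558569dc6699957518671596659b66d5b5759a5719b669185699a5655d6719d66d5e6719d6799b3759c368db3719c664db671995759a670db66d9d6799d6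
noncomputable def chQ0c12 : Nat := nat_lit 0x71db775dc769dd775dc75ddc76dda76ddb771dc761dc771dc771dc771d9781dd769db765dd765d975ddd769da76ddb769d9765db765db77ddc771db771dc761d9775da769da771d7769db76ddc76ddd771da765da779d9759db75ddb76dd9771da769db769dc771dc775da76dde771da765db769db76ddc769db76dda769d8775d8775d9765dc76dda771da765da761dc761d9771da76ddc765da771da76ddb769db76dd776ddc76dda769dd771dc765da761da761d9765d9771d8761da769da76dd976ddb761d776ddb76dd976dd675dda765da75dd876dd9765da761d975dd9761db769db761da769da76dd8769d9769d9761d9761d9759d7761d7759d577dde575de7785e7745d5755f5715e5715d2745d2789c2709c7755b56c9c5655a56d5b2749e1689c0719d0709b1755e57d5e5759f568df5759d5719c281605705b3795b7745e5795d07d5f571df5705c6745c3709a2795b2799a66d9d67d5e2749d56cde5755e5759e1755d2795d67dde56c9e0719d5795e5715d56cde56d9d5755c3715c5755b4719d16d9e7755c26d5a5715b5709d0755c5705e56c9d2715c5745c5711d5781d4755c575dc76d9b5699a5659c66d9a6815d67dde779dc679dd7715d7755e5755e579dd5799e57d5d77d5f6719d571dd5715d7755d6755b6795f5799c7715d5795d5795c56ddf571dd2715c56d5e5715e56d5b5715e5745c5715d5715d56d5c275dd66d5d5709b5695a5719b2705b5819e6799f6741e075de6759c5709f6819a27d9c16c9e171dc271df66c5926c5d66c9d175dc2799d6759d779dc5705b2705f7745e6689d579de675db571dc16c9d57d9a5745c7749a6709d3715b56c9c274de3719d6755e7799e36d9c6799a6719b6759d274df67d9e57d9d5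
noncomputable def chQ0c13 : Nat := nat_lit 0x6ddb779dd769de771df775de771dd769d9775dc7761d771db76ddc769de775df76ddf77ddf671de765dd771da771dd77ddd781da775dd779e0779dd771da769e0779dc775df76ddd771dd7719b771dd781db771d9771df771d976dde775a077ddb961e076ddf779dc779df769da775d8779db781df779df769da77ddc77dde76ddd779dd769dc771dd775da775dc679e1779db769df769dd76ddc77dda769de77ddc771dd765dd779df779df779db775de771da75dde76dde779db771dd769dd77ddb771de779df775dc76dda775de771d9781dc77ddc775e0771dd76a1f775db779de77ddc76ddf76e1b775dd779de7725e77dd9779dc769de765da7799a779dd775dd76ddd771db775de76dd876dda779d9775dd769db771db771dc7721b771dd779de76ddb77ddb771de671db769da775de76ddd779dd771dc771dd779dd775db765de771de765dc76dda76ddd76ddf775db775d9765db775dc76ddb771dd779d976dda771db769dd771db865dc76ddd775de76dda771db775db769dd775de769db771de779db775dd771df765de779dd779d9775dd775da775de779d9775df76ddb779d877ddd771da769de769d877ddb775db771da765dd775dd765dc761db779db771dc779dc771da769d977598775dc765dc769dc76dde771de76ddb765db769dc765db771dd771db775db775d8775da771dc769dc779da76dd9769dd775dd769da775da769dd761db76ddc76ddb769d9761d8771dc771df771dc775dd76ddb765dc761d9775dc775db771db765da765db771da775da771db76dd9769dc76dd7765df765d8765de771da771dc76dd8771dd775da769dd771db76dde76dde771d8769da76ddd775da76ddd765db765dd769db765d9769dc761de779dc7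
noncomputable def chQ0c14 : Nat := nat_lit 0x81df56d5e779df77e5e981de785de7815f7795e571e07755b57d5c5761f77e5f5715d77a1e87ddc579627795f77e1d779e15795d57dde7755d585de781e057ddf581e1779de5755f581de57de077d60585e057d5f5815f57ddf77960779de781dd57dde7795d57a1e775e1771e0775dc77e1d575dc77ddc5795e76d5c5755d5755b56ddd771dc5755d7695c7795e5715c575db771de7715c5761f77d5e96ddb575dd7721f96d5e969de7825a5655f9715b57a1c7761a5765c97a5d96ddd7761d9715b571db8721c86d5b5695e77ddc7799c775de771de77dde775dd781de771dd775de76ddf781df77ddd679de77de1779de771dd781dd781dd771dd779df779df77ddc775dd779df7721e775db779de771dd775df77ddf76de0781e0775dd779df76dde771df77dde779de775db779dc779df779dd779de779dc76dde785dd76de0775df76ddc875df775dc779e0775dc775dd775dd771df77de0781de771db775dd77a5c67ddf979de779dc775dd7799c76ddd76ddc77dda76d9e97dde775dd775dd769dc77ddc769dd771db775dd775de76ddf771dd971dd779dd771dd781db77ddd97ddc775dc779dc781db775dd775da769da771dc771df979de779e0769de771de76dde77ddc77dde779dc779df779dc781da779de76dd9775de77a1c771dc775dc77ddc785dd885df76ddb77de076ddd671de769df77a5d779dc779dd775de865db775db76dd9775de77ddb771db765dd861dc77a1b779de771db771e1781dc76ddc779dc76ddd775dd87ddd771dc77e1b781e1771df771df7721e77257775de76dde769dc77ddc7759f671dd7819d76de07759a775dd96ddc779df769dd771dd769de779de771de779e076ddc675de77ddf77ddf76ddb775de781db7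
noncomputable def chQ0c15 : Nat := nat_lit 0x79dc87ddc56d5c36d9c76cdc57d5d7795c675dd77d5e8755e7719d8755e8759d6715b379dc374df7799d7795b875dd57e5c5815b571de781df7721d77d5d579e07715f57660781de5795f57e5f779617715d579de5795f5825f771dc975db77a5d571db575dc5755a5795e779dc579df77ddd57d5c579de779df7755e5755e779dd575dd775de76dda771db77ddf779dd5715d7715c77d5c575df581de5795f7755d571dc5755e579dc57ddd781de5795f7755b771dc7795c775dc7755b5715d579dd76d5e579dc57ddd5715b77ddd76d5e7755e775dd57dde76d5b575dd779dc76959571dd7795c5695c56d5b575da56d5c5695d5715d56d5b5715d87a1c86d5c7715a5761d569df775db56dde5755c779dc5655e775df76dde7695c76d5c781df77d5e56d5c575dd779dd5795d5715f7761f981dc889df785de781de58162779e0785e077560781df581df781de5765e77ddd57d5d5795f781de57d61585e05795f57d5e9795d785e0775df775e07715d57ddf785e0585de785df77a1d785df57de177d5e781de7795f77621779e077de05755c589de579de585de78560581dc5816157ddf57d62781e0781df57de077a5f5795e781e0781de77d6077d5f57de05795d57d5f56d5f5795c7815e57de17816057ddf7795f77dde581df7795f5755e7796177d5f5855d785e0571605796177d605755f775dd5755e7815e5755f5815e771605795f57de077ddf5755f57d5e5795e579dd579de5755e5755c5755c5755c5755b5765c96e1c879da575dc779dd76ddb5715c56d5c76d5d7755a5715b775db575dc771dc5655e771db5715a575db571db775dc769db7695b5715c571db775dd5755a56d5e771de57dde7755d775dd575dd5715c775dc5715d779609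
noncomputable def chQ0c16 : Nat := nat_lit 0x79de47d9d77ddf7759e57560879df6715d6719e6751c671dc76e1f8719c76d9c575df77a1e7719e8759c87e1d8759b66d9b8699d77a1c86d9e8799b7761a671df6719d6761e6759c6761d87a1c6761b6721e7719c86e1c86d9b6721a8699b6761d8699b8719c76d9966e1c8699a66dd96699966a196619c2709b26c9a27a1c2785d26c9d6761e7709d86e5d7709b26e1f181de27c1c6749e2705e1749d1721b278217709e7805c87c9d8759c27a1e16a1b2749c9705f8795d08a1e9861b8789d57dde57a1f5705d17e208765e57a2007a1f87c1e87e60879e057c5f87e1d8721f8745f172218761d66e1c8721d272208761e186208821d178a18821f8721c8821c27a1d87a1f67dde87e1f876208821e67a1d2761d87e1f87a1e87e1f8721d87a1b87e1d86c5d87a2077a1f8689e86e1f7705f8762087e1e8761e86e1a87a1d86c9f8761e8721e8721b86a1f8721d87e1a8721d87a1d8721e8761d86e1c87a1e8761c8761d8761a87a1c86e1b8761c8761c86e1e8721c8761d8721b8721b872198649e86a1e8761d8721b86a1c86a1b86a1c86e1b86e1a866198621b8721b879db67a1d56a1d869de5761b86a1a6659f7721c879dd7721c7721e76c9f87a1c26e1c669a086dda87ddd875dd7795e7755b6759d5761c1761c7715b4661a271db27e1a479db76c9e86a1b475da6661b8621d66c9f871db87a1b66e1c6761a868998719e8709b86d9c4689d8761c6761b8761e86c5c8721e86d9f8721d67a1a8761c86e1c8761c8661b8705c8721d4721a86d9d8721b86a1b8721b8711a86c5b8661c8621b86a1a86a19862198621985e1a264988661785a18261972649865d9a4651a46d19469184651a481d94692076d9c77dde675df76d9e568db474de7699f8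
noncomputable def chQ0c17 : Nat := nat_lit 0x725e87e5b6699b4711d7759f771df7709e5755e77ddc86e1d779df56d5e774a07715e9765f97a5d8765b2755c6791d5721c5799d9695d9695e9749e9765c96d5c5765f9765c9765c87a5b9725c9765b5765b9725d4799e96e5d87a5a96e5c97a5c9765b9725c9725b9765c56e5c96d5a9765b96a5d9725b96a5c9759c966599625d2711b96a5b96a5c9665c26e5b26a5e47ddf47a5c9765e7765d9765f4765e9751f9811f9819e9725f9765e4825f97a5e981de97a6177e5e6825f77ddf67d5e9825e7751f9791d97a1e9761e7725e87d9e17dde5755e675a08865e7745c8751d181e077e607795d4799d77d9e779607791f9799d2785d77d1e27ddd6861f7799f7759e77e5f779e07711f781df7751f879de7791e77dde47d1e67ddd475e077ddf775608745f77a5e4799d679df8709e779e07749d6761e27ddf6799c47dde679db9749d27ddc67e2077e1f7795e5749e7711d7759c2755c97d9c2745e8705c2821f8799b27a1d7719d47a1d77d5c179dd6715d8755e5709b2749d6709c46d191681b0685b0685c66c5e775dc6711b67ddc7751e76d1a4701b475de46d1c8711d8751d7711b8721d87a1a8761f8721d8759c47a1e775dd47a1c87a1d879de8761f8721d86e1e8761b8721d9725d7725b979dc775de7725d675dc67ddd66d9b7719c7759c66d9d7765a6719f879608799b679dc5861d96d9e77d5e9711d67e5e679dd479dc47d9d6799f97dde6759d57960675dc6719c675dc675de6759f57ddb479a06755c7759e779dd781de67d9d7799e7819f6759c6799f7759e6815e6755f775de875dd6759e6799d7759c779dd9719c779df579dc5755e5759f675de8759c77a60679e077e1c6799d8859d8719f6819d87ddd775de76d9e9719d76d5f6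
noncomputable def chQ0c18 : Nat := nat_lit 0x81de6759c7795f7719f6755e779e17719f775dd781dc779a0765e07799e779de66d9a6699e57d9f57d5d771dc785dc775e1779dc67d9d76d9e7799f5719c6799e575dc679d96715e86d9f56d9d675da77ddd66ddd779d96699c77ddf66da076d9d6719e681e07815e6759e775da681de8759e77ddc6799e775e05719e77dde7759d76ddf56d9d6719f76d9e7699c67de176d9e76d9b6795b7759d7759c6795f675dc675da679dd669dd671dd575db6759d6819d675dc671dd67ddd871dd779df775df679de575dc6755c679de76ddc779dd76ddc7719c6699c771dd7799c6699e771de7799d779db6719d76d9f77ddc7759f76ddd7799b6759c6719e8759d6755b76d9d771da675de771dc77d9d681dd779de775db67dde779dd6799d671dd66d9c7719e771db66ddf66d9b675dc7699f76ddc7759c779dc6699c7659f875db769de66ddc771dc66d9b76d9e6815d6799c67d5c7799d5715a7799e6719b76ddc6759d775da6719b6759b6759a66ddc7719a7719b6699976d9a6659b669996619e7751d87a1f87a1c8761c775dd7711d8711e86d1c775dc7761b5721b8695c46d5c5691b76d1b4691a4651b46a19875dc4751c879db8721d8721b86e1a8659a671db769db7695b57e5c87a1e76e1d8721d8721d2759b5709d875db9715e8715f9765e770979765d87a5e9715c96d5d9725c87a5d9609c76e5d8725c96d59679dd67a5c26c9b9755a5655a9725a575dc575db9649c975db56e5c9765d97a5c76e5c9765d9719a66a5b9625c9665b96d9c96a5b9719b66c9a2689a9665a96657461194611a36919364db368d94611836599468d93699c76d9e8699b6761e87e1f57a5e681df97d5f881dd4791e87ddc6751d9715b7795c77a5f775de879dd875de9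
noncomputable def chQ0c19 : Nat := nat_lit 0x799b474dd67d607815f6791d674de778dd77dde37d5d479dd371a06719e3799f66cdd6711d4759e47cdf7759e370df77cdf774df675de37d9e76d1c474de479a0774dd374de3799c481de77ddd4799d470de5759d478dd6799c67cdd4751e3791e7711e67ddb4751f6759e6751c474dc3791d4751c4711c46d1e87ddf8791f87520879dc47e1d77a1d87a1f8761e87a1d8721e7795c771174695d5719f775dd76ddb76d5e769da771597759b7755b2715d771dd5659e7709d5651a675db769dc7699d779de7699d56d9b775d966d9e76d9867ddb779de76d5d7715c7795c671df775d6475dc5719b6795d5715c2699e779dd775d965d1c671dd675dd771dc6719f871dc579dd768db671de771dd779dd77ddc6699d5691d675dd771db56d9c66dd8479dc7759b66d9a479da46cdd6691b379dc371db66d1d7749b3651a6691d7611d76d1f779d94799e77a194759c671db470dc6759d675dc470db4719c6719a4759c66d9d66d1c66d9d6799a4711b474dc370dd36cdb4711a46d1e875df87e1e779de8759c575617821d8719f77e2187ddf87960881dd57a20881e288a1d7821e882218862078e1e77e1f87a1c5719f881e177ddd575df7821b681dd7861d776208861f87a208795c77de1785e2781617821f879de7855e779de77da07715f57de05759d879de8795f88a1c76d5967d9c881df67de27855d775e0575df57dde8762187a1f77a227819f879e087961779df879df785e17755f889de58198681df57de17755f57d9e579a1785a0785df781df581e0689df581df77dde5795b781e0581df785e157ddf7799d581dd5716067ddb57e1b7815c67a20875dd869a0579df77d5e681dd781df579df6815d66dde6699f771607755a77e1f77ddc681615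
noncomputable def chQ0c20 : Nat := nat_lit 0x862087a1d87a1f882228755e87e218822187d1f87dde48e2287620779df8821f77d5c88a20876218721e4721d78622779dc76de287a1f86da17752386e1c88a1a6715d879df875de571dc57e1f86ddd571e03756088220889dc7762186da17821f4815d785de5821c5861f8821e77de0771dd781e2885e186d9e88e2276d5e78161789e17695f87a2287a1a6611f57559679e087ddb569a0781e187e1f7761c584da4691e881e28861f56dda4719f87a21775de78620779dd7821a6796187de27651c5855d5861b4761e875df57ddc575dc76de0579db675617755c66d2187161779db6795d77d5b4795c7816178220575a087de2881df775e27811c6815b5651e87de177de0879615861e76d9d57d5a771a28815f8651f779e07821f56da17815c785df775e07861f581dc681df581e05795a481da48560775e0765217861e5755c6711c775de7799b66d1e575df771db7691f771627755f785e07855f7755f685dc76d9f785dd779e1581db4815c6799b479e0581e057d60775df779dd771a0785df5795d779df585de5795f77de0779dc482218815c779df56d1d77e2077d5c781de571208759f785dd681dd67e206795d675da4759f76d20781da47d5a4751d77d5f67dde76d1c6815e681e0779de6711e77de17759d681e0681df67de177d9e7799f77d9f579dc67960579df7759d57d5f674dc48560785e07755d67ddc679e066d1e5799c47ddd379e07795f775a28759c66d1d675df779dd479e077dde685df67d9e7691b4799f775df7799e678de67d9c4819d4711c3815f6819f6751e679de4711c681dd6799c478df581df585e077dde6799f381de67cdb67ddf681dc6759e679a1778df670df6759c47ddf781de378de77cdf779de6815d47ddf5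
noncomputable def chQ0c21 : Nat := nat_lit 0x7d9f87d9e27ca077c9e27d9e281e177e1d8761e8799d889df2721f87da087ddd87a20678a3881e08789f98e1e880a2878a25789f685dd681a278e205819e8762077da257a1e280a2581e177e5d27ca08865f8822167dde778a02815f67ca257dde279a0589e0781a097d9f781e1785606749f47e6157ca257d9f67220889de289e007a602819e979e18855e68dde6866167e2187e1f88a1f97de16855e9895f97e207822097e5f789e177ca0781a097da067e6098661581a278de177620585e16815e8856287da2981e087a61985e0989e1785df87da1781df8822177e1f7895d989de8866277a1e6862157e5f785e077e20581e1781e0781a097a6087e6187d9f6862097a2087e21789e177e6057e20881e077d5e881df7799d86197665986691965d99369984651e7745e8799f87ddf775608711d4795e17dde475216825f781df77d9e579df585e077c6198620681df77520781de47a207826297dde481df485e087d1e8791f8811f6821f87e1f8821e87e1f4785f77a21882217821f881df8761f17e1e77de18821e8821d8722077e1f77a217821e881dd8761f88e1e8816287ddf8762087a1f47a1f8862077e238795f5862268de088a1e785dd5821d77e1e8821e57e1e57d5e58564879e25895f58620571a1881df57de157a1f58961579608855f8822077d6277d5f789608819e2816188de2781e05855d57d605749f87da2781dd6816177da37795f27d637815e7796078a1f7759f2799d681df78561785df779a0885e1785e0779e187d9f779a1778a2781df2809f681e068162785e1681a067da0685a177de2785e0785a0785e27855f77c9e281a057d9f580a27789f27ca0281a0781de27c9e67de2785e17799f681df6799d2789d2789e87e1d8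
noncomputable def chQ0c22 : Nat := nat_lit 0x761f689e2584de8821f8861f682619799e9799e57e6067da377ddf981df8822057de09795f5761f58260588df989de9721d9862068562779a018a20785e177a61081df57dde68961585a157d61789df589e287ca05789e578a27745d2819f979a1589e07791f6815f478a0785e27815f781df685e0579a0685a17799c28560781e1785de2805f185e0775606745f68061775a188223785df674a277de15786068dde28621585df6801f784628781c181df17ddd67c1d6799f685df27da267da067861781a17805e179e0785df67c20785df289df779a27842378e22789dd2859d281e0674606789f678a067e22780a37856177d9e67da0581df2819e07c9e2859d67d20785e177da2874a06819f0749f289de289de674a17811f6759c679625759e67d22785e0785df778a16819f58de1685de485e0581de7719f289e177c9f1746277860589df98560689e17819f7809c2789f1855f28261481e1889df68160889e0785e19709e2751e685601895d681e386ca078161785df2821f1799f4785e670a0581600761d27d5e77c5f7721f57421585dc2819d685dc8825d785e257de07789d881dd87da02789e779df285e1685a1581e177e21781648809f78dde1821d27ca297c628825e17a616799d27dde27c5f77dde78562589dd2796077c9f57ddf2815d4789e67d9f580a0585604765e8759d6855e87d5f692228765b87a1f87e21781dd8789e4815c87e5d278a1781dd282202862067d9c28ddf27d5f589617855c286618789e9826057ca0778a08855f67d9e974a06709e9799d281de28dde676205749d9749f2859c97c9f770a377e206815e279a187a1f87c9e87d5e4799d2795e681de8765e9791d681e067ddd285df780a1589dd289e1879e05819f2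
noncomputable def chQ0c23 : Nat := nat_lit 0x8a6188e2087e2187dde8922087e1c8821f8821f88a20875228821f8821e682218781e5821c1861f87e1f8821e18dde87a1e186208821e5861f8719f57e1f0741f075a088a1f57a1f885e287d9f87d60881e288a1f86e1e8861d6861f8762057a1e8856188620882205822187a1d1761e179a18821d87e1f87a2288a1c88a1f87e226822257a208861e88e1f5761d87a1d87a2087e218821f5822087e238862387e2187e22886228821f886228822158a1e87a2077d618895e5796387221881628821e87a1f87d6167e1f875618822287e1e8861e0821d8861e5795f57d61882218862057462882237781f8862087e1f8762087e2188624881608822157e218821e87a20889e18816388e6187e208862478a2088a2378a2378a628856188a218862388a638896378a2388a2088a2188a2288621989a08862018d628822208e2087e2188222682210862288662889a298a2188de188dde1825e8859f8822187e219822188221889a18821f87c6187e208826267a211822187e2118460882211805f87d6158261481e0485e04851f4896148260489e018662685df9866098261989e1985a047e627826097d20785df980614811f47e1e47e2087d1e47a208861f77a1f885e077d1f8796087d6047a208821e8761f8761f87a1f87a1d8721f87e1c8761d87e2087a1e87e1e8721e5761b8755f87a1d8761d8721f8821b87a1f8761a87a1d8821c86e1c87e1f87a1c8761e87e1e87a1b87a1e8762077d1f87e206761e87e2087e2177e1e87e1e885e057a1e87a1f8822067e1e47e1f17d5f17a2087e207761d8821e87a1f8822177a1f87a204821f4861d8721e47d2087e1e8761c88620881627862087d61881e2879a188de287de3881615822187e1e87c62882216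
noncomputable def chQ0c24 : Nat := nat_lit 0x81e28791f779a087de00811f475de7811d77da06861f7781c775a07861e681de77c1e07c1d7821e77d1e1841f77d207745e585dd085de779e1775e28799e78020081df774201821c681a16701c67d1f1759c3705f7741e4781c27ddf77d9e779e06799f7861e6799d76d9c6821e7759f6759f0719d67ddd6799f0749b17e1d67ddc1759c17de0779e067c6077da07801d67c5f7781e66cdc36ca1774de17c1f0785f681de2799a37d9e6799b370dd16ce067d9e0709d2749c2785d181e37819f689e2781a2685e1685a2785a1785e068e2166da0689e2881a1589e1685df67de068a207861a685e0779a056ddc781df671db6799b6861f6819d771dc671e1771a0881df675dc679df775df779dd7759b675dd77d5c6719e7759f681de779df7759e6821d6719f77e1d6799e77dde6759f6821f8799f6799d47d9f6799e67a1e6819f67a1f8759e4755e779df779e08766077e2087e615861c97d1d78a1f779e0886217791e9861e5755f77e20881e187ddf87e1e87e1f47a5e77e1e779e297a5b181df7821f9822188622875a087a1f479618821a37d208811e881df87e1f8765e5821e6861f88a5f87a2187a2077622585de9821f8761d9821f4821d58e6187e2087020885dc1761e8812287a5f8821f87de08821f87e1e87a1d77ddf8722077e1f97a1d97a1d8821c589de97e1c27de087e1e87621989df776218825e87e208822287e1b2821f87a1e46cde6821f8861f4861e87a1f78e1c88a1d87a1f77a1d8761f8861e87e2087a1e7745c3761f88e208822157a1d87a2087e1f8861d8855f87e1f87e1f87e1d0821d8791b385dd57e2197a1c8816147a1e880e297a1d87a21889e048620881dc28a1f98e5f8821d279208822287a228862148620881618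
noncomputable def chQ0c25 : Nat := nat_lit 0x895f88a6288a2197e628866387e63886238862388a628825f97e2288a218822098a63882207822097e6097de388a1f4861f97a5f87a6288a208862187e619825f4921e7826387a238861f98a218861e7821f97e609826188a2198a209866277e6198e23885e048a6187521881e1882648792177a63879de9825f9821f77e6088e2087e218865f78a208862087e608822487dde8825f87e1d8822288a20982218866088a2388622882218862287e1e98a2187921981df7862288620882218821d986218826087a2187d2288a5f8821f88e1f88a218862087e2187e1e482218822288220886228821f9821f88a21882238866288620882219821e98a1f48262882207861e88a1f882618861f97e2097e1f8861e8861f87e1f87e1e88221879e29821d7861d87a1e87a219862287e1f8861e886208791d87a1d8821f8821e8821f8821f87a1f8761e87a1f8825e87e608821e8762187e1e87a1e87e2087de187e1c57e1e876208761f87e1f8762087a1e87a1d47e1e8761d8721d8721d5721d8721d86e1c885e2785e3789e38852288a22789a188de3791e1789e27812368de0485a2682226899f489a16862067c6168421185a01806168821081e11806067c601795f77e2038221889e17821f8751e77d21781a1479228822187de0789e1789df786217792087e208811f37d1e47d22881e27791f77e207821f57c607822137d617819e17520781df67e1e1821f87a20081e1786217821f87c6177a203861e675a047a2178e216811f4805f77e2047ddf4861e7842167de27792187c21781e0881e008a207819e58221681e0779e287de07852177ddf481df67e1e1752067c5f17e20879208861e87d9f681a18821f781e27861e185df6755d181dd17e1c686217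
noncomputable def chQ0c26 : Nat := nat_lit 0x7520978e1989de48121770a298620979604851f9811d37ddd97de077662780de579db9819e98a5f4926377e5e6765e785e2979e397e6298a617811f97d1f68a628825d9765e78a1d77ddc975e097d1e9866097a5e18e5e9725f975e0981df27e1e7765f785de9825d77a607792077de178e6077a607865f47661981de47e619795f4825f5765d6811d97a5f974619816178d6047a6097da147d21986209815e989e04895e289e08765f6799e78262981de97e6098663979a187de1985df67a609825b6925e9865c781e177e5d689e2782637899c78e5f77e62979a08825f785e187e5d7865f78d5f481e0985a258a5e27d20981e088e1f48e62986609825f97562891e0981df58163685e1585619765f7815f68960979dd9821e7791e9865b382619791f97e1f47a6057ddf58de0971e18855f782618816097e20775e2981de489a28866157a5c981e08811f87da29859e86d1d87a5f57e5f78a5f97e609865f9795f6825c589e29726087e5f97e608861e785605719c482615819d27a61776627815f77a1e97121981e18765c47a5e988de58261879e157dde97d605861f97ddd4796077a1d4759d5865f981de6851f9766077d6058ddd981df7899f989e2986229792177a5f5895f97a60785de78a217792298660971a178160489e1984e198a6197d2077e6097e6097e217866097e6187de1479e08756388a5d48e5d9865d87a6097d62981209822298e6387d6278620475e287d2197e609755e57e5f7825e791e047a60781e2882618866097e628866288d6198a1e98e2288261779de78621881e188661786609865e97e636822098a2188a6097e628825e97a619861e5822198e1f975e17812488523885e2886228755e88a2197ddf98a6197a6287e608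
noncomputable def chQ0c27 : Nat := nat_lit 0x755f4866198d60875628866098e62885df77e609822078e5e7825e9825e2821e88a5f9812198e5d18663989e2781db37e6497e5f97de077523984de38a6018de147d5f771a0784dc6826177a2098e5e98e5e5825f981dc591dd281e2988a298a5d486609866037e62581e4985e39852077e24985e1970df48662979618865f988e397a62371613966098a1e681218716177d609659f7755c37ce178a5d38a6078a5d9825f9826158cdf77d1d38ddd6785f9891e9819b87da188661986605752498e2198a1e6865e9766277a229822098a6037d5c3806398e62975e196da0682207826367a1a38561776627819e2826337cdf7821a67e2047c9b675de5825a779de77a6058ddf988dc880e2581a1971a07799e985e098221475de67d219826197de39865f88520488de488e277d5e97e5f775e3379a138260889da58a627825f47e6297e1f874a297e61784e297de097d5d371df97e60978db785e1779e077a207759e9789d97d5c77e61969a157de078a5c3856047ca06826197c60588dd97da0984e0785de7765c474df78663975df9825c989df97a1e480e297e5f97a5d8826486ddf9791f985e2885a0885e177d5f9826397e6278e61984df97e5b68a5e9826277d21970e198a5e57c5f98a614752077da07825d9865f9811d37e5d782627822147da157560478a097a619856197e60975dd6826257de39851d67a5b38a5f58e6137d1f4865e771e06896048a5f7705e9791c780dd279a177de098a5d57e649821e98e61886619851f97e6296de28865f98de2470df684dd276629865e585dc3865f97d9e481e078a617765c9811f471e19865f4789e1865d5796077a5c5761e97de1984e177e6398261985e0996239791f984e09811e98a22589e2975de9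
noncomputable def chQ0c28 : Nat := nat_lit 0x8261975a198e2288a639861b6796298262970a077e5f775e13796187d2297e5e981e1785e048220186207861f7865d88d6257c5a3719f97de078222981e17925c97da198261571dc38de147e5d375de4812298a5f77e227812098de18866197de497922989de76da1980df48e1b376619786087dde585db67a6388a1d38e2298e629821e98e619759d98e6498621784a038a6258a22984e25865d9812278e6178a1d9811b3861c6821f5866198a5e9752377e62981e3979219825f88e5f789dc9716178260485d93922078622871a2974a247de2982247719b585dd57a61786219851f87ddf9825e9825f875e38866098a5f87de197a5f57a5f992207865f781df97e61681e49865f588e257e60585e187cdf48a1e38a2177a5e87e639799e97e6197e60879de5822187a5f885a37811e880e078a627825f58061781de67d6278e5e6799d68662985df186618855e97e1a371de8806138dde985df989df571a238a5f968df8966178a1b56dde4861c964e1279da37a603822157a2176ce3981e23755f46a2188a64981e058621189df87ddd981e497d20989df7816398a6078e5e78e2147e2078a6198a5a689e1985a097c629826478260380e0889dc8826498e238855f882618796177a22789e09865d88161981df77e61389e297a5d88e5d689e387e5d781e17766298a637719f57d1e58e1d571e177622785e297e6398a237862398a219821e5821f88261986619826397e6238e64970e05791c988e04862198e6188a5f889e27811b375239721e5765d6821e67a5f979e288160682615925f77ddf76cde77a5e77e63288e398622979e27826198a5f9826298e5e98a618861d6811e9759f970de57d228715c985e09762198660979a378a5e58662985de6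
noncomputable def chQ0c29 : Nat := nat_lit 0x89e058222579dd585a228d9d581e097de197e5d28ce1671a287d63781a2781a058ddf78e1d77e216856386da2885de6866168a5f17d2078a5d77a1e779e3989a277e1c5792187d617855f1866097dde8819e97161779e3889e158a6187e22789615819f5866088de267e226841b27a1e58a2098ddd4786268a6057de19796098de19795f6926058a605745f9795e781e098a619796298562874a068e601756377a238801d775df986217866167420985a08925f9865d579a187e5f4822097a206825e981e28811e78dde585a47812398a223796068921785659855f6896098a62889e278de18716367da288a61691e17789e486629866098160489e488a613786147e613861f589dd5755f791e238662689df77a1f9825e87da1785e277de077e5f5765f785e098da198ddf6861a68a6048de0581dd77a60771df98e5f58a63879e0875df77de18852258de2680e0585df879e207e627961e97d6278e60791e27852178de37762148622775e1689a25861c8851f88de2589e1481e07861d6781c985227896078ce137de198a2147d9c675a3571e27826088218385de66e5e779e11821f879e156de278ddf7799d98160882629765e686628861f575a077a5d9852298161481de1806357c628861f86d64981a17826157e208891f4921c581de78e5d582249726188e5d585e098e619825e58e623862388964782218865d985e268de377a2277da198a2057a5d97c6197ddd6755e88a2087e6158e61681de979e487e6278d608761f981e058a6278a2047a1b5921f48da1875e1789e47815e87d2048de368a2097ddf66e60682205715e78c9f68a61582617925c4865d47de0579df38a64979e1576609819d68e608819f5726287e1937e1f88a21879df88a5f6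
noncomputable def chQ0c30 : Nat := nat_lit 0x826197d6168ca158e207852477d617822098de1886639896138261889a1989e197e1e6822268e1f68e209862298265891e378de087ddf080e0078608785f8856188de3789de7796477a6187de288261880637866157c2378024885601821e57d6058662789a4985a257de398222881a49782188a637961b2825f979df47d1f57d6398e60989e3389e35826158923388e357921581e06816097e626965f78961781e0882225861e686608802178a2048ddf77e219855c58e5e4922197e1c58260589e178d6077e5f5861f7841d57e1f5882078d6488021789e47915f67de16795e58a5f78de1781a3289e087562885637781e8805e775e1185df08de378ce1685e098e5f179208865f7816107e1f5861f781e09866477862885e087da0685a257d6287d6178e62991dd191649815f785e3789a177a5f881e3586616855f489de58da378161785dd77c606821f0851d5922108164781200786597d5e58e1f5859f98221885a18821f58a62889e23806078a5d580228745e87c219815b28e2187a21389df970a4991dc2925e78a6498a2297e6058e60489e27786188e5d289a28806178222981df9705d17e2387c5f091e197a2378a5e178209805e4866177de478e21781e2985a1868a0576225861e77de1464a37825a279e0581a1189a297de2781dd27e60988e268d6377d9b27a5e678615916157de2979de781d95866277e2398221076628822178a620759e98de06709f785e59815a274619855e07e625709e770a158e60589df6756267de0582633859e5895c27623989e1781e2775a197e218756097e209856097e2098e5f08a2167d62579a227e238925b27de29925f388e277da068d61681de579e15815e58de3986209892098d5f081e058560876628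
noncomputable def chQ0c31 : Nat := nat_lit 0x926237a6388d25786629825f57e6298e6248a5e08cde97e58389617866178e2588663591e2590a398e2428e6098e1e9926189223892239899738a635926258e1f9856098e2598de157421985a3791de9802338a6477e629812057a6017e6188e5e989e18822298a6398e637842268e6157e6158a2378964889e398660579a38922298522585e258a6297e6298964886215796068a21786637815f9865f58ce278ddf185e198e218826298e60982617899f68d64695e278e5e5862078e2258a1f58e2068a2278a2288de187de149261985e13826289220581e3991e148923885e1892638856288a2478a1d189e198d2198919689e378a219825f77e6397e617826288a60789e098da3891de58022979a397a22578215851d585e498561885e487c64885604896008a2177623574227826188de4788a098e64885e257d6488a1d57e2197822781e278e6198e2358620991e058d6178a6058e605856278a2278a6377e2157da37862108e6158e64985e25866168a6257de068e5f68a2258e6388a63785e457e5f9866298260591e3779608821e589e0985e35706358e1d5819f98a2077c23885e27796098a23985a198d6598a617852287c217926297e22782628821e589e018de29826278962989609815f881df985e178561695df581e0981df68a1f68e5f7819f98d60892627865f18d5e979e107d5f5812487d5f589df489e1991e4985629816578961791dd9865e98e5f78263781e27866258e2107a607882277d21988a098a219825f0896277da28825f87860081dd18e5f47e64985df98e6277c5f78d62581e048563779e25856077e6078663882629892077a2327d63879a07812197a5f7816378962579219796398e2247de2981e077e6067e63585624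
noncomputable def chQ0c32 : Nat := nat_lit 0x815e57da1979a06866067e6187d629821f88220881a097d2197da08826298662982616822197a1f879a387e1f68e2088a628822167a6198a5e67d5e686228861f97da167e2258a1e685a0886609819e68660681a29861d9861f6862087d9e87e6197e2088221686639821d679a18819f67da09822197d61986626861f681a2881a15826068663585a057e2168960981a29861f6856298621986629825f8859f68a1e6822088a1e67da06862268161681a057e5d87d9d681a29822097e6087a1f6819e9866068260989a167da2682218821f87e22880e16826088a2268a206859e681a088620681a19761e9825f9862288e238821f87e229862167da067e1f681a168261886628859f67da2889a0985a19825f685a097a216799f9825c6861f67a2087e219819f9799f67da197e1e6899f685a068a1e8799f6822068222881a06759d87a1f97a606859f8859e87e1f6859f57e6397a2068e2087da06925e6759c87e1c6859d67da1882606825f675a2882218719f98d9e6862097d9e68e1d97e1e9861d8821e6861e6859f985a197d5b679a287e1f8819f67d9f8759d685a0989a06819f686606761d6822187a5e57a6067d9d68160875a0971a1882206822167e60679a067da06799e87e1e67d9f6759f8819f57a1d67a1e6719e67e5e87d9c685a067a1f87e2167e61682608719e6799e6799f879a05825d6759d8761d67a1f5719d67d9e8759f8799d6825f67e1e67d9e6799e8799e6759d8721d66d9c6759a6866298661891e377d1e991e588ca4882628866057e6157e6087d6599620760a2689e288e647922389260481e29856368de1992205866008a6378a6498e21964a3591e168a5f9816088e60681e388de15826288da278261591dd98e64786229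
noncomputable def chQ0c33 : Nat := nat_lit 0x899d685a16862168a6168da1690a398e2168a606822298e2267a63681a26886267e6068e2198ca2281a297e63985a268e216899f985a3985a26899f6866387e64985a088ca14862298564879a328222881a4990a39855f68ce38921f685a0682636889e68a1f6826068da237a2268a20682246861d888df884e39862168664881a088e60871a0688dc67da2576226759e881a3889a3691a0681a188a6167d2287e2468da0489a067da398a6138da297da068e2168620379636849e68da188a228819f67a22681a0485a3989a04862188521985206722168e2297d20885a26819f679a198a5e68da06899e985a267da187da168220875619825e67e2098660685a26821b685a06759e6861d67e2487d9f6891e47da297da088e2068e5d679a2479a06852297a20675a28859f6859e6861d9859f8861f87e1f8821f871a087d9e6819c6799f68e2268a2388160675a068a5f67d9f68e1e6819e6799e675a268a21685619759d67a638761f6816067a1e67a1e6861c68a229759f971a1679a39862286d9d68562885a1679a0689a2889a05759e8759c67da06762087da1681a18799f6862167e209819f67d9e681a1885a087e1e87da068660986205859f685a28819d681a06759e6799f58a226859f6822068a2187d9e67d9f681a08865f5819c679a19799f6819d6759f875a297d9f685a1679a1879619819d6861f885a097da397da297da08825f9866267a219825f68222979a0882629825e67e22986219821e8866048a61682608819f97da1681a298622981a087da197da28799e97d2197e6298e1f68a219855f68e5f98a608826197e6188a6198e5f8862397e216826068a6088a608861f681a1881a187e6488e1f679a398a5e681a067a2188a208859f9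
noncomputable def chQ0c34 : Nat := nat_lit 0x8e23885e2492617926288e21791238892398a63886214926278123882218862389263788e388624788e288e6278965989e178a2358e249852438a1f48e6148a6378e224862288e618812398e227899f48e6288a2188de378d2448a2198662389e37862278d21885e358e2398e23985e2886214812488123988e278a6498d2248e24985227892498a23486624926178a22782204812378d2078122789224862288a6387d22382214862388a2458e238926478e22792614852138e2288962489e3981e3891e198a2178a23888e188d248916398222784e278a63791a288de0485e388a21480e0485224892188de588e6559663789e34812348522881214812138de089623485237892288a6388a21486217922148a22491e148a214892387e2148de1889e388523889e55812378e218852288e22789238892148a6148121781e288d624792489163885228892248523485227812188d2348e2047d2288e2278a227821f481204891f48d21485e488123789e188de248d604892148e22889e248d24885227892288e2148a2488e2248e638862148a2278e214852248de4885e247de48812048de2785247852088de3788e28852188123789e2485e247d214852378a21789e248622481e248a2488de1489e2789e1485e0485224851e67d604819f6815f67d9f689a067da1581a06822167da49862068920681a158e613826168a21885a1981a148e20689a1881a0981a288e22889a16866197e5f87a2398e22685a268a5f985a3889a36859f581a23819f88a2197a228925f67da29821f879a2682605859e68e633861e9826288261685a168e6268c608822287e228926288da06899d67d9f67e2188ce288661885a1681a28862087da49861e68da268a24682639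
noncomputable def chQ0c35 : Nat := nat_lit 0x8a6458de4991e328ce45892438e65989637962248de58922398de499264991e438ce58926388e238956198d2388de2991a59912588e226916378d65992637926258de5789624922398a21589e498e2388e627922398a22592649922388e227926598e2378d629926458d655922388de2896249912398d6389263791e349565799e368a64691e358d239922478a2398e6558e2388de489a2378e239922458de388d6498a633862389222791e2791e358ce388e22689e4795e4991e379264995a398e6388a23891e2392255926468e227916248963891e1791a388e638922478ce278a2278e64695e288e2378e24391e278de4889e4888e2389e2391a399622890e2788e478e6588d6338e6368961489a29996388a23791a188d62985e3489e398a2488964989a33922378624785e298de578de178d638966198a6358561591e478de3891e379223895e39922488a6388de38922489663491e238d2478da59922279663791e2790e149664888e288a2198ce378da499a62991649892338a6148a23790e388e618892488a22891e348e2398a22791248862698a648862388da338e6288a63796248826478a633922148163885a0889e348e6488de28856188ce378d2279662481213892388e6298a21785e2891e2581e3788e578de348e6338e21489e3789204892498a6598de44922378e6498a224852478e65991e4892223852178ce29926398ce3788e598d6288e225926478ce278624589233922238e6048a2178962781e298d22889e3985e388de2881e3889e2785224912378a214892578524888e248e2287d24789207922398e23589e148de57922288a2488d2458523989238926178e217926048ce388a6288d229892139224789e3984e188a24585e17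
noncomputable def chQ0c36 : Nat := nat_lit 0x9666895a589a635916259264599e3995e458d63595e55966579566899e5899658966539224590e4891e358e6438d63391657966559164391a49916678de429626791e33896579564891e439a65790e56956589266991a5791a48916588e25791a5795e59926688da6791e4595e33966558d6558ce3599e529a2598d65791a579165791e59966239624390e5599e2391a5795a3690a6595e4795e469164596247896688ce57966379663795e4599e579225691e3590e468da5995a469265891658956699565590e478d63595e579664999e5799e459664791e578d24891e57916489624791e4899e378d6499964791e5596245962498d24794e43916489a65891e6592642916569625895e3595e35912558de568d247962399124790e53966579664696258966368da498d65891e4492257922459a24395e378de23922488d2588e637962439663791e699263890e4795e349264791e3390e368a63995e4295e2591e249224592655962559666594e448da5791a4791e4892233892698da4491233926348ce329a2379264590e47962488de358de2595e5891e269223995a47856559a269922468d6689161495e3995e358da69966389663395e3492236966589626896224926498da58922388e65492649926348d2498e6438d645892358ce478da45926558e24999e3592268922598de4791e3489625966479265795e359a64595e3490e5989e458d637962398e2679661391e378d6498de4591e358e6578d64989628966499264991e528d6498ce48896478d24790a39922399222799e59896579222595e2495e458d215922399662595e4591e4595e4791a49892278a63595e3395e399223791a47966478d6458e61595a2891e589224791e499125896659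
noncomputable def chQ0c37 : Nat := nat_lit 0x9a2168a22891a068cdf6862488da288da4899a168da398a6368e2578da168e2288a26695e4491a2679a3589a3685a2885a468a249822367da6996638862468da25916469524691a768e23889a2691a1685a4991a168e2169220681a268e6289221881a5885a798d63889a567da3992236922467e2598e23891a1891a3889a3691a069a6489263589a388da088e6269262679a3685a3691a2695a188da0691a0685a1689a3681a3695a38922488a24885a387da4691a168624891a2981a3689a1689a0685a268da2689a5981a2695a488da3881a398e23685a1691a289225888e1695a4991a3889a1689a2685a388a22889a3689a598a24689a5885a068ce36859f689a269a22891a1695a368da168da0685a269222699a38822368e2468da4885a168da688e22892247966438da4989a26926568da488de3891a3689a2889a268e2288e21695a569223991a2685a168da48892488cdf68a25889a498e26691a1691a068a2387da0681a668a2169621891a4889a5691a388da3991a4889a269225689a568e2389222885a3681a5891a58922168e21685a699663689a268da36966269624891a168e21689a3891a368a24381a5889a288e24885a068da669622685a4689a367da369221889a4989a189266989a268223691a4685a2689a398e2368e2488a64891a3885a1695a4685a2696238862568e22894e588da068da4889a3691a269221689a268a2269a25895a188a2168da0689a3891a06912488da5885a3685a3691a468da368da588da168e24691a3691a069625889a469223689a2689a46922168da3689a3689a3691a369223689a459963595e559165791e598ce45966599564591a55966499a269962579166991e599266995e678d6498d65892645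
noncomputable def chQ0c38 : Nat := nat_lit 0x8e25979a697da4695a499261881a479a26685a6891a37959f685a2992248926369a666862669666695a498525391a4692256962568e20689a369224699e068620681a058da599e649966697e229859f69a2667da269663686224922699260695a28922498264795a4689a068564691a5789a289a1f891a568e27779a1891a26966369623885a399620689a3585a4885a189662679a3892666959e679a3691e3996236922068a2067da6891a1889a598e6468da36862159a64890e368e249962297da3981a57916468e62691a599223995e668a2588224685a488da488a5f89262895e468e6598da588da46862298da3889a3895e4991e068e65689a48826678e6469a62889a489225989a589264999a268a6068661681a3696667962289622885a069666991a3989a388da6691a378e1f891df68e6388da389e25689a497da3881a068e6488de3985a1881a468a2568da188a2469a6469267781a3892208922388e2198da47966568a626822488a2599660985a678a6468e24891a3896269962168624989a398da688a61889a36961f68da268e23695a2889a387da498a21989a3991a1681a6795a069222679a267da5691a369225991a39966668da6695e3895a6895a3885a398e24695a468a24891a588da18926498e2369664695e268e6687da798a2568a6258665999a669262891e588a22985a67966589264891dd68da2891e469e6568e248962688a20689a578e25986248822368da0679a2889a6689a698e22889a368e6369a6698a21699a3781a3695a5995a299666985a28922468e218862588e23696236912368da569a6498da38922389de2685a568625682216922398661889a589e5f68d61691e78822568da589264695a5689a2885a6695a38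
noncomputable def chQ0c39 : Nat := nat_lit 0x99e668da788da468622785a4996208859f8919f691a0695e25959e68e5f68e6597da689a64691a7795a4985e18962388624989a26899e685a1891a389e616826269da6789a5699e4699a6791e3691a468e636862288da46922689223791e568e6497da66962369a63891a0879a5885a089a626965e6819f8966498225679a39922468e6688da468da5699e0689a4989a298a2298a1f88564689e59926198da26922269627691a3695a189a6598a2498225875a4695a789a616926269a236925f68267685a398e63695a767da687d9d69a61985a199662689a2895a56962398a26895a56862268620891a7891a6695a5695a568da1692656862668a22995a2892205826368e27995a599620885a498d9f98a258922498da39962188da4695a348a24992246866777e2189663691a3885a59759f68e608966368a606826599666991a768da677e629966297da26859f88a2269da368da66855f695a2689a389a23695e4679a38926499a2259263999e588e25995a578220679a369e2199663591a39922369264691a6891a389225881a568625979a569621689a068da7981a069a65895a288e5e695a5875a1681a6995e168da4699a2991a069621695a1682239865f68a2268da369220999a188a2698e6268e66781a1686236926389267981616926068e236919e695a3491a688da76926268a2487da0895e6689a677da088163991a268da599e6488da58862488e62695a468d9f695a4681a16866388a62899a599a2679a2668a2199da56862579624895a548a25795a278565995e169a6368a64889a7785a2896226862599222999a28862088a2289126691a678a2578a6588da088e2298e208859f6862489625881a38966168a62891a488e216926087d9e8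
noncomputable def chQ0c40 : Nat := nat_lit 0x8a2168262881a0695a197da698da3799a268da168e5f696658862249223891a679e608926099de3989a16816488a6397da38862367a6168e63881a0985a3991a5981a368224791e6885a568da698a626826397e21695a198e2198a23681a268522886256922268a2068e666999f895a688666791a6881a0691e1985a4695e7999a06921f891a4681a268da498da478222985a5985a7685a088a6699263999a488a26689a0499e367da69926488627799e468a668922697da6895a6881a4981a1981a66926089da669227891a48962189222695a397da369da0685a3685a169e228822668a25681a568da268a64695e158966689a497e2367da199a6567e238891d68da098e236926199a628825e6899d895a198da08966098da5995a297da368a24699a3792646926298621689a188a6269e2698e62982267926168e25795a4692657922667a2567a24789a668de389e21989a2691a5691a2889a6996678961e68e5f69661886228922568d9e89a6069661689a5699a368a20689a699660899a1689a4795a2695a5691df69626689a089621489a29865c686256966368e24695a3889a168e6568e25689a168a64689e4685a16826689a20999a268e23491a168e2579622899a1885a2981a58862397da467a2569a6688664685a3691a579665695a69966667d64699a398da4881a598e21989a368a62695e4989a38966288a66995a468da499a63991a58922399a1f68a61991a56822298e65689a0689a778ddf89a256899f9926588da668e6469de7991a39822289260695e78966468a2488e2068625691a589a61999e1891a498da2689a498a65692628926369e6168da168227889a1695a468264886659926068e24699a4782236959e6862688a6687e256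
noncomputable def chQ0c41 : Nat := nat_lit 0x8d2468e6248d6498a6258de148e2358a6698e6678d64985609896358963995a2485629896288e2668d62985625866398963585619916358d629926459664792655956578e639896348a635856158e6158a6498a605816558960591a498a1f58d6468d6598d63995e49916499162595e67895f58a6158162585615896458d6458d61591a598a6259265981625856458e6399a66981625995f5896199564594e2592615916098965585635856359566395a358964592619896359de59856598d645926259660995e058d63599e45966598e6459263692655856158e66791e458a6358d6058d645896578d64591605916557d61595a258664792649916398a63591625916258da4691a359a659916258563595655866568d635856598962589645916398d6258d9f98963991615816398d635916358d605966558264592624966499a644956498a64592659926458d6358d62591a158d6358e245956398e649922458564992628916458d625922398e6558d6398e61585614896257d6058d6358e62996629926398e635796399162981625856188a6258d619866058a6388a635866298562582628896058d61589635896158e1f58162889615896158e2198562589628816158165685a16826368a5f98665686256826368e6297da468225881a2985a0691a0681a36819e87e5f89261985a488e60981a79799f699a5691a46819f6962497da0689a087da39821d686246859e6865f87e2288da1689a38822667da3879a288a5e69221695a189620686637862188a23699a369da188a65999a468da368da16899f97da5989a168e26999a4991a268a22695a197da2695a1495a1986636859f695a6691a468da168e239926498da068da2491a2691a367e24999e26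
noncomputable def chQ0c42 : Nat := nat_lit 0x8d6428ce6785648896498525995a34852558962889649916558d66991635856259263985648812458ce598d635996088925590e248ce359221486614956248e625912449162585656896359162494e4396649916679665490e15916338a655856358963589629896258ce0589625922398a63589625856298d6358564591228916489162491635812198e624916568564585269866368664994e159264589638856248a6498d64591657916598d235956559163592639956597d605916347e655866298d666896499563590e058d24582639916498e6348562591a39912358d6458d63589239956398e21599639916658d61489635816558560598e34892298d624926498d615896438e239966448a6539561591635866399a648966558d645916358e639862258964990e57926288a61589645926258e2058a634866498e2698d6467d655926478d628816458e60989635895f48a6158165781635926598662890e468e25881659896588d60496625996348d5f5916058e645916359262586614956699164891625856159561591645856158964995635865e58d6298d659926358d6597d6358d62591645916158e6248a605916359265595619866459661595625916358e6358164596645816099163596615856498e625952458962589649956098d6358d635856458960581645856488d6357d625896158e63595625866058565589635856158d2458661592225915f5912297d61589635996189a605895f586647816458d6298d21889635916357963585638816258a6157d65391224856288660585239896158963581645856598d6058e6258962589235952368164495e49916269263489639856258d64985634896258662491215912398d2458d659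
noncomputable def chQ0c43 : Nat := nat_lit 0x96265922489622898a698d2599a6529e268892639de239de34956599a6498e2439e2699523389249a2243816489e6658e2499a23495e5394e6998a499223898a3994e5491a53926659da259122896288922189665998a44852249d63494e7995e289665791244856469222490a0896263856639a6258e2539965186259892258123989634966699a63494e31926678e66891a4599a3490e43966678a2479a6568d6358de248e2488d672916598d64890e639265594a598d6399227891658856588e26899e6588e588a6369121498a048ce39856788a6559a668956529a22894e488a2489264191244912797e22990e6799e3989647926698e2449125896268916588d6539162495e5596649906588d25590e589a63489a4995e5991268922699562592675852248a63385648996398e2148963694e49952539165590a438e63491a458e234912689a2569226386239996578d238966358a63596648962289163384e6595a1488e258e6578e22588e4596666852538d6199625490a5590e458a24289625916298e2788925691625896328d2598520886209926798e63395a798e66396255996258ca348d6399563988e43812359a2139164690a4285279956559622991a14962238d65995645996458ca589a65584e5991659912348a6438e223916399622491649896528a6399225888a49926348e2588a2338d6558d6489165291a248d6248d633892559263585649952049564589648926598a6658d6358ce488e2458d635962539223499e4994a3598e558a24288e45896358da65826758e6288a6158ce327d2559664592247862499524595a59966688d6398562599a3590e1890a258e2258d63289623956148d214996048ce2992628812389126989605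
noncomputable def chQ0c44 : Nat := nat_lit 0x9e6559da659566695e56a26659a66599a549965598e659e6599d6659966991a5599a67996759da659165591a569e6468d685896559de65a16559a65599675996559565695a65996779967799a569d665996599d6798d655966658d667a165799e699d68999e5695a599de4591a558da5491a699e65799649956669d66999675956679d6679d67595675996659166696665996758e6659d66599e3599675996659167595655926669de56916759966999655966559d66695665956659de659967595645916759d6659d66599a4795675996669e645996559e6459966599659996579e6559de65916459a665956459926995655996769964595679956699265599655956558d6599164595655956558d65595675996659e645966559d65999645996659165595635916559a675916559a6658d645916359964599a55956459164591645896258d645916458d655956358d6258d635956458d64589635956659166595635952558d64595659916559563591655916359564591655916259964595655916559966591615956459165595665916558d66591655916558d645916568d665916458d66591645916559564596665916258d625916558d6258d6458d6558d6558d655916459563591655916157d625815e5812057d615866088560581608809d58e6187d6097d60585605862288662986625865f57d1e57921582638855f5849f3862057a5f98a6037e22882228865f47e62986618816288520982615816057e60982218826198261986238856288d2098a6198a61589219816047d6589a63590a5894a6994a689167194a77916489a2598a2338e2248623598a699164592679a26588ce528e26298a728d672a06788e2498ce598924396248922539ca38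
noncomputable def chQ0c45 : Nat := nat_lit 0x952679a6649e6799927699266a1e699e66499e549926999a7495a779d6549da49952699d264a26849e67491264a12499a657a6669912649de549e67495a499525996676952749da44952698d2249a6449a689952798d2749a6599a666966779e679952768d2469e66591269952569526496644966349a6548924491a64a264499269912599666996677992799524995a349665499a7999a649a644926698e6449a65499234926799e6549663495e67912649124495a54966599a669952549925896649966449265492277a1675a2666a1a769da779e6799d687a1675a26769a666a1e66996859d677996679a679956799e6859967995a869a6759e67791a799da8599a67a1e6995679996559da559d66599676996759a65999679956699e655a264599e89a1a699da75956799de5695a599e645a1a79a165599666a2666a26679de679666596676a267595e669566599a86a26559e667956759166691689956759de5699a8599a458d6769a67599e65996799de899de699a66599a75916669967799e799566995a759d67991655a1685a1679996599de699e6699d66595a87996759d68795655956769a676966499a6759de559a677a265591676a167599a7995675a2665a1a7699676956459d65599669996569a676966659d6799967599669996879e66599676916699d66595a6999a759e67599a659a645996759168799635a1e559967596654a1635926659d6879123595655a1675916799a66599a599967599a779666599e8598e75a1665a1e599d655a16769d68691665996559de659d66599675956459966996675916659566695e559da75956559566695a76956669d6759de4599e459a66594e5595675956799564599255956499a6899e67591655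
noncomputable def chQ0c46 : Nat := nat_lit 0x99257a6654a12549de44952979de779a68695244a2664992649e684a1e8696689a268491254992599528799a65a666795286a267690e64996449927695264992869ce639e6749da949664394e64a5a3395287992899d2799d2879c64495273a1e54a5e949e664a2666a0a549a663a6664a125499a76a12749da69a5e869d2549d256a6664912649926495284a12699e68695256952539d2779524491266a12749ce54992539de449a2999d2799a6849a27798a699a66799a639da4499a69952769d2449e68295267966869e65498e799d26395289992569929698e649d234a26749d29491a769928795264912779d26499244966769a679912449d27795253912549925399a64a1e749a674952549526490e649926491287a127799267a127499a669d2799a26994e649926995a54a46879da84a127495256a26768d25999a44952649528499296966749d2749d289a1a769d2999d269a5e66a1a749e672952749d244a12899d26495277a52749da7490e64a5e849d279a1264a1a86a26649ce86992849da799526499a729d264a12849da74a12549d266a1a749da84a128495a69a26749927799a89a0e749d28499266a5287a5e669da77a66649a68691279952649d27699e649d284a2694a1284952649da54926649525499254a1277a1e7695286992899da669de649da449d29691269912769923499276992849128495284952749de599d2799ce64a1e9498a779d289a1e74a1e649e667a1e749a6749d254a2664992879d284a667498e8999287a5a64a1e7499284a1e749d29796659912549667498e549d2639e6349266591253a169796654a1e5699254a1284a1244a5254952399ce75992699e666912798d2649de97a1e869d267a12799a664a5274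
noncomputable def chQ0c47 : Nat := nat_lit 0x9e2589e288916789d2959968896266996789a24596278a2278a22689d675a22689e287922889d2489da869568899658962889d665a22769a2789a2789e2789e2389e2489e2889e2389a265962689a2389e288a2288a2278a22789d6789e2649a26896248922489a258962789e2679a2689225799e68962689227892258922688e258962689e2689e258962589a25895666962689a2689a288922789a2589a258962489a2489e2589a268962689a248956589a238a22689e258962489a2589225896248962589a2489e2589626892258962689626892248962389a248962599265998a43912339a243966449666394e5390e589e26894e349ce799a24398e629e24996263912639ce7294e699a66998e51966539a234992689ce448e2989e6639ce699e662a22899e279926689e6899d27298a529a67490e6398a598ce6298e5498a799e2649a64394a68922539e65298e349e67898a599ca69a0a4998e8994a679128694e4296263a0a61962589ca8894a549ca84a6654a6244a2296892649e23490e499ca539a6889e243a06689ca539126898a69912798d272912849926394e44992569e679962599e253922749ce739d2799ca699da549e6549a67995a639ca6499273a267398a78a0a8999262962539d277992769a658952399a25392274a226994e65952549e6669626399258992739525891277966688d24492676a12449e2949e68999264952649524496644a1269a5a349a69490e84922629526398e52992929d282a1e889e644992749a25298e449d289a1a54a1a749528399276a1a979d253a5e8495277966549de8695254a26749127994a6699e879a669a5a79a1e349e6699928796654966649925495267a667994e89a263489234a66749ca89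
noncomputable def chQ0c48 : Nat := nat_lit 0xa52879d285aa2889e2869a288a6284a2296a22a4a2296996989a297a5697a1676a22889627895678952659e278a1a88a1e6899655a2286a5e65956989e2559da75aa2889e294a5a78a2298a2298a2276a62a4a5a95a16849d6869a2759e2759da889e288aa2889e286a5e66a12669e298a56a8a1a789d684a62789da7699678a2277a5e85a5687a5288a1e87a1e9899a38a16869e276996989e278a22749ce98992a79e2789a294a9a68a1a989de76a9a959d265a62889da75956889da58a2288996689e27592265a5e789d258a56769d6889da889a285a2286922889da84962889a278a6264a2288a22989968899a86956759a286a22759a2649d678a5a559da459926599666996759a285a62769a297a2298a1a659d676a1264962789e26899268a1a889d276962869d2889e288a0e859e2669a2969a2569da78996859a29799687a228799a88a1e989a2689da76a6278a1a889e278956989a2989d6789d2689da789d665a16669e2689d6989d27895668962889e278962659d268a5664a2298a2273962659e2779a2649de78a627796245922689d68896278a228696266a5e6892274a227899e769a264956789969899275a5a88996589a2889a287a22889e278996859da87922589e2889d658962659e278a16879a2559d27795a869a28895688a2278922759168599a789e2559da88992688d6889a27899668a1e4599a759a278962759e27799e6899e78a62979a2889de8795a989a2689e25599688a22789e278a1e55a62589e276a22859a258a22989e2989a2989627892284a2268a62859e265a22559de788e2779a2689a278a62559a298a225899a889da77a22469e25696265a22689d6289e2859e288962689a27499678922589e268962759a268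
noncomputable def chQ0c49 : Nat := nat_lit 0x9ce939da87a5a76a9e86a6677a5ea798e9399a86a1276a0e55a1a739ce83a5e6399a639d66694e539da6694e76996439de65a1e539de8795a67a1e7799a97a9a98a5a929e288a2284a9ea4a6288a5e78a5a889e2a6a62a7a0686aa288a8aa6a62a8a62a7a1e76a2286a1298a1696a9a82a12789ce9499a879d688a0a879e294a6272a52a6a9287a5274a12969d288a5e66a5e96aa276a6278a62979d2659a296a1278a22979e284a1697a5684a6295a6274a5a8599297a9277a1286a62969e2849a2889a285a2254a2298a6286a9e88a2274a1a879d687a1663a16639e2979e2749da869e297a5294a5274aa284a1297aa288a1a88a6298a62549d673a22969de97a1a87a92a7a1a75a52a69e28499a78a0e98a5a74a1a889e2869e284a5e77a5676a1a45a5e98a5a75a5287a62889daa7a0e65a9e78a6288a56859d697a9e88a1a9799287a22789da889a284a1e6399288996939d688a1e78a1e96aa298a1a76996859e286a1a73a5a969e286a1e769de849d6759d288a5278a1aa89927599a769d254a4e889e2949d684a2266992789e2a8a5e68a62689d287a9e88a5e88a12a79d6889de78a6286a5a87956949e278a2258a1e65a5a8599a769d284a2297992869e278a62659a278aa288a2297956779d658956859a278a22649da689a287a2298962869da959a288a1e76a1a7899a6896275a1a86a627899678a0e989967499e87a2278a1a97a6275a52559d294a62889d2a4a5a77a1686a62859d287a1a78a1a87a62969d6889de74a5264a225695a789d674a12859da739a275a12869a284a1285a1697a16969d686a5e96a6298a22a49d678a1284a528899676a2276a9277a1a86a5674a1e9899674a2298a16749e2869d278a1288a22769da659d684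
noncomputable def chQ0c50 : Nat := nat_lit 0x98a87a0a78aa27998e55916929da669a67296697a6262a4681a0a65a66539e663a2682a5a7799a729a6639ce8299e739e689a0e55a0e62a4a83a1a999cea19ce63a5e68a4e959d6779da9399aa6a96b3a4ea3a8ea39c653a4ea3a0e95a4e87a9a83a16839ca75a2669a5a85a1695a56a6a96a9ae256a16939e6859d6a8a9a639de76a5aa6aca769da96a8e96a2698a5e86a2665a5e9999a8599a85ada79a5a83a1aa2a1a969da73a0e99a9e83a5673a16869d295a1676a1a95a1a79a4a82a1aa8a5a93ada979d682a9e979d696a1e86ada72a0e899dea2a9ea7a26899e688a16739d687a6687a4a84a5e95a1aa8a5a76a5e97a0e97a4e83a1e73a5a96a5e98a1aa7a52a7a5ea6a4ea698e799ce93a5aa7a2696a9ea7a9ea6a1273a0e73a0e96a9ab798e869ceb7a1e759cea6a1e83a0e93a5a98a8e769da83a1e93a5aa8aa282ace86a0e75ae2a898e97a1a98a9e63a1a73a4e83a0a859cea8a5a96a1a799ce739ce83a1e97a0e87a9e93a4e739ce97a4e739ca93a0e83a2276a269998e97a1a83a5e93a5e63ade97a9e8398ea7a9e83a1a53a9ea5a0ab7aa6a7a5a83a5a63a0e73a9e97a8e73ade93ada85a5a72a668398e97a5a86a5a839ce86a9ea7a5a96a1a8399686a5655ade6598a97a5e87a1685a5e96a0e79a5e939ca97a26969ceb7a9a86a1a96a2683a1eb7a6692a8ea6a9e93a0a98a1e98a22999dea7a5a87a9e97a62759d685a9ea79da869de96ade869daa3ace89a4e76996729ce9899ab7adaa3a1e95a5e98aa276a9a96a1ab3a9a86a26869da75a5a66a9a86a9e96a5ea6a9e99a0aa69da95a9e73a4ea6a0e73a5ea8adea7a1aa3a1a97a0ea7a1a979de87a5ea3a5297a5aa69cea8a1ea7a5e76a0e97a9ab8a0ea9a1a96a5a97a9e93a1687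
noncomputable def chQ0c51 : Nat := nat_lit 0x9a279a22589e6a9ae2999e669a26889e6a9a62a8a6688a2699a62a9a6299aa268aa279a26b9a6689aa2a9a6699a2699a2698ae6799e689a2679a2698a26899e6989e6a8ae679a2679a2699a9679a62899e6899a689a2699a26a992698a22889e6a9a66a99e679a62899e6a8a26899e689a26599a299a2669aa689a6689aa689a26a89a699a6689aa689aa689a6679a6659a26a9a26b9a6699a2698aa6789e6899e6999a6a9a2689a22799e6999e6a9966999a689a6699a26a9aa689a6659a2289aa699a6689a66799a669aa269a26799e699a2669a2689a6299a66889e679966999a6899e6899e6999e2699e669a22899a689a26999e689966799e6899e269aa688aa2999e69996689aa6949a69892678a6278966799e698a6679a2669a2699a22599e689966699e669a6679a6669a6678a2288a62899a669a6689a56599e6799e66992659a26699a6889e6899a6889e66996699a26799a6699e679a2678a26898e685a62599e679966699a6899a679a2269a2689a66799e6599a669a664992689a2669966799e6599667992679a26699e6599e689966499e6999a659a62899e2599a6599a679a22799a6699e6a89a6799e67996679a26a8a2679a22799a669926899a699a26699a6799a6699a6599a67996678a6659a2669966599e669926899a669966699e6799a6699e6799a6799e6599a6799a6b2b22a8a9ab1a5a92a9eb7ae2a2a8a92a8ab8a56a5a5698a8a82a86a8b16a5ad692a4692a56a1a1ab6ac6c1ad6a2adea9a9697a96b5aa6a1a0a99a66a7ad6a6a56a5a96a2a8a92a4a95a5a92aca85a4a91a56a6a9696a16a1ac685a4a82a4a95ae6a2a0aa5a8ab1a5692a8a92a0a82a2672a9e92a0a92a8679a4a539e265a2682aa6639e269a1a919ca53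
noncomputable def chQ0c52 : Nat := nat_lit 0xaa6999e299a26a9a62a8ae2b9a6688a2698a6299aa6a9ae6799e689aa6999a6a9a2299a2688a26999e6a9a26a9aa279a6689a62a9966889e6a9a6689a66a9aa6a5a62a9aa698a2289a96b8a6689a6689aa689a6698a6298a2699a6699a2299a22b89e6899a6999e699a6289aa6899e6c9a26999e6a89e279aa6a8a22a9a2699aa2699a688a26c9a62699a289a2689ae679a26899e669a6299aa6a9ae6999a689a6689a66a8a66a9a6299a26899e6b8a56a8a6679a22a9a26b9a6699a26a9aa6799e689a2679a26999a6799e6c9a26899e699a2689a6679aa2a99e6a9aa669a26b9a6659a26a996689aa6999e698a2299a6689a6699a2679a26b99e689a6699aa6b4aa689a6688a6699a26a9aa28996699a6289a2699a2699a2679a22b9a6689aa699a66a9a2679a6679a66a99a698a26a9b2679a62899e699a6688aa6a89a6a9a6688a6698a6678a6279a6679a2699aa269a6689a22a9a2679a66799e669a2289a26b9a6299a62799e699a66b8a66a9aa6a9a26999e279a66a9a2689a62a8ae699aa6799e689aa699a2689a2689aa689a6699a2679a2689aa699a26b9a66b8ae689a2269ae6899a689aa6a8a6669a6669a62a9a26989e6c9ae6a99e299a66999e2a5a2698a2679a6669a2679aa2a99e699a66b89e6a99e669aa279aa6999a699a26999e6699a699a6699a66999e6a9a6679a26999e669a66a9aa6a8a26899e6a99e689a6679a66999e6999e289a26a9a62999e698a66a9a26b8ae669a6289a66999a688a26899e689a2699aa688aa699a5689a26a9aa2999e699a6669aa699a5699a2289a6678a2699a62a99a698aa6799a6a9a66899e679a2689a2289a2689a6679a26a89e6799e6a99a699a2689a2678a2299aa299a66799a298a26999e289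
noncomputable def chQ0c53 : Nat := nat_lit 0xa9695ae695aa695aa6b9a96b9aa6a9b26d8ae6c9aa6b5b22b8ae6c9ae2a9ae6a9ae6a8ae6a9aa6c5ae6b9a66b9ae6b9aa6c5b26b9b26c8a96b9ae695a66a5aa6c9b1aa8ad6a9aa6d5aa688ae6a9a66d9a66c9aa6a9b22a9ae699a26b9ae6a9aa695aa6b9aa6a8a96c9a66b5aa6b6a26c9a2699ae6b5a6699a66c9aa6c9aa6a9aa6a8aa2889e6b9a26c9a6699aa6a6b26b9ae6c9ae6c5a6299a6299ae6a5a6699a6679a26b9ae6a9aa6a9aa6a9ae698ae289aa699aa6a9a26a9aa2b9ae6b9a66a9b1e89a62b7aa6a9a6298a2699aa6b9ae6a9ad699aa699a66b9aa6a9a6699ae6b8a66b9aa678ae6b9aa689a6689a6698a6698ae699aa689a6698a66c8a22a5ae6b9ae6b4aa2b9b26a9a66b9aa6b8aa689a26a9b2689aa2a9aa6a8aa699a9299a26a9a66b9a26b9aa2b9a6689a22b9a2699b2679a66999e699a26b8ae698a6699a6699a6698a2688ad289a26a9a26799e6a4aa6a99e689a66a9a62a9a22999e689a9289aa6a9b26899a689aa6a9aa2b99e6b9aa279a6289b26b9ae6a89e2a9ae2799e6b9a66a99e6989e679ae289ae689aa689ae699a2699a26859e2a9a6699a2699a2699a66799e289a6689a6699a6699ae299aa689ae6b9ae698aa6c8ae299aa299aa289aa6b9ae6b89a689ae699a2299ae6c9a2689a66799e2a99e2a8aa6a89a2a9a62b9a6669a6299a2689ae698a6699aa689a6689a6688a66a9aa6789e699a2679aa6a9ad2b9aa6a8aa689a2279a2698a6689aa699a6289a66b9ae679b2299aa6a9a2678a22a9a6669a66799e6b8aa6a8a26a8a66a9a6289a6299b26a9a5699a6699a2699a6699ae299a2699a6699a2298a22a4a66a9a2689a26a99e699aa6a9a2689a6679a2299a2699a26a8aa689aa699a22b996679aa6a99a6a9a26b8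
noncomputable def chQ0c54 : Nat := nat_lit 0xb16b2ae6c9b26c9b66c9b1ac5ae6d9b1ad6b26c9b66b2adad9b56a2b66d7b66c9b1ed9adae9b52b7a9ac4adac6b0ac6b1ac2acab6b66b6b66b7a9ab6acac6b26d9b26b6a8aa2ba696b5eb6a8ac6a9aa7adab2ad2c4b1ac7a9aa6adab7adab6b1eb2a92b6a9ea6a9a92a5aa6adea2a52b7adea7ae6b5a96c9b26a9ae6c5a9ac9b26c9ae6b9b66c9ae6d9ad6d9a9ab9ad695a56c9ae6c9adec5b26b6b26a5adac9ae6d9a96a5b16b9ae6c9b66d9b0eb5ad6c9b26a7b26b6b26a9a9aa5adec9a96a7ae6b9b26c9a56b5ae6c7b1e99adeb3ae6a9b1ea9aa6b5ae6c9ae6d9ae6b5adeb7b26d6ad695ae685ae6a6a5ab9b26c7b26c9adab9a96b7b66a9b1ec9b1ec9a96d9a96b9a96b5adea5b1eb9a96d9adec4ad6b6adeb5b1ac9b26b9b26c9ad2b3aa6a4a9ab5ae6b4ad2a7b16a5adaa7adeb5a9ac6a96b9ae6a7a9eb6a96c5ad6c9b5eb4a56c9ad2a5ae6a5b26c9b26a5ad6c5adea9b26a7b1eb9b26c7a56b6a56c9adec7adeb5ae6d9ae6b9adaa5b0ea5a96a5b66b9a92a5b26c9adea5adea9b26c5a9297ae6a9a96b5ad695a56b9ad6b5a96a9a5695ae6d9b6697a56a9a56a7b26a9a56a9ae6c5b26c3b16a7b26a9ae6a7aa6c9ad6a7a56b7a9694adea9a96a3a5ea7adab9a9ad5ae6a7aa6a6b26b4a96b5ad6b5a56a5a96a5ae6b5ad695a96c9ad6b9a92b5ae6a9a96c9b16b9a56c9b16b5a92b5a16b9ae6a5ae695ae6b9ae685a56a5a9697b26a5ad6a9ad2a5ae695aa6a5a16a5ae6b9adeb9aa6a9ad695a92b3a56a5a56a5a66a4a66a7a96b9a56a9a56b9a96b9a96a5ae6b4a1695ae685a5eb7ae6a4ae6a9ae6a9a66a6aa695aa6b9aa6a5a56b9a5685b26b9aa6c5aa6a5aa694aa6a4a6685ae6b9a66a9aa699a6695ae6b9a5aa9b12c9b26a9ae6b9a96a9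
noncomputable def chQ0c55 : Nat := nat_lit 0x2e8b62e8ba2d8be2e8b22e8be2f8ba2e8b62c8ba2d8b62d8be2e8b62c8ba2c8b62d8b62e8b62f8b22d8b22d8b62d8b22c8b62e8ba2c8b22e6ae2c8b62c8b56b8b22d8b62e8b22d8ba2b8b56e8b22d8b22d8b16d8b62d8b16d8b22e8b62e8b62a8b62d8b22d5b22d4b16d8ae2c8ba2e8ba2d8ae2d8b22d5b22e8b62b8aa2e5ae2e8b22d8b16d8b62c8b62d5b62d8b22c8b22b8ba2a8b62c8b62c8b16d8ae2c8b56c5b62d5b22c8b22c8b22b5ae2c8b22d8b22c4b22d8ae2d8b62b8b62d7ad6c8ae2d8ad6c8ae2e8ae2f8ae2d8b22c8b22c8b22d8b62c8b1ac8ae2c8b22c8b5ac8b22c5ae2d8ae2c5ae2b8ae2c8b22b8b22e7b62c8b62c5b22d5ae2b8b22d8ae2b8aa2c8aa2d4ae2d8b22c8aa2b8ba2b8ae2c8b62b8ae2c8ae2c8b22a8b22b8ae2c8ae2a8ae2c8b22c8ae2b8b22c9ba6c9b66d9b66d9b66c9b26d2b1ee9ae6d9b26e9ba6d9b1ad9ae6d9b5ac9b26b6b26b5b26c2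
noncomputable def chQ0 : Nat → Nat := (fun h => @Nat.rec (fun _ => Nat → Nat)
 (fun h => @Nat.rec (fun _ => Nat → Nat)
 (fun h => @Nat.rec (fun _ => Nat → Nat)
 (fun h => @Nat.rec (fun _ => Nat → Nat)
 (fun h => @Nat.rec (fun _ => Nat → Nat)
 (fun h => @Nat.rec (fun _ => Nat → Nat)
 (fun i => Nat.land (Nat.shiftRight chQ0c0 (Nat.mul (nat_lit 10) (Nat.land i (nat_lit 511)))) (nat_lit 0x3ff))
 (fun _ _ => (fun i => Nat.land (Nat.shiftRight chQ0c1 (Nat.mul (nat_lit 10) (Nat.land i (nat_lit 511)))) (nat_lit 0x3ff))) (Nat.land h (nat_lit 512)) h)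
 (fun _ _ => (fun h => @Nat.rec (fun _ => Nat → Nat)
 (fun i => Nat.land (Nat.shiftRight chQ0c2 (Nat.mul (nat_lit 10) (Nat.land i (nat_lit 511)))) (nat_lit 0x3ff))
 (fun _ _ => (fun i => Nat.land (Nat.shiftRight chQ0c3 (Nat.mul (nat_lit 10) (Nat.land i (nat_lit 511)))) (nat_lit 0x3ff))) (Nat.land h (nat_lit 512)) h)) (Nat.land h (nat_lit 0x400)) h)
 (fun _ _ => (fun h => @Nat.rec (fun _ => Nat → Nat)
 (fun h => @Nat.rec (fun _ => Nat → Nat)
 (fun i => Nat.land (Nat.shiftRight chQ0c4 (Nat.mul (nat_lit 10) (Nat.land i (nat_lit 511)))) (nat_lit 0x3ff))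
 (fun _ _ => (fun i => Nat.land (Nat.shiftRight chQ0c5 (Nat.mul (nat_lit 10) (Nat.land i (nat_lit 511)))) (nat_lit 0x3ff))) (Nat.land h (nat_lit 512)) h)
 (fun _ _ => (fun h => @Nat.rec (fun _ => Nat → Nat)
 (fun i => Nat.land (Nat.shiftRight chQ0c6 (Nat.mul (nat_lit 10) (Nat.land i (nat_lit 511)))) (nat_lit 0x3ff))
 (fun _ _ => (fun i => Nat.land (Nat.shiftRight chQ0c7 (Nat.mul (nat_lit 10) (Nat.land i (nat_lit 511)))) (nat_lit 0x3ff))) (Nat.land h (nat_lit 512)) h)) (Nat.land h (nat_lit 0x400)) h)) (Nat.land h (nat_lit 0x800)) h)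
 (fun _ _ => (fun h => @Nat.rec (fun _ => Nat → Nat)
 (fun h => @Nat.rec (fun _ => Nat → Nat)
 (fun h => @Nat.rec (fun _ => Nat → Nat)
 (fun i => Nat.land (Nat.shiftRight chQ0c8 (Nat.mul (nat_lit 10) (Nat.land i (nat_lit 511)))) (nat_lit 0x3ff))
 (fun _ _ => (fun i => Nat.land (Nat.shiftRight chQ0c9 (Nat.mul (nat_lit 10) (Nat.land i (nat_lit 511)))) (nat_lit 0x3ff))) (Nat.land h (nat_lit 512)) h)
 (fun _ _ => (fun h => @Nat.rec (fun _ => Nat → Nat)
 (fun i => Nat.land (Nat.shiftRight chQ0c10 (Nat.mul (nat_lit 10) (Nat.land i (nat_lit 511)))) (nat_lit 0x3ff))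
 (fun _ _ => (fun i => Nat.land (Nat.shiftRight chQ0c11 (Nat.mul (nat_lit 10) (Nat.land i (nat_lit 511)))) (nat_lit 0x3ff))) (Nat.land h (nat_lit 512)) h)) (Nat.land h (nat_lit 0x400)) h)
 (fun _ _ => (fun h => @Nat.rec (fun _ => Nat → Nat)
 (fun h => @Nat.rec (fun _ => Nat → Nat)
 (fun i => Nat.land (Nat.shiftRight chQ0c12 (Nat.mul (nat_lit 10) (Nat.land i (nat_lit 511)))) (nat_lit 0x3ff))
 (fun _ _ => (fun i => Nat.land (Nat.shiftRight chQ0c13 (Nat.mul (nat_lit 10) (Nat.land i (nat_lit 511)))) (nat_lit 0x3ff))) (Nat.land h (nat_lit 512)) h)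
 (fun _ _ => (fun h => @Nat.rec (fun _ => Nat → Nat)
 (fun i => Nat.land (Nat.shiftRight chQ0c14 (Nat.mul (nat_lit 10) (Nat.land i (nat_lit 511)))) (nat_lit 0x3ff))
 (fun _ _ => (fun i => Nat.land (Nat.shiftRight chQ0c15 (Nat.mul (nat_lit 10) (Nat.land i (nat_lit 511)))) (nat_lit 0x3ff))) (Nat.land h (nat_lit 512)) h)) (Nat.land h (nat_lit 0x400)) h)) (Nat.land h (nat_lit 0x800)) h)) (Nat.land h (nat_lit 0x1000)) h)
 (fun _ _ => (fun h => @Nat.rec (fun _ => Nat → Nat)
 (fun h => @Nat.rec (fun _ => Nat → Nat)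
 (fun h => @Nat.rec (fun _ => Nat → Nat)
 (fun h => @Nat.rec (fun _ => Nat → Nat)
 (fun i => Nat.land (Nat.shiftRight chQ0c16 (Nat.mul (nat_lit 10) (Nat.land i (nat_lit 511)))) (nat_lit 0x3ff))
 (fun _ _ => (fun i => Nat.land (Nat.shiftRight chQ0c17 (Nat.mul (nat_lit 10) (Nat.land i (nat_lit 511)))) (nat_lit 0x3ff))) (Nat.land h (nat_lit 512)) h)
 (fun _ _ => (fun h => @Nat.rec (fun _ => Nat → Nat)
 (fun i => Nat.land (Nat.shiftRight chQ0c18 (Nat.mul (nat_lit 10) (Nat.land i (nat_lit 511)))) (nat_lit 0x3ff))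
 (fun _ _ => (fun i => Nat.land (Nat.shiftRight chQ0c19 (Nat.mul (nat_lit 10) (Nat.land i (nat_lit 511)))) (nat_lit 0x3ff))) (Nat.land h (nat_lit 512)) h)) (Nat.land h (nat_lit 0x400)) h)
 (fun _ _ => (fun h => @Nat.rec (fun _ => Nat → Nat)
 (fun h => @Nat.rec (fun _ => Nat → Nat)
 (fun i => Nat.land (Nat.shiftRight chQ0c20 (Nat.mul (nat_lit 10) (Nat.land i (nat_lit 511)))) (nat_lit 0x3ff))
 (fun _ _ => (fun i => Nat.land (Nat.shiftRight chQ0c21 (Nat.mul (nat_lit 10) (Nat.land i (nat_lit 511)))) (nat_lit 0x3ff))) (Nat.land h (nat_lit 512)) h)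
 (fun _ _ => (fun h => @Nat.rec (fun _ => Nat → Nat)
 (fun i => Nat.land (Nat.shiftRight chQ0c22 (Nat.mul (nat_lit 10) (Nat.land i (nat_lit 511)))) (nat_lit 0x3ff))
 (fun _ _ => (fun i => Nat.land (Nat.shiftRight chQ0c23 (Nat.mul (nat_lit 10) (Nat.land i (nat_lit 511)))) (nat_lit 0x3ff))) (Nat.land h (nat_lit 512)) h)) (Nat.land h (nat_lit 0x400)) h)) (Nat.land h (nat_lit 0x800)) h)
 (fun _ _ => (fun h => @Nat.rec (fun _ => Nat → Nat)
 (fun h => @Nat.rec (fun _ => Nat → Nat)
 (fun h => @Nat.rec (fun _ => Nat → Nat)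
 (fun i => Nat.land (Nat.shiftRight chQ0c24 (Nat.mul (nat_lit 10) (Nat.land i (nat_lit 511)))) (nat_lit 0x3ff))
 (fun _ _ => (fun i => Nat.land (Nat.shiftRight chQ0c25 (Nat.mul (nat_lit 10) (Nat.land i (nat_lit 511)))) (nat_lit 0x3ff))) (Nat.land h (nat_lit 512)) h)
 (fun _ _ => (fun h => @Nat.rec (fun _ => Nat → Nat)
 (fun i => Nat.land (Nat.shiftRight chQ0c26 (Nat.mul (nat_lit 10) (Nat.land i (nat_lit 511)))) (nat_lit 0x3ff))
 (fun _ _ => (fun i => Nat.land (Nat.shiftRight chQ0c27 (Nat.mul (nat_lit 10) (Nat.land i (nat_lit 511)))) (nat_lit 0x3ff))) (Nat.land h (nat_lit 512)) h)) (Nat.land h (nat_lit 0x400)) h)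
 (fun _ _ => (fun h => @Nat.rec (fun _ => Nat → Nat)
 (fun h => @Nat.rec (fun _ => Nat → Nat)
 (fun i => Nat.land (Nat.shiftRight chQ0c28 (Nat.mul (nat_lit 10) (Nat.land i (nat_lit 511)))) (nat_lit 0x3ff))
 (fun _ _ => (fun i => Nat.land (Nat.shiftRight chQ0c29 (Nat.mul (nat_lit 10) (Nat.land i (nat_lit 511)))) (nat_lit 0x3ff))) (Nat.land h (nat_lit 512)) h)
 (fun _ _ => (fun h => @Nat.rec (fun _ => Nat → Nat)
 (fun i => Nat.land (Nat.shiftRight chQ0c30 (Nat.mul (nat_lit 10) (Nat.land i (nat_lit 511)))) (nat_lit 0x3ff))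
 (fun _ _ => (fun i => Nat.land (Nat.shiftRight chQ0c31 (Nat.mul (nat_lit 10) (Nat.land i (nat_lit 511)))) (nat_lit 0x3ff))) (Nat.land h (nat_lit 512)) h)) (Nat.land h (nat_lit 0x400)) h)) (Nat.land h (nat_lit 0x800)) h)) (Nat.land h (nat_lit 0x1000)) h)) (Nat.land h (nat_lit 0x2000)) h)
 (fun _ _ => (fun h => @Nat.rec (fun _ => Nat → Nat)
 (fun h => @Nat.rec (fun _ => Nat → Nat)
 (fun h => @Nat.rec (fun _ => Nat → Nat)
 (fun h => @Nat.rec (fun _ => Nat → Nat)
 (fun h => @Nat.rec (fun _ => Nat → Nat)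
 (fun i => Nat.land (Nat.shiftRight chQ0c32 (Nat.mul (nat_lit 10) (Nat.land i (nat_lit 511)))) (nat_lit 0x3ff))
 (fun _ _ => (fun i => Nat.land (Nat.shiftRight chQ0c33 (Nat.mul (nat_lit 10) (Nat.land i (nat_lit 511)))) (nat_lit 0x3ff))) (Nat.land h (nat_lit 512)) h)
 (fun _ _ => (fun h => @Nat.rec (fun _ => Nat → Nat)
 (fun i => Nat.land (Nat.shiftRight chQ0c34 (Nat.mul (nat_lit 10) (Nat.land i (nat_lit 511)))) (nat_lit 0x3ff))
 (fun _ _ => (fun i => Nat.land (Nat.shiftRight chQ0c35 (Nat.mul (nat_lit 10) (Nat.land i (nat_lit 511)))) (nat_lit 0x3ff))) (Nat.land h (nat_lit 512)) h)) (Nat.land h (nat_lit 0x400)) h)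
 (fun _ _ => (fun h => @Nat.rec (fun _ => Nat → Nat)
 (fun h => @Nat.rec (fun _ => Nat → Nat)
 (fun i => Nat.land (Nat.shiftRight chQ0c36 (Nat.mul (nat_lit 10) (Nat.land i (nat_lit 511)))) (nat_lit 0x3ff))
 (fun _ _ => (fun i => Nat.land (Nat.shiftRight chQ0c37 (Nat.mul (nat_lit 10) (Nat.land i (nat_lit 511)))) (nat_lit 0x3ff))) (Nat.land h (nat_lit 512)) h)
 (fun _ _ => (fun h => @Nat.rec (fun _ => Nat → Nat)
 (fun i => Nat.land (Nat.shiftRight chQ0c38 (Nat.mul (nat_lit 10) (Nat.land i (nat_lit 511)))) (nat_lit 0x3ff))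
 (fun _ _ => (fun i => Nat.land (Nat.shiftRight chQ0c39 (Nat.mul (nat_lit 10) (Nat.land i (nat_lit 511)))) (nat_lit 0x3ff))) (Nat.land h (nat_lit 512)) h)) (Nat.land h (nat_lit 0x400)) h)) (Nat.land h (nat_lit 0x800)) h)
 (fun _ _ => (fun h => @Nat.rec (fun _ => Nat → Nat)
 (fun h => @Nat.rec (fun _ => Nat → Nat)
 (fun h => @Nat.rec (fun _ => Nat → Nat)
 (fun i => Nat.land (Nat.shiftRight chQ0c40 (Nat.mul (nat_lit 10) (Nat.land i (nat_lit 511)))) (nat_lit 0x3ff))
 (fun _ _ => (fun i => Nat.land (Nat.shiftRight chQ0c41 (Nat.mul (nat_lit 10) (Nat.land i (nat_lit 511)))) (nat_lit 0x3ff))) (Nat.land h (nat_lit 512)) h)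
 (fun _ _ => (fun h => @Nat.rec (fun _ => Nat → Nat)
 (fun i => Nat.land (Nat.shiftRight chQ0c42 (Nat.mul (nat_lit 10) (Nat.land i (nat_lit 511)))) (nat_lit 0x3ff))
 (fun _ _ => (fun i => Nat.land (Nat.shiftRight chQ0c43 (Nat.mul (nat_lit 10) (Nat.land i (nat_lit 511)))) (nat_lit 0x3ff))) (Nat.land h (nat_lit 512)) h)) (Nat.land h (nat_lit 0x400)) h)
 (fun _ _ => (fun h => @Nat.rec (fun _ => Nat → Nat)
 (fun h => @Nat.rec (fun _ => Nat → Nat)
 (fun i => Nat.land (Nat.shiftRight chQ0c44 (Nat.mul (nat_lit 10) (Nat.land i (nat_lit 511)))) (nat_lit 0x3ff))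
 (fun _ _ => (fun i => Nat.land (Nat.shiftRight chQ0c45 (Nat.mul (nat_lit 10) (Nat.land i (nat_lit 511)))) (nat_lit 0x3ff))) (Nat.land h (nat_lit 512)) h)
 (fun _ _ => (fun h => @Nat.rec (fun _ => Nat → Nat)
 (fun i => Nat.land (Nat.shiftRight chQ0c46 (Nat.mul (nat_lit 10) (Nat.land i (nat_lit 511)))) (nat_lit 0x3ff))
 (fun _ _ => (fun i => Nat.land (Nat.shiftRight chQ0c47 (Nat.mul (nat_lit 10) (Nat.land i (nat_lit 511)))) (nat_lit 0x3ff))) (Nat.land h (nat_lit 512)) h)) (Nat.land h (nat_lit 0x400)) h)) (Nat.land h (nat_lit 0x800)) h)) (Nat.land h (nat_lit 0x1000)) h)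
 (fun _ _ => (fun h => @Nat.rec (fun _ => Nat → Nat)
 (fun h => @Nat.rec (fun _ => Nat → Nat)
 (fun h => @Nat.rec (fun _ => Nat → Nat)
 (fun i => Nat.land (Nat.shiftRight chQ0c48 (Nat.mul (nat_lit 10) (Nat.land i (nat_lit 511)))) (nat_lit 0x3ff))
 (fun _ _ => (fun i => Nat.land (Nat.shiftRight chQ0c49 (Nat.mul (nat_lit 10) (Nat.land i (nat_lit 511)))) (nat_lit 0x3ff))) (Nat.land h (nat_lit 512)) h)
 (fun _ _ => (fun h => @Nat.rec (fun _ => Nat → Nat)
 (fun i => Nat.land (Nat.shiftRight chQ0c50 (Nat.mul (nat_lit 10) (Nat.land i (nat_lit 511)))) (nat_lit 0x3ff))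
 (fun _ _ => (fun i => Nat.land (Nat.shiftRight chQ0c51 (Nat.mul (nat_lit 10) (Nat.land i (nat_lit 511)))) (nat_lit 0x3ff))) (Nat.land h (nat_lit 512)) h)) (Nat.land h (nat_lit 0x400)) h)
 (fun _ _ => (fun h => @Nat.rec (fun _ => Nat → Nat)
 (fun h => @Nat.rec (fun _ => Nat → Nat)
 (fun i => Nat.land (Nat.shiftRight chQ0c52 (Nat.mul (nat_lit 10) (Nat.land i (nat_lit 511)))) (nat_lit 0x3ff))
 (fun _ _ => (fun i => Nat.land (Nat.shiftRight chQ0c53 (Nat.mul (nat_lit 10) (Nat.land i (nat_lit 511)))) (nat_lit 0x3ff))) (Nat.land h (nat_lit 512)) h)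
 (fun _ _ => (fun h => @Nat.rec (fun _ => Nat → Nat)
 (fun i => Nat.land (Nat.shiftRight chQ0c54 (Nat.mul (nat_lit 10) (Nat.land i (nat_lit 511)))) (nat_lit 0x3ff))
 (fun _ _ => (fun i => Nat.land (Nat.shiftRight chQ0c55 (Nat.mul (nat_lit 10) (Nat.land i (nat_lit 511)))) (nat_lit 0x3ff))) (Nat.land h (nat_lit 512)) h)) (Nat.land h (nat_lit 0x400)) h)) (Nat.land h (nat_lit 0x800)) h)) (Nat.land h (nat_lit 0x2000)) h)) (Nat.land h (nat_lit 0x4000)) h)
theorem ch_r0 : allR (ckReach chQ0 [[T0], [T1], [T2], [T3], [T4], [T5], [T6], [T7], [T8], [T9]] (nat_lit 0)) (nat_lit 0) (nat_lit 0x6f0f) = true := by decide +kernel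
theorem ch_c0 : cntT chQ0 (nat_lit 0x6f0f) (nat_lit 0x6f0f) (nat_lit 0) = true := by decide +kernel
noncomputable def chQ1c0 : Nat := nat_lit 0x206f3718020cf6003cc00000038da600000018716000000000000000000000000136000028d069300249160000000000049a6936824924d149b49228008a411e8000000000000000000000000000000000000000000000000000000000041251188a46210f8823d1c9269b4964d159345a2d158a46211058341611167c419f0e8823d5d0f5733d9ed066c395e8e46ab200000000000000000000000000022f068b0000000000020e0083801ee007b41000f40000000e4733500000000000000000000000000000000000000000000000000000000000000000000000000000000000116934180000830022c008b000000000000000083459cd067b00000000041800f6003d80000003d800f6733998cd67335800d672001e8f67300000005b00000e600001acc6003962af5004160a0000001eaf80042000f50041400e67b001f000003a1d0e76935db0c20000000000000000000000208007a001a8e400001e8000039000d40031000b4000020a007a801ea0072b95cc0072801d0d67a801b00072b55f0006335c00d800001d00000001b0c861b1d68c853ae16ea54b201eae500001ca0000001aac572b55aac55a800000072b558ad50035400005a80000a56280000c55a80000000035800c66c3a000c86c2dd8ec859ae146000000000d562ad54a00000000000000000000000000000000000000000000000633216eb65225db0a75c32170a84aa18e2a85c2d9909853ae14ca84a25d08a65c25950984322130a84c220f09743a14ec62439d4ee653b99cae66299588c441a8a02000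
noncomputable def chQ1c1 : Nat := nat_lit 0x4162a00000000000000000000000000000000000000000000000000000000000000000000000000000000000000000000000000000000000000000000000000000000000000000000000000000000000000000000000000000000000000000000000000000000000000000000000000000000000000000000000000000000000000000000000000000000000000000000000000000000000000000000000000000000000000000000000000000000000000000000000000000000000000000000000000000000000000000000000000000000000000000000000000000000000000000000000000000000000000000000000000000000000000000000000000000000000000000000000000000000000000000000000000000000000000000000000000000000000000000000000020e00abca0000093d1e6f15004e00118000022f47828028e00004de4f28000000137000022e00000022f250051c0117004e001370049e6e00938022b2793cdc0000838000000004dc0000005226b277bc5e6e0083bdc00000000000000049c00008b8022ef79280000000000001070000001070000001270045c0000838000000003de4f170000000e70039e0ed7003ddcec76bca2712400511ef359a455ce009c00251070049c0125000000000000022e00003dc000000419ee000046001087c3840000000000000000000000000000000000000000934d8000099d1a4d368b4d8000089c9a07160048e4726898020c009180000000044e2d130000206000000000000000000f3000000000000020600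
noncomputable def chQ1c2 : Nat := nat_lit 0xa900000000000001670000000000059c0000005d40177b28000000005980000000000000ab8000000000000000000000000000000158000028c0000000016800000015500002ad36000028b470051c0000ab8000157b3802ac00000000000005940000004c80146005080136a30000156005568c00000026400000028e00910000137004ca6d220044a45260000205120000000000000000000000000000000001370000264000000001570000000000000000000000000009a8000147000000000000000000000024a00a28024d279b8000000000000112910000117a380001129b0024cf2000022d029bc9c01160041800007140800f20000000000034800000000000000000000000000000000000000000000000000000000000000000000000000000000000000000000000000000000000000000000000000000000000000000000000000000000000000000001259b8026a00aa8028e00000000000ab802ca00ac0000158000028f55b40029000a4002b1450000000009c59c0155005169135abd168a00000000135005200000000000000004e2b000000000000000024a00004cc0143a40026f4300002a600000000000004d80000b1d1aad46a9802860000000000099c8c0000000000000000000000000000000000000000000000000000000000000000000000026723a455626000000001459c0000135940028754a2cd40000a2002680092ccc00008ac8c0134924940114000000000000020a00a380000009a802ae00a2cdc01270051c01259ac566e00004962e00938000000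
noncomputable def chQ1c3 : Nat := nat_lit 0xa35580000000000000c0000017100000000000002ec0000002cc0000002cc009b0028d56005980000a30000000ab00000000000000000055f0f54005d001440059eee00005dec80000550016400002ce00000000000abd126954aa51ec944b3ddc00000055c0000b38000000000000000000000000000000000000000000000000000000000000000000000000000000000000000000000000000000000000000000000000000000000000000000000000000000000000000000000000000000000000000000000000000000000000000000000000000000000000000000000000000000000000000000000000000000000000000000000000000000000000000000000000000000000000000000000000000000000000000000000000000000000000000000000000000000000000000000000000000000000000000000000000000000000000000000000000000000000000000000000000000000000000000000000000000000000000000000000000000000000000000000000000000000000000000000000000000000000000000000000000000000000000000000000000000000000000000000000000000000000000000000000000000000000000000000000000000000000000000000000000000000000000000000000000000000000000000000000000000000000000000000000000000000000000000000000000000000000b1000000000000000000000000000002aa00a2802a557000028400000000000005a2a578000000000000000142000026400000000000005080000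
noncomputable def chQ1c4 : Nat := nat_lit 0xc1d8c000000003060000002ac00000000000000000000000000184000000000b0002ce00cc00000009ad500000b98000000888032600ab60c0000005d8000000000000000000017600002ef970051a8e00888000000000000121005d401780059400000055c0000005400188000000000000000000000000156c3d140000ba002cd55006200000c2c840000000028e00000000000006500121988026d75cad180186000000157005040000000000157005e00174005e22c0098802d0000059401830000331479300001889bc9a620000002f186cc5040136000000000005d80000c40031196c20028c00c459ec800938000000000030951a0e16cf7800002ed66cb002e800004dab137a3802ad6600000016600546cd44abd840177000030d68005a00000ab00000000051aed78005629000005dc0178ab65c0000bb002af8700002d00000622ed77bae1c01850061c0000005600000000000168b45980177000028f57005dece00c3002ce00bc5940188abe1c0147c2002c800a3d600174bad52ef66005a2ce000055a8764bbd4c0167b38000157000024f55b2de00157000000167bbddc0000bc4dece000000000000055e6f67a38000158abd1c0157ab59c0000005d00184005a2a800005900000bae16e800bb0000000000000175b3596aa0000002c80000000016600556ca0000002b1650055aeb66aad140000aa802cb46000000000a2802ad469b59aad46a30000156ab0000000004da8d36a34d40126004da4c008b0000000000000000a30028e009a0026f24005d80136ab0024c00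
noncomputable def chQ1c5 : Nat := nat_lit 0x5000000005840155000000000005424160000000000980000101000000000000000111000000000004dc0000000000000000000000000000000000000170000000178000000000bc5000000003840000000000186b4000000000002818000000000000000016500000000000002a000000000000000000000000000000000000150b100282000051e8c0000000000093558000000000000000000016000002cf36000000167005dc0000b88000000a30000000ba8000000a38000000000028d56005d80000005980000000000000bb800000000002ac00000000000000000000003c40000000000000b35d8000000002a600b30000000b3000013000002ce00005c00157a88000000005180000000000000a20000000005c400000000001870055c0000ab4daae00000000167000000000000030e00b3802ac00a8802ef45004c6ed70b2dd80000005d40000005040000b00028000c4002c200000000000000000000b35dc000000000015700002d186000000176a9562cc00000000000005c80000000000000b15dc000000002ab5800598018600002ce000055400000059ed156000000000000000000000000000000000161005c00000000000166005940174b98028f760058e8400a40030800ac0000000cb8000000000032600000000000000000000000000194000000000c26140000000000000ca8000000a80030a00bad140000000000187004d40000000000000808000000c28000000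
noncomputable def chQ1c6 : Nat := nat_lit 0x3c0000000000000000000000000000000000000000000000000000000000000000000000000000000000000000000000000000000000000000000000000000000000000000000000000000000000000000000000000000000000000000000000000000000000000000000000000000000000000000000000000000000000002000000002200000000000000000000090800000098000000000000000000000000090000000000000000088000000000000000000000000000000000000000000000480000000000000000000000000000000000000000000002ae00000000000000000000980000000000000000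
noncomputable def chQ1c7 : Nat := nat_lit 0x0
noncomputable def chQ1c8 : Nat := nat_lit 0x0
noncomputable def chQ1c9 : Nat := nat_lit 0x0
noncomputable def chQ1c10 : Nat := nat_lit 0x0
noncomputable def chQ1c11 : Nat := nat_lit 0x0
noncomputable def chQ1c12 : Nat := nat_lit 0x0
noncomputable def chQ1c13 : Nat := nat_lit 0x0
noncomputable def chQ1c14 : Nat := nat_lit 0x0
noncomputable def chQ1c15 : Nat := nat_lit 0x0
noncomputable def chQ1c16 : Nat := nat_lit 0x0
noncomputable def chQ1c17 : Nat := nat_lit 0x0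
noncomputable def chQ1c18 : Nat := nat_lit 0x0
noncomputable def chQ1c19 : Nat := nat_lit 0x0
noncomputable def chQ1c20 : Nat := nat_lit 0x0
noncomputable def chQ1c21 : Nat := nat_lit 0x0
noncomputable def chQ1c22 : Nat := nat_lit 0x0
noncomputable def chQ1c23 : Nat := nat_lit 0x0
noncomputable def chQ1c24 : Nat := nat_lit 0x0
noncomputable def chQ1c25 : Nat := nat_lit 0x0
noncomputable def chQ1c26 : Nat := nat_lit 0x0
noncomputable def chQ1c27 : Nat := nat_lit 0x0
noncomputable def chQ1c28 : Nat := nat_lit 0x0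
noncomputable def chQ1c29 : Nat := nat_lit 0x0
noncomputable def chQ1c30 : Nat := nat_lit 0x0
noncomputable def chQ1c31 : Nat := nat_lit 0x0
noncomputable def chQ1c32 : Nat := nat_lit 0x0
noncomputable def chQ1c33 : Nat := nat_lit 0x0
noncomputable def chQ1c34 : Nat := nat_lit 0x0
noncomputable def chQ1c35 : Nat := nat_lit 0x0
noncomputable def chQ1c36 : Nat := nat_lit 0x0
noncomputable def chQ1c37 : Nat := nat_lit 0x0
noncomputable def chQ1c38 : Nat := nat_lit 0x0
noncomputable def chQ1c39 : Nat := nat_lit 0x0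
noncomputable def chQ1c40 : Nat := nat_lit 0x0
noncomputable def chQ1c41 : Nat := nat_lit 0x0
noncomputable def chQ1c42 : Nat := nat_lit 0x0
noncomputable def chQ1c43 : Nat := nat_lit 0x0
noncomputable def chQ1c44 : Nat := nat_lit 0x0
noncomputable def chQ1c45 : Nat := nat_lit 0x0
noncomputable def chQ1c46 : Nat := nat_lit 0x0
noncomputable def chQ1c47 : Nat := nat_lit 0x0
noncomputable def chQ1c48 : Nat := nat_lit 0x0
noncomputable def chQ1c49 : Nat := nat_lit 0x0
noncomputable def chQ1c50 : Nat := nat_lit 0x0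
noncomputable def chQ1c51 : Nat := nat_lit 0x0
noncomputable def chQ1c52 : Nat := nat_lit 0x0
noncomputable def chQ1c53 : Nat := nat_lit 0x0
noncomputable def chQ1c54 : Nat := nat_lit 0x0
noncomputable def chQ1c55 : Nat := nat_lit 0x0
noncomputable def chQ1 : Nat → Nat := (fun h => @Nat.rec (fun _ => Nat → Nat)
 (fun h => @Nat.rec (fun _ => Nat → Nat)
 (fun h => @Nat.rec (fun _ => Nat → Nat)
 (fun h => @Nat.rec (fun _ => Nat → Nat)
 (fun h => @Nat.rec (fun _ => Nat → Nat)
 (fun h => @Nat.rec (fun _ => Nat → Nat)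
 (fun i => Nat.land (Nat.shiftRight chQ1c0 (Nat.mul (nat_lit 9) (Nat.land i (nat_lit 511)))) (nat_lit 511))
 (fun _ _ => (fun i => Nat.land (Nat.shiftRight chQ1c1 (Nat.mul (nat_lit 9) (Nat.land i (nat_lit 511)))) (nat_lit 511))) (Nat.land h (nat_lit 512)) h)
 (fun _ _ => (fun h => @Nat.rec (fun _ => Nat → Nat)
 (fun i => Nat.land (Nat.shiftRight chQ1c2 (Nat.mul (nat_lit 9) (Nat.land i (nat_lit 511)))) (nat_lit 511))
 (fun _ _ => (fun i => Nat.land (Nat.shiftRight chQ1c3 (Nat.mul (nat_lit 9) (Nat.land i (nat_lit 511)))) (nat_lit 511))) (Nat.land h (nat_lit 512)) h)) (Nat.land h (nat_lit 0x400)) h)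
 (fun _ _ => (fun h => @Nat.rec (fun _ => Nat → Nat)
 (fun h => @Nat.rec (fun _ => Nat → Nat)
 (fun i => Nat.land (Nat.shiftRight chQ1c4 (Nat.mul (nat_lit 9) (Nat.land i (nat_lit 511)))) (nat_lit 511))
 (fun _ _ => (fun i => Nat.land (Nat.shiftRight chQ1c5 (Nat.mul (nat_lit 9) (Nat.land i (nat_lit 511)))) (nat_lit 511))) (Nat.land h (nat_lit 512)) h)
 (fun _ _ => (fun h => @Nat.rec (fun _ => Nat → Nat)
 (fun i => Nat.land (Nat.shiftRight chQ1c6 (Nat.mul (nat_lit 9) (Nat.land i (nat_lit 511)))) (nat_lit 511))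
 (fun _ _ => (fun i => Nat.land (Nat.shiftRight chQ1c7 (Nat.mul (nat_lit 9) (Nat.land i (nat_lit 511)))) (nat_lit 511))) (Nat.land h (nat_lit 512)) h)) (Nat.land h (nat_lit 0x400)) h)) (Nat.land h (nat_lit 0x800)) h)
 (fun _ _ => (fun h => @Nat.rec (fun _ => Nat → Nat)
 (fun h => @Nat.rec (fun _ => Nat → Nat)
 (fun h => @Nat.rec (fun _ => Nat → Nat)
 (fun i => Nat.land (Nat.shiftRight chQ1c8 (Nat.mul (nat_lit 9) (Nat.land i (nat_lit 511)))) (nat_lit 511))
 (fun _ _ => (fun i => Nat.land (Nat.shiftRight chQ1c9 (Nat.mul (nat_lit 9) (Nat.land i (nat_lit 511)))) (nat_lit 511))) (Nat.land h (nat_lit 512)) h)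
 (fun _ _ => (fun h => @Nat.rec (fun _ => Nat → Nat)
 (fun i => Nat.land (Nat.shiftRight chQ1c10 (Nat.mul (nat_lit 9) (Nat.land i (nat_lit 511)))) (nat_lit 511))
 (fun _ _ => (fun i => Nat.land (Nat.shiftRight chQ1c11 (Nat.mul (nat_lit 9) (Nat.land i (nat_lit 511)))) (nat_lit 511))) (Nat.land h (nat_lit 512)) h)) (Nat.land h (nat_lit 0x400)) h)
 (fun _ _ => (fun h => @Nat.rec (fun _ => Nat → Nat)
 (fun h => @Nat.rec (fun _ => Nat → Nat)
 (fun i => Nat.land (Nat.shiftRight chQ1c12 (Nat.mul (nat_lit 9) (Nat.land i (nat_lit 511)))) (nat_lit 511))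
 (fun _ _ => (fun i => Nat.land (Nat.shiftRight chQ1c13 (Nat.mul (nat_lit 9) (Nat.land i (nat_lit 511)))) (nat_lit 511))) (Nat.land h (nat_lit 512)) h)
 (fun _ _ => (fun h => @Nat.rec (fun _ => Nat → Nat)
 (fun i => Nat.land (Nat.shiftRight chQ1c14 (Nat.mul (nat_lit 9) (Nat.land i (nat_lit 511)))) (nat_lit 511))
 (fun _ _ => (fun i => Nat.land (Nat.shiftRight chQ1c15 (Nat.mul (nat_lit 9) (Nat.land i (nat_lit 511)))) (nat_lit 511))) (Nat.land h (nat_lit 512)) h)) (Nat.land h (nat_lit 0x400)) h)) (Nat.land h (nat_lit 0x800)) h)) (Nat.land h (nat_lit 0x1000)) h)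
 (fun _ _ => (fun h => @Nat.rec (fun _ => Nat → Nat)
 (fun h => @Nat.rec (fun _ => Nat → Nat)
 (fun h => @Nat.rec (fun _ => Nat → Nat)
 (fun h => @Nat.rec (fun _ => Nat → Nat)
 (fun i => Nat.land (Nat.shiftRight chQ1c16 (Nat.mul (nat_lit 9) (Nat.land i (nat_lit 511)))) (nat_lit 511))
 (fun _ _ => (fun i => Nat.land (Nat.shiftRight chQ1c17 (Nat.mul (nat_lit 9) (Nat.land i (nat_lit 511)))) (nat_lit 511))) (Nat.land h (nat_lit 512)) h)
 (fun _ _ => (fun h => @Nat.rec (fun _ => Nat → Nat)
 (fun i => Nat.land (Nat.shiftRight chQ1c18 (Nat.mul (nat_lit 9) (Nat.land i (nat_lit 511)))) (nat_lit 511))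
 (fun _ _ => (fun i => Nat.land (Nat.shiftRight chQ1c19 (Nat.mul (nat_lit 9) (Nat.land i (nat_lit 511)))) (nat_lit 511))) (Nat.land h (nat_lit 512)) h)) (Nat.land h (nat_lit 0x400)) h)
 (fun _ _ => (fun h => @Nat.rec (fun _ => Nat → Nat)
 (fun h => @Nat.rec (fun _ => Nat → Nat)
 (fun i => Nat.land (Nat.shiftRight chQ1c20 (Nat.mul (nat_lit 9) (Nat.land i (nat_lit 511)))) (nat_lit 511))
 (fun _ _ => (fun i => Nat.land (Nat.shiftRight chQ1c21 (Nat.mul (nat_lit 9) (Nat.land i (nat_lit 511)))) (nat_lit 511))) (Nat.land h (nat_lit 512)) h)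
 (fun _ _ => (fun h => @Nat.rec (fun _ => Nat → Nat)
 (fun i => Nat.land (Nat.shiftRight chQ1c22 (Nat.mul (nat_lit 9) (Nat.land i (nat_lit 511)))) (nat_lit 511))
 (fun _ _ => (fun i => Nat.land (Nat.shiftRight chQ1c23 (Nat.mul (nat_lit 9) (Nat.land i (nat_lit 511)))) (nat_lit 511))) (Nat.land h (nat_lit 512)) h)) (Nat.land h (nat_lit 0x400)) h)) (Nat.land h (nat_lit 0x800)) h)
 (fun _ _ => (fun h => @Nat.rec (fun _ => Nat → Nat)
 (fun h => @Nat.rec (fun _ => Nat → Nat)
 (fun h => @Nat.rec (fun _ => Nat → Nat)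
 (fun i => Nat.land (Nat.shiftRight chQ1c24 (Nat.mul (nat_lit 9) (Nat.land i (nat_lit 511)))) (nat_lit 511))
 (fun _ _ => (fun i => Nat.land (Nat.shiftRight chQ1c25 (Nat.mul (nat_lit 9) (Nat.land i (nat_lit 511)))) (nat_lit 511))) (Nat.land h (nat_lit 512)) h)
 (fun _ _ => (fun h => @Nat.rec (fun _ => Nat → Nat)
 (fun i => Nat.land (Nat.shiftRight chQ1c26 (Nat.mul (nat_lit 9) (Nat.land i (nat_lit 511)))) (nat_lit 511))
 (fun _ _ => (fun i => Nat.land (Nat.shiftRight chQ1c27 (Nat.mul (nat_lit 9) (Nat.land i (nat_lit 511)))) (nat_lit 511))) (Nat.land h (nat_lit 512)) h)) (Nat.land h (nat_lit 0x400)) h)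
 (fun _ _ => (fun h => @Nat.rec (fun _ => Nat → Nat)
 (fun h => @Nat.rec (fun _ => Nat → Nat)
 (fun i => Nat.land (Nat.shiftRight chQ1c28 (Nat.mul (nat_lit 9) (Nat.land i (nat_lit 511)))) (nat_lit 511))
 (fun _ _ => (fun i => Nat.land (Nat.shiftRight chQ1c29 (Nat.mul (nat_lit 9) (Nat.land i (nat_lit 511)))) (nat_lit 511))) (Nat.land h (nat_lit 512)) h)
 (fun _ _ => (fun h => @Nat.rec (fun _ => Nat → Nat)
 (fun i => Nat.land (Nat.shiftRight chQ1c30 (Nat.mul (nat_lit 9) (Nat.land i (nat_lit 511)))) (nat_lit 511))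
 (fun _ _ => (fun i => Nat.land (Nat.shiftRight chQ1c31 (Nat.mul (nat_lit 9) (Nat.land i (nat_lit 511)))) (nat_lit 511))) (Nat.land h (nat_lit 512)) h)) (Nat.land h (nat_lit 0x400)) h)) (Nat.land h (nat_lit 0x800)) h)) (Nat.land h (nat_lit 0x1000)) h)) (Nat.land h (nat_lit 0x2000)) h)
 (fun _ _ => (fun h => @Nat.rec (fun _ => Nat → Nat)
 (fun h => @Nat.rec (fun _ => Nat → Nat)
 (fun h => @Nat.rec (fun _ => Nat → Nat)
 (fun h => @Nat.rec (fun _ => Nat → Nat)
 (fun h => @Nat.rec (fun _ => Nat → Nat)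
 (fun i => Nat.land (Nat.shiftRight chQ1c32 (Nat.mul (nat_lit 9) (Nat.land i (nat_lit 511)))) (nat_lit 511))
 (fun _ _ => (fun i => Nat.land (Nat.shiftRight chQ1c33 (Nat.mul (nat_lit 9) (Nat.land i (nat_lit 511)))) (nat_lit 511))) (Nat.land h (nat_lit 512)) h)
 (fun _ _ => (fun h => @Nat.rec (fun _ => Nat → Nat)
 (fun i => Nat.land (Nat.shiftRight chQ1c34 (Nat.mul (nat_lit 9) (Nat.land i (nat_lit 511)))) (nat_lit 511))
 (fun _ _ => (fun i => Nat.land (Nat.shiftRight chQ1c35 (Nat.mul (nat_lit 9) (Nat.land i (nat_lit 511)))) (nat_lit 511))) (Nat.land h (nat_lit 512)) h)) (Nat.land h (nat_lit 0x400)) h)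
 (fun _ _ => (fun h => @Nat.rec (fun _ => Nat → Nat)
 (fun h => @Nat.rec (fun _ => Nat → Nat)
 (fun i => Nat.land (Nat.shiftRight chQ1c36 (Nat.mul (nat_lit 9) (Nat.land i (nat_lit 511)))) (nat_lit 511))
 (fun _ _ => (fun i => Nat.land (Nat.shiftRight chQ1c37 (Nat.mul (nat_lit 9) (Nat.land i (nat_lit 511)))) (nat_lit 511))) (Nat.land h (nat_lit 512)) h)
 (fun _ _ => (fun h => @Nat.rec (fun _ => Nat → Nat)
 (fun i => Nat.land (Nat.shiftRight chQ1c38 (Nat.mul (nat_lit 9) (Nat.land i (nat_lit 511)))) (nat_lit 511))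
 (fun _ _ => (fun i => Nat.land (Nat.shiftRight chQ1c39 (Nat.mul (nat_lit 9) (Nat.land i (nat_lit 511)))) (nat_lit 511))) (Nat.land h (nat_lit 512)) h)) (Nat.land h (nat_lit 0x400)) h)) (Nat.land h (nat_lit 0x800)) h)
 (fun _ _ => (fun h => @Nat.rec (fun _ => Nat → Nat)
 (fun h => @Nat.rec (fun _ => Nat → Nat)
 (fun h => @Nat.rec (fun _ => Nat → Nat)
 (fun i => Nat.land (Nat.shiftRight chQ1c40 (Nat.mul (nat_lit 9) (Nat.land i (nat_lit 511)))) (nat_lit 511))
 (fun _ _ => (fun i => Nat.land (Nat.shiftRight chQ1c41 (Nat.mul (nat_lit 9) (Nat.land i (nat_lit 511)))) (nat_lit 511))) (Nat.land h (nat_lit 512)) h)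
 (fun _ _ => (fun h => @Nat.rec (fun _ => Nat → Nat)
 (fun i => Nat.land (Nat.shiftRight chQ1c42 (Nat.mul (nat_lit 9) (Nat.land i (nat_lit 511)))) (nat_lit 511))
 (fun _ _ => (fun i => Nat.land (Nat.shiftRight chQ1c43 (Nat.mul (nat_lit 9) (Nat.land i (nat_lit 511)))) (nat_lit 511))) (Nat.land h (nat_lit 512)) h)) (Nat.land h (nat_lit 0x400)) h)
 (fun _ _ => (fun h => @Nat.rec (fun _ => Nat → Nat)
 (fun h => @Nat.rec (fun _ => Nat → Nat)
 (fun i => Nat.land (Nat.shiftRight chQ1c44 (Nat.mul (nat_lit 9) (Nat.land i (nat_lit 511)))) (nat_lit 511))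
 (fun _ _ => (fun i => Nat.land (Nat.shiftRight chQ1c45 (Nat.mul (nat_lit 9) (Nat.land i (nat_lit 511)))) (nat_lit 511))) (Nat.land h (nat_lit 512)) h)
 (fun _ _ => (fun h => @Nat.rec (fun _ => Nat → Nat)
 (fun i => Nat.land (Nat.shiftRight chQ1c46 (Nat.mul (nat_lit 9) (Nat.land i (nat_lit 511)))) (nat_lit 511))
 (fun _ _ => (fun i => Nat.land (Nat.shiftRight chQ1c47 (Nat.mul (nat_lit 9) (Nat.land i (nat_lit 511)))) (nat_lit 511))) (Nat.land h (nat_lit 512)) h)) (Nat.land h (nat_lit 0x400)) h)) (Nat.land h (nat_lit 0x800)) h)) (Nat.land h (nat_lit 0x1000)) h)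
 (fun _ _ => (fun h => @Nat.rec (fun _ => Nat → Nat)
 (fun h => @Nat.rec (fun _ => Nat → Nat)
 (fun h => @Nat.rec (fun _ => Nat → Nat)
 (fun i => Nat.land (Nat.shiftRight chQ1c48 (Nat.mul (nat_lit 9) (Nat.land i (nat_lit 511)))) (nat_lit 511))
 (fun _ _ => (fun i => Nat.land (Nat.shiftRight chQ1c49 (Nat.mul (nat_lit 9) (Nat.land i (nat_lit 511)))) (nat_lit 511))) (Nat.land h (nat_lit 512)) h)
 (fun _ _ => (fun h => @Nat.rec (fun _ => Nat → Nat)
 (fun i => Nat.land (Nat.shiftRight chQ1c50 (Nat.mul (nat_lit 9) (Nat.land i (nat_lit 511)))) (nat_lit 511))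
 (fun _ _ => (fun i => Nat.land (Nat.shiftRight chQ1c51 (Nat.mul (nat_lit 9) (Nat.land i (nat_lit 511)))) (nat_lit 511))) (Nat.land h (nat_lit 512)) h)) (Nat.land h (nat_lit 0x400)) h)
 (fun _ _ => (fun h => @Nat.rec (fun _ => Nat → Nat)
 (fun h => @Nat.rec (fun _ => Nat → Nat)
 (fun i => Nat.land (Nat.shiftRight chQ1c52 (Nat.mul (nat_lit 9) (Nat.land i (nat_lit 511)))) (nat_lit 511))
 (fun _ _ => (fun i => Nat.land (Nat.shiftRight chQ1c53 (Nat.mul (nat_lit 9) (Nat.land i (nat_lit 511)))) (nat_lit 511))) (Nat.land h (nat_lit 512)) h)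
 (fun _ _ => (fun h => @Nat.rec (fun _ => Nat → Nat)
 (fun i => Nat.land (Nat.shiftRight chQ1c54 (Nat.mul (nat_lit 9) (Nat.land i (nat_lit 511)))) (nat_lit 511))
 (fun _ _ => (fun i => Nat.land (Nat.shiftRight chQ1c55 (Nat.mul (nat_lit 9) (Nat.land i (nat_lit 511)))) (nat_lit 511))) (Nat.land h (nat_lit 512)) h)) (Nat.land h (nat_lit 0x400)) h)) (Nat.land h (nat_lit 0x800)) h)) (Nat.land h (nat_lit 0x2000)) h)) (Nat.land h (nat_lit 0x4000)) h)
theorem ch_r1 : allR (ckReach chQ1 [[T0], [T1], [T2], [T3], [T4], [T5], [T6], [T7], [T8]] (nat_lit 1)) (nat_lit 0) (nat_lit 0x6f0f) = true := by decide +kernel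
theorem ch_c1 : cntT chQ1 (nat_lit 960) (nat_lit 0x6f0f) (nat_lit 0) = true := by decide +kernel
noncomputable def chQ2c0 : Nat := nat_lit 0x3d000008200000007a391a8000000000000000000000000000000000000000000000000000000000000000000000000000000000000000000000000000000000000000000000000000000000000000000000000000000000000000000000000000000000000000000000000000000000000000000000000000000000000000000000000000000000000000000000000000000000000000000000000000000000000000000000000000000000000000000000000000000000000000000000000000000000000000000000000000000000000000000000000000000e5003d400d67300000000000000d76131c00b200000000000000000000000000000000000000000000000000000000000000000000000000001ca0000355ac000000000c60000000000000000005b31c000000000000000000000059add48004b8014e95431c000000000000000000000006ab158ab55280000000000000000000000000000000000000000000000000000031800b60000000000029d6e005180126000000000000000000000000000000000000000000000000000000000000000005b0014ea64a21c0097000000000429d8c2000029800004b8012c004221ce8960021800003b00000000000000873b9d4cc523b994ce553395c8e56219186c34128400000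
noncomputable def chQ2c1 : Nat := nat_lit 0x114000000000004140000000000000000000000000000000000000000000000000003d9ce00000000000003440000000000000000000000000000000000000000000000000000000000000000000000000000000000000000000000000000000000000000000000000000000000000000000000000000000000000
noncomputable def chQ2c2 : Nat := nat_lit 0x24713000020600000000000000000000000000000000000000000000000000000000000000000000000000000000000000000000000000000000000000000000000000000000000000000000000000000000000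
noncomputable def chQ2c3 : Nat := nat_lit 0x0
noncomputable def chQ2c4 : Nat := nat_lit 0x0
noncomputable def chQ2c5 : Nat := nat_lit 0x26400000000000000000000000000000000000000000000000000000000000000000000000000000000000000000000000000000000000000000000000000000000000000000000000000000000000000000000
noncomputable def chQ2c6 : Nat := nat_lit 0x0
noncomputable def chQ2c7 : Nat := nat_lit 0x0
noncomputable def chQ2c8 : Nat := nat_lit 0x0
noncomputable def chQ2c9 : Nat := nat_lit 0x0
noncomputable def chQ2c10 : Nat := nat_lit 0x0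
noncomputable def chQ2c11 : Nat := nat_lit 0x0
noncomputable def chQ2c12 : Nat := nat_lit 0x0
noncomputable def chQ2c13 : Nat := nat_lit 0x0
noncomputable def chQ2c14 : Nat := nat_lit 0x0
noncomputable def chQ2c15 : Nat := nat_lit 0x0
noncomputable def chQ2c16 : Nat := nat_lit 0x0
noncomputable def chQ2c17 : Nat := nat_lit 0x0
noncomputable def chQ2c18 : Nat := nat_lit 0x0
noncomputable def chQ2c19 : Nat := nat_lit 0x0
noncomputable def chQ2c20 : Nat := nat_lit 0x0
noncomputable def chQ2c21 : Nat := nat_lit 0x0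
noncomputable def chQ2c22 : Nat := nat_lit 0x0
noncomputable def chQ2c23 : Nat := nat_lit 0x0
noncomputable def chQ2c24 : Nat := nat_lit 0x0
noncomputable def chQ2c25 : Nat := nat_lit 0x0
noncomputable def chQ2c26 : Nat := nat_lit 0x0
noncomputable def chQ2c27 : Nat := nat_lit 0x0
noncomputable def chQ2c28 : Nat := nat_lit 0x0
noncomputable def chQ2c29 : Nat := nat_lit 0x0
noncomputable def chQ2c30 : Nat := nat_lit 0x0
noncomputable def chQ2c31 : Nat := nat_lit 0x0
noncomputable def chQ2c32 : Nat := nat_lit 0x0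
noncomputable def chQ2c33 : Nat := nat_lit 0x0
noncomputable def chQ2c34 : Nat := nat_lit 0x0
noncomputable def chQ2c35 : Nat := nat_lit 0x0
noncomputable def chQ2c36 : Nat := nat_lit 0x0
noncomputable def chQ2c37 : Nat := nat_lit 0x0
noncomputable def chQ2c38 : Nat := nat_lit 0x0
noncomputable def chQ2c39 : Nat := nat_lit 0x0
noncomputable def chQ2c40 : Nat := nat_lit 0x0
noncomputable def chQ2c41 : Nat := nat_lit 0x0
noncomputable def chQ2c42 : Nat := nat_lit 0x0
noncomputable def chQ2c43 : Nat := nat_lit 0x0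
noncomputable def chQ2c44 : Nat := nat_lit 0x0
noncomputable def chQ2c45 : Nat := nat_lit 0x0
noncomputable def chQ2c46 : Nat := nat_lit 0x0
noncomputable def chQ2c47 : Nat := nat_lit 0x0
noncomputable def chQ2c48 : Nat := nat_lit 0x0
noncomputable def chQ2c49 : Nat := nat_lit 0x0
noncomputable def chQ2c50 : Nat := nat_lit 0x0
noncomputable def chQ2c51 : Nat := nat_lit 0x0
noncomputable def chQ2c52 : Nat := nat_lit 0x0
noncomputable def chQ2c53 : Nat := nat_lit 0x0
noncomputable def chQ2c54 : Nat := nat_lit 0x0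
noncomputable def chQ2c55 : Nat := nat_lit 0x0
noncomputable def chQ2 : Nat → Nat := (fun h => @Nat.rec (fun _ => Nat → Nat)
 (fun h => @Nat.rec (fun _ => Nat → Nat)
 (fun h => @Nat.rec (fun _ => Nat → Nat)
 (fun h => @Nat.rec (fun _ => Nat → Nat)
 (fun h => @Nat.rec (fun _ => Nat → Nat)
 (fun h => @Nat.rec (fun _ => Nat → Nat)
 (fun i => Nat.land (Nat.shiftRight chQ2c0 (Nat.mul (nat_lit 9) (Nat.land i (nat_lit 511)))) (nat_lit 511))
 (fun _ _ => (fun i => Nat.land (Nat.shiftRight chQ2c1 (Nat.mul (nat_lit 9) (Nat.land i (nat_lit 511)))) (nat_lit 511))) (Nat.land h (nat_lit 512)) h)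
 (fun _ _ => (fun h => @Nat.rec (fun _ => Nat → Nat)
 (fun i => Nat.land (Nat.shiftRight chQ2c2 (Nat.mul (nat_lit 9) (Nat.land i (nat_lit 511)))) (nat_lit 511))
 (fun _ _ => (fun i => Nat.land (Nat.shiftRight chQ2c3 (Nat.mul (nat_lit 9) (Nat.land i (nat_lit 511)))) (nat_lit 511))) (Nat.land h (nat_lit 512)) h)) (Nat.land h (nat_lit 0x400)) h)
 (fun _ _ => (fun h => @Nat.rec (fun _ => Nat → Nat)
 (fun h => @Nat.rec (fun _ => Nat → Nat)
 (fun i => Nat.land (Nat.shiftRight chQ2c4 (Nat.mul (nat_lit 9) (Nat.land i (nat_lit 511)))) (nat_lit 511))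
 (fun _ _ => (fun i => Nat.land (Nat.shiftRight chQ2c5 (Nat.mul (nat_lit 9) (Nat.land i (nat_lit 511)))) (nat_lit 511))) (Nat.land h (nat_lit 512)) h)
 (fun _ _ => (fun h => @Nat.rec (fun _ => Nat → Nat)
 (fun i => Nat.land (Nat.shiftRight chQ2c6 (Nat.mul (nat_lit 9) (Nat.land i (nat_lit 511)))) (nat_lit 511))
 (fun _ _ => (fun i => Nat.land (Nat.shiftRight chQ2c7 (Nat.mul (nat_lit 9) (Nat.land i (nat_lit 511)))) (nat_lit 511))) (Nat.land h (nat_lit 512)) h)) (Nat.land h (nat_lit 0x400)) h)) (Nat.land h (nat_lit 0x800)) h)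
 (fun _ _ => (fun h => @Nat.rec (fun _ => Nat → Nat)
 (fun h => @Nat.rec (fun _ => Nat → Nat)
 (fun h => @Nat.rec (fun _ => Nat → Nat)
 (fun i => Nat.land (Nat.shiftRight chQ2c8 (Nat.mul (nat_lit 9) (Nat.land i (nat_lit 511)))) (nat_lit 511))
 (fun _ _ => (fun i => Nat.land (Nat.shiftRight chQ2c9 (Nat.mul (nat_lit 9) (Nat.land i (nat_lit 511)))) (nat_lit 511))) (Nat.land h (nat_lit 512)) h)
 (fun _ _ => (fun h => @Nat.rec (fun _ => Nat → Nat)
 (fun i => Nat.land (Nat.shiftRight chQ2c10 (Nat.mul (nat_lit 9) (Nat.land i (nat_lit 511)))) (nat_lit 511))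
 (fun _ _ => (fun i => Nat.land (Nat.shiftRight chQ2c11 (Nat.mul (nat_lit 9) (Nat.land i (nat_lit 511)))) (nat_lit 511))) (Nat.land h (nat_lit 512)) h)) (Nat.land h (nat_lit 0x400)) h)
 (fun _ _ => (fun h => @Nat.rec (fun _ => Nat → Nat)
 (fun h => @Nat.rec (fun _ => Nat → Nat)
 (fun i => Nat.land (Nat.shiftRight chQ2c12 (Nat.mul (nat_lit 9) (Nat.land i (nat_lit 511)))) (nat_lit 511))
 (fun _ _ => (fun i => Nat.land (Nat.shiftRight chQ2c13 (Nat.mul (nat_lit 9) (Nat.land i (nat_lit 511)))) (nat_lit 511))) (Nat.land h (nat_lit 512)) h)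
 (fun _ _ => (fun h => @Nat.rec (fun _ => Nat → Nat)
 (fun i => Nat.land (Nat.shiftRight chQ2c14 (Nat.mul (nat_lit 9) (Nat.land i (nat_lit 511)))) (nat_lit 511))
 (fun _ _ => (fun i => Nat.land (Nat.shiftRight chQ2c15 (Nat.mul (nat_lit 9) (Nat.land i (nat_lit 511)))) (nat_lit 511))) (Nat.land h (nat_lit 512)) h)) (Nat.land h (nat_lit 0x400)) h)) (Nat.land h (nat_lit 0x800)) h)) (Nat.land h (nat_lit 0x1000)) h)
 (fun _ _ => (fun h => @Nat.rec (fun _ => Nat → Nat)
 (fun h => @Nat.rec (fun _ => Nat → Nat)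
 (fun h => @Nat.rec (fun _ => Nat → Nat)
 (fun h => @Nat.rec (fun _ => Nat → Nat)
 (fun i => Nat.land (Nat.shiftRight chQ2c16 (Nat.mul (nat_lit 9) (Nat.land i (nat_lit 511)))) (nat_lit 511))
 (fun _ _ => (fun i => Nat.land (Nat.shiftRight chQ2c17 (Nat.mul (nat_lit 9) (Nat.land i (nat_lit 511)))) (nat_lit 511))) (Nat.land h (nat_lit 512)) h)
 (fun _ _ => (fun h => @Nat.rec (fun _ => Nat → Nat)
 (fun i => Nat.land (Nat.shiftRight chQ2c18 (Nat.mul (nat_lit 9) (Nat.land i (nat_lit 511)))) (nat_lit 511))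
 (fun _ _ => (fun i => Nat.land (Nat.shiftRight chQ2c19 (Nat.mul (nat_lit 9) (Nat.land i (nat_lit 511)))) (nat_lit 511))) (Nat.land h (nat_lit 512)) h)) (Nat.land h (nat_lit 0x400)) h)
 (fun _ _ => (fun h => @Nat.rec (fun _ => Nat → Nat)
 (fun h => @Nat.rec (fun _ => Nat → Nat)
 (fun i => Nat.land (Nat.shiftRight chQ2c20 (Nat.mul (nat_lit 9) (Nat.land i (nat_lit 511)))) (nat_lit 511))
 (fun _ _ => (fun i => Nat.land (Nat.shiftRight chQ2c21 (Nat.mul (nat_lit 9) (Nat.land i (nat_lit 511)))) (nat_lit 511))) (Nat.land h (nat_lit 512)) h)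
 (fun _ _ => (fun h => @Nat.rec (fun _ => Nat → Nat)
 (fun i => Nat.land (Nat.shiftRight chQ2c22 (Nat.mul (nat_lit 9) (Nat.land i (nat_lit 511)))) (nat_lit 511))
 (fun _ _ => (fun i => Nat.land (Nat.shiftRight chQ2c23 (Nat.mul (nat_lit 9) (Nat.land i (nat_lit 511)))) (nat_lit 511))) (Nat.land h (nat_lit 512)) h)) (Nat.land h (nat_lit 0x400)) h)) (Nat.land h (nat_lit 0x800)) h)
 (fun _ _ => (fun h => @Nat.rec (fun _ => Nat → Nat)
 (fun h => @Nat.rec (fun _ => Nat → Nat)
 (fun h => @Nat.rec (fun _ => Nat → Nat)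
 (fun i => Nat.land (Nat.shiftRight chQ2c24 (Nat.mul (nat_lit 9) (Nat.land i (nat_lit 511)))) (nat_lit 511))
 (fun _ _ => (fun i => Nat.land (Nat.shiftRight chQ2c25 (Nat.mul (nat_lit 9) (Nat.land i (nat_lit 511)))) (nat_lit 511))) (Nat.land h (nat_lit 512)) h)
 (fun _ _ => (fun h => @Nat.rec (fun _ => Nat → Nat)
 (fun i => Nat.land (Nat.shiftRight chQ2c26 (Nat.mul (nat_lit 9) (Nat.land i (nat_lit 511)))) (nat_lit 511))
 (fun _ _ => (fun i => Nat.land (Nat.shiftRight chQ2c27 (Nat.mul (nat_lit 9) (Nat.land i (nat_lit 511)))) (nat_lit 511))) (Nat.land h (nat_lit 512)) h)) (Nat.land h (nat_lit 0x400)) h)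
 (fun _ _ => (fun h => @Nat.rec (fun _ => Nat → Nat)
 (fun h => @Nat.rec (fun _ => Nat → Nat)
 (fun i => Nat.land (Nat.shiftRight chQ2c28 (Nat.mul (nat_lit 9) (Nat.land i (nat_lit 511)))) (nat_lit 511))
 (fun _ _ => (fun i => Nat.land (Nat.shiftRight chQ2c29 (Nat.mul (nat_lit 9) (Nat.land i (nat_lit 511)))) (nat_lit 511))) (Nat.land h (nat_lit 512)) h)
 (fun _ _ => (fun h => @Nat.rec (fun _ => Nat → Nat)
 (fun i => Nat.land (Nat.shiftRight chQ2c30 (Nat.mul (nat_lit 9) (Nat.land i (nat_lit 511)))) (nat_lit 511))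
 (fun _ _ => (fun i => Nat.land (Nat.shiftRight chQ2c31 (Nat.mul (nat_lit 9) (Nat.land i (nat_lit 511)))) (nat_lit 511))) (Nat.land h (nat_lit 512)) h)) (Nat.land h (nat_lit 0x400)) h)) (Nat.land h (nat_lit 0x800)) h)) (Nat.land h (nat_lit 0x1000)) h)) (Nat.land h (nat_lit 0x2000)) h)
 (fun _ _ => (fun h => @Nat.rec (fun _ => Nat → Nat)
 (fun h => @Nat.rec (fun _ => Nat → Nat)
 (fun h => @Nat.rec (fun _ => Nat → Nat)
 (fun h => @Nat.rec (fun _ => Nat → Nat)
 (fun h => @Nat.rec (fun _ => Nat → Nat)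
 (fun i => Nat.land (Nat.shiftRight chQ2c32 (Nat.mul (nat_lit 9) (Nat.land i (nat_lit 511)))) (nat_lit 511))
 (fun _ _ => (fun i => Nat.land (Nat.shiftRight chQ2c33 (Nat.mul (nat_lit 9) (Nat.land i (nat_lit 511)))) (nat_lit 511))) (Nat.land h (nat_lit 512)) h)
 (fun _ _ => (fun h => @Nat.rec (fun _ => Nat → Nat)
 (fun i => Nat.land (Nat.shiftRight chQ2c34 (Nat.mul (nat_lit 9) (Nat.land i (nat_lit 511)))) (nat_lit 511))
 (fun _ _ => (fun i => Nat.land (Nat.shiftRight chQ2c35 (Nat.mul (nat_lit 9) (Nat.land i (nat_lit 511)))) (nat_lit 511))) (Nat.land h (nat_lit 512)) h)) (Nat.land h (nat_lit 0x400)) h)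
 (fun _ _ => (fun h => @Nat.rec (fun _ => Nat → Nat)
 (fun h => @Nat.rec (fun _ => Nat → Nat)
 (fun i => Nat.land (Nat.shiftRight chQ2c36 (Nat.mul (nat_lit 9) (Nat.land i (nat_lit 511)))) (nat_lit 511))
 (fun _ _ => (fun i => Nat.land (Nat.shiftRight chQ2c37 (Nat.mul (nat_lit 9) (Nat.land i (nat_lit 511)))) (nat_lit 511))) (Nat.land h (nat_lit 512)) h)
 (fun _ _ => (fun h => @Nat.rec (fun _ => Nat → Nat)
 (fun i => Nat.land (Nat.shiftRight chQ2c38 (Nat.mul (nat_lit 9) (Nat.land i (nat_lit 511)))) (nat_lit 511))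
 (fun _ _ => (fun i => Nat.land (Nat.shiftRight chQ2c39 (Nat.mul (nat_lit 9) (Nat.land i (nat_lit 511)))) (nat_lit 511))) (Nat.land h (nat_lit 512)) h)) (Nat.land h (nat_lit 0x400)) h)) (Nat.land h (nat_lit 0x800)) h)
 (fun _ _ => (fun h => @Nat.rec (fun _ => Nat → Nat)
 (fun h => @Nat.rec (fun _ => Nat → Nat)
 (fun h => @Nat.rec (fun _ => Nat → Nat)
 (fun i => Nat.land (Nat.shiftRight chQ2c40 (Nat.mul (nat_lit 9) (Nat.land i (nat_lit 511)))) (nat_lit 511))
 (fun _ _ => (fun i => Nat.land (Nat.shiftRight chQ2c41 (Nat.mul (nat_lit 9) (Nat.land i (nat_lit 511)))) (nat_lit 511))) (Nat.land h (nat_lit 512)) h)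
 (fun _ _ => (fun h => @Nat.rec (fun _ => Nat → Nat)
 (fun i => Nat.land (Nat.shiftRight chQ2c42 (Nat.mul (nat_lit 9) (Nat.land i (nat_lit 511)))) (nat_lit 511))
 (fun _ _ => (fun i => Nat.land (Nat.shiftRight chQ2c43 (Nat.mul (nat_lit 9) (Nat.land i (nat_lit 511)))) (nat_lit 511))) (Nat.land h (nat_lit 512)) h)) (Nat.land h (nat_lit 0x400)) h)
 (fun _ _ => (fun h => @Nat.rec (fun _ => Nat → Nat)
 (fun h => @Nat.rec (fun _ => Nat → Nat)
 (fun i => Nat.land (Nat.shiftRight chQ2c44 (Nat.mul (nat_lit 9) (Nat.land i (nat_lit 511)))) (nat_lit 511))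
 (fun _ _ => (fun i => Nat.land (Nat.shiftRight chQ2c45 (Nat.mul (nat_lit 9) (Nat.land i (nat_lit 511)))) (nat_lit 511))) (Nat.land h (nat_lit 512)) h)
 (fun _ _ => (fun h => @Nat.rec (fun _ => Nat → Nat)
 (fun i => Nat.land (Nat.shiftRight chQ2c46 (Nat.mul (nat_lit 9) (Nat.land i (nat_lit 511)))) (nat_lit 511))
 (fun _ _ => (fun i => Nat.land (Nat.shiftRight chQ2c47 (Nat.mul (nat_lit 9) (Nat.land i (nat_lit 511)))) (nat_lit 511))) (Nat.land h (nat_lit 512)) h)) (Nat.land h (nat_lit 0x400)) h)) (Nat.land h (nat_lit 0x800)) h)) (Nat.land h (nat_lit 0x1000)) h)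
 (fun _ _ => (fun h => @Nat.rec (fun _ => Nat → Nat)
 (fun h => @Nat.rec (fun _ => Nat → Nat)
 (fun h => @Nat.rec (fun _ => Nat → Nat)
 (fun i => Nat.land (Nat.shiftRight chQ2c48 (Nat.mul (nat_lit 9) (Nat.land i (nat_lit 511)))) (nat_lit 511))
 (fun _ _ => (fun i => Nat.land (Nat.shiftRight chQ2c49 (Nat.mul (nat_lit 9) (Nat.land i (nat_lit 511)))) (nat_lit 511))) (Nat.land h (nat_lit 512)) h)
 (fun _ _ => (fun h => @Nat.rec (fun _ => Nat → Nat)
 (fun i => Nat.land (Nat.shiftRight chQ2c50 (Nat.mul (nat_lit 9) (Nat.land i (nat_lit 511)))) (nat_lit 511))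
 (fun _ _ => (fun i => Nat.land (Nat.shiftRight chQ2c51 (Nat.mul (nat_lit 9) (Nat.land i (nat_lit 511)))) (nat_lit 511))) (Nat.land h (nat_lit 512)) h)) (Nat.land h (nat_lit 0x400)) h)
 (fun _ _ => (fun h => @Nat.rec (fun _ => Nat → Nat)
 (fun h => @Nat.rec (fun _ => Nat → Nat)
 (fun i => Nat.land (Nat.shiftRight chQ2c52 (Nat.mul (nat_lit 9) (Nat.land i (nat_lit 511)))) (nat_lit 511))
 (fun _ _ => (fun i => Nat.land (Nat.shiftRight chQ2c53 (Nat.mul (nat_lit 9) (Nat.land i (nat_lit 511)))) (nat_lit 511))) (Nat.land h (nat_lit 512)) h)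
 (fun _ _ => (fun h => @Nat.rec (fun _ => Nat → Nat)
 (fun i => Nat.land (Nat.shiftRight chQ2c54 (Nat.mul (nat_lit 9) (Nat.land i (nat_lit 511)))) (nat_lit 511))
 (fun _ _ => (fun i => Nat.land (Nat.shiftRight chQ2c55 (Nat.mul (nat_lit 9) (Nat.land i (nat_lit 511)))) (nat_lit 511))) (Nat.land h (nat_lit 512)) h)) (Nat.land h (nat_lit 0x400)) h)) (Nat.land h (nat_lit 0x800)) h)) (Nat.land h (nat_lit 0x2000)) h)) (Nat.land h (nat_lit 0x4000)) h)
theorem ch_r2 : allR (ckReach chQ2 [[T0], [T1], [T2], [T3], [T4], [T5], [T6], [T7]] (nat_lit 2)) (nat_lit 0) (nat_lit 0x6f0f) = true := by decide +kernel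
theorem ch_c2 : cntT chQ2 (nat_lit 84) (nat_lit 0x6f0f) (nat_lit 0) = true := by decide +kernel
noncomputable def chQ3c0 : Nat := nat_lit 0x60000000768500000000000000000000000000000000000000000000000000000000000000000000000000000000000000000000000000000000000000000000000000000000000000000000000000000000000000000000000000000051000000000000006675000000000000000000000000000000000000000000000000004200566500000000332410465536264535000000
noncomputable def chQ3c1 : Nat := nat_lit 0x0
noncomputable def chQ3c2 : Nat := nat_lit 0x0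
noncomputable def chQ3c3 : Nat := nat_lit 0x0
noncomputable def chQ3c4 : Nat := nat_lit 0x0
noncomputable def chQ3c5 : Nat := nat_lit 0x0
noncomputable def chQ3c6 : Nat := nat_lit 0x0
noncomputable def chQ3c7 : Nat := nat_lit 0x0
noncomputable def chQ3c8 : Nat := nat_lit 0x0
noncomputable def chQ3c9 : Nat := nat_lit 0x0
noncomputable def chQ3c10 : Nat := nat_lit 0x0
noncomputable def chQ3c11 : Nat := nat_lit 0x0
noncomputable def chQ3c12 : Nat := nat_lit 0x0
noncomputable def chQ3c13 : Nat := nat_lit 0x0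
noncomputable def chQ3c14 : Nat := nat_lit 0x0
noncomputable def chQ3c15 : Nat := nat_lit 0x0
noncomputable def chQ3c16 : Nat := nat_lit 0x0
noncomputable def chQ3c17 : Nat := nat_lit 0x0
noncomputable def chQ3c18 : Nat := nat_lit 0x0
noncomputable def chQ3c19 : Nat := nat_lit 0x0
noncomputable def chQ3c20 : Nat := nat_lit 0x0
noncomputable def chQ3c21 : Nat := nat_lit 0x0
noncomputable def chQ3c22 : Nat := nat_lit 0x0
noncomputable def chQ3c23 : Nat := nat_lit 0x0
noncomputable def chQ3c24 : Nat := nat_lit 0x0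
noncomputable def chQ3c25 : Nat := nat_lit 0x0
noncomputable def chQ3c26 : Nat := nat_lit 0x0
noncomputable def chQ3c27 : Nat := nat_lit 0x0
noncomputable def chQ3c28 : Nat := nat_lit 0x0
noncomputable def chQ3c29 : Nat := nat_lit 0x0
noncomputable def chQ3c30 : Nat := nat_lit 0x0
noncomputable def chQ3c31 : Nat := nat_lit 0x0
noncomputable def chQ3c32 : Nat := nat_lit 0x0
noncomputable def chQ3c33 : Nat := nat_lit 0x0
noncomputable def chQ3c34 : Nat := nat_lit 0x0
noncomputable def chQ3c35 : Nat := nat_lit 0x0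
noncomputable def chQ3c36 : Nat := nat_lit 0x0
noncomputable def chQ3c37 : Nat := nat_lit 0x0
noncomputable def chQ3c38 : Nat := nat_lit 0x0
noncomputable def chQ3c39 : Nat := nat_lit 0x0
noncomputable def chQ3c40 : Nat := nat_lit 0x0
noncomputable def chQ3c41 : Nat := nat_lit 0x0
noncomputable def chQ3c42 : Nat := nat_lit 0x0
noncomputable def chQ3c43 : Nat := nat_lit 0x0
noncomputable def chQ3c44 : Nat := nat_lit 0x0
noncomputable def chQ3c45 : Nat := nat_lit 0x0
noncomputable def chQ3c46 : Nat := nat_lit 0x0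
noncomputable def chQ3c47 : Nat := nat_lit 0x0
noncomputable def chQ3c48 : Nat := nat_lit 0x0
noncomputable def chQ3c49 : Nat := nat_lit 0x0
noncomputable def chQ3c50 : Nat := nat_lit 0x0
noncomputable def chQ3c51 : Nat := nat_lit 0x0
noncomputable def chQ3c52 : Nat := nat_lit 0x0
noncomputable def chQ3c53 : Nat := nat_lit 0x0
noncomputable def chQ3c54 : Nat := nat_lit 0x0
noncomputable def chQ3c55 : Nat := nat_lit 0x0
noncomputable def chQ3 : Nat → Nat := (fun h => @Nat.rec (fun _ => Nat → Nat)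
 (fun h => @Nat.rec (fun _ => Nat → Nat)
 (fun h => @Nat.rec (fun _ => Nat → Nat)
 (fun h => @Nat.rec (fun _ => Nat → Nat)
 (fun h => @Nat.rec (fun _ => Nat → Nat)
 (fun h => @Nat.rec (fun _ => Nat → Nat)
 (fun i => Nat.land (Nat.shiftRight chQ3c0 (Nat.mul (nat_lit 8) (Nat.land i (nat_lit 511)))) (nat_lit 255))
 (fun _ _ => (fun i => Nat.land (Nat.shiftRight chQ3c1 (Nat.mul (nat_lit 8) (Nat.land i (nat_lit 511)))) (nat_lit 255))) (Nat.land h (nat_lit 512)) h)
 (fun _ _ => (fun h => @Nat.rec (fun _ => Nat → Nat)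
 (fun i => Nat.land (Nat.shiftRight chQ3c2 (Nat.mul (nat_lit 8) (Nat.land i (nat_lit 511)))) (nat_lit 255))
 (fun _ _ => (fun i => Nat.land (Nat.shiftRight chQ3c3 (Nat.mul (nat_lit 8) (Nat.land i (nat_lit 511)))) (nat_lit 255))) (Nat.land h (nat_lit 512)) h)) (Nat.land h (nat_lit 0x400)) h)
 (fun _ _ => (fun h => @Nat.rec (fun _ => Nat → Nat)
 (fun h => @Nat.rec (fun _ => Nat → Nat)
 (fun i => Nat.land (Nat.shiftRight chQ3c4 (Nat.mul (nat_lit 8) (Nat.land i (nat_lit 511)))) (nat_lit 255))
 (fun _ _ => (fun i => Nat.land (Nat.shiftRight chQ3c5 (Nat.mul (nat_lit 8) (Nat.land i (nat_lit 511)))) (nat_lit 255))) (Nat.land h (nat_lit 512)) h)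
 (fun _ _ => (fun h => @Nat.rec (fun _ => Nat → Nat)
 (fun i => Nat.land (Nat.shiftRight chQ3c6 (Nat.mul (nat_lit 8) (Nat.land i (nat_lit 511)))) (nat_lit 255))
 (fun _ _ => (fun i => Nat.land (Nat.shiftRight chQ3c7 (Nat.mul (nat_lit 8) (Nat.land i (nat_lit 511)))) (nat_lit 255))) (Nat.land h (nat_lit 512)) h)) (Nat.land h (nat_lit 0x400)) h)) (Nat.land h (nat_lit 0x800)) h)
 (fun _ _ => (fun h => @Nat.rec (fun _ => Nat → Nat)
 (fun h => @Nat.rec (fun _ => Nat → Nat)
 (fun h => @Nat.rec (fun _ => Nat → Nat)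
 (fun i => Nat.land (Nat.shiftRight chQ3c8 (Nat.mul (nat_lit 8) (Nat.land i (nat_lit 511)))) (nat_lit 255))
 (fun _ _ => (fun i => Nat.land (Nat.shiftRight chQ3c9 (Nat.mul (nat_lit 8) (Nat.land i (nat_lit 511)))) (nat_lit 255))) (Nat.land h (nat_lit 512)) h)
 (fun _ _ => (fun h => @Nat.rec (fun _ => Nat → Nat)
 (fun i => Nat.land (Nat.shiftRight chQ3c10 (Nat.mul (nat_lit 8) (Nat.land i (nat_lit 511)))) (nat_lit 255))
 (fun _ _ => (fun i => Nat.land (Nat.shiftRight chQ3c11 (Nat.mul (nat_lit 8) (Nat.land i (nat_lit 511)))) (nat_lit 255))) (Nat.land h (nat_lit 512)) h)) (Nat.land h (nat_lit 0x400)) h)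
 (fun _ _ => (fun h => @Nat.rec (fun _ => Nat → Nat)
 (fun h => @Nat.rec (fun _ => Nat → Nat)
 (fun i => Nat.land (Nat.shiftRight chQ3c12 (Nat.mul (nat_lit 8) (Nat.land i (nat_lit 511)))) (nat_lit 255))
 (fun _ _ => (fun i => Nat.land (Nat.shiftRight chQ3c13 (Nat.mul (nat_lit 8) (Nat.land i (nat_lit 511)))) (nat_lit 255))) (Nat.land h (nat_lit 512)) h)
 (fun _ _ => (fun h => @Nat.rec (fun _ => Nat → Nat)
 (fun i => Nat.land (Nat.shiftRight chQ3c14 (Nat.mul (nat_lit 8) (Nat.land i (nat_lit 511)))) (nat_lit 255))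
 (fun _ _ => (fun i => Nat.land (Nat.shiftRight chQ3c15 (Nat.mul (nat_lit 8) (Nat.land i (nat_lit 511)))) (nat_lit 255))) (Nat.land h (nat_lit 512)) h)) (Nat.land h (nat_lit 0x400)) h)) (Nat.land h (nat_lit 0x800)) h)) (Nat.land h (nat_lit 0x1000)) h)
 (fun _ _ => (fun h => @Nat.rec (fun _ => Nat → Nat)
 (fun h => @Nat.rec (fun _ => Nat → Nat)
 (fun h => @Nat.rec (fun _ => Nat → Nat)
 (fun h => @Nat.rec (fun _ => Nat → Nat)
 (fun i => Nat.land (Nat.shiftRight chQ3c16 (Nat.mul (nat_lit 8) (Nat.land i (nat_lit 511)))) (nat_lit 255))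
 (fun _ _ => (fun i => Nat.land (Nat.shiftRight chQ3c17 (Nat.mul (nat_lit 8) (Nat.land i (nat_lit 511)))) (nat_lit 255))) (Nat.land h (nat_lit 512)) h)
 (fun _ _ => (fun h => @Nat.rec (fun _ => Nat → Nat)
 (fun i => Nat.land (Nat.shiftRight chQ3c18 (Nat.mul (nat_lit 8) (Nat.land i (nat_lit 511)))) (nat_lit 255))
 (fun _ _ => (fun i => Nat.land (Nat.shiftRight chQ3c19 (Nat.mul (nat_lit 8) (Nat.land i (nat_lit 511)))) (nat_lit 255))) (Nat.land h (nat_lit 512)) h)) (Nat.land h (nat_lit 0x400)) h)
 (fun _ _ => (fun h => @Nat.rec (fun _ => Nat → Nat)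
 (fun h => @Nat.rec (fun _ => Nat → Nat)
 (fun i => Nat.land (Nat.shiftRight chQ3c20 (Nat.mul (nat_lit 8) (Nat.land i (nat_lit 511)))) (nat_lit 255))
 (fun _ _ => (fun i => Nat.land (Nat.shiftRight chQ3c21 (Nat.mul (nat_lit 8) (Nat.land i (nat_lit 511)))) (nat_lit 255))) (Nat.land h (nat_lit 512)) h)
 (fun _ _ => (fun h => @Nat.rec (fun _ => Nat → Nat)
 (fun i => Nat.land (Nat.shiftRight chQ3c22 (Nat.mul (nat_lit 8) (Nat.land i (nat_lit 511)))) (nat_lit 255))
 (fun _ _ => (fun i => Nat.land (Nat.shiftRight chQ3c23 (Nat.mul (nat_lit 8) (Nat.land i (nat_lit 511)))) (nat_lit 255))) (Nat.land h (nat_lit 512)) h)) (Nat.land h (nat_lit 0x400)) h)) (Nat.land h (nat_lit 0x800)) h)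
 (fun _ _ => (fun h => @Nat.rec (fun _ => Nat → Nat)
 (fun h => @Nat.rec (fun _ => Nat → Nat)
 (fun h => @Nat.rec (fun _ => Nat → Nat)
 (fun i => Nat.land (Nat.shiftRight chQ3c24 (Nat.mul (nat_lit 8) (Nat.land i (nat_lit 511)))) (nat_lit 255))
 (fun _ _ => (fun i => Nat.land (Nat.shiftRight chQ3c25 (Nat.mul (nat_lit 8) (Nat.land i (nat_lit 511)))) (nat_lit 255))) (Nat.land h (nat_lit 512)) h)
 (fun _ _ => (fun h => @Nat.rec (fun _ => Nat → Nat)
 (fun i => Nat.land (Nat.shiftRight chQ3c26 (Nat.mul (nat_lit 8) (Nat.land i (nat_lit 511)))) (nat_lit 255))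
 (fun _ _ => (fun i => Nat.land (Nat.shiftRight chQ3c27 (Nat.mul (nat_lit 8) (Nat.land i (nat_lit 511)))) (nat_lit 255))) (Nat.land h (nat_lit 512)) h)) (Nat.land h (nat_lit 0x400)) h)
 (fun _ _ => (fun h => @Nat.rec (fun _ => Nat → Nat)
 (fun h => @Nat.rec (fun _ => Nat → Nat)
 (fun i => Nat.land (Nat.shiftRight chQ3c28 (Nat.mul (nat_lit 8) (Nat.land i (nat_lit 511)))) (nat_lit 255))
 (fun _ _ => (fun i => Nat.land (Nat.shiftRight chQ3c29 (Nat.mul (nat_lit 8) (Nat.land i (nat_lit 511)))) (nat_lit 255))) (Nat.land h (nat_lit 512)) h)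
 (fun _ _ => (fun h => @Nat.rec (fun _ => Nat → Nat)
 (fun i => Nat.land (Nat.shiftRight chQ3c30 (Nat.mul (nat_lit 8) (Nat.land i (nat_lit 511)))) (nat_lit 255))
 (fun _ _ => (fun i => Nat.land (Nat.shiftRight chQ3c31 (Nat.mul (nat_lit 8) (Nat.land i (nat_lit 511)))) (nat_lit 255))) (Nat.land h (nat_lit 512)) h)) (Nat.land h (nat_lit 0x400)) h)) (Nat.land h (nat_lit 0x800)) h)) (Nat.land h (nat_lit 0x1000)) h)) (Nat.land h (nat_lit 0x2000)) h)
 (fun _ _ => (fun h => @Nat.rec (fun _ => Nat → Nat)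
 (fun h => @Nat.rec (fun _ => Nat → Nat)
 (fun h => @Nat.rec (fun _ => Nat → Nat)
 (fun h => @Nat.rec (fun _ => Nat → Nat)
 (fun h => @Nat.rec (fun _ => Nat → Nat)
 (fun i => Nat.land (Nat.shiftRight chQ3c32 (Nat.mul (nat_lit 8) (Nat.land i (nat_lit 511)))) (nat_lit 255))
 (fun _ _ => (fun i => Nat.land (Nat.shiftRight chQ3c33 (Nat.mul (nat_lit 8) (Nat.land i (nat_lit 511)))) (nat_lit 255))) (Nat.land h (nat_lit 512)) h)
 (fun _ _ => (fun h => @Nat.rec (fun _ => Nat → Nat)
 (fun i => Nat.land (Nat.shiftRight chQ3c34 (Nat.mul (nat_lit 8) (Nat.land i (nat_lit 511)))) (nat_lit 255))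
 (fun _ _ => (fun i => Nat.land (Nat.shiftRight chQ3c35 (Nat.mul (nat_lit 8) (Nat.land i (nat_lit 511)))) (nat_lit 255))) (Nat.land h (nat_lit 512)) h)) (Nat.land h (nat_lit 0x400)) h)
 (fun _ _ => (fun h => @Nat.rec (fun _ => Nat → Nat)
 (fun h => @Nat.rec (fun _ => Nat → Nat)
 (fun i => Nat.land (Nat.shiftRight chQ3c36 (Nat.mul (nat_lit 8) (Nat.land i (nat_lit 511)))) (nat_lit 255))
 (fun _ _ => (fun i => Nat.land (Nat.shiftRight chQ3c37 (Nat.mul (nat_lit 8) (Nat.land i (nat_lit 511)))) (nat_lit 255))) (Nat.land h (nat_lit 512)) h)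
 (fun _ _ => (fun h => @Nat.rec (fun _ => Nat → Nat)
 (fun i => Nat.land (Nat.shiftRight chQ3c38 (Nat.mul (nat_lit 8) (Nat.land i (nat_lit 511)))) (nat_lit 255))
 (fun _ _ => (fun i => Nat.land (Nat.shiftRight chQ3c39 (Nat.mul (nat_lit 8) (Nat.land i (nat_lit 511)))) (nat_lit 255))) (Nat.land h (nat_lit 512)) h)) (Nat.land h (nat_lit 0x400)) h)) (Nat.land h (nat_lit 0x800)) h)
 (fun _ _ => (fun h => @Nat.rec (fun _ => Nat → Nat)
 (fun h => @Nat.rec (fun _ => Nat → Nat)
 (fun h => @Nat.rec (fun _ => Nat → Nat)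
 (fun i => Nat.land (Nat.shiftRight chQ3c40 (Nat.mul (nat_lit 8) (Nat.land i (nat_lit 511)))) (nat_lit 255))
 (fun _ _ => (fun i => Nat.land (Nat.shiftRight chQ3c41 (Nat.mul (nat_lit 8) (Nat.land i (nat_lit 511)))) (nat_lit 255))) (Nat.land h (nat_lit 512)) h)
 (fun _ _ => (fun h => @Nat.rec (fun _ => Nat → Nat)
 (fun i => Nat.land (Nat.shiftRight chQ3c42 (Nat.mul (nat_lit 8) (Nat.land i (nat_lit 511)))) (nat_lit 255))
 (fun _ _ => (fun i => Nat.land (Nat.shiftRight chQ3c43 (Nat.mul (nat_lit 8) (Nat.land i (nat_lit 511)))) (nat_lit 255))) (Nat.land h (nat_lit 512)) h)) (Nat.land h (nat_lit 0x400)) h)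
 (fun _ _ => (fun h => @Nat.rec (fun _ => Nat → Nat)
 (fun h => @Nat.rec (fun _ => Nat → Nat)
 (fun i => Nat.land (Nat.shiftRight chQ3c44 (Nat.mul (nat_lit 8) (Nat.land i (nat_lit 511)))) (nat_lit 255))
 (fun _ _ => (fun i => Nat.land (Nat.shiftRight chQ3c45 (Nat.mul (nat_lit 8) (Nat.land i (nat_lit 511)))) (nat_lit 255))) (Nat.land h (nat_lit 512)) h)
 (fun _ _ => (fun h => @Nat.rec (fun _ => Nat → Nat)
 (fun i => Nat.land (Nat.shiftRight chQ3c46 (Nat.mul (nat_lit 8) (Nat.land i (nat_lit 511)))) (nat_lit 255))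
 (fun _ _ => (fun i => Nat.land (Nat.shiftRight chQ3c47 (Nat.mul (nat_lit 8) (Nat.land i (nat_lit 511)))) (nat_lit 255))) (Nat.land h (nat_lit 512)) h)) (Nat.land h (nat_lit 0x400)) h)) (Nat.land h (nat_lit 0x800)) h)) (Nat.land h (nat_lit 0x1000)) h)
 (fun _ _ => (fun h => @Nat.rec (fun _ => Nat → Nat)
 (fun h => @Nat.rec (fun _ => Nat → Nat)
 (fun h => @Nat.rec (fun _ => Nat → Nat)
 (fun i => Nat.land (Nat.shiftRight chQ3c48 (Nat.mul (nat_lit 8) (Nat.land i (nat_lit 511)))) (nat_lit 255))
 (fun _ _ => (fun i => Nat.land (Nat.shiftRight chQ3c49 (Nat.mul (nat_lit 8) (Nat.land i (nat_lit 511)))) (nat_lit 255))) (Nat.land h (nat_lit 512)) h)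
 (fun _ _ => (fun h => @Nat.rec (fun _ => Nat → Nat)
 (fun i => Nat.land (Nat.shiftRight chQ3c50 (Nat.mul (nat_lit 8) (Nat.land i (nat_lit 511)))) (nat_lit 255))
 (fun _ _ => (fun i => Nat.land (Nat.shiftRight chQ3c51 (Nat.mul (nat_lit 8) (Nat.land i (nat_lit 511)))) (nat_lit 255))) (Nat.land h (nat_lit 512)) h)) (Nat.land h (nat_lit 0x400)) h)
 (fun _ _ => (fun h => @Nat.rec (fun _ => Nat → Nat)
 (fun h => @Nat.rec (fun _ => Nat → Nat)
 (fun i => Nat.land (Nat.shiftRight chQ3c52 (Nat.mul (nat_lit 8) (Nat.land i (nat_lit 511)))) (nat_lit 255))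
 (fun _ _ => (fun i => Nat.land (Nat.shiftRight chQ3c53 (Nat.mul (nat_lit 8) (Nat.land i (nat_lit 511)))) (nat_lit 255))) (Nat.land h (nat_lit 512)) h)
 (fun _ _ => (fun h => @Nat.rec (fun _ => Nat → Nat)
 (fun i => Nat.land (Nat.shiftRight chQ3c54 (Nat.mul (nat_lit 8) (Nat.land i (nat_lit 511)))) (nat_lit 255))
 (fun _ _ => (fun i => Nat.land (Nat.shiftRight chQ3c55 (Nat.mul (nat_lit 8) (Nat.land i (nat_lit 511)))) (nat_lit 255))) (Nat.land h (nat_lit 512)) h)) (Nat.land h (nat_lit 0x400)) h)) (Nat.land h (nat_lit 0x800)) h)) (Nat.land h (nat_lit 0x2000)) h)) (Nat.land h (nat_lit 0x4000)) h)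
theorem ch_r3 : allR (ckReach chQ3 [[T0], [T1], [T2], [T3], [T4], [T6], [T7]] (nat_lit 9)) (nat_lit 0) (nat_lit 0x6f0f) = true := by decide +kernel
theorem ch_c3 : cntT chQ3 (nat_lit 18) (nat_lit 0x6f0f) (nat_lit 0) = true := by decide +kernel
noncomputable def chQ4c0 : Nat := nat_lit 0x900400000
noncomputable def chQ4c1 : Nat := nat_lit 0x0
noncomputable def chQ4c2 : Nat := nat_lit 0x0
noncomputable def chQ4c3 : Nat := nat_lit 0x0
noncomputable def chQ4c4 : Nat := nat_lit 0x0
noncomputable def chQ4c5 : Nat := nat_lit 0x0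
noncomputable def chQ4c6 : Nat := nat_lit 0x0
noncomputable def chQ4c7 : Nat := nat_lit 0x0
noncomputable def chQ4c8 : Nat := nat_lit 0x0
noncomputable def chQ4c9 : Nat := nat_lit 0x0
noncomputable def chQ4c10 : Nat := nat_lit 0x0
noncomputable def chQ4c11 : Nat := nat_lit 0x0
noncomputable def chQ4c12 : Nat := nat_lit 0x0
noncomputable def chQ4c13 : Nat := nat_lit 0x0
noncomputable def chQ4c14 : Nat := nat_lit 0x0
noncomputable def chQ4c15 : Nat := nat_lit 0x0
noncomputable def chQ4c16 : Nat := nat_lit 0x0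
noncomputable def chQ4c17 : Nat := nat_lit 0x0
noncomputable def chQ4c18 : Nat := nat_lit 0x0
noncomputable def chQ4c19 : Nat := nat_lit 0x0
noncomputable def chQ4c20 : Nat := nat_lit 0x0
noncomputable def chQ4c21 : Nat := nat_lit 0x0
noncomputable def chQ4c22 : Nat := nat_lit 0x0
noncomputable def chQ4c23 : Nat := nat_lit 0x0
noncomputable def chQ4c24 : Nat := nat_lit 0x0
noncomputable def chQ4c25 : Nat := nat_lit 0x0
noncomputable def chQ4c26 : Nat := nat_lit 0x0
noncomputable def chQ4c27 : Nat := nat_lit 0x0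
noncomputable def chQ4c28 : Nat := nat_lit 0x0
noncomputable def chQ4c29 : Nat := nat_lit 0x0
noncomputable def chQ4c30 : Nat := nat_lit 0x0
noncomputable def chQ4c31 : Nat := nat_lit 0x0
noncomputable def chQ4c32 : Nat := nat_lit 0x0
noncomputable def chQ4c33 : Nat := nat_lit 0x0
noncomputable def chQ4c34 : Nat := nat_lit 0x0
noncomputable def chQ4c35 : Nat := nat_lit 0x0
noncomputable def chQ4c36 : Nat := nat_lit 0x0
noncomputable def chQ4c37 : Nat := nat_lit 0x0
noncomputable def chQ4c38 : Nat := nat_lit 0x0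
noncomputable def chQ4c39 : Nat := nat_lit 0x0
noncomputable def chQ4c40 : Nat := nat_lit 0x0
noncomputable def chQ4c41 : Nat := nat_lit 0x0
noncomputable def chQ4c42 : Nat := nat_lit 0x0
noncomputable def chQ4c43 : Nat := nat_lit 0x0
noncomputable def chQ4c44 : Nat := nat_lit 0x0
noncomputable def chQ4c45 : Nat := nat_lit 0x0
noncomputable def chQ4c46 : Nat := nat_lit 0x0
noncomputable def chQ4c47 : Nat := nat_lit 0x0
noncomputable def chQ4c48 : Nat := nat_lit 0x0
noncomputable def chQ4c49 : Nat := nat_lit 0x0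
noncomputable def chQ4c50 : Nat := nat_lit 0x0
noncomputable def chQ4c51 : Nat := nat_lit 0x0
noncomputable def chQ4c52 : Nat := nat_lit 0x0
noncomputable def chQ4c53 : Nat := nat_lit 0x0
noncomputable def chQ4c54 : Nat := nat_lit 0x0
noncomputable def chQ4c55 : Nat := nat_lit 0x0
noncomputable def chQ4 : Nat → Nat := (fun h => @Nat.rec (fun _ => Nat → Nat)
 (fun h => @Nat.rec (fun _ => Nat → Nat)
 (fun h => @Nat.rec (fun _ => Nat → Nat)
 (fun h => @Nat.rec (fun _ => Nat → Nat)
 (fun h => @Nat.rec (fun _ => Nat → Nat)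
 (fun h => @Nat.rec (fun _ => Nat → Nat)
 (fun i => Nat.land (Nat.shiftRight chQ4c0 (Nat.mul (nat_lit 6) (Nat.land i (nat_lit 511)))) (nat_lit 63))
 (fun _ _ => (fun i => Nat.land (Nat.shiftRight chQ4c1 (Nat.mul (nat_lit 6) (Nat.land i (nat_lit 511)))) (nat_lit 63))) (Nat.land h (nat_lit 512)) h)
 (fun _ _ => (fun h => @Nat.rec (fun _ => Nat → Nat)
 (fun i => Nat.land (Nat.shiftRight chQ4c2 (Nat.mul (nat_lit 6) (Nat.land i (nat_lit 511)))) (nat_lit 63))
 (fun _ _ => (fun i => Nat.land (Nat.shiftRight chQ4c3 (Nat.mul (nat_lit 6) (Nat.land i (nat_lit 511)))) (nat_lit 63))) (Nat.land h (nat_lit 512)) h)) (Nat.land h (nat_lit 0x400)) h)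
 (fun _ _ => (fun h => @Nat.rec (fun _ => Nat → Nat)
 (fun h => @Nat.rec (fun _ => Nat → Nat)
 (fun i => Nat.land (Nat.shiftRight chQ4c4 (Nat.mul (nat_lit 6) (Nat.land i (nat_lit 511)))) (nat_lit 63))
 (fun _ _ => (fun i => Nat.land (Nat.shiftRight chQ4c5 (Nat.mul (nat_lit 6) (Nat.land i (nat_lit 511)))) (nat_lit 63))) (Nat.land h (nat_lit 512)) h)
 (fun _ _ => (fun h => @Nat.rec (fun _ => Nat → Nat)
 (fun i => Nat.land (Nat.shiftRight chQ4c6 (Nat.mul (nat_lit 6) (Nat.land i (nat_lit 511)))) (nat_lit 63))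
 (fun _ _ => (fun i => Nat.land (Nat.shiftRight chQ4c7 (Nat.mul (nat_lit 6) (Nat.land i (nat_lit 511)))) (nat_lit 63))) (Nat.land h (nat_lit 512)) h)) (Nat.land h (nat_lit 0x400)) h)) (Nat.land h (nat_lit 0x800)) h)
 (fun _ _ => (fun h => @Nat.rec (fun _ => Nat → Nat)
 (fun h => @Nat.rec (fun _ => Nat → Nat)
 (fun h => @Nat.rec (fun _ => Nat → Nat)
 (fun i => Nat.land (Nat.shiftRight chQ4c8 (Nat.mul (nat_lit 6) (Nat.land i (nat_lit 511)))) (nat_lit 63))
 (fun _ _ => (fun i => Nat.land (Nat.shiftRight chQ4c9 (Nat.mul (nat_lit 6) (Nat.land i (nat_lit 511)))) (nat_lit 63))) (Nat.land h (nat_lit 512)) h)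
 (fun _ _ => (fun h => @Nat.rec (fun _ => Nat → Nat)
 (fun i => Nat.land (Nat.shiftRight chQ4c10 (Nat.mul (nat_lit 6) (Nat.land i (nat_lit 511)))) (nat_lit 63))
 (fun _ _ => (fun i => Nat.land (Nat.shiftRight chQ4c11 (Nat.mul (nat_lit 6) (Nat.land i (nat_lit 511)))) (nat_lit 63))) (Nat.land h (nat_lit 512)) h)) (Nat.land h (nat_lit 0x400)) h)
 (fun _ _ => (fun h => @Nat.rec (fun _ => Nat → Nat)
 (fun h => @Nat.rec (fun _ => Nat → Nat)
 (fun i => Nat.land (Nat.shiftRight chQ4c12 (Nat.mul (nat_lit 6) (Nat.land i (nat_lit 511)))) (nat_lit 63))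
 (fun _ _ => (fun i => Nat.land (Nat.shiftRight chQ4c13 (Nat.mul (nat_lit 6) (Nat.land i (nat_lit 511)))) (nat_lit 63))) (Nat.land h (nat_lit 512)) h)
 (fun _ _ => (fun h => @Nat.rec (fun _ => Nat → Nat)
 (fun i => Nat.land (Nat.shiftRight chQ4c14 (Nat.mul (nat_lit 6) (Nat.land i (nat_lit 511)))) (nat_lit 63))
 (fun _ _ => (fun i => Nat.land (Nat.shiftRight chQ4c15 (Nat.mul (nat_lit 6) (Nat.land i (nat_lit 511)))) (nat_lit 63))) (Nat.land h (nat_lit 512)) h)) (Nat.land h (nat_lit 0x400)) h)) (Nat.land h (nat_lit 0x800)) h)) (Nat.land h (nat_lit 0x1000)) h)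
 (fun _ _ => (fun h => @Nat.rec (fun _ => Nat → Nat)
 (fun h => @Nat.rec (fun _ => Nat → Nat)
 (fun h => @Nat.rec (fun _ => Nat → Nat)
 (fun h => @Nat.rec (fun _ => Nat → Nat)
 (fun i => Nat.land (Nat.shiftRight chQ4c16 (Nat.mul (nat_lit 6) (Nat.land i (nat_lit 511)))) (nat_lit 63))
 (fun _ _ => (fun i => Nat.land (Nat.shiftRight chQ4c17 (Nat.mul (nat_lit 6) (Nat.land i (nat_lit 511)))) (nat_lit 63))) (Nat.land h (nat_lit 512)) h)
 (fun _ _ => (fun h => @Nat.rec (fun _ => Nat → Nat)
 (fun i => Nat.land (Nat.shiftRight chQ4c18 (Nat.mul (nat_lit 6) (Nat.land i (nat_lit 511)))) (nat_lit 63))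
 (fun _ _ => (fun i => Nat.land (Nat.shiftRight chQ4c19 (Nat.mul (nat_lit 6) (Nat.land i (nat_lit 511)))) (nat_lit 63))) (Nat.land h (nat_lit 512)) h)) (Nat.land h (nat_lit 0x400)) h)
 (fun _ _ => (fun h => @Nat.rec (fun _ => Nat → Nat)
 (fun h => @Nat.rec (fun _ => Nat → Nat)
 (fun i => Nat.land (Nat.shiftRight chQ4c20 (Nat.mul (nat_lit 6) (Nat.land i (nat_lit 511)))) (nat_lit 63))
 (fun _ _ => (fun i => Nat.land (Nat.shiftRight chQ4c21 (Nat.mul (nat_lit 6) (Nat.land i (nat_lit 511)))) (nat_lit 63))) (Nat.land h (nat_lit 512)) h)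
 (fun _ _ => (fun h => @Nat.rec (fun _ => Nat → Nat)
 (fun i => Nat.land (Nat.shiftRight chQ4c22 (Nat.mul (nat_lit 6) (Nat.land i (nat_lit 511)))) (nat_lit 63))
 (fun _ _ => (fun i => Nat.land (Nat.shiftRight chQ4c23 (Nat.mul (nat_lit 6) (Nat.land i (nat_lit 511)))) (nat_lit 63))) (Nat.land h (nat_lit 512)) h)) (Nat.land h (nat_lit 0x400)) h)) (Nat.land h (nat_lit 0x800)) h)
 (fun _ _ => (fun h => @Nat.rec (fun _ => Nat → Nat)
 (fun h => @Nat.rec (fun _ => Nat → Nat)
 (fun h => @Nat.rec (fun _ => Nat → Nat)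
 (fun i => Nat.land (Nat.shiftRight chQ4c24 (Nat.mul (nat_lit 6) (Nat.land i (nat_lit 511)))) (nat_lit 63))
 (fun _ _ => (fun i => Nat.land (Nat.shiftRight chQ4c25 (Nat.mul (nat_lit 6) (Nat.land i (nat_lit 511)))) (nat_lit 63))) (Nat.land h (nat_lit 512)) h)
 (fun _ _ => (fun h => @Nat.rec (fun _ => Nat → Nat)
 (fun i => Nat.land (Nat.shiftRight chQ4c26 (Nat.mul (nat_lit 6) (Nat.land i (nat_lit 511)))) (nat_lit 63))
 (fun _ _ => (fun i => Nat.land (Nat.shiftRight chQ4c27 (Nat.mul (nat_lit 6) (Nat.land i (nat_lit 511)))) (nat_lit 63))) (Nat.land h (nat_lit 512)) h)) (Nat.land h (nat_lit 0x400)) h)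
 (fun _ _ => (fun h => @Nat.rec (fun _ => Nat → Nat)
 (fun h => @Nat.rec (fun _ => Nat → Nat)
 (fun i => Nat.land (Nat.shiftRight chQ4c28 (Nat.mul (nat_lit 6) (Nat.land i (nat_lit 511)))) (nat_lit 63))
 (fun _ _ => (fun i => Nat.land (Nat.shiftRight chQ4c29 (Nat.mul (nat_lit 6) (Nat.land i (nat_lit 511)))) (nat_lit 63))) (Nat.land h (nat_lit 512)) h)
 (fun _ _ => (fun h => @Nat.rec (fun _ => Nat → Nat)
 (fun i => Nat.land (Nat.shiftRight chQ4c30 (Nat.mul (nat_lit 6) (Nat.land i (nat_lit 511)))) (nat_lit 63))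
 (fun _ _ => (fun i => Nat.land (Nat.shiftRight chQ4c31 (Nat.mul (nat_lit 6) (Nat.land i (nat_lit 511)))) (nat_lit 63))) (Nat.land h (nat_lit 512)) h)) (Nat.land h (nat_lit 0x400)) h)) (Nat.land h (nat_lit 0x800)) h)) (Nat.land h (nat_lit 0x1000)) h)) (Nat.land h (nat_lit 0x2000)) h)
 (fun _ _ => (fun h => @Nat.rec (fun _ => Nat → Nat)
 (fun h => @Nat.rec (fun _ => Nat → Nat)
 (fun h => @Nat.rec (fun _ => Nat → Nat)
 (fun h => @Nat.rec (fun _ => Nat → Nat)
 (fun h => @Nat.rec (fun _ => Nat → Nat)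
 (fun i => Nat.land (Nat.shiftRight chQ4c32 (Nat.mul (nat_lit 6) (Nat.land i (nat_lit 511)))) (nat_lit 63))
 (fun _ _ => (fun i => Nat.land (Nat.shiftRight chQ4c33 (Nat.mul (nat_lit 6) (Nat.land i (nat_lit 511)))) (nat_lit 63))) (Nat.land h (nat_lit 512)) h)
 (fun _ _ => (fun h => @Nat.rec (fun _ => Nat → Nat)
 (fun i => Nat.land (Nat.shiftRight chQ4c34 (Nat.mul (nat_lit 6) (Nat.land i (nat_lit 511)))) (nat_lit 63))
 (fun _ _ => (fun i => Nat.land (Nat.shiftRight chQ4c35 (Nat.mul (nat_lit 6) (Nat.land i (nat_lit 511)))) (nat_lit 63))) (Nat.land h (nat_lit 512)) h)) (Nat.land h (nat_lit 0x400)) h)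
 (fun _ _ => (fun h => @Nat.rec (fun _ => Nat → Nat)
 (fun h => @Nat.rec (fun _ => Nat → Nat)
 (fun i => Nat.land (Nat.shiftRight chQ4c36 (Nat.mul (nat_lit 6) (Nat.land i (nat_lit 511)))) (nat_lit 63))
 (fun _ _ => (fun i => Nat.land (Nat.shiftRight chQ4c37 (Nat.mul (nat_lit 6) (Nat.land i (nat_lit 511)))) (nat_lit 63))) (Nat.land h (nat_lit 512)) h)
 (fun _ _ => (fun h => @Nat.rec (fun _ => Nat → Nat)
 (fun i => Nat.land (Nat.shiftRight chQ4c38 (Nat.mul (nat_lit 6) (Nat.land i (nat_lit 511)))) (nat_lit 63))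
 (fun _ _ => (fun i => Nat.land (Nat.shiftRight chQ4c39 (Nat.mul (nat_lit 6) (Nat.land i (nat_lit 511)))) (nat_lit 63))) (Nat.land h (nat_lit 512)) h)) (Nat.land h (nat_lit 0x400)) h)) (Nat.land h (nat_lit 0x800)) h)
 (fun _ _ => (fun h => @Nat.rec (fun _ => Nat → Nat)
 (fun h => @Nat.rec (fun _ => Nat → Nat)
 (fun h => @Nat.rec (fun _ => Nat → Nat)
 (fun i => Nat.land (Nat.shiftRight chQ4c40 (Nat.mul (nat_lit 6) (Nat.land i (nat_lit 511)))) (nat_lit 63))
 (fun _ _ => (fun i => Nat.land (Nat.shiftRight chQ4c41 (Nat.mul (nat_lit 6) (Nat.land i (nat_lit 511)))) (nat_lit 63))) (Nat.land h (nat_lit 512)) h)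
 (fun _ _ => (fun h => @Nat.rec (fun _ => Nat → Nat)
 (fun i => Nat.land (Nat.shiftRight chQ4c42 (Nat.mul (nat_lit 6) (Nat.land i (nat_lit 511)))) (nat_lit 63))
 (fun _ _ => (fun i => Nat.land (Nat.shiftRight chQ4c43 (Nat.mul (nat_lit 6) (Nat.land i (nat_lit 511)))) (nat_lit 63))) (Nat.land h (nat_lit 512)) h)) (Nat.land h (nat_lit 0x400)) h)
 (fun _ _ => (fun h => @Nat.rec (fun _ => Nat → Nat)
 (fun h => @Nat.rec (fun _ => Nat → Nat)
 (fun i => Nat.land (Nat.shiftRight chQ4c44 (Nat.mul (nat_lit 6) (Nat.land i (nat_lit 511)))) (nat_lit 63))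
 (fun _ _ => (fun i => Nat.land (Nat.shiftRight chQ4c45 (Nat.mul (nat_lit 6) (Nat.land i (nat_lit 511)))) (nat_lit 63))) (Nat.land h (nat_lit 512)) h)
 (fun _ _ => (fun h => @Nat.rec (fun _ => Nat → Nat)
 (fun i => Nat.land (Nat.shiftRight chQ4c46 (Nat.mul (nat_lit 6) (Nat.land i (nat_lit 511)))) (nat_lit 63))
 (fun _ _ => (fun i => Nat.land (Nat.shiftRight chQ4c47 (Nat.mul (nat_lit 6) (Nat.land i (nat_lit 511)))) (nat_lit 63))) (Nat.land h (nat_lit 512)) h)) (Nat.land h (nat_lit 0x400)) h)) (Nat.land h (nat_lit 0x800)) h)) (Nat.land h (nat_lit 0x1000)) h)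
 (fun _ _ => (fun h => @Nat.rec (fun _ => Nat → Nat)
 (fun h => @Nat.rec (fun _ => Nat → Nat)
 (fun h => @Nat.rec (fun _ => Nat → Nat)
 (fun i => Nat.land (Nat.shiftRight chQ4c48 (Nat.mul (nat_lit 6) (Nat.land i (nat_lit 511)))) (nat_lit 63))
 (fun _ _ => (fun i => Nat.land (Nat.shiftRight chQ4c49 (Nat.mul (nat_lit 6) (Nat.land i (nat_lit 511)))) (nat_lit 63))) (Nat.land h (nat_lit 512)) h)
 (fun _ _ => (fun h => @Nat.rec (fun _ => Nat → Nat)
 (fun i => Nat.land (Nat.shiftRight chQ4c50 (Nat.mul (nat_lit 6) (Nat.land i (nat_lit 511)))) (nat_lit 63))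
 (fun _ _ => (fun i => Nat.land (Nat.shiftRight chQ4c51 (Nat.mul (nat_lit 6) (Nat.land i (nat_lit 511)))) (nat_lit 63))) (Nat.land h (nat_lit 512)) h)) (Nat.land h (nat_lit 0x400)) h)
 (fun _ _ => (fun h => @Nat.rec (fun _ => Nat → Nat)
 (fun h => @Nat.rec (fun _ => Nat → Nat)
 (fun i => Nat.land (Nat.shiftRight chQ4c52 (Nat.mul (nat_lit 6) (Nat.land i (nat_lit 511)))) (nat_lit 63))
 (fun _ _ => (fun i => Nat.land (Nat.shiftRight chQ4c53 (Nat.mul (nat_lit 6) (Nat.land i (nat_lit 511)))) (nat_lit 63))) (Nat.land h (nat_lit 512)) h)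
 (fun _ _ => (fun h => @Nat.rec (fun _ => Nat → Nat)
 (fun i => Nat.land (Nat.shiftRight chQ4c54 (Nat.mul (nat_lit 6) (Nat.land i (nat_lit 511)))) (nat_lit 63))
 (fun _ _ => (fun i => Nat.land (Nat.shiftRight chQ4c55 (Nat.mul (nat_lit 6) (Nat.land i (nat_lit 511)))) (nat_lit 63))) (Nat.land h (nat_lit 512)) h)) (Nat.land h (nat_lit 0x400)) h)) (Nat.land h (nat_lit 0x800)) h)) (Nat.land h (nat_lit 0x2000)) h)) (Nat.land h (nat_lit 0x4000)) h)
theorem ch_r4 : allR (ckReach chQ4 [[T0], [T1], [T2], [T3], [T6]] (nat_lit 3)) (nat_lit 0) (nat_lit 0x6f0f) = true := by decide +kernel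
theorem ch_c4 : cntT chQ4 (nat_lit 2) (nat_lit 0x6f0f) (nat_lit 0) = true := by decide +kernel
noncomputable def chQ5c0 : Nat := nat_lit 0x14000000000000000000000000000000000000000000000000000000000000000000000000000000000000000000000000000000000000000000000000000000000000000000000000000000000000000000000000208000000000000000000000000000000000000000000000000320000000000000046000100000000
noncomputable def chQ5c1 : Nat := nat_lit 0x0
noncomputable def chQ5c2 : Nat := nat_lit 0x0
noncomputable def chQ5c3 : Nat := nat_lit 0x0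
noncomputable def chQ5c4 : Nat := nat_lit 0x0
noncomputable def chQ5c5 : Nat := nat_lit 0x0
noncomputable def chQ5c6 : Nat := nat_lit 0x0
noncomputable def chQ5c7 : Nat := nat_lit 0x0
noncomputable def chQ5c8 : Nat := nat_lit 0x0
noncomputable def chQ5c9 : Nat := nat_lit 0x0
noncomputable def chQ5c10 : Nat := nat_lit 0x0
noncomputable def chQ5c11 : Nat := nat_lit 0x0
noncomputable def chQ5c12 : Nat := nat_lit 0x0
noncomputable def chQ5c13 : Nat := nat_lit 0x0
noncomputable def chQ5c14 : Nat := nat_lit 0x0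
noncomputable def chQ5c15 : Nat := nat_lit 0x0
noncomputable def chQ5c16 : Nat := nat_lit 0x0
noncomputable def chQ5c17 : Nat := nat_lit 0x0
noncomputable def chQ5c18 : Nat := nat_lit 0x0
noncomputable def chQ5c19 : Nat := nat_lit 0x0
noncomputable def chQ5c20 : Nat := nat_lit 0x0
noncomputable def chQ5c21 : Nat := nat_lit 0x0
noncomputable def chQ5c22 : Nat := nat_lit 0x0
noncomputable def chQ5c23 : Nat := nat_lit 0x0
noncomputable def chQ5c24 : Nat := nat_lit 0x0
noncomputable def chQ5c25 : Nat := nat_lit 0x0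
noncomputable def chQ5c26 : Nat := nat_lit 0x0
noncomputable def chQ5c27 : Nat := nat_lit 0x0
noncomputable def chQ5c28 : Nat := nat_lit 0x0
noncomputable def chQ5c29 : Nat := nat_lit 0x0
noncomputable def chQ5c30 : Nat := nat_lit 0x0
noncomputable def chQ5c31 : Nat := nat_lit 0x0
noncomputable def chQ5c32 : Nat := nat_lit 0x0
noncomputable def chQ5c33 : Nat := nat_lit 0x0
noncomputable def chQ5c34 : Nat := nat_lit 0x0
noncomputable def chQ5c35 : Nat := nat_lit 0x0
noncomputable def chQ5c36 : Nat := nat_lit 0x0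
noncomputable def chQ5c37 : Nat := nat_lit 0x0
noncomputable def chQ5c38 : Nat := nat_lit 0x0
noncomputable def chQ5c39 : Nat := nat_lit 0x0
noncomputable def chQ5c40 : Nat := nat_lit 0x0
noncomputable def chQ5c41 : Nat := nat_lit 0x0
noncomputable def chQ5c42 : Nat := nat_lit 0x0
noncomputable def chQ5c43 : Nat := nat_lit 0x0
noncomputable def chQ5c44 : Nat := nat_lit 0x0
noncomputable def chQ5c45 : Nat := nat_lit 0x0
noncomputable def chQ5c46 : Nat := nat_lit 0x0
noncomputable def chQ5c47 : Nat := nat_lit 0x0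
noncomputable def chQ5c48 : Nat := nat_lit 0x0
noncomputable def chQ5c49 : Nat := nat_lit 0x0
noncomputable def chQ5c50 : Nat := nat_lit 0x0
noncomputable def chQ5c51 : Nat := nat_lit 0x0
noncomputable def chQ5c52 : Nat := nat_lit 0x0
noncomputable def chQ5c53 : Nat := nat_lit 0x0
noncomputable def chQ5c54 : Nat := nat_lit 0x0
noncomputable def chQ5c55 : Nat := nat_lit 0x0
noncomputable def chQ5 : Nat → Nat := (fun h => @Nat.rec (fun _ => Nat → Nat)
 (fun h => @Nat.rec (fun _ => Nat → Nat)
 (fun h => @Nat.rec (fun _ => Nat → Nat)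
 (fun h => @Nat.rec (fun _ => Nat → Nat)
 (fun h => @Nat.rec (fun _ => Nat → Nat)
 (fun h => @Nat.rec (fun _ => Nat → Nat)
 (fun i => Nat.land (Nat.shiftRight chQ5c0 (Nat.mul (nat_lit 7) (Nat.land i (nat_lit 511)))) (nat_lit 127))
 (fun _ _ => (fun i => Nat.land (Nat.shiftRight chQ5c1 (Nat.mul (nat_lit 7) (Nat.land i (nat_lit 511)))) (nat_lit 127))) (Nat.land h (nat_lit 512)) h)
 (fun _ _ => (fun h => @Nat.rec (fun _ => Nat → Nat)
 (fun i => Nat.land (Nat.shiftRight chQ5c2 (Nat.mul (nat_lit 7) (Nat.land i (nat_lit 511)))) (nat_lit 127))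
 (fun _ _ => (fun i => Nat.land (Nat.shiftRight chQ5c3 (Nat.mul (nat_lit 7) (Nat.land i (nat_lit 511)))) (nat_lit 127))) (Nat.land h (nat_lit 512)) h)) (Nat.land h (nat_lit 0x400)) h)
 (fun _ _ => (fun h => @Nat.rec (fun _ => Nat → Nat)
 (fun h => @Nat.rec (fun _ => Nat → Nat)
 (fun i => Nat.land (Nat.shiftRight chQ5c4 (Nat.mul (nat_lit 7) (Nat.land i (nat_lit 511)))) (nat_lit 127))
 (fun _ _ => (fun i => Nat.land (Nat.shiftRight chQ5c5 (Nat.mul (nat_lit 7) (Nat.land i (nat_lit 511)))) (nat_lit 127))) (Nat.land h (nat_lit 512)) h)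
 (fun _ _ => (fun h => @Nat.rec (fun _ => Nat → Nat)
 (fun i => Nat.land (Nat.shiftRight chQ5c6 (Nat.mul (nat_lit 7) (Nat.land i (nat_lit 511)))) (nat_lit 127))
 (fun _ _ => (fun i => Nat.land (Nat.shiftRight chQ5c7 (Nat.mul (nat_lit 7) (Nat.land i (nat_lit 511)))) (nat_lit 127))) (Nat.land h (nat_lit 512)) h)) (Nat.land h (nat_lit 0x400)) h)) (Nat.land h (nat_lit 0x800)) h)
 (fun _ _ => (fun h => @Nat.rec (fun _ => Nat → Nat)
 (fun h => @Nat.rec (fun _ => Nat → Nat)
 (fun h => @Nat.rec (fun _ => Nat → Nat)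
 (fun i => Nat.land (Nat.shiftRight chQ5c8 (Nat.mul (nat_lit 7) (Nat.land i (nat_lit 511)))) (nat_lit 127))
 (fun _ _ => (fun i => Nat.land (Nat.shiftRight chQ5c9 (Nat.mul (nat_lit 7) (Nat.land i (nat_lit 511)))) (nat_lit 127))) (Nat.land h (nat_lit 512)) h)
 (fun _ _ => (fun h => @Nat.rec (fun _ => Nat → Nat)
 (fun i => Nat.land (Nat.shiftRight chQ5c10 (Nat.mul (nat_lit 7) (Nat.land i (nat_lit 511)))) (nat_lit 127))
 (fun _ _ => (fun i => Nat.land (Nat.shiftRight chQ5c11 (Nat.mul (nat_lit 7) (Nat.land i (nat_lit 511)))) (nat_lit 127))) (Nat.land h (nat_lit 512)) h)) (Nat.land h (nat_lit 0x400)) h)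
 (fun _ _ => (fun h => @Nat.rec (fun _ => Nat → Nat)
 (fun h => @Nat.rec (fun _ => Nat → Nat)
 (fun i => Nat.land (Nat.shiftRight chQ5c12 (Nat.mul (nat_lit 7) (Nat.land i (nat_lit 511)))) (nat_lit 127))
 (fun _ _ => (fun i => Nat.land (Nat.shiftRight chQ5c13 (Nat.mul (nat_lit 7) (Nat.land i (nat_lit 511)))) (nat_lit 127))) (Nat.land h (nat_lit 512)) h)
 (fun _ _ => (fun h => @Nat.rec (fun _ => Nat → Nat)
 (fun i => Nat.land (Nat.shiftRight chQ5c14 (Nat.mul (nat_lit 7) (Nat.land i (nat_lit 511)))) (nat_lit 127))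
 (fun _ _ => (fun i => Nat.land (Nat.shiftRight chQ5c15 (Nat.mul (nat_lit 7) (Nat.land i (nat_lit 511)))) (nat_lit 127))) (Nat.land h (nat_lit 512)) h)) (Nat.land h (nat_lit 0x400)) h)) (Nat.land h (nat_lit 0x800)) h)) (Nat.land h (nat_lit 0x1000)) h)
 (fun _ _ => (fun h => @Nat.rec (fun _ => Nat → Nat)
 (fun h => @Nat.rec (fun _ => Nat → Nat)
 (fun h => @Nat.rec (fun _ => Nat → Nat)
 (fun h => @Nat.rec (fun _ => Nat → Nat)
 (fun i => Nat.land (Nat.shiftRight chQ5c16 (Nat.mul (nat_lit 7) (Nat.land i (nat_lit 511)))) (nat_lit 127))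
 (fun _ _ => (fun i => Nat.land (Nat.shiftRight chQ5c17 (Nat.mul (nat_lit 7) (Nat.land i (nat_lit 511)))) (nat_lit 127))) (Nat.land h (nat_lit 512)) h)
 (fun _ _ => (fun h => @Nat.rec (fun _ => Nat → Nat)
 (fun i => Nat.land (Nat.shiftRight chQ5c18 (Nat.mul (nat_lit 7) (Nat.land i (nat_lit 511)))) (nat_lit 127))
 (fun _ _ => (fun i => Nat.land (Nat.shiftRight chQ5c19 (Nat.mul (nat_lit 7) (Nat.land i (nat_lit 511)))) (nat_lit 127))) (Nat.land h (nat_lit 512)) h)) (Nat.land h (nat_lit 0x400)) h)
 (fun _ _ => (fun h => @Nat.rec (fun _ => Nat → Nat)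
 (fun h => @Nat.rec (fun _ => Nat → Nat)
 (fun i => Nat.land (Nat.shiftRight chQ5c20 (Nat.mul (nat_lit 7) (Nat.land i (nat_lit 511)))) (nat_lit 127))
 (fun _ _ => (fun i => Nat.land (Nat.shiftRight chQ5c21 (Nat.mul (nat_lit 7) (Nat.land i (nat_lit 511)))) (nat_lit 127))) (Nat.land h (nat_lit 512)) h)
 (fun _ _ => (fun h => @Nat.rec (fun _ => Nat → Nat)
 (fun i => Nat.land (Nat.shiftRight chQ5c22 (Nat.mul (nat_lit 7) (Nat.land i (nat_lit 511)))) (nat_lit 127))
 (fun _ _ => (fun i => Nat.land (Nat.shiftRight chQ5c23 (Nat.mul (nat_lit 7) (Nat.land i (nat_lit 511)))) (nat_lit 127))) (Nat.land h (nat_lit 512)) h)) (Nat.land h (nat_lit 0x400)) h)) (Nat.land h (nat_lit 0x800)) h)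
 (fun _ _ => (fun h => @Nat.rec (fun _ => Nat → Nat)
 (fun h => @Nat.rec (fun _ => Nat → Nat)
 (fun h => @Nat.rec (fun _ => Nat → Nat)
 (fun i => Nat.land (Nat.shiftRight chQ5c24 (Nat.mul (nat_lit 7) (Nat.land i (nat_lit 511)))) (nat_lit 127))
 (fun _ _ => (fun i => Nat.land (Nat.shiftRight chQ5c25 (Nat.mul (nat_lit 7) (Nat.land i (nat_lit 511)))) (nat_lit 127))) (Nat.land h (nat_lit 512)) h)
 (fun _ _ => (fun h => @Nat.rec (fun _ => Nat → Nat)
 (fun i => Nat.land (Nat.shiftRight chQ5c26 (Nat.mul (nat_lit 7) (Nat.land i (nat_lit 511)))) (nat_lit 127))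
 (fun _ _ => (fun i => Nat.land (Nat.shiftRight chQ5c27 (Nat.mul (nat_lit 7) (Nat.land i (nat_lit 511)))) (nat_lit 127))) (Nat.land h (nat_lit 512)) h)) (Nat.land h (nat_lit 0x400)) h)
 (fun _ _ => (fun h => @Nat.rec (fun _ => Nat → Nat)
 (fun h => @Nat.rec (fun _ => Nat → Nat)
 (fun i => Nat.land (Nat.shiftRight chQ5c28 (Nat.mul (nat_lit 7) (Nat.land i (nat_lit 511)))) (nat_lit 127))
 (fun _ _ => (fun i => Nat.land (Nat.shiftRight chQ5c29 (Nat.mul (nat_lit 7) (Nat.land i (nat_lit 511)))) (nat_lit 127))) (Nat.land h (nat_lit 512)) h)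
 (fun _ _ => (fun h => @Nat.rec (fun _ => Nat → Nat)
 (fun i => Nat.land (Nat.shiftRight chQ5c30 (Nat.mul (nat_lit 7) (Nat.land i (nat_lit 511)))) (nat_lit 127))
 (fun _ _ => (fun i => Nat.land (Nat.shiftRight chQ5c31 (Nat.mul (nat_lit 7) (Nat.land i (nat_lit 511)))) (nat_lit 127))) (Nat.land h (nat_lit 512)) h)) (Nat.land h (nat_lit 0x400)) h)) (Nat.land h (nat_lit 0x800)) h)) (Nat.land h (nat_lit 0x1000)) h)) (Nat.land h (nat_lit 0x2000)) h)
 (fun _ _ => (fun h => @Nat.rec (fun _ => Nat → Nat)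
 (fun h => @Nat.rec (fun _ => Nat → Nat)
 (fun h => @Nat.rec (fun _ => Nat → Nat)
 (fun h => @Nat.rec (fun _ => Nat → Nat)
 (fun h => @Nat.rec (fun _ => Nat → Nat)
 (fun i => Nat.land (Nat.shiftRight chQ5c32 (Nat.mul (nat_lit 7) (Nat.land i (nat_lit 511)))) (nat_lit 127))
 (fun _ _ => (fun i => Nat.land (Nat.shiftRight chQ5c33 (Nat.mul (nat_lit 7) (Nat.land i (nat_lit 511)))) (nat_lit 127))) (Nat.land h (nat_lit 512)) h)
 (fun _ _ => (fun h => @Nat.rec (fun _ => Nat → Nat)
 (fun i => Nat.land (Nat.shiftRight chQ5c34 (Nat.mul (nat_lit 7) (Nat.land i (nat_lit 511)))) (nat_lit 127))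
 (fun _ _ => (fun i => Nat.land (Nat.shiftRight chQ5c35 (Nat.mul (nat_lit 7) (Nat.land i (nat_lit 511)))) (nat_lit 127))) (Nat.land h (nat_lit 512)) h)) (Nat.land h (nat_lit 0x400)) h)
 (fun _ _ => (fun h => @Nat.rec (fun _ => Nat → Nat)
 (fun h => @Nat.rec (fun _ => Nat → Nat)
 (fun i => Nat.land (Nat.shiftRight chQ5c36 (Nat.mul (nat_lit 7) (Nat.land i (nat_lit 511)))) (nat_lit 127))
 (fun _ _ => (fun i => Nat.land (Nat.shiftRight chQ5c37 (Nat.mul (nat_lit 7) (Nat.land i (nat_lit 511)))) (nat_lit 127))) (Nat.land h (nat_lit 512)) h)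
 (fun _ _ => (fun h => @Nat.rec (fun _ => Nat → Nat)
 (fun i => Nat.land (Nat.shiftRight chQ5c38 (Nat.mul (nat_lit 7) (Nat.land i (nat_lit 511)))) (nat_lit 127))
 (fun _ _ => (fun i => Nat.land (Nat.shiftRight chQ5c39 (Nat.mul (nat_lit 7) (Nat.land i (nat_lit 511)))) (nat_lit 127))) (Nat.land h (nat_lit 512)) h)) (Nat.land h (nat_lit 0x400)) h)) (Nat.land h (nat_lit 0x800)) h)
 (fun _ _ => (fun h => @Nat.rec (fun _ => Nat → Nat)
 (fun h => @Nat.rec (fun _ => Nat → Nat)
 (fun h => @Nat.rec (fun _ => Nat → Nat)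
 (fun i => Nat.land (Nat.shiftRight chQ5c40 (Nat.mul (nat_lit 7) (Nat.land i (nat_lit 511)))) (nat_lit 127))
 (fun _ _ => (fun i => Nat.land (Nat.shiftRight chQ5c41 (Nat.mul (nat_lit 7) (Nat.land i (nat_lit 511)))) (nat_lit 127))) (Nat.land h (nat_lit 512)) h)
 (fun _ _ => (fun h => @Nat.rec (fun _ => Nat → Nat)
 (fun i => Nat.land (Nat.shiftRight chQ5c42 (Nat.mul (nat_lit 7) (Nat.land i (nat_lit 511)))) (nat_lit 127))
 (fun _ _ => (fun i => Nat.land (Nat.shiftRight chQ5c43 (Nat.mul (nat_lit 7) (Nat.land i (nat_lit 511)))) (nat_lit 127))) (Nat.land h (nat_lit 512)) h)) (Nat.land h (nat_lit 0x400)) h)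
 (fun _ _ => (fun h => @Nat.rec (fun _ => Nat → Nat)
 (fun h => @Nat.rec (fun _ => Nat → Nat)
 (fun i => Nat.land (Nat.shiftRight chQ5c44 (Nat.mul (nat_lit 7) (Nat.land i (nat_lit 511)))) (nat_lit 127))
 (fun _ _ => (fun i => Nat.land (Nat.shiftRight chQ5c45 (Nat.mul (nat_lit 7) (Nat.land i (nat_lit 511)))) (nat_lit 127))) (Nat.land h (nat_lit 512)) h)
 (fun _ _ => (fun h => @Nat.rec (fun _ => Nat → Nat)
 (fun i => Nat.land (Nat.shiftRight chQ5c46 (Nat.mul (nat_lit 7) (Nat.land i (nat_lit 511)))) (nat_lit 127))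
 (fun _ _ => (fun i => Nat.land (Nat.shiftRight chQ5c47 (Nat.mul (nat_lit 7) (Nat.land i (nat_lit 511)))) (nat_lit 127))) (Nat.land h (nat_lit 512)) h)) (Nat.land h (nat_lit 0x400)) h)) (Nat.land h (nat_lit 0x800)) h)) (Nat.land h (nat_lit 0x1000)) h)
 (fun _ _ => (fun h => @Nat.rec (fun _ => Nat → Nat)
 (fun h => @Nat.rec (fun _ => Nat → Nat)
 (fun h => @Nat.rec (fun _ => Nat → Nat)
 (fun i => Nat.land (Nat.shiftRight chQ5c48 (Nat.mul (nat_lit 7) (Nat.land i (nat_lit 511)))) (nat_lit 127))
 (fun _ _ => (fun i => Nat.land (Nat.shiftRight chQ5c49 (Nat.mul (nat_lit 7) (Nat.land i (nat_lit 511)))) (nat_lit 127))) (Nat.land h (nat_lit 512)) h)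
 (fun _ _ => (fun h => @Nat.rec (fun _ => Nat → Nat)
 (fun i => Nat.land (Nat.shiftRight chQ5c50 (Nat.mul (nat_lit 7) (Nat.land i (nat_lit 511)))) (nat_lit 127))
 (fun _ _ => (fun i => Nat.land (Nat.shiftRight chQ5c51 (Nat.mul (nat_lit 7) (Nat.land i (nat_lit 511)))) (nat_lit 127))) (Nat.land h (nat_lit 512)) h)) (Nat.land h (nat_lit 0x400)) h)
 (fun _ _ => (fun h => @Nat.rec (fun _ => Nat → Nat)
 (fun h => @Nat.rec (fun _ => Nat → Nat)
 (fun i => Nat.land (Nat.shiftRight chQ5c52 (Nat.mul (nat_lit 7) (Nat.land i (nat_lit 511)))) (nat_lit 127))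
 (fun _ _ => (fun i => Nat.land (Nat.shiftRight chQ5c53 (Nat.mul (nat_lit 7) (Nat.land i (nat_lit 511)))) (nat_lit 127))) (Nat.land h (nat_lit 512)) h)
 (fun _ _ => (fun h => @Nat.rec (fun _ => Nat → Nat)
 (fun i => Nat.land (Nat.shiftRight chQ5c54 (Nat.mul (nat_lit 7) (Nat.land i (nat_lit 511)))) (nat_lit 127))
 (fun _ _ => (fun i => Nat.land (Nat.shiftRight chQ5c55 (Nat.mul (nat_lit 7) (Nat.land i (nat_lit 511)))) (nat_lit 127))) (Nat.land h (nat_lit 512)) h)) (Nat.land h (nat_lit 0x400)) h)) (Nat.land h (nat_lit 0x800)) h)) (Nat.land h (nat_lit 0x2000)) h)) (Nat.land h (nat_lit 0x4000)) h)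
theorem ch_r5 : allR (ckReach chQ5 [[T0], [T1], [T2], [T3]] (nat_lit 4)) (nat_lit 0) (nat_lit 0x6f0f) = true := by decide +kernel
theorem ch_c5 : cntT chQ5 (nat_lit 5) (nat_lit 0x6f0f) (nat_lit 0) = true := by decide +kernel
noncomputable def chQ6c0 : Nat := nat_lit 0x10000000000000000000000000000000000000000000000000000000000000000000000000000000000000000000000000000000000000000000000000000000000000000000000000000000000000000000000000188000000000000000000000000000000000000000000000000220000000000000020000000000000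
noncomputable def chQ6c1 : Nat := nat_lit 0x0
noncomputable def chQ6c2 : Nat := nat_lit 0x0
noncomputable def chQ6c3 : Nat := nat_lit 0x0
noncomputable def chQ6c4 : Nat := nat_lit 0x0
noncomputable def chQ6c5 : Nat := nat_lit 0x0
noncomputable def chQ6c6 : Nat := nat_lit 0x0
noncomputable def chQ6c7 : Nat := nat_lit 0x0
noncomputable def chQ6c8 : Nat := nat_lit 0x0
noncomputable def chQ6c9 : Nat := nat_lit 0x0
noncomputable def chQ6c10 : Nat := nat_lit 0x0
noncomputable def chQ6c11 : Nat := nat_lit 0x0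
noncomputable def chQ6c12 : Nat := nat_lit 0x0
noncomputable def chQ6c13 : Nat := nat_lit 0x0
noncomputable def chQ6c14 : Nat := nat_lit 0x0
noncomputable def chQ6c15 : Nat := nat_lit 0x0
noncomputable def chQ6c16 : Nat := nat_lit 0x0
noncomputable def chQ6c17 : Nat := nat_lit 0x0
noncomputable def chQ6c18 : Nat := nat_lit 0x0
noncomputable def chQ6c19 : Nat := nat_lit 0x0
noncomputable def chQ6c20 : Nat := nat_lit 0x0
noncomputable def chQ6c21 : Nat := nat_lit 0x0
noncomputable def chQ6c22 : Nat := nat_lit 0x0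
noncomputable def chQ6c23 : Nat := nat_lit 0x0
noncomputable def chQ6c24 : Nat := nat_lit 0x0
noncomputable def chQ6c25 : Nat := nat_lit 0x0
noncomputable def chQ6c26 : Nat := nat_lit 0x0
noncomputable def chQ6c27 : Nat := nat_lit 0x0
noncomputable def chQ6c28 : Nat := nat_lit 0x0
noncomputable def chQ6c29 : Nat := nat_lit 0x0
noncomputable def chQ6c30 : Nat := nat_lit 0x0
noncomputable def chQ6c31 : Nat := nat_lit 0x0
noncomputable def chQ6c32 : Nat := nat_lit 0x0
noncomputable def chQ6c33 : Nat := nat_lit 0x0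
noncomputable def chQ6c34 : Nat := nat_lit 0x0
noncomputable def chQ6c35 : Nat := nat_lit 0x0
noncomputable def chQ6c36 : Nat := nat_lit 0x0
noncomputable def chQ6c37 : Nat := nat_lit 0x0
noncomputable def chQ6c38 : Nat := nat_lit 0x0
noncomputable def chQ6c39 : Nat := nat_lit 0x0
noncomputable def chQ6c40 : Nat := nat_lit 0x0
noncomputable def chQ6c41 : Nat := nat_lit 0x0
noncomputable def chQ6c42 : Nat := nat_lit 0x0
noncomputable def chQ6c43 : Nat := nat_lit 0x0
noncomputable def chQ6c44 : Nat := nat_lit 0x0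
noncomputable def chQ6c45 : Nat := nat_lit 0x0
noncomputable def chQ6c46 : Nat := nat_lit 0x0
noncomputable def chQ6c47 : Nat := nat_lit 0x0
noncomputable def chQ6c48 : Nat := nat_lit 0x0
noncomputable def chQ6c49 : Nat := nat_lit 0x0
noncomputable def chQ6c50 : Nat := nat_lit 0x0
noncomputable def chQ6c51 : Nat := nat_lit 0x0
noncomputable def chQ6c52 : Nat := nat_lit 0x0
noncomputable def chQ6c53 : Nat := nat_lit 0x0
noncomputable def chQ6c54 : Nat := nat_lit 0x0
noncomputable def chQ6c55 : Nat := nat_lit 0x0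
noncomputable def chQ6 : Nat → Nat := (fun h => @Nat.rec (fun _ => Nat → Nat)
 (fun h => @Nat.rec (fun _ => Nat → Nat)
 (fun h => @Nat.rec (fun _ => Nat → Nat)
 (fun h => @Nat.rec (fun _ => Nat → Nat)
 (fun h => @Nat.rec (fun _ => Nat → Nat)
 (fun h => @Nat.rec (fun _ => Nat → Nat)
 (fun i => Nat.land (Nat.shiftRight chQ6c0 (Nat.mul (nat_lit 7) (Nat.land i (nat_lit 511)))) (nat_lit 127))
 (fun _ _ => (fun i => Nat.land (Nat.shiftRight chQ6c1 (Nat.mul (nat_lit 7) (Nat.land i (nat_lit 511)))) (nat_lit 127))) (Nat.land h (nat_lit 512)) h)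
 (fun _ _ => (fun h => @Nat.rec (fun _ => Nat → Nat)
 (fun i => Nat.land (Nat.shiftRight chQ6c2 (Nat.mul (nat_lit 7) (Nat.land i (nat_lit 511)))) (nat_lit 127))
 (fun _ _ => (fun i => Nat.land (Nat.shiftRight chQ6c3 (Nat.mul (nat_lit 7) (Nat.land i (nat_lit 511)))) (nat_lit 127))) (Nat.land h (nat_lit 512)) h)) (Nat.land h (nat_lit 0x400)) h)
 (fun _ _ => (fun h => @Nat.rec (fun _ => Nat → Nat)
 (fun h => @Nat.rec (fun _ => Nat → Nat)
 (fun i => Nat.land (Nat.shiftRight chQ6c4 (Nat.mul (nat_lit 7) (Nat.land i (nat_lit 511)))) (nat_lit 127))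
 (fun _ _ => (fun i => Nat.land (Nat.shiftRight chQ6c5 (Nat.mul (nat_lit 7) (Nat.land i (nat_lit 511)))) (nat_lit 127))) (Nat.land h (nat_lit 512)) h)
 (fun _ _ => (fun h => @Nat.rec (fun _ => Nat → Nat)
 (fun i => Nat.land (Nat.shiftRight chQ6c6 (Nat.mul (nat_lit 7) (Nat.land i (nat_lit 511)))) (nat_lit 127))
 (fun _ _ => (fun i => Nat.land (Nat.shiftRight chQ6c7 (Nat.mul (nat_lit 7) (Nat.land i (nat_lit 511)))) (nat_lit 127))) (Nat.land h (nat_lit 512)) h)) (Nat.land h (nat_lit 0x400)) h)) (Nat.land h (nat_lit 0x800)) h)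
 (fun _ _ => (fun h => @Nat.rec (fun _ => Nat → Nat)
 (fun h => @Nat.rec (fun _ => Nat → Nat)
 (fun h => @Nat.rec (fun _ => Nat → Nat)
 (fun i => Nat.land (Nat.shiftRight chQ6c8 (Nat.mul (nat_lit 7) (Nat.land i (nat_lit 511)))) (nat_lit 127))
 (fun _ _ => (fun i => Nat.land (Nat.shiftRight chQ6c9 (Nat.mul (nat_lit 7) (Nat.land i (nat_lit 511)))) (nat_lit 127))) (Nat.land h (nat_lit 512)) h)
 (fun _ _ => (fun h => @Nat.rec (fun _ => Nat → Nat)
 (fun i => Nat.land (Nat.shiftRight chQ6c10 (Nat.mul (nat_lit 7) (Nat.land i (nat_lit 511)))) (nat_lit 127))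
 (fun _ _ => (fun i => Nat.land (Nat.shiftRight chQ6c11 (Nat.mul (nat_lit 7) (Nat.land i (nat_lit 511)))) (nat_lit 127))) (Nat.land h (nat_lit 512)) h)) (Nat.land h (nat_lit 0x400)) h)
 (fun _ _ => (fun h => @Nat.rec (fun _ => Nat → Nat)
 (fun h => @Nat.rec (fun _ => Nat → Nat)
 (fun i => Nat.land (Nat.shiftRight chQ6c12 (Nat.mul (nat_lit 7) (Nat.land i (nat_lit 511)))) (nat_lit 127))
 (fun _ _ => (fun i => Nat.land (Nat.shiftRight chQ6c13 (Nat.mul (nat_lit 7) (Nat.land i (nat_lit 511)))) (nat_lit 127))) (Nat.land h (nat_lit 512)) h)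
 (fun _ _ => (fun h => @Nat.rec (fun _ => Nat → Nat)
 (fun i => Nat.land (Nat.shiftRight chQ6c14 (Nat.mul (nat_lit 7) (Nat.land i (nat_lit 511)))) (nat_lit 127))
 (fun _ _ => (fun i => Nat.land (Nat.shiftRight chQ6c15 (Nat.mul (nat_lit 7) (Nat.land i (nat_lit 511)))) (nat_lit 127))) (Nat.land h (nat_lit 512)) h)) (Nat.land h (nat_lit 0x400)) h)) (Nat.land h (nat_lit 0x800)) h)) (Nat.land h (nat_lit 0x1000)) h)
 (fun _ _ => (fun h => @Nat.rec (fun _ => Nat → Nat)
 (fun h => @Nat.rec (fun _ => Nat → Nat)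
 (fun h => @Nat.rec (fun _ => Nat → Nat)
 (fun h => @Nat.rec (fun _ => Nat → Nat)
 (fun i => Nat.land (Nat.shiftRight chQ6c16 (Nat.mul (nat_lit 7) (Nat.land i (nat_lit 511)))) (nat_lit 127))
 (fun _ _ => (fun i => Nat.land (Nat.shiftRight chQ6c17 (Nat.mul (nat_lit 7) (Nat.land i (nat_lit 511)))) (nat_lit 127))) (Nat.land h (nat_lit 512)) h)
 (fun _ _ => (fun h => @Nat.rec (fun _ => Nat → Nat)
 (fun i => Nat.land (Nat.shiftRight chQ6c18 (Nat.mul (nat_lit 7) (Nat.land i (nat_lit 511)))) (nat_lit 127))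
 (fun _ _ => (fun i => Nat.land (Nat.shiftRight chQ6c19 (Nat.mul (nat_lit 7) (Nat.land i (nat_lit 511)))) (nat_lit 127))) (Nat.land h (nat_lit 512)) h)) (Nat.land h (nat_lit 0x400)) h)
 (fun _ _ => (fun h => @Nat.rec (fun _ => Nat → Nat)
 (fun h => @Nat.rec (fun _ => Nat → Nat)
 (fun i => Nat.land (Nat.shiftRight chQ6c20 (Nat.mul (nat_lit 7) (Nat.land i (nat_lit 511)))) (nat_lit 127))
 (fun _ _ => (fun i => Nat.land (Nat.shiftRight chQ6c21 (Nat.mul (nat_lit 7) (Nat.land i (nat_lit 511)))) (nat_lit 127))) (Nat.land h (nat_lit 512)) h)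
 (fun _ _ => (fun h => @Nat.rec (fun _ => Nat → Nat)
 (fun i => Nat.land (Nat.shiftRight chQ6c22 (Nat.mul (nat_lit 7) (Nat.land i (nat_lit 511)))) (nat_lit 127))
 (fun _ _ => (fun i => Nat.land (Nat.shiftRight chQ6c23 (Nat.mul (nat_lit 7) (Nat.land i (nat_lit 511)))) (nat_lit 127))) (Nat.land h (nat_lit 512)) h)) (Nat.land h (nat_lit 0x400)) h)) (Nat.land h (nat_lit 0x800)) h)
 (fun _ _ => (fun h => @Nat.rec (fun _ => Nat → Nat)
 (fun h => @Nat.rec (fun _ => Nat → Nat)
 (fun h => @Nat.rec (fun _ => Nat → Nat)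
 (fun i => Nat.land (Nat.shiftRight chQ6c24 (Nat.mul (nat_lit 7) (Nat.land i (nat_lit 511)))) (nat_lit 127))
 (fun _ _ => (fun i => Nat.land (Nat.shiftRight chQ6c25 (Nat.mul (nat_lit 7) (Nat.land i (nat_lit 511)))) (nat_lit 127))) (Nat.land h (nat_lit 512)) h)
 (fun _ _ => (fun h => @Nat.rec (fun _ => Nat → Nat)
 (fun i => Nat.land (Nat.shiftRight chQ6c26 (Nat.mul (nat_lit 7) (Nat.land i (nat_lit 511)))) (nat_lit 127))
 (fun _ _ => (fun i => Nat.land (Nat.shiftRight chQ6c27 (Nat.mul (nat_lit 7) (Nat.land i (nat_lit 511)))) (nat_lit 127))) (Nat.land h (nat_lit 512)) h)) (Nat.land h (nat_lit 0x400)) h)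
 (fun _ _ => (fun h => @Nat.rec (fun _ => Nat → Nat)
 (fun h => @Nat.rec (fun _ => Nat → Nat)
 (fun i => Nat.land (Nat.shiftRight chQ6c28 (Nat.mul (nat_lit 7) (Nat.land i (nat_lit 511)))) (nat_lit 127))
 (fun _ _ => (fun i => Nat.land (Nat.shiftRight chQ6c29 (Nat.mul (nat_lit 7) (Nat.land i (nat_lit 511)))) (nat_lit 127))) (Nat.land h (nat_lit 512)) h)
 (fun _ _ => (fun h => @Nat.rec (fun _ => Nat → Nat)
 (fun i => Nat.land (Nat.shiftRight chQ6c30 (Nat.mul (nat_lit 7) (Nat.land i (nat_lit 511)))) (nat_lit 127))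
 (fun _ _ => (fun i => Nat.land (Nat.shiftRight chQ6c31 (Nat.mul (nat_lit 7) (Nat.land i (nat_lit 511)))) (nat_lit 127))) (Nat.land h (nat_lit 512)) h)) (Nat.land h (nat_lit 0x400)) h)) (Nat.land h (nat_lit 0x800)) h)) (Nat.land h (nat_lit 0x1000)) h)) (Nat.land h (nat_lit 0x2000)) h)
 (fun _ _ => (fun h => @Nat.rec (fun _ => Nat → Nat)
 (fun h => @Nat.rec (fun _ => Nat → Nat)
 (fun h => @Nat.rec (fun _ => Nat → Nat)
 (fun h => @Nat.rec (fun _ => Nat → Nat)
 (fun h => @Nat.rec (fun _ => Nat → Nat)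
 (fun i => Nat.land (Nat.shiftRight chQ6c32 (Nat.mul (nat_lit 7) (Nat.land i (nat_lit 511)))) (nat_lit 127))
 (fun _ _ => (fun i => Nat.land (Nat.shiftRight chQ6c33 (Nat.mul (nat_lit 7) (Nat.land i (nat_lit 511)))) (nat_lit 127))) (Nat.land h (nat_lit 512)) h)
 (fun _ _ => (fun h => @Nat.rec (fun _ => Nat → Nat)
 (fun i => Nat.land (Nat.shiftRight chQ6c34 (Nat.mul (nat_lit 7) (Nat.land i (nat_lit 511)))) (nat_lit 127))
 (fun _ _ => (fun i => Nat.land (Nat.shiftRight chQ6c35 (Nat.mul (nat_lit 7) (Nat.land i (nat_lit 511)))) (nat_lit 127))) (Nat.land h (nat_lit 512)) h)) (Nat.land h (nat_lit 0x400)) h)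
 (fun _ _ => (fun h => @Nat.rec (fun _ => Nat → Nat)
 (fun h => @Nat.rec (fun _ => Nat → Nat)
 (fun i => Nat.land (Nat.shiftRight chQ6c36 (Nat.mul (nat_lit 7) (Nat.land i (nat_lit 511)))) (nat_lit 127))
 (fun _ _ => (fun i => Nat.land (Nat.shiftRight chQ6c37 (Nat.mul (nat_lit 7) (Nat.land i (nat_lit 511)))) (nat_lit 127))) (Nat.land h (nat_lit 512)) h)
 (fun _ _ => (fun h => @Nat.rec (fun _ => Nat → Nat)
 (fun i => Nat.land (Nat.shiftRight chQ6c38 (Nat.mul (nat_lit 7) (Nat.land i (nat_lit 511)))) (nat_lit 127))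
 (fun _ _ => (fun i => Nat.land (Nat.shiftRight chQ6c39 (Nat.mul (nat_lit 7) (Nat.land i (nat_lit 511)))) (nat_lit 127))) (Nat.land h (nat_lit 512)) h)) (Nat.land h (nat_lit 0x400)) h)) (Nat.land h (nat_lit 0x800)) h)
 (fun _ _ => (fun h => @Nat.rec (fun _ => Nat → Nat)
 (fun h => @Nat.rec (fun _ => Nat → Nat)
 (fun h => @Nat.rec (fun _ => Nat → Nat)
 (fun i => Nat.land (Nat.shiftRight chQ6c40 (Nat.mul (nat_lit 7) (Nat.land i (nat_lit 511)))) (nat_lit 127))
 (fun _ _ => (fun i => Nat.land (Nat.shiftRight chQ6c41 (Nat.mul (nat_lit 7) (Nat.land i (nat_lit 511)))) (nat_lit 127))) (Nat.land h (nat_lit 512)) h)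
 (fun _ _ => (fun h => @Nat.rec (fun _ => Nat → Nat)
 (fun i => Nat.land (Nat.shiftRight chQ6c42 (Nat.mul (nat_lit 7) (Nat.land i (nat_lit 511)))) (nat_lit 127))
 (fun _ _ => (fun i => Nat.land (Nat.shiftRight chQ6c43 (Nat.mul (nat_lit 7) (Nat.land i (nat_lit 511)))) (nat_lit 127))) (Nat.land h (nat_lit 512)) h)) (Nat.land h (nat_lit 0x400)) h)
 (fun _ _ => (fun h => @Nat.rec (fun _ => Nat → Nat)
 (fun h => @Nat.rec (fun _ => Nat → Nat)
 (fun i => Nat.land (Nat.shiftRight chQ6c44 (Nat.mul (nat_lit 7) (Nat.land i (nat_lit 511)))) (nat_lit 127))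
 (fun _ _ => (fun i => Nat.land (Nat.shiftRight chQ6c45 (Nat.mul (nat_lit 7) (Nat.land i (nat_lit 511)))) (nat_lit 127))) (Nat.land h (nat_lit 512)) h)
 (fun _ _ => (fun h => @Nat.rec (fun _ => Nat → Nat)
 (fun i => Nat.land (Nat.shiftRight chQ6c46 (Nat.mul (nat_lit 7) (Nat.land i (nat_lit 511)))) (nat_lit 127))
 (fun _ _ => (fun i => Nat.land (Nat.shiftRight chQ6c47 (Nat.mul (nat_lit 7) (Nat.land i (nat_lit 511)))) (nat_lit 127))) (Nat.land h (nat_lit 512)) h)) (Nat.land h (nat_lit 0x400)) h)) (Nat.land h (nat_lit 0x800)) h)) (Nat.land h (nat_lit 0x1000)) h)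
 (fun _ _ => (fun h => @Nat.rec (fun _ => Nat → Nat)
 (fun h => @Nat.rec (fun _ => Nat → Nat)
 (fun h => @Nat.rec (fun _ => Nat → Nat)
 (fun i => Nat.land (Nat.shiftRight chQ6c48 (Nat.mul (nat_lit 7) (Nat.land i (nat_lit 511)))) (nat_lit 127))
 (fun _ _ => (fun i => Nat.land (Nat.shiftRight chQ6c49 (Nat.mul (nat_lit 7) (Nat.land i (nat_lit 511)))) (nat_lit 127))) (Nat.land h (nat_lit 512)) h)
 (fun _ _ => (fun h => @Nat.rec (fun _ => Nat → Nat)
 (fun i => Nat.land (Nat.shiftRight chQ6c50 (Nat.mul (nat_lit 7) (Nat.land i (nat_lit 511)))) (nat_lit 127))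
 (fun _ _ => (fun i => Nat.land (Nat.shiftRight chQ6c51 (Nat.mul (nat_lit 7) (Nat.land i (nat_lit 511)))) (nat_lit 127))) (Nat.land h (nat_lit 512)) h)) (Nat.land h (nat_lit 0x400)) h)
 (fun _ _ => (fun h => @Nat.rec (fun _ => Nat → Nat)
 (fun h => @Nat.rec (fun _ => Nat → Nat)
 (fun i => Nat.land (Nat.shiftRight chQ6c52 (Nat.mul (nat_lit 7) (Nat.land i (nat_lit 511)))) (nat_lit 127))
 (fun _ _ => (fun i => Nat.land (Nat.shiftRight chQ6c53 (Nat.mul (nat_lit 7) (Nat.land i (nat_lit 511)))) (nat_lit 127))) (Nat.land h (nat_lit 512)) h)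
 (fun _ _ => (fun h => @Nat.rec (fun _ => Nat → Nat)
 (fun i => Nat.land (Nat.shiftRight chQ6c54 (Nat.mul (nat_lit 7) (Nat.land i (nat_lit 511)))) (nat_lit 127))
 (fun _ _ => (fun i => Nat.land (Nat.shiftRight chQ6c55 (Nat.mul (nat_lit 7) (Nat.land i (nat_lit 511)))) (nat_lit 127))) (Nat.land h (nat_lit 512)) h)) (Nat.land h (nat_lit 0x400)) h)) (Nat.land h (nat_lit 0x800)) h)) (Nat.land h (nat_lit 0x2000)) h)) (Nat.land h (nat_lit 0x4000)) h)
theorem ch_r6 : allR (ckReach chQ6 [[T0], [T1], [T2]] (nat_lit 7)) (nat_lit 0) (nat_lit 0x6f0f) = true := by decide +kernel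
theorem ch_c6 : cntT chQ6 (nat_lit 4) (nat_lit 0x6f0f) (nat_lit 0) = true := by decide +kernel
noncomputable def chQ7c0 : Nat := nat_lit 0x30000000000000000000000000000000000000000000000000000000000000000000000000000000000000000000000000000000000000000000000000000000000000000000000000840000000000000000000000000000000000000000010000000000000000000000000
noncomputable def chQ7c1 : Nat := nat_lit 0x0
noncomputable def chQ7c2 : Nat := nat_lit 0x0
noncomputable def chQ7c3 : Nat := nat_lit 0x0
noncomputable def chQ7c4 : Nat := nat_lit 0x0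
noncomputable def chQ7c5 : Nat := nat_lit 0x0
noncomputable def chQ7c6 : Nat := nat_lit 0x0
noncomputable def chQ7c7 : Nat := nat_lit 0x0
noncomputable def chQ7c8 : Nat := nat_lit 0x0
noncomputable def chQ7c9 : Nat := nat_lit 0x0
noncomputable def chQ7c10 : Nat := nat_lit 0x0
noncomputable def chQ7c11 : Nat := nat_lit 0x0
noncomputable def chQ7c12 : Nat := nat_lit 0x0
noncomputable def chQ7c13 : Nat := nat_lit 0x0
noncomputable def chQ7c14 : Nat := nat_lit 0x0
noncomputable def chQ7c15 : Nat := nat_lit 0x0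
noncomputable def chQ7c16 : Nat := nat_lit 0x0
noncomputable def chQ7c17 : Nat := nat_lit 0x0
noncomputable def chQ7c18 : Nat := nat_lit 0x0
noncomputable def chQ7c19 : Nat := nat_lit 0x0
noncomputable def chQ7c20 : Nat := nat_lit 0x0
noncomputable def chQ7c21 : Nat := nat_lit 0x0
noncomputable def chQ7c22 : Nat := nat_lit 0x0
noncomputable def chQ7c23 : Nat := nat_lit 0x0
noncomputable def chQ7c24 : Nat := nat_lit 0x0
noncomputable def chQ7c25 : Nat := nat_lit 0x0
noncomputable def chQ7c26 : Nat := nat_lit 0x0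
noncomputable def chQ7c27 : Nat := nat_lit 0x0
noncomputable def chQ7c28 : Nat := nat_lit 0x0
noncomputable def chQ7c29 : Nat := nat_lit 0x0
noncomputable def chQ7c30 : Nat := nat_lit 0x0
noncomputable def chQ7c31 : Nat := nat_lit 0x0
noncomputable def chQ7c32 : Nat := nat_lit 0x0
noncomputable def chQ7c33 : Nat := nat_lit 0x0
noncomputable def chQ7c34 : Nat := nat_lit 0x0
noncomputable def chQ7c35 : Nat := nat_lit 0x0
noncomputable def chQ7c36 : Nat := nat_lit 0x0
noncomputable def chQ7c37 : Nat := nat_lit 0x0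
noncomputable def chQ7c38 : Nat := nat_lit 0x0
noncomputable def chQ7c39 : Nat := nat_lit 0x0
noncomputable def chQ7c40 : Nat := nat_lit 0x0
noncomputable def chQ7c41 : Nat := nat_lit 0x0
noncomputable def chQ7c42 : Nat := nat_lit 0x0
noncomputable def chQ7c43 : Nat := nat_lit 0x0
noncomputable def chQ7c44 : Nat := nat_lit 0x0
noncomputable def chQ7c45 : Nat := nat_lit 0x0
noncomputable def chQ7c46 : Nat := nat_lit 0x0
noncomputable def chQ7c47 : Nat := nat_lit 0x0
noncomputable def chQ7c48 : Nat := nat_lit 0x0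
noncomputable def chQ7c49 : Nat := nat_lit 0x0
noncomputable def chQ7c50 : Nat := nat_lit 0x0
noncomputable def chQ7c51 : Nat := nat_lit 0x0
noncomputable def chQ7c52 : Nat := nat_lit 0x0
noncomputable def chQ7c53 : Nat := nat_lit 0x0
noncomputable def chQ7c54 : Nat := nat_lit 0x0
noncomputable def chQ7c55 : Nat := nat_lit 0x0
noncomputable def chQ7 : Nat → Nat := (fun h => @Nat.rec (fun _ => Nat → Nat)
 (fun h => @Nat.rec (fun _ => Nat → Nat)
 (fun h => @Nat.rec (fun _ => Nat → Nat)
 (fun h => @Nat.rec (fun _ => Nat → Nat)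
 (fun h => @Nat.rec (fun _ => Nat → Nat)
 (fun h => @Nat.rec (fun _ => Nat → Nat)
 (fun i => Nat.land (Nat.shiftRight chQ7c0 (Nat.mul (nat_lit 6) (Nat.land i (nat_lit 511)))) (nat_lit 63))
 (fun _ _ => (fun i => Nat.land (Nat.shiftRight chQ7c1 (Nat.mul (nat_lit 6) (Nat.land i (nat_lit 511)))) (nat_lit 63))) (Nat.land h (nat_lit 512)) h)
 (fun _ _ => (fun h => @Nat.rec (fun _ => Nat → Nat)
 (fun i => Nat.land (Nat.shiftRight chQ7c2 (Nat.mul (nat_lit 6) (Nat.land i (nat_lit 511)))) (nat_lit 63))
 (fun _ _ => (fun i => Nat.land (Nat.shiftRight chQ7c3 (Nat.mul (nat_lit 6) (Nat.land i (nat_lit 511)))) (nat_lit 63))) (Nat.land h (nat_lit 512)) h)) (Nat.land h (nat_lit 0x400)) h)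
 (fun _ _ => (fun h => @Nat.rec (fun _ => Nat → Nat)
 (fun h => @Nat.rec (fun _ => Nat → Nat)
 (fun i => Nat.land (Nat.shiftRight chQ7c4 (Nat.mul (nat_lit 6) (Nat.land i (nat_lit 511)))) (nat_lit 63))
 (fun _ _ => (fun i => Nat.land (Nat.shiftRight chQ7c5 (Nat.mul (nat_lit 6) (Nat.land i (nat_lit 511)))) (nat_lit 63))) (Nat.land h (nat_lit 512)) h)
 (fun _ _ => (fun h => @Nat.rec (fun _ => Nat → Nat)
 (fun i => Nat.land (Nat.shiftRight chQ7c6 (Nat.mul (nat_lit 6) (Nat.land i (nat_lit 511)))) (nat_lit 63))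
 (fun _ _ => (fun i => Nat.land (Nat.shiftRight chQ7c7 (Nat.mul (nat_lit 6) (Nat.land i (nat_lit 511)))) (nat_lit 63))) (Nat.land h (nat_lit 512)) h)) (Nat.land h (nat_lit 0x400)) h)) (Nat.land h (nat_lit 0x800)) h)
 (fun _ _ => (fun h => @Nat.rec (fun _ => Nat → Nat)
 (fun h => @Nat.rec (fun _ => Nat → Nat)
 (fun h => @Nat.rec (fun _ => Nat → Nat)
 (fun i => Nat.land (Nat.shiftRight chQ7c8 (Nat.mul (nat_lit 6) (Nat.land i (nat_lit 511)))) (nat_lit 63))
 (fun _ _ => (fun i => Nat.land (Nat.shiftRight chQ7c9 (Nat.mul (nat_lit 6) (Nat.land i (nat_lit 511)))) (nat_lit 63))) (Nat.land h (nat_lit 512)) h)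
 (fun _ _ => (fun h => @Nat.rec (fun _ => Nat → Nat)
 (fun i => Nat.land (Nat.shiftRight chQ7c10 (Nat.mul (nat_lit 6) (Nat.land i (nat_lit 511)))) (nat_lit 63))
 (fun _ _ => (fun i => Nat.land (Nat.shiftRight chQ7c11 (Nat.mul (nat_lit 6) (Nat.land i (nat_lit 511)))) (nat_lit 63))) (Nat.land h (nat_lit 512)) h)) (Nat.land h (nat_lit 0x400)) h)
 (fun _ _ => (fun h => @Nat.rec (fun _ => Nat → Nat)
 (fun h => @Nat.rec (fun _ => Nat → Nat)
 (fun i => Nat.land (Nat.shiftRight chQ7c12 (Nat.mul (nat_lit 6) (Nat.land i (nat_lit 511)))) (nat_lit 63))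
 (fun _ _ => (fun i => Nat.land (Nat.shiftRight chQ7c13 (Nat.mul (nat_lit 6) (Nat.land i (nat_lit 511)))) (nat_lit 63))) (Nat.land h (nat_lit 512)) h)
 (fun _ _ => (fun h => @Nat.rec (fun _ => Nat → Nat)
 (fun i => Nat.land (Nat.shiftRight chQ7c14 (Nat.mul (nat_lit 6) (Nat.land i (nat_lit 511)))) (nat_lit 63))
 (fun _ _ => (fun i => Nat.land (Nat.shiftRight chQ7c15 (Nat.mul (nat_lit 6) (Nat.land i (nat_lit 511)))) (nat_lit 63))) (Nat.land h (nat_lit 512)) h)) (Nat.land h (nat_lit 0x400)) h)) (Nat.land h (nat_lit 0x800)) h)) (Nat.land h (nat_lit 0x1000)) h)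
 (fun _ _ => (fun h => @Nat.rec (fun _ => Nat → Nat)
 (fun h => @Nat.rec (fun _ => Nat → Nat)
 (fun h => @Nat.rec (fun _ => Nat → Nat)
 (fun h => @Nat.rec (fun _ => Nat → Nat)
 (fun i => Nat.land (Nat.shiftRight chQ7c16 (Nat.mul (nat_lit 6) (Nat.land i (nat_lit 511)))) (nat_lit 63))
 (fun _ _ => (fun i => Nat.land (Nat.shiftRight chQ7c17 (Nat.mul (nat_lit 6) (Nat.land i (nat_lit 511)))) (nat_lit 63))) (Nat.land h (nat_lit 512)) h)
 (fun _ _ => (fun h => @Nat.rec (fun _ => Nat → Nat)
 (fun i => Nat.land (Nat.shiftRight chQ7c18 (Nat.mul (nat_lit 6) (Nat.land i (nat_lit 511)))) (nat_lit 63))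
 (fun _ _ => (fun i => Nat.land (Nat.shiftRight chQ7c19 (Nat.mul (nat_lit 6) (Nat.land i (nat_lit 511)))) (nat_lit 63))) (Nat.land h (nat_lit 512)) h)) (Nat.land h (nat_lit 0x400)) h)
 (fun _ _ => (fun h => @Nat.rec (fun _ => Nat → Nat)
 (fun h => @Nat.rec (fun _ => Nat → Nat)
 (fun i => Nat.land (Nat.shiftRight chQ7c20 (Nat.mul (nat_lit 6) (Nat.land i (nat_lit 511)))) (nat_lit 63))
 (fun _ _ => (fun i => Nat.land (Nat.shiftRight chQ7c21 (Nat.mul (nat_lit 6) (Nat.land i (nat_lit 511)))) (nat_lit 63))) (Nat.land h (nat_lit 512)) h)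
 (fun _ _ => (fun h => @Nat.rec (fun _ => Nat → Nat)
 (fun i => Nat.land (Nat.shiftRight chQ7c22 (Nat.mul (nat_lit 6) (Nat.land i (nat_lit 511)))) (nat_lit 63))
 (fun _ _ => (fun i => Nat.land (Nat.shiftRight chQ7c23 (Nat.mul (nat_lit 6) (Nat.land i (nat_lit 511)))) (nat_lit 63))) (Nat.land h (nat_lit 512)) h)) (Nat.land h (nat_lit 0x400)) h)) (Nat.land h (nat_lit 0x800)) h)
 (fun _ _ => (fun h => @Nat.rec (fun _ => Nat → Nat)
 (fun h => @Nat.rec (fun _ => Nat → Nat)
 (fun h => @Nat.rec (fun _ => Nat → Nat)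
 (fun i => Nat.land (Nat.shiftRight chQ7c24 (Nat.mul (nat_lit 6) (Nat.land i (nat_lit 511)))) (nat_lit 63))
 (fun _ _ => (fun i => Nat.land (Nat.shiftRight chQ7c25 (Nat.mul (nat_lit 6) (Nat.land i (nat_lit 511)))) (nat_lit 63))) (Nat.land h (nat_lit 512)) h)
 (fun _ _ => (fun h => @Nat.rec (fun _ => Nat → Nat)
 (fun i => Nat.land (Nat.shiftRight chQ7c26 (Nat.mul (nat_lit 6) (Nat.land i (nat_lit 511)))) (nat_lit 63))
 (fun _ _ => (fun i => Nat.land (Nat.shiftRight chQ7c27 (Nat.mul (nat_lit 6) (Nat.land i (nat_lit 511)))) (nat_lit 63))) (Nat.land h (nat_lit 512)) h)) (Nat.land h (nat_lit 0x400)) h)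
 (fun _ _ => (fun h => @Nat.rec (fun _ => Nat → Nat)
 (fun h => @Nat.rec (fun _ => Nat → Nat)
 (fun i => Nat.land (Nat.shiftRight chQ7c28 (Nat.mul (nat_lit 6) (Nat.land i (nat_lit 511)))) (nat_lit 63))
 (fun _ _ => (fun i => Nat.land (Nat.shiftRight chQ7c29 (Nat.mul (nat_lit 6) (Nat.land i (nat_lit 511)))) (nat_lit 63))) (Nat.land h (nat_lit 512)) h)
 (fun _ _ => (fun h => @Nat.rec (fun _ => Nat → Nat)
 (fun i => Nat.land (Nat.shiftRight chQ7c30 (Nat.mul (nat_lit 6) (Nat.land i (nat_lit 511)))) (nat_lit 63))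
 (fun _ _ => (fun i => Nat.land (Nat.shiftRight chQ7c31 (Nat.mul (nat_lit 6) (Nat.land i (nat_lit 511)))) (nat_lit 63))) (Nat.land h (nat_lit 512)) h)) (Nat.land h (nat_lit 0x400)) h)) (Nat.land h (nat_lit 0x800)) h)) (Nat.land h (nat_lit 0x1000)) h)) (Nat.land h (nat_lit 0x2000)) h)
 (fun _ _ => (fun h => @Nat.rec (fun _ => Nat → Nat)
 (fun h => @Nat.rec (fun _ => Nat → Nat)
 (fun h => @Nat.rec (fun _ => Nat → Nat)
 (fun h => @Nat.rec (fun _ => Nat → Nat)
 (fun h => @Nat.rec (fun _ => Nat → Nat)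
 (fun i => Nat.land (Nat.shiftRight chQ7c32 (Nat.mul (nat_lit 6) (Nat.land i (nat_lit 511)))) (nat_lit 63))
 (fun _ _ => (fun i => Nat.land (Nat.shiftRight chQ7c33 (Nat.mul (nat_lit 6) (Nat.land i (nat_lit 511)))) (nat_lit 63))) (Nat.land h (nat_lit 512)) h)
 (fun _ _ => (fun h => @Nat.rec (fun _ => Nat → Nat)
 (fun i => Nat.land (Nat.shiftRight chQ7c34 (Nat.mul (nat_lit 6) (Nat.land i (nat_lit 511)))) (nat_lit 63))
 (fun _ _ => (fun i => Nat.land (Nat.shiftRight chQ7c35 (Nat.mul (nat_lit 6) (Nat.land i (nat_lit 511)))) (nat_lit 63))) (Nat.land h (nat_lit 512)) h)) (Nat.land h (nat_lit 0x400)) h)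
 (fun _ _ => (fun h => @Nat.rec (fun _ => Nat → Nat)
 (fun h => @Nat.rec (fun _ => Nat → Nat)
 (fun i => Nat.land (Nat.shiftRight chQ7c36 (Nat.mul (nat_lit 6) (Nat.land i (nat_lit 511)))) (nat_lit 63))
 (fun _ _ => (fun i => Nat.land (Nat.shiftRight chQ7c37 (Nat.mul (nat_lit 6) (Nat.land i (nat_lit 511)))) (nat_lit 63))) (Nat.land h (nat_lit 512)) h)
 (fun _ _ => (fun h => @Nat.rec (fun _ => Nat → Nat)
 (fun i => Nat.land (Nat.shiftRight chQ7c38 (Nat.mul (nat_lit 6) (Nat.land i (nat_lit 511)))) (nat_lit 63))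
 (fun _ _ => (fun i => Nat.land (Nat.shiftRight chQ7c39 (Nat.mul (nat_lit 6) (Nat.land i (nat_lit 511)))) (nat_lit 63))) (Nat.land h (nat_lit 512)) h)) (Nat.land h (nat_lit 0x400)) h)) (Nat.land h (nat_lit 0x800)) h)
 (fun _ _ => (fun h => @Nat.rec (fun _ => Nat → Nat)
 (fun h => @Nat.rec (fun _ => Nat → Nat)
 (fun h => @Nat.rec (fun _ => Nat → Nat)
 (fun i => Nat.land (Nat.shiftRight chQ7c40 (Nat.mul (nat_lit 6) (Nat.land i (nat_lit 511)))) (nat_lit 63))
 (fun _ _ => (fun i => Nat.land (Nat.shiftRight chQ7c41 (Nat.mul (nat_lit 6) (Nat.land i (nat_lit 511)))) (nat_lit 63))) (Nat.land h (nat_lit 512)) h)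
 (fun _ _ => (fun h => @Nat.rec (fun _ => Nat → Nat)
 (fun i => Nat.land (Nat.shiftRight chQ7c42 (Nat.mul (nat_lit 6) (Nat.land i (nat_lit 511)))) (nat_lit 63))
 (fun _ _ => (fun i => Nat.land (Nat.shiftRight chQ7c43 (Nat.mul (nat_lit 6) (Nat.land i (nat_lit 511)))) (nat_lit 63))) (Nat.land h (nat_lit 512)) h)) (Nat.land h (nat_lit 0x400)) h)
 (fun _ _ => (fun h => @Nat.rec (fun _ => Nat → Nat)
 (fun h => @Nat.rec (fun _ => Nat → Nat)
 (fun i => Nat.land (Nat.shiftRight chQ7c44 (Nat.mul (nat_lit 6) (Nat.land i (nat_lit 511)))) (nat_lit 63))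
 (fun _ _ => (fun i => Nat.land (Nat.shiftRight chQ7c45 (Nat.mul (nat_lit 6) (Nat.land i (nat_lit 511)))) (nat_lit 63))) (Nat.land h (nat_lit 512)) h)
 (fun _ _ => (fun h => @Nat.rec (fun _ => Nat → Nat)
 (fun i => Nat.land (Nat.shiftRight chQ7c46 (Nat.mul (nat_lit 6) (Nat.land i (nat_lit 511)))) (nat_lit 63))
 (fun _ _ => (fun i => Nat.land (Nat.shiftRight chQ7c47 (Nat.mul (nat_lit 6) (Nat.land i (nat_lit 511)))) (nat_lit 63))) (Nat.land h (nat_lit 512)) h)) (Nat.land h (nat_lit 0x400)) h)) (Nat.land h (nat_lit 0x800)) h)) (Nat.land h (nat_lit 0x1000)) h)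
 (fun _ _ => (fun h => @Nat.rec (fun _ => Nat → Nat)
 (fun h => @Nat.rec (fun _ => Nat → Nat)
 (fun h => @Nat.rec (fun _ => Nat → Nat)
 (fun i => Nat.land (Nat.shiftRight chQ7c48 (Nat.mul (nat_lit 6) (Nat.land i (nat_lit 511)))) (nat_lit 63))
 (fun _ _ => (fun i => Nat.land (Nat.shiftRight chQ7c49 (Nat.mul (nat_lit 6) (Nat.land i (nat_lit 511)))) (nat_lit 63))) (Nat.land h (nat_lit 512)) h)
 (fun _ _ => (fun h => @Nat.rec (fun _ => Nat → Nat)
 (fun i => Nat.land (Nat.shiftRight chQ7c50 (Nat.mul (nat_lit 6) (Nat.land i (nat_lit 511)))) (nat_lit 63))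
 (fun _ _ => (fun i => Nat.land (Nat.shiftRight chQ7c51 (Nat.mul (nat_lit 6) (Nat.land i (nat_lit 511)))) (nat_lit 63))) (Nat.land h (nat_lit 512)) h)) (Nat.land h (nat_lit 0x400)) h)
 (fun _ _ => (fun h => @Nat.rec (fun _ => Nat → Nat)
 (fun h => @Nat.rec (fun _ => Nat → Nat)
 (fun i => Nat.land (Nat.shiftRight chQ7c52 (Nat.mul (nat_lit 6) (Nat.land i (nat_lit 511)))) (nat_lit 63))
 (fun _ _ => (fun i => Nat.land (Nat.shiftRight chQ7c53 (Nat.mul (nat_lit 6) (Nat.land i (nat_lit 511)))) (nat_lit 63))) (Nat.land h (nat_lit 512)) h)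
 (fun _ _ => (fun h => @Nat.rec (fun _ => Nat → Nat)
 (fun i => Nat.land (Nat.shiftRight chQ7c54 (Nat.mul (nat_lit 6) (Nat.land i (nat_lit 511)))) (nat_lit 63))
 (fun _ _ => (fun i => Nat.land (Nat.shiftRight chQ7c55 (Nat.mul (nat_lit 6) (Nat.land i (nat_lit 511)))) (nat_lit 63))) (Nat.land h (nat_lit 512)) h)) (Nat.land h (nat_lit 0x400)) h)) (Nat.land h (nat_lit 0x800)) h)) (Nat.land h (nat_lit 0x2000)) h)) (Nat.land h (nat_lit 0x4000)) h)
theorem ch_r7 : allR (ckReach chQ7 [[T0], [T1]] (nat_lit 16)) (nat_lit 0) (nat_lit 0x6f0f) = true := by decide +kernel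
theorem ch_c7 : cntT chQ7 (nat_lit 3) (nat_lit 0x6f0f) (nat_lit 0) = true := by decide +kernel
noncomputable def chQ8c0 : Nat := nat_lit 0x20000000000000000000000000000000000000000000000000000000000000000000000000000000000000000000000000000000000000000000000000000000000000000000000000400000000000000000000000000000000000000000000000000000000000000000000
noncomputable def chQ8c1 : Nat := nat_lit 0x0
noncomputable def chQ8c2 : Nat := nat_lit 0x0
noncomputable def chQ8c3 : Nat := nat_lit 0x0
noncomputable def chQ8c4 : Nat := nat_lit 0x0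
noncomputable def chQ8c5 : Nat := nat_lit 0x0
noncomputable def chQ8c6 : Nat := nat_lit 0x0
noncomputable def chQ8c7 : Nat := nat_lit 0x0
noncomputable def chQ8c8 : Nat := nat_lit 0x0
noncomputable def chQ8c9 : Nat := nat_lit 0x0
noncomputable def chQ8c10 : Nat := nat_lit 0x0
noncomputable def chQ8c11 : Nat := nat_lit 0x0
noncomputable def chQ8c12 : Nat := nat_lit 0x0
noncomputable def chQ8c13 : Nat := nat_lit 0x0
noncomputable def chQ8c14 : Nat := nat_lit 0x0
noncomputable def chQ8c15 : Nat := nat_lit 0x0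
noncomputable def chQ8c16 : Nat := nat_lit 0x0
noncomputable def chQ8c17 : Nat := nat_lit 0x0
noncomputable def chQ8c18 : Nat := nat_lit 0x0
noncomputable def chQ8c19 : Nat := nat_lit 0x0
noncomputable def chQ8c20 : Nat := nat_lit 0x0
noncomputable def chQ8c21 : Nat := nat_lit 0x0
noncomputable def chQ8c22 : Nat := nat_lit 0x0
noncomputable def chQ8c23 : Nat := nat_lit 0x0
noncomputable def chQ8c24 : Nat := nat_lit 0x0
noncomputable def chQ8c25 : Nat := nat_lit 0x0
noncomputable def chQ8c26 : Nat := nat_lit 0x0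
noncomputable def chQ8c27 : Nat := nat_lit 0x0
noncomputable def chQ8c28 : Nat := nat_lit 0x0
noncomputable def chQ8c29 : Nat := nat_lit 0x0
noncomputable def chQ8c30 : Nat := nat_lit 0x0
noncomputable def chQ8c31 : Nat := nat_lit 0x0
noncomputable def chQ8c32 : Nat := nat_lit 0x0
noncomputable def chQ8c33 : Nat := nat_lit 0x0
noncomputable def chQ8c34 : Nat := nat_lit 0x0
noncomputable def chQ8c35 : Nat := nat_lit 0x0
noncomputable def chQ8c36 : Nat := nat_lit 0x0
noncomputable def chQ8c37 : Nat := nat_lit 0x0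
noncomputable def chQ8c38 : Nat := nat_lit 0x0
noncomputable def chQ8c39 : Nat := nat_lit 0x0
noncomputable def chQ8c40 : Nat := nat_lit 0x0
noncomputable def chQ8c41 : Nat := nat_lit 0x0
noncomputable def chQ8c42 : Nat := nat_lit 0x0
noncomputable def chQ8c43 : Nat := nat_lit 0x0
noncomputable def chQ8c44 : Nat := nat_lit 0x0
noncomputable def chQ8c45 : Nat := nat_lit 0x0
noncomputable def chQ8c46 : Nat := nat_lit 0x0
noncomputable def chQ8c47 : Nat := nat_lit 0x0
noncomputable def chQ8c48 : Nat := nat_lit 0x0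
noncomputable def chQ8c49 : Nat := nat_lit 0x0
noncomputable def chQ8c50 : Nat := nat_lit 0x0
noncomputable def chQ8c51 : Nat := nat_lit 0x0
noncomputable def chQ8c52 : Nat := nat_lit 0x0
noncomputable def chQ8c53 : Nat := nat_lit 0x0
noncomputable def chQ8c54 : Nat := nat_lit 0x0
noncomputable def chQ8c55 : Nat := nat_lit 0x0
noncomputable def chQ8 : Nat → Nat := (fun h => @Nat.rec (fun _ => Nat → Nat)
 (fun h => @Nat.rec (fun _ => Nat → Nat)
 (fun h => @Nat.rec (fun _ => Nat → Nat)
 (fun h => @Nat.rec (fun _ => Nat → Nat)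
 (fun h => @Nat.rec (fun _ => Nat → Nat)
 (fun h => @Nat.rec (fun _ => Nat → Nat)
 (fun i => Nat.land (Nat.shiftRight chQ8c0 (Nat.mul (nat_lit 6) (Nat.land i (nat_lit 511)))) (nat_lit 63))
 (fun _ _ => (fun i => Nat.land (Nat.shiftRight chQ8c1 (Nat.mul (nat_lit 6) (Nat.land i (nat_lit 511)))) (nat_lit 63))) (Nat.land h (nat_lit 512)) h)
 (fun _ _ => (fun h => @Nat.rec (fun _ => Nat → Nat)
 (fun i => Nat.land (Nat.shiftRight chQ8c2 (Nat.mul (nat_lit 6) (Nat.land i (nat_lit 511)))) (nat_lit 63))
 (fun _ _ => (fun i => Nat.land (Nat.shiftRight chQ8c3 (Nat.mul (nat_lit 6) (Nat.land i (nat_lit 511)))) (nat_lit 63))) (Nat.land h (nat_lit 512)) h)) (Nat.land h (nat_lit 0x400)) h)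
 (fun _ _ => (fun h => @Nat.rec (fun _ => Nat → Nat)
 (fun h => @Nat.rec (fun _ => Nat → Nat)
 (fun i => Nat.land (Nat.shiftRight chQ8c4 (Nat.mul (nat_lit 6) (Nat.land i (nat_lit 511)))) (nat_lit 63))
 (fun _ _ => (fun i => Nat.land (Nat.shiftRight chQ8c5 (Nat.mul (nat_lit 6) (Nat.land i (nat_lit 511)))) (nat_lit 63))) (Nat.land h (nat_lit 512)) h)
 (fun _ _ => (fun h => @Nat.rec (fun _ => Nat → Nat)
 (fun i => Nat.land (Nat.shiftRight chQ8c6 (Nat.mul (nat_lit 6) (Nat.land i (nat_lit 511)))) (nat_lit 63))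
 (fun _ _ => (fun i => Nat.land (Nat.shiftRight chQ8c7 (Nat.mul (nat_lit 6) (Nat.land i (nat_lit 511)))) (nat_lit 63))) (Nat.land h (nat_lit 512)) h)) (Nat.land h (nat_lit 0x400)) h)) (Nat.land h (nat_lit 0x800)) h)
 (fun _ _ => (fun h => @Nat.rec (fun _ => Nat → Nat)
 (fun h => @Nat.rec (fun _ => Nat → Nat)
 (fun h => @Nat.rec (fun _ => Nat → Nat)
 (fun i => Nat.land (Nat.shiftRight chQ8c8 (Nat.mul (nat_lit 6) (Nat.land i (nat_lit 511)))) (nat_lit 63))
 (fun _ _ => (fun i => Nat.land (Nat.shiftRight chQ8c9 (Nat.mul (nat_lit 6) (Nat.land i (nat_lit 511)))) (nat_lit 63))) (Nat.land h (nat_lit 512)) h)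
 (fun _ _ => (fun h => @Nat.rec (fun _ => Nat → Nat)
 (fun i => Nat.land (Nat.shiftRight chQ8c10 (Nat.mul (nat_lit 6) (Nat.land i (nat_lit 511)))) (nat_lit 63))
 (fun _ _ => (fun i => Nat.land (Nat.shiftRight chQ8c11 (Nat.mul (nat_lit 6) (Nat.land i (nat_lit 511)))) (nat_lit 63))) (Nat.land h (nat_lit 512)) h)) (Nat.land h (nat_lit 0x400)) h)
 (fun _ _ => (fun h => @Nat.rec (fun _ => Nat → Nat)
 (fun h => @Nat.rec (fun _ => Nat → Nat)
 (fun i => Nat.land (Nat.shiftRight chQ8c12 (Nat.mul (nat_lit 6) (Nat.land i (nat_lit 511)))) (nat_lit 63))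
 (fun _ _ => (fun i => Nat.land (Nat.shiftRight chQ8c13 (Nat.mul (nat_lit 6) (Nat.land i (nat_lit 511)))) (nat_lit 63))) (Nat.land h (nat_lit 512)) h)
 (fun _ _ => (fun h => @Nat.rec (fun _ => Nat → Nat)
 (fun i => Nat.land (Nat.shiftRight chQ8c14 (Nat.mul (nat_lit 6) (Nat.land i (nat_lit 511)))) (nat_lit 63))
 (fun _ _ => (fun i => Nat.land (Nat.shiftRight chQ8c15 (Nat.mul (nat_lit 6) (Nat.land i (nat_lit 511)))) (nat_lit 63))) (Nat.land h (nat_lit 512)) h)) (Nat.land h (nat_lit 0x400)) h)) (Nat.land h (nat_lit 0x800)) h)) (Nat.land h (nat_lit 0x1000)) h)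
 (fun _ _ => (fun h => @Nat.rec (fun _ => Nat → Nat)
 (fun h => @Nat.rec (fun _ => Nat → Nat)
 (fun h => @Nat.rec (fun _ => Nat → Nat)
 (fun h => @Nat.rec (fun _ => Nat → Nat)
 (fun i => Nat.land (Nat.shiftRight chQ8c16 (Nat.mul (nat_lit 6) (Nat.land i (nat_lit 511)))) (nat_lit 63))
 (fun _ _ => (fun i => Nat.land (Nat.shiftRight chQ8c17 (Nat.mul (nat_lit 6) (Nat.land i (nat_lit 511)))) (nat_lit 63))) (Nat.land h (nat_lit 512)) h)
 (fun _ _ => (fun h => @Nat.rec (fun _ => Nat → Nat)
 (fun i => Nat.land (Nat.shiftRight chQ8c18 (Nat.mul (nat_lit 6) (Nat.land i (nat_lit 511)))) (nat_lit 63))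
 (fun _ _ => (fun i => Nat.land (Nat.shiftRight chQ8c19 (Nat.mul (nat_lit 6) (Nat.land i (nat_lit 511)))) (nat_lit 63))) (Nat.land h (nat_lit 512)) h)) (Nat.land h (nat_lit 0x400)) h)
 (fun _ _ => (fun h => @Nat.rec (fun _ => Nat → Nat)
 (fun h => @Nat.rec (fun _ => Nat → Nat)
 (fun i => Nat.land (Nat.shiftRight chQ8c20 (Nat.mul (nat_lit 6) (Nat.land i (nat_lit 511)))) (nat_lit 63))
 (fun _ _ => (fun i => Nat.land (Nat.shiftRight chQ8c21 (Nat.mul (nat_lit 6) (Nat.land i (nat_lit 511)))) (nat_lit 63))) (Nat.land h (nat_lit 512)) h)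
 (fun _ _ => (fun h => @Nat.rec (fun _ => Nat → Nat)
 (fun i => Nat.land (Nat.shiftRight chQ8c22 (Nat.mul (nat_lit 6) (Nat.land i (nat_lit 511)))) (nat_lit 63))
 (fun _ _ => (fun i => Nat.land (Nat.shiftRight chQ8c23 (Nat.mul (nat_lit 6) (Nat.land i (nat_lit 511)))) (nat_lit 63))) (Nat.land h (nat_lit 512)) h)) (Nat.land h (nat_lit 0x400)) h)) (Nat.land h (nat_lit 0x800)) h)
 (fun _ _ => (fun h => @Nat.rec (fun _ => Nat → Nat)
 (fun h => @Nat.rec (fun _ => Nat → Nat)
 (fun h => @Nat.rec (fun _ => Nat → Nat)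
 (fun i => Nat.land (Nat.shiftRight chQ8c24 (Nat.mul (nat_lit 6) (Nat.land i (nat_lit 511)))) (nat_lit 63))
 (fun _ _ => (fun i => Nat.land (Nat.shiftRight chQ8c25 (Nat.mul (nat_lit 6) (Nat.land i (nat_lit 511)))) (nat_lit 63))) (Nat.land h (nat_lit 512)) h)
 (fun _ _ => (fun h => @Nat.rec (fun _ => Nat → Nat)
 (fun i => Nat.land (Nat.shiftRight chQ8c26 (Nat.mul (nat_lit 6) (Nat.land i (nat_lit 511)))) (nat_lit 63))
 (fun _ _ => (fun i => Nat.land (Nat.shiftRight chQ8c27 (Nat.mul (nat_lit 6) (Nat.land i (nat_lit 511)))) (nat_lit 63))) (Nat.land h (nat_lit 512)) h)) (Nat.land h (nat_lit 0x400)) h)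
 (fun _ _ => (fun h => @Nat.rec (fun _ => Nat → Nat)
 (fun h => @Nat.rec (fun _ => Nat → Nat)
 (fun i => Nat.land (Nat.shiftRight chQ8c28 (Nat.mul (nat_lit 6) (Nat.land i (nat_lit 511)))) (nat_lit 63))
 (fun _ _ => (fun i => Nat.land (Nat.shiftRight chQ8c29 (Nat.mul (nat_lit 6) (Nat.land i (nat_lit 511)))) (nat_lit 63))) (Nat.land h (nat_lit 512)) h)
 (fun _ _ => (fun h => @Nat.rec (fun _ => Nat → Nat)
 (fun i => Nat.land (Nat.shiftRight chQ8c30 (Nat.mul (nat_lit 6) (Nat.land i (nat_lit 511)))) (nat_lit 63))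
 (fun _ _ => (fun i => Nat.land (Nat.shiftRight chQ8c31 (Nat.mul (nat_lit 6) (Nat.land i (nat_lit 511)))) (nat_lit 63))) (Nat.land h (nat_lit 512)) h)) (Nat.land h (nat_lit 0x400)) h)) (Nat.land h (nat_lit 0x800)) h)) (Nat.land h (nat_lit 0x1000)) h)) (Nat.land h (nat_lit 0x2000)) h)
 (fun _ _ => (fun h => @Nat.rec (fun _ => Nat → Nat)
 (fun h => @Nat.rec (fun _ => Nat → Nat)
 (fun h => @Nat.rec (fun _ => Nat → Nat)
 (fun h => @Nat.rec (fun _ => Nat → Nat)
 (fun h => @Nat.rec (fun _ => Nat → Nat)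
 (fun i => Nat.land (Nat.shiftRight chQ8c32 (Nat.mul (nat_lit 6) (Nat.land i (nat_lit 511)))) (nat_lit 63))
 (fun _ _ => (fun i => Nat.land (Nat.shiftRight chQ8c33 (Nat.mul (nat_lit 6) (Nat.land i (nat_lit 511)))) (nat_lit 63))) (Nat.land h (nat_lit 512)) h)
 (fun _ _ => (fun h => @Nat.rec (fun _ => Nat → Nat)
 (fun i => Nat.land (Nat.shiftRight chQ8c34 (Nat.mul (nat_lit 6) (Nat.land i (nat_lit 511)))) (nat_lit 63))
 (fun _ _ => (fun i => Nat.land (Nat.shiftRight chQ8c35 (Nat.mul (nat_lit 6) (Nat.land i (nat_lit 511)))) (nat_lit 63))) (Nat.land h (nat_lit 512)) h)) (Nat.land h (nat_lit 0x400)) h)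
 (fun _ _ => (fun h => @Nat.rec (fun _ => Nat → Nat)
 (fun h => @Nat.rec (fun _ => Nat → Nat)
 (fun i => Nat.land (Nat.shiftRight chQ8c36 (Nat.mul (nat_lit 6) (Nat.land i (nat_lit 511)))) (nat_lit 63))
 (fun _ _ => (fun i => Nat.land (Nat.shiftRight chQ8c37 (Nat.mul (nat_lit 6) (Nat.land i (nat_lit 511)))) (nat_lit 63))) (Nat.land h (nat_lit 512)) h)
 (fun _ _ => (fun h => @Nat.rec (fun _ => Nat → Nat)
 (fun i => Nat.land (Nat.shiftRight chQ8c38 (Nat.mul (nat_lit 6) (Nat.land i (nat_lit 511)))) (nat_lit 63))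
 (fun _ _ => (fun i => Nat.land (Nat.shiftRight chQ8c39 (Nat.mul (nat_lit 6) (Nat.land i (nat_lit 511)))) (nat_lit 63))) (Nat.land h (nat_lit 512)) h)) (Nat.land h (nat_lit 0x400)) h)) (Nat.land h (nat_lit 0x800)) h)
 (fun _ _ => (fun h => @Nat.rec (fun _ => Nat → Nat)
 (fun h => @Nat.rec (fun _ => Nat → Nat)
 (fun h => @Nat.rec (fun _ => Nat → Nat)
 (fun i => Nat.land (Nat.shiftRight chQ8c40 (Nat.mul (nat_lit 6) (Nat.land i (nat_lit 511)))) (nat_lit 63))
 (fun _ _ => (fun i => Nat.land (Nat.shiftRight chQ8c41 (Nat.mul (nat_lit 6) (Nat.land i (nat_lit 511)))) (nat_lit 63))) (Nat.land h (nat_lit 512)) h)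
 (fun _ _ => (fun h => @Nat.rec (fun _ => Nat → Nat)
 (fun i => Nat.land (Nat.shiftRight chQ8c42 (Nat.mul (nat_lit 6) (Nat.land i (nat_lit 511)))) (nat_lit 63))
 (fun _ _ => (fun i => Nat.land (Nat.shiftRight chQ8c43 (Nat.mul (nat_lit 6) (Nat.land i (nat_lit 511)))) (nat_lit 63))) (Nat.land h (nat_lit 512)) h)) (Nat.land h (nat_lit 0x400)) h)
 (fun _ _ => (fun h => @Nat.rec (fun _ => Nat → Nat)
 (fun h => @Nat.rec (fun _ => Nat → Nat)
 (fun i => Nat.land (Nat.shiftRight chQ8c44 (Nat.mul (nat_lit 6) (Nat.land i (nat_lit 511)))) (nat_lit 63))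
 (fun _ _ => (fun i => Nat.land (Nat.shiftRight chQ8c45 (Nat.mul (nat_lit 6) (Nat.land i (nat_lit 511)))) (nat_lit 63))) (Nat.land h (nat_lit 512)) h)
 (fun _ _ => (fun h => @Nat.rec (fun _ => Nat → Nat)
 (fun i => Nat.land (Nat.shiftRight chQ8c46 (Nat.mul (nat_lit 6) (Nat.land i (nat_lit 511)))) (nat_lit 63))
 (fun _ _ => (fun i => Nat.land (Nat.shiftRight chQ8c47 (Nat.mul (nat_lit 6) (Nat.land i (nat_lit 511)))) (nat_lit 63))) (Nat.land h (nat_lit 512)) h)) (Nat.land h (nat_lit 0x400)) h)) (Nat.land h (nat_lit 0x800)) h)) (Nat.land h (nat_lit 0x1000)) h)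
 (fun _ _ => (fun h => @Nat.rec (fun _ => Nat → Nat)
 (fun h => @Nat.rec (fun _ => Nat → Nat)
 (fun h => @Nat.rec (fun _ => Nat → Nat)
 (fun i => Nat.land (Nat.shiftRight chQ8c48 (Nat.mul (nat_lit 6) (Nat.land i (nat_lit 511)))) (nat_lit 63))
 (fun _ _ => (fun i => Nat.land (Nat.shiftRight chQ8c49 (Nat.mul (nat_lit 6) (Nat.land i (nat_lit 511)))) (nat_lit 63))) (Nat.land h (nat_lit 512)) h)
 (fun _ _ => (fun h => @Nat.rec (fun _ => Nat → Nat)
 (fun i => Nat.land (Nat.shiftRight chQ8c50 (Nat.mul (nat_lit 6) (Nat.land i (nat_lit 511)))) (nat_lit 63))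
 (fun _ _ => (fun i => Nat.land (Nat.shiftRight chQ8c51 (Nat.mul (nat_lit 6) (Nat.land i (nat_lit 511)))) (nat_lit 63))) (Nat.land h (nat_lit 512)) h)) (Nat.land h (nat_lit 0x400)) h)
 (fun _ _ => (fun h => @Nat.rec (fun _ => Nat → Nat)
 (fun h => @Nat.rec (fun _ => Nat → Nat)
 (fun i => Nat.land (Nat.shiftRight chQ8c52 (Nat.mul (nat_lit 6) (Nat.land i (nat_lit 511)))) (nat_lit 63))
 (fun _ _ => (fun i => Nat.land (Nat.shiftRight chQ8c53 (Nat.mul (nat_lit 6) (Nat.land i (nat_lit 511)))) (nat_lit 63))) (Nat.land h (nat_lit 512)) h)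
 (fun _ _ => (fun h => @Nat.rec (fun _ => Nat → Nat)
 (fun i => Nat.land (Nat.shiftRight chQ8c54 (Nat.mul (nat_lit 6) (Nat.land i (nat_lit 511)))) (nat_lit 63))
 (fun _ _ => (fun i => Nat.land (Nat.shiftRight chQ8c55 (Nat.mul (nat_lit 6) (Nat.land i (nat_lit 511)))) (nat_lit 63))) (Nat.land h (nat_lit 512)) h)) (Nat.land h (nat_lit 0x400)) h)) (Nat.land h (nat_lit 0x800)) h)) (Nat.land h (nat_lit 0x2000)) h)) (Nat.land h (nat_lit 0x4000)) h)
theorem ch_r8 : allR (ckReach chQ8 [[T0]] (nat_lit 45)) (nat_lit 0) (nat_lit 0x6f0f) = true := by decide +kernel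
theorem ch_c8 : cntT chQ8 (nat_lit 2) (nat_lit 0x6f0f) (nat_lit 0) = true := by decide +kernel
def chG0 : List (List Nat) := [[0], [1], [2], [3], [4], [5], [6], [7], [8], [9]]
def chG1 : List (List Nat) := [[0], [1], [2], [3], [4], [5], [6], [7], [8]]
def chG2 : List (List Nat) := [[0], [1], [2], [3], [4], [5], [6], [7]]
def chG3 : List (List Nat) := [[0], [1], [2], [3], [4], [6], [7]]
def chG4 : List (List Nat) := [[0], [1], [2], [3], [6]]
def chG5 : List (List Nat) := [[0], [1], [2], [3]]
def chG6 : List (List Nat) := [[0], [1], [2]]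
def chG7 : List (List Nat) := [[0], [1]]
def chG8 : List (List Nat) := [[0]]
def chG9 : List (List Nat) := []

theorem ch_lower {G : Type*} [Group G] [Finite G] (s : Nat → G) (ρ : G →* Equiv.Perm (Fin 28431))
    (hρ : ∀ l < 10, ρ (s l) = permL tok l) :
    28431 * (960 * (84 * (18 * (2 * (5 * (4 * (3 * (2 * (1))))))))) ≤ Nat.card (wordGroup s chG0) := by
  have h0 := card_step s tok ρ hρ chQ0 28431 chG0 chG1 (by decide) ⟨0, by decide⟩ ch_r0 ch_c0
    (by decide) (by decide +kernel) inferInstance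
  have h1 := card_step s tok ρ hρ chQ1 960 chG1 chG2 (by decide) ⟨1, by decide⟩ ch_r1 ch_c1
    (by decide) (by decide +kernel) inferInstance
  have h2 := card_step s tok ρ hρ chQ2 84 chG2 chG3 (by decide) ⟨2, by decide⟩ ch_r2 ch_c2
    (by decide) (by decide +kernel) inferInstance
  have h3 := card_step s tok ρ hρ chQ3 18 chG3 chG4 (by decide) ⟨9, by decide⟩ ch_r3 ch_c3
    (by decide) (by decide +kernel) inferInstance
  have h4 := card_step s tok ρ hρ chQ4 2 chG4 chG5 (by decide) ⟨3, by decide⟩ ch_r4 ch_c4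
    (by decide) (by decide +kernel) inferInstance
  have h5 := card_step s tok ρ hρ chQ5 5 chG5 chG6 (by decide) ⟨4, by decide⟩ ch_r5 ch_c5
    (by decide) (by decide +kernel) inferInstance
  have h6 := card_step s tok ρ hρ chQ6 4 chG6 chG7 (by decide) ⟨7, by decide⟩ ch_r6 ch_c6
    (by decide) (by decide +kernel) inferInstance
  have h7 := card_step s tok ρ hρ chQ7 3 chG7 chG8 (by decide) ⟨16, by decide⟩ ch_r7 ch_c7
    (by decide) (by decide +kernel) inferInstance
  have h8 := card_step s tok ρ hρ chQ8 2 chG8 chG9 (by decide) ⟨45, by decide⟩ ch_r8 ch_c8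
    (by decide) (by decide +kernel) inferInstance
  have e9 : 1 ≤ Nat.card (wordGroup s chG9) := Nat.card_pos
  have e8 := le_trans (Nat.mul_le_mul_left 2 e9) h8
  have e7 := le_trans (Nat.mul_le_mul_left 3 e8) h7
  have e6 := le_trans (Nat.mul_le_mul_left 4 e7) h6
  have e5 := le_trans (Nat.mul_le_mul_left 5 e6) h5
  have e4 := le_trans (Nat.mul_le_mul_left 2 e5) h4
  have e3 := le_trans (Nat.mul_le_mul_left 18 e4) h3
  have e2 := le_trans (Nat.mul_le_mul_left 84 e3) h2
  have e1 := le_trans (Nat.mul_le_mul_left 960 e2) h1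
  have e0 := le_trans (Nat.mul_le_mul_left 28431 e1) h0
  exact e0

end Cfsg.Agent.H8.Fi24at
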