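import Cfsg.Agent.H8.T.Fi24tTab
import Cfsg.Agent.H8.CosetComm

set_option Elab.async false
set_option autoImplicit false
set_option linter.all false
set_option maxRecDepth 100000

namespace Cfsg.Agent.H8.Fi24t
theorem rk0_0 : allR (fun i => powT [T2, T3] i (nat_lit 3) i) (nat_lit 0) (nat_lit 16384) = true := by decide +kernel
theorem rk0_1 : allR (fun i => powT [T2, T3] i (nat_lit 3) i) (nat_lit 16384) (nat_lit 16384) = true := by decide +kernel
theorem rk0_2 : allR (fun i => powT [T2, T3] i (nat_lit 3) i) (nat_lit 32768) (nat_lit 16384) = true := by decide +kernel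
theorem rk0_3 : allR (fun i => powT [T2, T3] i (nat_lit 3) i) (nat_lit 49152) (nat_lit 16384) = true := by decide +kernel
theorem rk0_4 : allR (fun i => powT [T2, T3] i (nat_lit 3) i) (nat_lit 65536) (nat_lit 16384) = true := by decide +kernel
theorem rk0_5 : allR (fun i => powT [T2, T3] i (nat_lit 3) i) (nat_lit 81920) (nat_lit 16384) = true := by decide +kernel
theorem rk0_6 : allR (fun i => powT [T2, T3] i (nat_lit 3) i) (nat_lit 98304) (nat_lit 16384) = true := by decide +kernel
theorem rk0_7 : allR (fun i => powT [T2, T3] i (nat_lit 3) i) (nat_lit 114688) (nat_lit 16384) = true := by decide +kernel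
theorem rk0_8 : allR (fun i => powT [T2, T3] i (nat_lit 3) i) (nat_lit 131072) (nat_lit 16384) = true := by decide +kernel
theorem rk0_9 : allR (fun i => powT [T2, T3] i (nat_lit 3) i) (nat_lit 147456) (nat_lit 16384) = true := by decide +kernel
theorem rk0_10 : allR (fun i => powT [T2, T3] i (nat_lit 3) i) (nat_lit 163840) (nat_lit 16384) = true := by decide +kernel
theorem rk0_11 : allR (fun i => powT [T2, T3] i (nat_lit 3) i) (nat_lit 180224) (nat_lit 16384) = true := by decide +kernel
theorem rk0_12 : allR (fun i => powT [T2, T3] i (nat_lit 3) i) (nat_lit 196608) (nat_lit 16384) = true := by decide +kernel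
theorem rk0_13 : allR (fun i => powT [T2, T3] i (nat_lit 3) i) (nat_lit 212992) (nat_lit 16384) = true := by decide +kernel
theorem rk0_14 : allR (fun i => powT [T2, T3] i (nat_lit 3) i) (nat_lit 229376) (nat_lit 16384) = true := by decide +kernel
theorem rk0_15 : allR (fun i => powT [T2, T3] i (nat_lit 3) i) (nat_lit 245760) (nat_lit 16384) = true := by decide +kernel
theorem rk0_16 : allR (fun i => powT [T2, T3] i (nat_lit 3) i) (nat_lit 262144) (nat_lit 16384) = true := by decide +kernel
theorem rk0_17 : allR (fun i => powT [T2, T3] i (nat_lit 3) i) (nat_lit 278528) (nat_lit 16384) = true := by decide +kernel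
theorem rk0_18 : allR (fun i => powT [T2, T3] i (nat_lit 3) i) (nat_lit 294912) (nat_lit 12024) = true := by decide +kernel
theorem rk1_0 : allR (ckComm T2 T4) (nat_lit 0) (nat_lit 16384) = true := by decide +kernel
theorem rk1_1 : allR (ckComm T2 T4) (nat_lit 16384) (nat_lit 16384) = true := by decide +kernel
theorem rk1_2 : allR (ckComm T2 T4) (nat_lit 32768) (nat_lit 16384) = true := by decide +kernel
theorem rk1_3 : allR (ckComm T2 T4) (nat_lit 49152) (nat_lit 16384) = true := by decide +kernel
theorem rk1_4 : allR (ckComm T2 T4) (nat_lit 65536) (nat_lit 16384) = true := by decide +kernel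
theorem rk1_5 : allR (ckComm T2 T4) (nat_lit 81920) (nat_lit 16384) = true := by decide +kernel
theorem rk1_6 : allR (ckComm T2 T4) (nat_lit 98304) (nat_lit 16384) = true := by decide +kernel
theorem rk1_7 : allR (ckComm T2 T4) (nat_lit 114688) (nat_lit 16384) = true := by decide +kernel
theorem rk1_8 : allR (ckComm T2 T4) (nat_lit 131072) (nat_lit 16384) = true := by decide +kernel
theorem rk1_9 : allR (ckComm T2 T4) (nat_lit 147456) (nat_lit 16384) = true := by decide +kernel
theorem rk1_10 : allR (ckComm T2 T4) (nat_lit 163840) (nat_lit 16384) = true := by decide +kernel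
theorem rk1_11 : allR (ckComm T2 T4) (nat_lit 180224) (nat_lit 16384) = true := by decide +kernel
theorem rk1_12 : allR (ckComm T2 T4) (nat_lit 196608) (nat_lit 16384) = true := by decide +kernel
theorem rk1_13 : allR (ckComm T2 T4) (nat_lit 212992) (nat_lit 16384) = true := by decide +kernel
theorem rk1_14 : allR (ckComm T2 T4) (nat_lit 229376) (nat_lit 16384) = true := by decide +kernel
theorem rk1_15 : allR (ckComm T2 T4) (nat_lit 245760) (nat_lit 16384) = true := by decide +kernel
theorem rk1_16 : allR (ckComm T2 T4) (nat_lit 262144) (nat_lit 16384) = true := by decide +kernel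
theorem rk1_17 : allR (ckComm T2 T4) (nat_lit 278528) (nat_lit 16384) = true := by decide +kernel
theorem rk1_18 : allR (ckComm T2 T4) (nat_lit 294912) (nat_lit 12024) = true := by decide +kernel
theorem rk2_0 : allR (ckComm T2 T5) (nat_lit 0) (nat_lit 16384) = true := by decide +kernel
theorem rk2_1 : allR (ckComm T2 T5) (nat_lit 16384) (nat_lit 16384) = true := by decide +kernel
theorem rk2_2 : allR (ckComm T2 T5) (nat_lit 32768) (nat_lit 16384) = true := by decide +kernel
theorem rk2_3 : allR (ckComm T2 T5) (nat_lit 49152) (nat_lit 16384) = true := by decide +kernel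
theorem rk2_4 : allR (ckComm T2 T5) (nat_lit 65536) (nat_lit 16384) = true := by decide +kernel
theorem rk2_5 : allR (ckComm T2 T5) (nat_lit 81920) (nat_lit 16384) = true := by decide +kernel
theorem rk2_6 : allR (ckComm T2 T5) (nat_lit 98304) (nat_lit 16384) = true := by decide +kernel
theorem rk2_7 : allR (ckComm T2 T5) (nat_lit 114688) (nat_lit 16384) = true := by decide +kernel
theorem rk2_8 : allR (ckComm T2 T5) (nat_lit 131072) (nat_lit 16384) = true := by decide +kernel
theorem rk2_9 : allR (ckComm T2 T5) (nat_lit 147456) (nat_lit 16384) = true := by decide +kernel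
theorem rk2_10 : allR (ckComm T2 T5) (nat_lit 163840) (nat_lit 16384) = true := by decide +kernel
theorem rk2_11 : allR (ckComm T2 T5) (nat_lit 180224) (nat_lit 16384) = true := by decide +kernel
theorem rk2_12 : allR (ckComm T2 T5) (nat_lit 196608) (nat_lit 16384) = true := by decide +kernel
theorem rk2_13 : allR (ckComm T2 T5) (nat_lit 212992) (nat_lit 16384) = true := by decide +kernel
theorem rk2_14 : allR (ckComm T2 T5) (nat_lit 229376) (nat_lit 16384) = true := by decide +kernel
theorem rk2_15 : allR (ckComm T2 T5) (nat_lit 245760) (nat_lit 16384) = true := by decide +kernel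
theorem rk2_16 : allR (ckComm T2 T5) (nat_lit 262144) (nat_lit 16384) = true := by decide +kernel
theorem rk2_17 : allR (ckComm T2 T5) (nat_lit 278528) (nat_lit 16384) = true := by decide +kernel
theorem rk2_18 : allR (ckComm T2 T5) (nat_lit 294912) (nat_lit 12024) = true := by decide +kernel
theorem rk3_0 : allR (ckComm T2 T6) (nat_lit 0) (nat_lit 16384) = true := by decide +kernel
theorem rk3_1 : allR (ckComm T2 T6) (nat_lit 16384) (nat_lit 16384) = true := by decide +kernel
theorem rk3_2 : allR (ckComm T2 T6) (nat_lit 32768) (nat_lit 16384) = true := by decide +kernel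
theorem rk3_3 : allR (ckComm T2 T6) (nat_lit 49152) (nat_lit 16384) = true := by decide +kernel
theorem rk3_4 : allR (ckComm T2 T6) (nat_lit 65536) (nat_lit 16384) = true := by decide +kernel
theorem rk3_5 : allR (ckComm T2 T6) (nat_lit 81920) (nat_lit 16384) = true := by decide +kernel
theorem rk3_6 : allR (ckComm T2 T6) (nat_lit 98304) (nat_lit 16384) = true := by decide +kernel
theorem rk3_7 : allR (ckComm T2 T6) (nat_lit 114688) (nat_lit 16384) = true := by decide +kernel
theorem rk3_8 : allR (ckComm T2 T6) (nat_lit 131072) (nat_lit 16384) = true := by decide +kernel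
theorem rk3_9 : allR (ckComm T2 T6) (nat_lit 147456) (nat_lit 16384) = true := by decide +kernel
theorem rk3_10 : allR (ckComm T2 T6) (nat_lit 163840) (nat_lit 16384) = true := by decide +kernel
theorem rk3_11 : allR (ckComm T2 T6) (nat_lit 180224) (nat_lit 16384) = true := by decide +kernel
theorem rk3_12 : allR (ckComm T2 T6) (nat_lit 196608) (nat_lit 16384) = true := by decide +kernel
theorem rk3_13 : allR (ckComm T2 T6) (nat_lit 212992) (nat_lit 16384) = true := by decide +kernel
theorem rk3_14 : allR (ckComm T2 T6) (nat_lit 229376) (nat_lit 16384) = true := by decide +kernel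
theorem rk3_15 : allR (ckComm T2 T6) (nat_lit 245760) (nat_lit 16384) = true := by decide +kernel
theorem rk3_16 : allR (ckComm T2 T6) (nat_lit 262144) (nat_lit 16384) = true := by decide +kernel
theorem rk3_17 : allR (ckComm T2 T6) (nat_lit 278528) (nat_lit 16384) = true := by decide +kernel
theorem rk3_18 : allR (ckComm T2 T6) (nat_lit 294912) (nat_lit 12024) = true := by decide +kernel
theorem rk4_0 : allR (ckComm T2 T7) (nat_lit 0) (nat_lit 16384) = true := by decide +kernel
theorem rk4_1 : allR (ckComm T2 T7) (nat_lit 16384) (nat_lit 16384) = true := by decide +kernel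
theorem rk4_2 : allR (ckComm T2 T7) (nat_lit 32768) (nat_lit 16384) = true := by decide +kernel
theorem rk4_3 : allR (ckComm T2 T7) (nat_lit 49152) (nat_lit 16384) = true := by decide +kernel
theorem rk4_4 : allR (ckComm T2 T7) (nat_lit 65536) (nat_lit 16384) = true := by decide +kernel
theorem rk4_5 : allR (ckComm T2 T7) (nat_lit 81920) (nat_lit 16384) = true := by decide +kernel
theorem rk4_6 : allR (ckComm T2 T7) (nat_lit 98304) (nat_lit 16384) = true := by decide +kernel
theorem rk4_7 : allR (ckComm T2 T7) (nat_lit 114688) (nat_lit 16384) = true := by decide +kernel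
theorem rk4_8 : allR (ckComm T2 T7) (nat_lit 131072) (nat_lit 16384) = true := by decide +kernel
theorem rk4_9 : allR (ckComm T2 T7) (nat_lit 147456) (nat_lit 16384) = true := by decide +kernel
theorem rk4_10 : allR (ckComm T2 T7) (nat_lit 163840) (nat_lit 16384) = true := by decide +kernel
theorem rk4_11 : allR (ckComm T2 T7) (nat_lit 180224) (nat_lit 16384) = true := by decide +kernel
theorem rk4_12 : allR (ckComm T2 T7) (nat_lit 196608) (nat_lit 16384) = true := by decide +kernel
theorem rk4_13 : allR (ckComm T2 T7) (nat_lit 212992) (nat_lit 16384) = true := by decide +kernel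
theorem rk4_14 : allR (ckComm T2 T7) (nat_lit 229376) (nat_lit 16384) = true := by decide +kernel
theorem rk4_15 : allR (ckComm T2 T7) (nat_lit 245760) (nat_lit 16384) = true := by decide +kernel
theorem rk4_16 : allR (ckComm T2 T7) (nat_lit 262144) (nat_lit 16384) = true := by decide +kernel
theorem rk4_17 : allR (ckComm T2 T7) (nat_lit 278528) (nat_lit 16384) = true := by decide +kernel
theorem rk4_18 : allR (ckComm T2 T7) (nat_lit 294912) (nat_lit 12024) = true := by decide +kernel
theorem rk5_0 : allR (ckComm T2 T8) (nat_lit 0) (nat_lit 16384) = true := by decide +kernel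
theorem rk5_1 : allR (ckComm T2 T8) (nat_lit 16384) (nat_lit 16384) = true := by decide +kernel

end Cfsg.Agent.H8.Fi24t
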