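import Cfsg.Agent.H8.T.Fi24tTab
import Cfsg.Agent.H8.CosetComm

set_option Elab.async false
set_option autoImplicit false
set_option linter.all false
set_option maxRecDepth 100000

namespace Cfsg.Agent.H8.Fi24t
theorem rk5_2 : allR (ckComm T2 T8) (nat_lit 32768) (nat_lit 16384) = true := by decide +kernel
theorem rk5_3 : allR (ckComm T2 T8) (nat_lit 49152) (nat_lit 16384) = true := by decide +kernel
theorem rk5_4 : allR (ckComm T2 T8) (nat_lit 65536) (nat_lit 16384) = true := by decide +kernel
theorem rk5_5 : allR (ckComm T2 T8) (nat_lit 81920) (nat_lit 16384) = true := by decide +kernel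
theorem rk5_6 : allR (ckComm T2 T8) (nat_lit 98304) (nat_lit 16384) = true := by decide +kernel
theorem rk5_7 : allR (ckComm T2 T8) (nat_lit 114688) (nat_lit 16384) = true := by decide +kernel
theorem rk5_8 : allR (ckComm T2 T8) (nat_lit 131072) (nat_lit 16384) = true := by decide +kernel
theorem rk5_9 : allR (ckComm T2 T8) (nat_lit 147456) (nat_lit 16384) = true := by decide +kernel
theorem rk5_10 : allR (ckComm T2 T8) (nat_lit 163840) (nat_lit 16384) = true := by decide +kernel
theorem rk5_11 : allR (ckComm T2 T8) (nat_lit 180224) (nat_lit 16384) = true := by decide +kernel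
theorem rk5_12 : allR (ckComm T2 T8) (nat_lit 196608) (nat_lit 16384) = true := by decide +kernel
theorem rk5_13 : allR (ckComm T2 T8) (nat_lit 212992) (nat_lit 16384) = true := by decide +kernel
theorem rk5_14 : allR (ckComm T2 T8) (nat_lit 229376) (nat_lit 16384) = true := by decide +kernel
theorem rk5_15 : allR (ckComm T2 T8) (nat_lit 245760) (nat_lit 16384) = true := by decide +kernel
theorem rk5_16 : allR (ckComm T2 T8) (nat_lit 262144) (nat_lit 16384) = true := by decide +kernel
theorem rk5_17 : allR (ckComm T2 T8) (nat_lit 278528) (nat_lit 16384) = true := by decide +kernel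
theorem rk5_18 : allR (ckComm T2 T8) (nat_lit 294912) (nat_lit 12024) = true := by decide +kernel
theorem rk6_0 : allR (ckComm T2 T10) (nat_lit 0) (nat_lit 16384) = true := by decide +kernel
theorem rk6_1 : allR (ckComm T2 T10) (nat_lit 16384) (nat_lit 16384) = true := by decide +kernel
theorem rk6_2 : allR (ckComm T2 T10) (nat_lit 32768) (nat_lit 16384) = true := by decide +kernel
theorem rk6_3 : allR (ckComm T2 T10) (nat_lit 49152) (nat_lit 16384) = true := by decide +kernel
theorem rk6_4 : allR (ckComm T2 T10) (nat_lit 65536) (nat_lit 16384) = true := by decide +kernel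
theorem rk6_5 : allR (ckComm T2 T10) (nat_lit 81920) (nat_lit 16384) = true := by decide +kernel
theorem rk6_6 : allR (ckComm T2 T10) (nat_lit 98304) (nat_lit 16384) = true := by decide +kernel
theorem rk6_7 : allR (ckComm T2 T10) (nat_lit 114688) (nat_lit 16384) = true := by decide +kernel
theorem rk6_8 : allR (ckComm T2 T10) (nat_lit 131072) (nat_lit 16384) = true := by decide +kernel
theorem rk6_9 : allR (ckComm T2 T10) (nat_lit 147456) (nat_lit 16384) = true := by decide +kernel
theorem rk6_10 : allR (ckComm T2 T10) (nat_lit 163840) (nat_lit 16384) = true := by decide +kernel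
theorem rk6_11 : allR (ckComm T2 T10) (nat_lit 180224) (nat_lit 16384) = true := by decide +kernel
theorem rk6_12 : allR (ckComm T2 T10) (nat_lit 196608) (nat_lit 16384) = true := by decide +kernel
theorem rk6_13 : allR (ckComm T2 T10) (nat_lit 212992) (nat_lit 16384) = true := by decide +kernel
theorem rk6_14 : allR (ckComm T2 T10) (nat_lit 229376) (nat_lit 16384) = true := by decide +kernel
theorem rk6_15 : allR (ckComm T2 T10) (nat_lit 245760) (nat_lit 16384) = true := by decide +kernel
theorem rk6_16 : allR (ckComm T2 T10) (nat_lit 262144) (nat_lit 16384) = true := by decide +kernel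
theorem rk6_17 : allR (ckComm T2 T10) (nat_lit 278528) (nat_lit 16384) = true := by decide +kernel
theorem rk6_18 : allR (ckComm T2 T10) (nat_lit 294912) (nat_lit 12024) = true := by decide +kernel
theorem rk7_0 : allR (ckComm T2 T11) (nat_lit 0) (nat_lit 16384) = true := by decide +kernel
theorem rk7_1 : allR (ckComm T2 T11) (nat_lit 16384) (nat_lit 16384) = true := by decide +kernel
theorem rk7_2 : allR (ckComm T2 T11) (nat_lit 32768) (nat_lit 16384) = true := by decide +kernel
theorem rk7_3 : allR (ckComm T2 T11) (nat_lit 49152) (nat_lit 16384) = true := by decide +kernel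
theorem rk7_4 : allR (ckComm T2 T11) (nat_lit 65536) (nat_lit 16384) = true := by decide +kernel
theorem rk7_5 : allR (ckComm T2 T11) (nat_lit 81920) (nat_lit 16384) = true := by decide +kernel
theorem rk7_6 : allR (ckComm T2 T11) (nat_lit 98304) (nat_lit 16384) = true := by decide +kernel
theorem rk7_7 : allR (ckComm T2 T11) (nat_lit 114688) (nat_lit 16384) = true := by decide +kernel
theorem rk7_8 : allR (ckComm T2 T11) (nat_lit 131072) (nat_lit 16384) = true := by decide +kernel
theorem rk7_9 : allR (ckComm T2 T11) (nat_lit 147456) (nat_lit 16384) = true := by decide +kernel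
theorem rk7_10 : allR (ckComm T2 T11) (nat_lit 163840) (nat_lit 16384) = true := by decide +kernel
theorem rk7_11 : allR (ckComm T2 T11) (nat_lit 180224) (nat_lit 16384) = true := by decide +kernel
theorem rk7_12 : allR (ckComm T2 T11) (nat_lit 196608) (nat_lit 16384) = true := by decide +kernel
theorem rk7_13 : allR (ckComm T2 T11) (nat_lit 212992) (nat_lit 16384) = true := by decide +kernel
theorem rk7_14 : allR (ckComm T2 T11) (nat_lit 229376) (nat_lit 16384) = true := by decide +kernel
theorem rk7_15 : allR (ckComm T2 T11) (nat_lit 245760) (nat_lit 16384) = true := by decide +kernel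
theorem rk7_16 : allR (ckComm T2 T11) (nat_lit 262144) (nat_lit 16384) = true := by decide +kernel
theorem rk7_17 : allR (ckComm T2 T11) (nat_lit 278528) (nat_lit 16384) = true := by decide +kernel
theorem rk7_18 : allR (ckComm T2 T11) (nat_lit 294912) (nat_lit 12024) = true := by decide +kernel
theorem rk8_0 : allR (ckComm T2 T9) (nat_lit 0) (nat_lit 16384) = true := by decide +kernel
theorem rk8_1 : allR (ckComm T2 T9) (nat_lit 16384) (nat_lit 16384) = true := by decide +kernel
theorem rk8_2 : allR (ckComm T2 T9) (nat_lit 32768) (nat_lit 16384) = true := by decide +kernel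
theorem rk8_3 : allR (ckComm T2 T9) (nat_lit 49152) (nat_lit 16384) = true := by decide +kernel
theorem rk8_4 : allR (ckComm T2 T9) (nat_lit 65536) (nat_lit 16384) = true := by decide +kernel
theorem rk8_5 : allR (ckComm T2 T9) (nat_lit 81920) (nat_lit 16384) = true := by decide +kernel
theorem rk8_6 : allR (ckComm T2 T9) (nat_lit 98304) (nat_lit 16384) = true := by decide +kernel
theorem rk8_7 : allR (ckComm T2 T9) (nat_lit 114688) (nat_lit 16384) = true := by decide +kernel
theorem rk8_8 : allR (ckComm T2 T9) (nat_lit 131072) (nat_lit 16384) = true := by decide +kernel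
theorem rk8_9 : allR (ckComm T2 T9) (nat_lit 147456) (nat_lit 16384) = true := by decide +kernel
theorem rk8_10 : allR (ckComm T2 T9) (nat_lit 163840) (nat_lit 16384) = true := by decide +kernel
theorem rk8_11 : allR (ckComm T2 T9) (nat_lit 180224) (nat_lit 16384) = true := by decide +kernel
theorem rk8_12 : allR (ckComm T2 T9) (nat_lit 196608) (nat_lit 16384) = true := by decide +kernel
theorem rk8_13 : allR (ckComm T2 T9) (nat_lit 212992) (nat_lit 16384) = true := by decide +kernel
theorem rk8_14 : allR (ckComm T2 T9) (nat_lit 229376) (nat_lit 16384) = true := by decide +kernel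
theorem rk8_15 : allR (ckComm T2 T9) (nat_lit 245760) (nat_lit 16384) = true := by decide +kernel
theorem rk8_16 : allR (ckComm T2 T9) (nat_lit 262144) (nat_lit 16384) = true := by decide +kernel
theorem rk8_17 : allR (ckComm T2 T9) (nat_lit 278528) (nat_lit 16384) = true := by decide +kernel
theorem rk8_18 : allR (ckComm T2 T9) (nat_lit 294912) (nat_lit 12024) = true := by decide +kernel
theorem rk9_0 : allR (fun i => powT [T2, T1] i (nat_lit 3) i) (nat_lit 0) (nat_lit 16384) = true := by decide +kernel
theorem rk9_1 : allR (fun i => powT [T2, T1] i (nat_lit 3) i) (nat_lit 16384) (nat_lit 16384) = true := by decide +kernel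
theorem rk9_2 : allR (fun i => powT [T2, T1] i (nat_lit 3) i) (nat_lit 32768) (nat_lit 16384) = true := by decide +kernel
theorem rk9_3 : allR (fun i => powT [T2, T1] i (nat_lit 3) i) (nat_lit 49152) (nat_lit 16384) = true := by decide +kernel
theorem rk9_4 : allR (fun i => powT [T2, T1] i (nat_lit 3) i) (nat_lit 65536) (nat_lit 16384) = true := by decide +kernel
theorem rk9_5 : allR (fun i => powT [T2, T1] i (nat_lit 3) i) (nat_lit 81920) (nat_lit 16384) = true := by decide +kernel
theorem rk9_6 : allR (fun i => powT [T2, T1] i (nat_lit 3) i) (nat_lit 98304) (nat_lit 16384) = true := by decide +kernel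
theorem rk9_7 : allR (fun i => powT [T2, T1] i (nat_lit 3) i) (nat_lit 114688) (nat_lit 16384) = true := by decide +kernel
theorem rk9_8 : allR (fun i => powT [T2, T1] i (nat_lit 3) i) (nat_lit 131072) (nat_lit 16384) = true := by decide +kernel
theorem rk9_9 : allR (fun i => powT [T2, T1] i (nat_lit 3) i) (nat_lit 147456) (nat_lit 16384) = true := by decide +kernel
theorem rk9_10 : allR (fun i => powT [T2, T1] i (nat_lit 3) i) (nat_lit 163840) (nat_lit 16384) = true := by decide +kernel
theorem rk9_11 : allR (fun i => powT [T2, T1] i (nat_lit 3) i) (nat_lit 180224) (nat_lit 16384) = true := by decide +kernel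
theorem rk9_12 : allR (fun i => powT [T2, T1] i (nat_lit 3) i) (nat_lit 196608) (nat_lit 16384) = true := by decide +kernel
theorem rk9_13 : allR (fun i => powT [T2, T1] i (nat_lit 3) i) (nat_lit 212992) (nat_lit 16384) = true := by decide +kernel
theorem rk9_14 : allR (fun i => powT [T2, T1] i (nat_lit 3) i) (nat_lit 229376) (nat_lit 16384) = true := by decide +kernel
theorem rk9_15 : allR (fun i => powT [T2, T1] i (nat_lit 3) i) (nat_lit 245760) (nat_lit 16384) = true := by decide +kernel
theorem rk9_16 : allR (fun i => powT [T2, T1] i (nat_lit 3) i) (nat_lit 262144) (nat_lit 16384) = true := by decide +kernel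
theorem rk9_17 : allR (fun i => powT [T2, T1] i (nat_lit 3) i) (nat_lit 278528) (nat_lit 16384) = true := by decide +kernel
theorem rk9_18 : allR (fun i => powT [T2, T1] i (nat_lit 3) i) (nat_lit 294912) (nat_lit 12024) = true := by decide +kernel
theorem rk10_0 : allR (ckComm T2 T0) (nat_lit 0) (nat_lit 16384) = true := by decide +kernel
theorem rk10_1 : allR (ckComm T2 T0) (nat_lit 16384) (nat_lit 16384) = true := by decide +kernel
theorem rk10_2 : allR (ckComm T2 T0) (nat_lit 32768) (nat_lit 16384) = true := by decide +kernel
theorem rk10_3 : allR (ckComm T2 T0) (nat_lit 49152) (nat_lit 16384) = true := by decide +kernel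

end Cfsg.Agent.H8.Fi24t
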