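import Cfsg.Agent.H8.T.Fi24tTab
import Cfsg.Agent.H8.CosetComm

set_option Elab.async false
set_option autoImplicit false
set_option linter.all false
set_option maxRecDepth 100000

namespace Cfsg.Agent.H8.Fi24t
theorem rk52_16 : allR (ckComm T8 T11) (nat_lit 262144) (nat_lit 16384) = true := by decide +kernel
theorem rk52_17 : allR (ckComm T8 T11) (nat_lit 278528) (nat_lit 16384) = true := by decide +kernel
theorem rk52_18 : allR (ckComm T8 T11) (nat_lit 294912) (nat_lit 12024) = true := by decide +kernel
theorem rk53_0 : allR (fun i => powT [T8, T9] i (nat_lit 3) i) (nat_lit 0) (nat_lit 16384) = true := by decide +kernel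
theorem rk53_1 : allR (fun i => powT [T8, T9] i (nat_lit 3) i) (nat_lit 16384) (nat_lit 16384) = true := by decide +kernel
theorem rk53_2 : allR (fun i => powT [T8, T9] i (nat_lit 3) i) (nat_lit 32768) (nat_lit 16384) = true := by decide +kernel
theorem rk53_3 : allR (fun i => powT [T8, T9] i (nat_lit 3) i) (nat_lit 49152) (nat_lit 16384) = true := by decide +kernel
theorem rk53_4 : allR (fun i => powT [T8, T9] i (nat_lit 3) i) (nat_lit 65536) (nat_lit 16384) = true := by decide +kernel
theorem rk53_5 : allR (fun i => powT [T8, T9] i (nat_lit 3) i) (nat_lit 81920) (nat_lit 16384) = true := by decide +kernel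
theorem rk53_6 : allR (fun i => powT [T8, T9] i (nat_lit 3) i) (nat_lit 98304) (nat_lit 16384) = true := by decide +kernel
theorem rk53_7 : allR (fun i => powT [T8, T9] i (nat_lit 3) i) (nat_lit 114688) (nat_lit 16384) = true := by decide +kernel
theorem rk53_8 : allR (fun i => powT [T8, T9] i (nat_lit 3) i) (nat_lit 131072) (nat_lit 16384) = true := by decide +kernel
theorem rk53_9 : allR (fun i => powT [T8, T9] i (nat_lit 3) i) (nat_lit 147456) (nat_lit 16384) = true := by decide +kernel
theorem rk53_10 : allR (fun i => powT [T8, T9] i (nat_lit 3) i) (nat_lit 163840) (nat_lit 16384) = true := by decide +kernel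
theorem rk53_11 : allR (fun i => powT [T8, T9] i (nat_lit 3) i) (nat_lit 180224) (nat_lit 16384) = true := by decide +kernel
theorem rk53_12 : allR (fun i => powT [T8, T9] i (nat_lit 3) i) (nat_lit 196608) (nat_lit 16384) = true := by decide +kernel
theorem rk53_13 : allR (fun i => powT [T8, T9] i (nat_lit 3) i) (nat_lit 212992) (nat_lit 16384) = true := by decide +kernel
theorem rk53_14 : allR (fun i => powT [T8, T9] i (nat_lit 3) i) (nat_lit 229376) (nat_lit 16384) = true := by decide +kernel
theorem rk53_15 : allR (fun i => powT [T8, T9] i (nat_lit 3) i) (nat_lit 245760) (nat_lit 16384) = true := by decide +kernel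
theorem rk53_16 : allR (fun i => powT [T8, T9] i (nat_lit 3) i) (nat_lit 262144) (nat_lit 16384) = true := by decide +kernel
theorem rk53_17 : allR (fun i => powT [T8, T9] i (nat_lit 3) i) (nat_lit 278528) (nat_lit 16384) = true := by decide +kernel
theorem rk53_18 : allR (fun i => powT [T8, T9] i (nat_lit 3) i) (nat_lit 294912) (nat_lit 12024) = true := by decide +kernel
theorem rk54_0 : allR (ckComm T8 T1) (nat_lit 0) (nat_lit 16384) = true := by decide +kernel
theorem rk54_1 : allR (ckComm T8 T1) (nat_lit 16384) (nat_lit 16384) = true := by decide +kernel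
theorem rk54_2 : allR (ckComm T8 T1) (nat_lit 32768) (nat_lit 16384) = true := by decide +kernel
theorem rk54_3 : allR (ckComm T8 T1) (nat_lit 49152) (nat_lit 16384) = true := by decide +kernel
theorem rk54_4 : allR (ckComm T8 T1) (nat_lit 65536) (nat_lit 16384) = true := by decide +kernel
theorem rk54_5 : allR (ckComm T8 T1) (nat_lit 81920) (nat_lit 16384) = true := by decide +kernel
theorem rk54_6 : allR (ckComm T8 T1) (nat_lit 98304) (nat_lit 16384) = true := by decide +kernel
theorem rk54_7 : allR (ckComm T8 T1) (nat_lit 114688) (nat_lit 16384) = true := by decide +kernel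
theorem rk54_8 : allR (ckComm T8 T1) (nat_lit 131072) (nat_lit 16384) = true := by decide +kernel
theorem rk54_9 : allR (ckComm T8 T1) (nat_lit 147456) (nat_lit 16384) = true := by decide +kernel
theorem rk54_10 : allR (ckComm T8 T1) (nat_lit 163840) (nat_lit 16384) = true := by decide +kernel
theorem rk54_11 : allR (ckComm T8 T1) (nat_lit 180224) (nat_lit 16384) = true := by decide +kernel
theorem rk54_12 : allR (ckComm T8 T1) (nat_lit 196608) (nat_lit 16384) = true := by decide +kernel
theorem rk54_13 : allR (ckComm T8 T1) (nat_lit 212992) (nat_lit 16384) = true := by decide +kernel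
theorem rk54_14 : allR (ckComm T8 T1) (nat_lit 229376) (nat_lit 16384) = true := by decide +kernel
theorem rk54_15 : allR (ckComm T8 T1) (nat_lit 245760) (nat_lit 16384) = true := by decide +kernel
theorem rk54_16 : allR (ckComm T8 T1) (nat_lit 262144) (nat_lit 16384) = true := by decide +kernel
theorem rk54_17 : allR (ckComm T8 T1) (nat_lit 278528) (nat_lit 16384) = true := by decide +kernel
theorem rk54_18 : allR (ckComm T8 T1) (nat_lit 294912) (nat_lit 12024) = true := by decide +kernel
theorem rk55_0 : allR (ckComm T8 T0) (nat_lit 0) (nat_lit 16384) = true := by decide +kernel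
theorem rk55_1 : allR (ckComm T8 T0) (nat_lit 16384) (nat_lit 16384) = true := by decide +kernel
theorem rk55_2 : allR (ckComm T8 T0) (nat_lit 32768) (nat_lit 16384) = true := by decide +kernel
theorem rk55_3 : allR (ckComm T8 T0) (nat_lit 49152) (nat_lit 16384) = true := by decide +kernel
theorem rk55_4 : allR (ckComm T8 T0) (nat_lit 65536) (nat_lit 16384) = true := by decide +kernel
theorem rk55_5 : allR (ckComm T8 T0) (nat_lit 81920) (nat_lit 16384) = true := by decide +kernel
theorem rk55_6 : allR (ckComm T8 T0) (nat_lit 98304) (nat_lit 16384) = true := by decide +kernel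
theorem rk55_7 : allR (ckComm T8 T0) (nat_lit 114688) (nat_lit 16384) = true := by decide +kernel
theorem rk55_8 : allR (ckComm T8 T0) (nat_lit 131072) (nat_lit 16384) = true := by decide +kernel
theorem rk55_9 : allR (ckComm T8 T0) (nat_lit 147456) (nat_lit 16384) = true := by decide +kernel
theorem rk55_10 : allR (ckComm T8 T0) (nat_lit 163840) (nat_lit 16384) = true := by decide +kernel
theorem rk55_11 : allR (ckComm T8 T0) (nat_lit 180224) (nat_lit 16384) = true := by decide +kernel
theorem rk55_12 : allR (ckComm T8 T0) (nat_lit 196608) (nat_lit 16384) = true := by decide +kernel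
theorem rk55_13 : allR (ckComm T8 T0) (nat_lit 212992) (nat_lit 16384) = true := by decide +kernel
theorem rk55_14 : allR (ckComm T8 T0) (nat_lit 229376) (nat_lit 16384) = true := by decide +kernel
theorem rk55_15 : allR (ckComm T8 T0) (nat_lit 245760) (nat_lit 16384) = true := by decide +kernel
theorem rk55_16 : allR (ckComm T8 T0) (nat_lit 262144) (nat_lit 16384) = true := by decide +kernel
theorem rk55_17 : allR (ckComm T8 T0) (nat_lit 278528) (nat_lit 16384) = true := by decide +kernel
theorem rk55_18 : allR (ckComm T8 T0) (nat_lit 294912) (nat_lit 12024) = true := by decide +kernel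
theorem rk56_0 : allR (fun i => powT [T10, T11] i (nat_lit 3) i) (nat_lit 0) (nat_lit 16384) = true := by decide +kernel
theorem rk56_1 : allR (fun i => powT [T10, T11] i (nat_lit 3) i) (nat_lit 16384) (nat_lit 16384) = true := by decide +kernel
theorem rk56_2 : allR (fun i => powT [T10, T11] i (nat_lit 3) i) (nat_lit 32768) (nat_lit 16384) = true := by decide +kernel
theorem rk56_3 : allR (fun i => powT [T10, T11] i (nat_lit 3) i) (nat_lit 49152) (nat_lit 16384) = true := by decide +kernel
theorem rk56_4 : allR (fun i => powT [T10, T11] i (nat_lit 3) i) (nat_lit 65536) (nat_lit 16384) = true := by decide +kernel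
theorem rk56_5 : allR (fun i => powT [T10, T11] i (nat_lit 3) i) (nat_lit 81920) (nat_lit 16384) = true := by decide +kernel
theorem rk56_6 : allR (fun i => powT [T10, T11] i (nat_lit 3) i) (nat_lit 98304) (nat_lit 16384) = true := by decide +kernel
theorem rk56_7 : allR (fun i => powT [T10, T11] i (nat_lit 3) i) (nat_lit 114688) (nat_lit 16384) = true := by decide +kernel
theorem rk56_8 : allR (fun i => powT [T10, T11] i (nat_lit 3) i) (nat_lit 131072) (nat_lit 16384) = true := by decide +kernel
theorem rk56_9 : allR (fun i => powT [T10, T11] i (nat_lit 3) i) (nat_lit 147456) (nat_lit 16384) = true := by decide +kernel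
theorem rk56_10 : allR (fun i => powT [T10, T11] i (nat_lit 3) i) (nat_lit 163840) (nat_lit 16384) = true := by decide +kernel
theorem rk56_11 : allR (fun i => powT [T10, T11] i (nat_lit 3) i) (nat_lit 180224) (nat_lit 16384) = true := by decide +kernel
theorem rk56_12 : allR (fun i => powT [T10, T11] i (nat_lit 3) i) (nat_lit 196608) (nat_lit 16384) = true := by decide +kernel
theorem rk56_13 : allR (fun i => powT [T10, T11] i (nat_lit 3) i) (nat_lit 212992) (nat_lit 16384) = true := by decide +kernel
theorem rk56_14 : allR (fun i => powT [T10, T11] i (nat_lit 3) i) (nat_lit 229376) (nat_lit 16384) = true := by decide +kernel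
theorem rk56_15 : allR (fun i => powT [T10, T11] i (nat_lit 3) i) (nat_lit 245760) (nat_lit 16384) = true := by decide +kernel
theorem rk56_16 : allR (fun i => powT [T10, T11] i (nat_lit 3) i) (nat_lit 262144) (nat_lit 16384) = true := by decide +kernel
theorem rk56_17 : allR (fun i => powT [T10, T11] i (nat_lit 3) i) (nat_lit 278528) (nat_lit 16384) = true := by decide +kernel
theorem rk56_18 : allR (fun i => powT [T10, T11] i (nat_lit 3) i) (nat_lit 294912) (nat_lit 12024) = true := by decide +kernel
theorem rk57_0 : allR (ckComm T10 T9) (nat_lit 0) (nat_lit 16384) = true := by decide +kernel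
theorem rk57_1 : allR (ckComm T10 T9) (nat_lit 16384) (nat_lit 16384) = true := by decide +kernel

end Cfsg.Agent.H8.Fi24t
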