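import Cfsg.Agent.H8.T.Fi24tTab
import Cfsg.Agent.H8.CosetComm

set_option Elab.async false
set_option autoImplicit false
set_option linter.all false
set_option maxRecDepth 100000

namespace Cfsg.Agent.H8.Fi24t
theorem rk57_2 : allR (ckComm T10 T9) (nat_lit 32768) (nat_lit 16384) = true := by decide +kernel
theorem rk57_3 : allR (ckComm T10 T9) (nat_lit 49152) (nat_lit 16384) = true := by decide +kernel
theorem rk57_4 : allR (ckComm T10 T9) (nat_lit 65536) (nat_lit 16384) = true := by decide +kernel
theorem rk57_5 : allR (ckComm T10 T9) (nat_lit 81920) (nat_lit 16384) = true := by decide +kernel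
theorem rk57_6 : allR (ckComm T10 T9) (nat_lit 98304) (nat_lit 16384) = true := by decide +kernel
theorem rk57_7 : allR (ckComm T10 T9) (nat_lit 114688) (nat_lit 16384) = true := by decide +kernel
theorem rk57_8 : allR (ckComm T10 T9) (nat_lit 131072) (nat_lit 16384) = true := by decide +kernel
theorem rk57_9 : allR (ckComm T10 T9) (nat_lit 147456) (nat_lit 16384) = true := by decide +kernel
theorem rk57_10 : allR (ckComm T10 T9) (nat_lit 163840) (nat_lit 16384) = true := by decide +kernel
theorem rk57_11 : allR (ckComm T10 T9) (nat_lit 180224) (nat_lit 16384) = true := by decide +kernel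
theorem rk57_12 : allR (ckComm T10 T9) (nat_lit 196608) (nat_lit 16384) = true := by decide +kernel
theorem rk57_13 : allR (ckComm T10 T9) (nat_lit 212992) (nat_lit 16384) = true := by decide +kernel
theorem rk57_14 : allR (ckComm T10 T9) (nat_lit 229376) (nat_lit 16384) = true := by decide +kernel
theorem rk57_15 : allR (ckComm T10 T9) (nat_lit 245760) (nat_lit 16384) = true := by decide +kernel
theorem rk57_16 : allR (ckComm T10 T9) (nat_lit 262144) (nat_lit 16384) = true := by decide +kernel
theorem rk57_17 : allR (ckComm T10 T9) (nat_lit 278528) (nat_lit 16384) = true := by decide +kernel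
theorem rk57_18 : allR (ckComm T10 T9) (nat_lit 294912) (nat_lit 12024) = true := by decide +kernel
theorem rk58_0 : allR (ckComm T10 T1) (nat_lit 0) (nat_lit 16384) = true := by decide +kernel
theorem rk58_1 : allR (ckComm T10 T1) (nat_lit 16384) (nat_lit 16384) = true := by decide +kernel
theorem rk58_2 : allR (ckComm T10 T1) (nat_lit 32768) (nat_lit 16384) = true := by decide +kernel
theorem rk58_3 : allR (ckComm T10 T1) (nat_lit 49152) (nat_lit 16384) = true := by decide +kernel
theorem rk58_4 : allR (ckComm T10 T1) (nat_lit 65536) (nat_lit 16384) = true := by decide +kernel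
theorem rk58_5 : allR (ckComm T10 T1) (nat_lit 81920) (nat_lit 16384) = true := by decide +kernel
theorem rk58_6 : allR (ckComm T10 T1) (nat_lit 98304) (nat_lit 16384) = true := by decide +kernel
theorem rk58_7 : allR (ckComm T10 T1) (nat_lit 114688) (nat_lit 16384) = true := by decide +kernel
theorem rk58_8 : allR (ckComm T10 T1) (nat_lit 131072) (nat_lit 16384) = true := by decide +kernel
theorem rk58_9 : allR (ckComm T10 T1) (nat_lit 147456) (nat_lit 16384) = true := by decide +kernel
theorem rk58_10 : allR (ckComm T10 T1) (nat_lit 163840) (nat_lit 16384) = true := by decide +kernel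
theorem rk58_11 : allR (ckComm T10 T1) (nat_lit 180224) (nat_lit 16384) = true := by decide +kernel
theorem rk58_12 : allR (ckComm T10 T1) (nat_lit 196608) (nat_lit 16384) = true := by decide +kernel
theorem rk58_13 : allR (ckComm T10 T1) (nat_lit 212992) (nat_lit 16384) = true := by decide +kernel
theorem rk58_14 : allR (ckComm T10 T1) (nat_lit 229376) (nat_lit 16384) = true := by decide +kernel
theorem rk58_15 : allR (ckComm T10 T1) (nat_lit 245760) (nat_lit 16384) = true := by decide +kernel
theorem rk58_16 : allR (ckComm T10 T1) (nat_lit 262144) (nat_lit 16384) = true := by decide +kernel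
theorem rk58_17 : allR (ckComm T10 T1) (nat_lit 278528) (nat_lit 16384) = true := by decide +kernel
theorem rk58_18 : allR (ckComm T10 T1) (nat_lit 294912) (nat_lit 12024) = true := by decide +kernel
theorem rk59_0 : allR (ckComm T10 T0) (nat_lit 0) (nat_lit 16384) = true := by decide +kernel
theorem rk59_1 : allR (ckComm T10 T0) (nat_lit 16384) (nat_lit 16384) = true := by decide +kernel
theorem rk59_2 : allR (ckComm T10 T0) (nat_lit 32768) (nat_lit 16384) = true := by decide +kernel
theorem rk59_3 : allR (ckComm T10 T0) (nat_lit 49152) (nat_lit 16384) = true := by decide +kernel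
theorem rk59_4 : allR (ckComm T10 T0) (nat_lit 65536) (nat_lit 16384) = true := by decide +kernel
theorem rk59_5 : allR (ckComm T10 T0) (nat_lit 81920) (nat_lit 16384) = true := by decide +kernel
theorem rk59_6 : allR (ckComm T10 T0) (nat_lit 98304) (nat_lit 16384) = true := by decide +kernel
theorem rk59_7 : allR (ckComm T10 T0) (nat_lit 114688) (nat_lit 16384) = true := by decide +kernel
theorem rk59_8 : allR (ckComm T10 T0) (nat_lit 131072) (nat_lit 16384) = true := by decide +kernel
theorem rk59_9 : allR (ckComm T10 T0) (nat_lit 147456) (nat_lit 16384) = true := by decide +kernel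
theorem rk59_10 : allR (ckComm T10 T0) (nat_lit 163840) (nat_lit 16384) = true := by decide +kernel
theorem rk59_11 : allR (ckComm T10 T0) (nat_lit 180224) (nat_lit 16384) = true := by decide +kernel
theorem rk59_12 : allR (ckComm T10 T0) (nat_lit 196608) (nat_lit 16384) = true := by decide +kernel
theorem rk59_13 : allR (ckComm T10 T0) (nat_lit 212992) (nat_lit 16384) = true := by decide +kernel
theorem rk59_14 : allR (ckComm T10 T0) (nat_lit 229376) (nat_lit 16384) = true := by decide +kernel
theorem rk59_15 : allR (ckComm T10 T0) (nat_lit 245760) (nat_lit 16384) = true := by decide +kernel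
theorem rk59_16 : allR (ckComm T10 T0) (nat_lit 262144) (nat_lit 16384) = true := by decide +kernel
theorem rk59_17 : allR (ckComm T10 T0) (nat_lit 278528) (nat_lit 16384) = true := by decide +kernel
theorem rk59_18 : allR (ckComm T10 T0) (nat_lit 294912) (nat_lit 12024) = true := by decide +kernel
theorem rk60_0 : allR (ckComm T11 T9) (nat_lit 0) (nat_lit 16384) = true := by decide +kernel
theorem rk60_1 : allR (ckComm T11 T9) (nat_lit 16384) (nat_lit 16384) = true := by decide +kernel
theorem rk60_2 : allR (ckComm T11 T9) (nat_lit 32768) (nat_lit 16384) = true := by decide +kernel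
theorem rk60_3 : allR (ckComm T11 T9) (nat_lit 49152) (nat_lit 16384) = true := by decide +kernel
theorem rk60_4 : allR (ckComm T11 T9) (nat_lit 65536) (nat_lit 16384) = true := by decide +kernel
theorem rk60_5 : allR (ckComm T11 T9) (nat_lit 81920) (nat_lit 16384) = true := by decide +kernel
theorem rk60_6 : allR (ckComm T11 T9) (nat_lit 98304) (nat_lit 16384) = true := by decide +kernel
theorem rk60_7 : allR (ckComm T11 T9) (nat_lit 114688) (nat_lit 16384) = true := by decide +kernel
theorem rk60_8 : allR (ckComm T11 T9) (nat_lit 131072) (nat_lit 16384) = true := by decide +kernel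
theorem rk60_9 : allR (ckComm T11 T9) (nat_lit 147456) (nat_lit 16384) = true := by decide +kernel
theorem rk60_10 : allR (ckComm T11 T9) (nat_lit 163840) (nat_lit 16384) = true := by decide +kernel
theorem rk60_11 : allR (ckComm T11 T9) (nat_lit 180224) (nat_lit 16384) = true := by decide +kernel
theorem rk60_12 : allR (ckComm T11 T9) (nat_lit 196608) (nat_lit 16384) = true := by decide +kernel
theorem rk60_13 : allR (ckComm T11 T9) (nat_lit 212992) (nat_lit 16384) = true := by decide +kernel
theorem rk60_14 : allR (ckComm T11 T9) (nat_lit 229376) (nat_lit 16384) = true := by decide +kernel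
theorem rk60_15 : allR (ckComm T11 T9) (nat_lit 245760) (nat_lit 16384) = true := by decide +kernel
theorem rk60_16 : allR (ckComm T11 T9) (nat_lit 262144) (nat_lit 16384) = true := by decide +kernel
theorem rk60_17 : allR (ckComm T11 T9) (nat_lit 278528) (nat_lit 16384) = true := by decide +kernel
theorem rk60_18 : allR (ckComm T11 T9) (nat_lit 294912) (nat_lit 12024) = true := by decide +kernel
theorem rk61_0 : allR (ckComm T11 T1) (nat_lit 0) (nat_lit 16384) = true := by decide +kernel
theorem rk61_1 : allR (ckComm T11 T1) (nat_lit 16384) (nat_lit 16384) = true := by decide +kernel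
theorem rk61_2 : allR (ckComm T11 T1) (nat_lit 32768) (nat_lit 16384) = true := by decide +kernel
theorem rk61_3 : allR (ckComm T11 T1) (nat_lit 49152) (nat_lit 16384) = true := by decide +kernel
theorem rk61_4 : allR (ckComm T11 T1) (nat_lit 65536) (nat_lit 16384) = true := by decide +kernel
theorem rk61_5 : allR (ckComm T11 T1) (nat_lit 81920) (nat_lit 16384) = true := by decide +kernel
theorem rk61_6 : allR (ckComm T11 T1) (nat_lit 98304) (nat_lit 16384) = true := by decide +kernel
theorem rk61_7 : allR (ckComm T11 T1) (nat_lit 114688) (nat_lit 16384) = true := by decide +kernel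
theorem rk61_8 : allR (ckComm T11 T1) (nat_lit 131072) (nat_lit 16384) = true := by decide +kernel
theorem rk61_9 : allR (ckComm T11 T1) (nat_lit 147456) (nat_lit 16384) = true := by decide +kernel
theorem rk61_10 : allR (ckComm T11 T1) (nat_lit 163840) (nat_lit 16384) = true := by decide +kernel
theorem rk61_11 : allR (ckComm T11 T1) (nat_lit 180224) (nat_lit 16384) = true := by decide +kernel
theorem rk61_12 : allR (ckComm T11 T1) (nat_lit 196608) (nat_lit 16384) = true := by decide +kernel
theorem rk61_13 : allR (ckComm T11 T1) (nat_lit 212992) (nat_lit 16384) = true := by decide +kernel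
theorem rk61_14 : allR (ckComm T11 T1) (nat_lit 229376) (nat_lit 16384) = true := by decide +kernel
theorem rk61_15 : allR (ckComm T11 T1) (nat_lit 245760) (nat_lit 16384) = true := by decide +kernel
theorem rk61_16 : allR (ckComm T11 T1) (nat_lit 262144) (nat_lit 16384) = true := by decide +kernel
theorem rk61_17 : allR (ckComm T11 T1) (nat_lit 278528) (nat_lit 16384) = true := by decide +kernel
theorem rk61_18 : allR (ckComm T11 T1) (nat_lit 294912) (nat_lit 12024) = true := by decide +kernel
theorem rk62_0 : allR (ckComm T11 T0) (nat_lit 0) (nat_lit 16384) = true := by decide +kernel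
theorem rk62_1 : allR (ckComm T11 T0) (nat_lit 16384) (nat_lit 16384) = true := by decide +kernel
theorem rk62_2 : allR (ckComm T11 T0) (nat_lit 32768) (nat_lit 16384) = true := by decide +kernel
theorem rk62_3 : allR (ckComm T11 T0) (nat_lit 49152) (nat_lit 16384) = true := by decide +kernel
theorem rk62_4 : allR (ckComm T11 T0) (nat_lit 65536) (nat_lit 16384) = true := by decide +kernel
theorem rk62_5 : allR (ckComm T11 T0) (nat_lit 81920) (nat_lit 16384) = true := by decide +kernel
theorem rk62_6 : allR (ckComm T11 T0) (nat_lit 98304) (nat_lit 16384) = true := by decide +kernel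
theorem rk62_7 : allR (ckComm T11 T0) (nat_lit 114688) (nat_lit 16384) = true := by decide +kernel
theorem rk62_8 : allR (ckComm T11 T0) (nat_lit 131072) (nat_lit 16384) = true := by decide +kernel
theorem rk62_9 : allR (ckComm T11 T0) (nat_lit 147456) (nat_lit 16384) = true := by decide +kernel
theorem rk62_10 : allR (ckComm T11 T0) (nat_lit 163840) (nat_lit 16384) = true := by decide +kernel
theorem rk62_11 : allR (ckComm T11 T0) (nat_lit 180224) (nat_lit 16384) = true := by decide +kernel
theorem rk62_12 : allR (ckComm T11 T0) (nat_lit 196608) (nat_lit 16384) = true := by decide +kernel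
theorem rk62_13 : allR (ckComm T11 T0) (nat_lit 212992) (nat_lit 16384) = true := by decide +kernel
theorem rk62_14 : allR (ckComm T11 T0) (nat_lit 229376) (nat_lit 16384) = true := by decide +kernel
theorem rk62_15 : allR (ckComm T11 T0) (nat_lit 245760) (nat_lit 16384) = true := by decide +kernel
theorem rk62_16 : allR (ckComm T11 T0) (nat_lit 262144) (nat_lit 16384) = true := by decide +kernel
theorem rk62_17 : allR (ckComm T11 T0) (nat_lit 278528) (nat_lit 16384) = true := by decide +kernel
theorem rk62_18 : allR (ckComm T11 T0) (nat_lit 294912) (nat_lit 12024) = true := by decide +kernel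
theorem rk63_0 : allR (ckComm T9 T1) (nat_lit 0) (nat_lit 16384) = true := by decide +kernel
theorem rk63_1 : allR (ckComm T9 T1) (nat_lit 16384) (nat_lit 16384) = true := by decide +kernel

end Cfsg.Agent.H8.Fi24t
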