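import Cfsg.Agent.H8.T.Fi24tTab
import Cfsg.Agent.H8.CosetComm

set_option Elab.async false
set_option autoImplicit false
set_option linter.all false
set_option maxRecDepth 100000

namespace Cfsg.Agent.H8.Fi24t
theorem rk63_2 : allR (ckComm T9 T1) (nat_lit 32768) (nat_lit 16384) = true := by decide +kernel
theorem rk63_3 : allR (ckComm T9 T1) (nat_lit 49152) (nat_lit 16384) = true := by decide +kernel
theorem rk63_4 : allR (ckComm T9 T1) (nat_lit 65536) (nat_lit 16384) = true := by decide +kernel
theorem rk63_5 : allR (ckComm T9 T1) (nat_lit 81920) (nat_lit 16384) = true := by decide +kernel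
theorem rk63_6 : allR (ckComm T9 T1) (nat_lit 98304) (nat_lit 16384) = true := by decide +kernel
theorem rk63_7 : allR (ckComm T9 T1) (nat_lit 114688) (nat_lit 16384) = true := by decide +kernel
theorem rk63_8 : allR (ckComm T9 T1) (nat_lit 131072) (nat_lit 16384) = true := by decide +kernel
theorem rk63_9 : allR (ckComm T9 T1) (nat_lit 147456) (nat_lit 16384) = true := by decide +kernel
theorem rk63_10 : allR (ckComm T9 T1) (nat_lit 163840) (nat_lit 16384) = true := by decide +kernel
theorem rk63_11 : allR (ckComm T9 T1) (nat_lit 180224) (nat_lit 16384) = true := by decide +kernel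
theorem rk63_12 : allR (ckComm T9 T1) (nat_lit 196608) (nat_lit 16384) = true := by decide +kernel
theorem rk63_13 : allR (ckComm T9 T1) (nat_lit 212992) (nat_lit 16384) = true := by decide +kernel
theorem rk63_14 : allR (ckComm T9 T1) (nat_lit 229376) (nat_lit 16384) = true := by decide +kernel
theorem rk63_15 : allR (ckComm T9 T1) (nat_lit 245760) (nat_lit 16384) = true := by decide +kernel
theorem rk63_16 : allR (ckComm T9 T1) (nat_lit 262144) (nat_lit 16384) = true := by decide +kernel
theorem rk63_17 : allR (ckComm T9 T1) (nat_lit 278528) (nat_lit 16384) = true := by decide +kernel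
theorem rk63_18 : allR (ckComm T9 T1) (nat_lit 294912) (nat_lit 12024) = true := by decide +kernel
theorem rk64_0 : allR (ckComm T9 T0) (nat_lit 0) (nat_lit 16384) = true := by decide +kernel
theorem rk64_1 : allR (ckComm T9 T0) (nat_lit 16384) (nat_lit 16384) = true := by decide +kernel
theorem rk64_2 : allR (ckComm T9 T0) (nat_lit 32768) (nat_lit 16384) = true := by decide +kernel
theorem rk64_3 : allR (ckComm T9 T0) (nat_lit 49152) (nat_lit 16384) = true := by decide +kernel
theorem rk64_4 : allR (ckComm T9 T0) (nat_lit 65536) (nat_lit 16384) = true := by decide +kernel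
theorem rk64_5 : allR (ckComm T9 T0) (nat_lit 81920) (nat_lit 16384) = true := by decide +kernel
theorem rk64_6 : allR (ckComm T9 T0) (nat_lit 98304) (nat_lit 16384) = true := by decide +kernel
theorem rk64_7 : allR (ckComm T9 T0) (nat_lit 114688) (nat_lit 16384) = true := by decide +kernel
theorem rk64_8 : allR (ckComm T9 T0) (nat_lit 131072) (nat_lit 16384) = true := by decide +kernel
theorem rk64_9 : allR (ckComm T9 T0) (nat_lit 147456) (nat_lit 16384) = true := by decide +kernel
theorem rk64_10 : allR (ckComm T9 T0) (nat_lit 163840) (nat_lit 16384) = true := by decide +kernel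
theorem rk64_11 : allR (ckComm T9 T0) (nat_lit 180224) (nat_lit 16384) = true := by decide +kernel
theorem rk64_12 : allR (ckComm T9 T0) (nat_lit 196608) (nat_lit 16384) = true := by decide +kernel
theorem rk64_13 : allR (ckComm T9 T0) (nat_lit 212992) (nat_lit 16384) = true := by decide +kernel
theorem rk64_14 : allR (ckComm T9 T0) (nat_lit 229376) (nat_lit 16384) = true := by decide +kernel
theorem rk64_15 : allR (ckComm T9 T0) (nat_lit 245760) (nat_lit 16384) = true := by decide +kernel
theorem rk64_16 : allR (ckComm T9 T0) (nat_lit 262144) (nat_lit 16384) = true := by decide +kernel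
theorem rk64_17 : allR (ckComm T9 T0) (nat_lit 278528) (nat_lit 16384) = true := by decide +kernel
theorem rk64_18 : allR (ckComm T9 T0) (nat_lit 294912) (nat_lit 12024) = true := by decide +kernel
theorem rk65_0 : allR (fun i => powT [T1, T0] i (nat_lit 3) i) (nat_lit 0) (nat_lit 16384) = true := by decide +kernel
theorem rk65_1 : allR (fun i => powT [T1, T0] i (nat_lit 3) i) (nat_lit 16384) (nat_lit 16384) = true := by decide +kernel
theorem rk65_2 : allR (fun i => powT [T1, T0] i (nat_lit 3) i) (nat_lit 32768) (nat_lit 16384) = true := by decide +kernel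
theorem rk65_3 : allR (fun i => powT [T1, T0] i (nat_lit 3) i) (nat_lit 49152) (nat_lit 16384) = true := by decide +kernel
theorem rk65_4 : allR (fun i => powT [T1, T0] i (nat_lit 3) i) (nat_lit 65536) (nat_lit 16384) = true := by decide +kernel
theorem rk65_5 : allR (fun i => powT [T1, T0] i (nat_lit 3) i) (nat_lit 81920) (nat_lit 16384) = true := by decide +kernel
theorem rk65_6 : allR (fun i => powT [T1, T0] i (nat_lit 3) i) (nat_lit 98304) (nat_lit 16384) = true := by decide +kernel
theorem rk65_7 : allR (fun i => powT [T1, T0] i (nat_lit 3) i) (nat_lit 114688) (nat_lit 16384) = true := by decide +kernel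
theorem rk65_8 : allR (fun i => powT [T1, T0] i (nat_lit 3) i) (nat_lit 131072) (nat_lit 16384) = true := by decide +kernel
theorem rk65_9 : allR (fun i => powT [T1, T0] i (nat_lit 3) i) (nat_lit 147456) (nat_lit 16384) = true := by decide +kernel
theorem rk65_10 : allR (fun i => powT [T1, T0] i (nat_lit 3) i) (nat_lit 163840) (nat_lit 16384) = true := by decide +kernel
theorem rk65_11 : allR (fun i => powT [T1, T0] i (nat_lit 3) i) (nat_lit 180224) (nat_lit 16384) = true := by decide +kernel
theorem rk65_12 : allR (fun i => powT [T1, T0] i (nat_lit 3) i) (nat_lit 196608) (nat_lit 16384) = true := by decide +kernel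
theorem rk65_13 : allR (fun i => powT [T1, T0] i (nat_lit 3) i) (nat_lit 212992) (nat_lit 16384) = true := by decide +kernel
theorem rk65_14 : allR (fun i => powT [T1, T0] i (nat_lit 3) i) (nat_lit 229376) (nat_lit 16384) = true := by decide +kernel
theorem rk65_15 : allR (fun i => powT [T1, T0] i (nat_lit 3) i) (nat_lit 245760) (nat_lit 16384) = true := by decide +kernel
theorem rk65_16 : allR (fun i => powT [T1, T0] i (nat_lit 3) i) (nat_lit 262144) (nat_lit 16384) = true := by decide +kernel
theorem rk65_17 : allR (fun i => powT [T1, T0] i (nat_lit 3) i) (nat_lit 278528) (nat_lit 16384) = true := by decide +kernel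
theorem rk65_18 : allR (fun i => powT [T1, T0] i (nat_lit 3) i) (nat_lit 294912) (nat_lit 12024) = true := by decide +kernel

end Cfsg.Agent.H8.Fi24t
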