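import Cfsg.Agent.H8.T.Fi24tTab
import Cfsg.Agent.H8.T.Fi24tW

set_option Elab.async false
set_option autoImplicit false
set_option linter.all false
set_option maxRecDepth 100000

namespace Cfsg.Agent.H8.Fi24t
theorem we_0 : allR (OT.ckEqW [T5, T4, T3, T2, T1, T0, T5, T6, T7, T8, T9, T5, T10, T11] [W67]) (nat_lit 0) (nat_lit 8192) = true := by decide +kernel
theorem we_3 : allR (OT.ckEqW [T5, T4, T3, T2, T1, T0, T5, T6, T7, T8, T9, T5, T10, T11] [W67]) (nat_lit 24576) (nat_lit 8192) = true := by decide +kernel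
theorem we_6 : allR (OT.ckEqW [T5, T4, T3, T2, T1, T0, T5, T6, T7, T8, T9, T5, T10, T11] [W67]) (nat_lit 49152) (nat_lit 8192) = true := by decide +kernel
theorem we_9 : allR (OT.ckEqW [T5, T4, T3, T2, T1, T0, T5, T6, T7, T8, T9, T5, T10, T11] [W67]) (nat_lit 73728) (nat_lit 8192) = true := by decide +kernel
theorem we_12 : allR (OT.ckEqW [T5, T4, T3, T2, T1, T0, T5, T6, T7, T8, T9, T5, T10, T11] [W67]) (nat_lit 98304) (nat_lit 8192) = true := by decide +kernel
theorem we_15 : allR (OT.ckEqW [T5, T4, T3, T2, T1, T0, T5, T6, T7, T8, T9, T5, T10, T11] [W67]) (nat_lit 122880) (nat_lit 8192) = true := by decide +kernel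
theorem we_18 : allR (OT.ckEqW [T5, T4, T3, T2, T1, T0, T5, T6, T7, T8, T9, T5, T10, T11] [W67]) (nat_lit 147456) (nat_lit 8192) = true := by decide +kernel
theorem we_21 : allR (OT.ckEqW [T5, T4, T3, T2, T1, T0, T5, T6, T7, T8, T9, T5, T10, T11] [W67]) (nat_lit 172032) (nat_lit 8192) = true := by decide +kernel
theorem we_24 : allR (OT.ckEqW [T5, T4, T3, T2, T1, T0, T5, T6, T7, T8, T9, T5, T10, T11] [W67]) (nat_lit 196608) (nat_lit 8192) = true := by decide +kernel
theorem we_27 : allR (OT.ckEqW [T5, T4, T3, T2, T1, T0, T5, T6, T7, T8, T9, T5, T10, T11] [W67]) (nat_lit 221184) (nat_lit 8192) = true := by decide +kernel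
theorem we_30 : allR (OT.ckEqW [T5, T4, T3, T2, T1, T0, T5, T6, T7, T8, T9, T5, T10, T11] [W67]) (nat_lit 245760) (nat_lit 8192) = true := by decide +kernel
theorem we_33 : allR (OT.ckEqW [T5, T4, T3, T2, T1, T0, T5, T6, T7, T8, T9, T5, T10, T11] [W67]) (nat_lit 270336) (nat_lit 8192) = true := by decide +kernel
theorem we_36 : allR (OT.ckEqW [T5, T4, T3, T2, T1, T0, T5, T6, T7, T8, T9, T5, T10, T11] [W67]) (nat_lit 294912) (nat_lit 8192) = true := by decide +kernel
theorem wp_1 : allR (fun i => powT [W67] i (nat_lit 17) i) (nat_lit 8192) (nat_lit 8192) = true := by decide +kernel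
theorem wp_4 : allR (fun i => powT [W67] i (nat_lit 17) i) (nat_lit 32768) (nat_lit 8192) = true := by decide +kernel
theorem wp_7 : allR (fun i => powT [W67] i (nat_lit 17) i) (nat_lit 57344) (nat_lit 8192) = true := by decide +kernel
theorem wp_10 : allR (fun i => powT [W67] i (nat_lit 17) i) (nat_lit 81920) (nat_lit 8192) = true := by decide +kernel
theorem wp_13 : allR (fun i => powT [W67] i (nat_lit 17) i) (nat_lit 106496) (nat_lit 8192) = true := by decide +kernel
theorem wp_16 : allR (fun i => powT [W67] i (nat_lit 17) i) (nat_lit 131072) (nat_lit 8192) = true := by decide +kernel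
theorem wp_19 : allR (fun i => powT [W67] i (nat_lit 17) i) (nat_lit 155648) (nat_lit 8192) = true := by decide +kernel
theorem wp_22 : allR (fun i => powT [W67] i (nat_lit 17) i) (nat_lit 180224) (nat_lit 8192) = true := by decide +kernel
theorem wp_25 : allR (fun i => powT [W67] i (nat_lit 17) i) (nat_lit 204800) (nat_lit 8192) = true := by decide +kernel
theorem wp_28 : allR (fun i => powT [W67] i (nat_lit 17) i) (nat_lit 229376) (nat_lit 8192) = true := by decide +kernel
theorem wp_31 : allR (fun i => powT [W67] i (nat_lit 17) i) (nat_lit 253952) (nat_lit 8192) = true := by decide +kernel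
theorem wp_34 : allR (fun i => powT [W67] i (nat_lit 17) i) (nat_lit 278528) (nat_lit 8192) = true := by decide +kernel
theorem wp_37 : allR (fun i => powT [W67] i (nat_lit 17) i) (nat_lit 303104) (nat_lit 3832) = true := by decide +kernel

end Cfsg.Agent.H8.Fi24t
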