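import Cfsg.Agent.H8.T.Fi24tTab
import Cfsg.Agent.H8.T.Fi24tW

set_option Elab.async false
set_option autoImplicit false
set_option linter.all false
set_option maxRecDepth 100000

namespace Cfsg.Agent.H8.Fi24t
theorem we_1 : allR (OT.ckEqW [T5, T4, T3, T2, T1, T0, T5, T6, T7, T8, T9, T5, T10, T11] [W67]) (nat_lit 8192) (nat_lit 8192) = true := by decide +kernel
theorem we_4 : allR (OT.ckEqW [T5, T4, T3, T2, T1, T0, T5, T6, T7, T8, T9, T5, T10, T11] [W67]) (nat_lit 32768) (nat_lit 8192) = true := by decide +kernel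
theorem we_7 : allR (OT.ckEqW [T5, T4, T3, T2, T1, T0, T5, T6, T7, T8, T9, T5, T10, T11] [W67]) (nat_lit 57344) (nat_lit 8192) = true := by decide +kernel
theorem we_10 : allR (OT.ckEqW [T5, T4, T3, T2, T1, T0, T5, T6, T7, T8, T9, T5, T10, T11] [W67]) (nat_lit 81920) (nat_lit 8192) = true := by decide +kernel
theorem we_13 : allR (OT.ckEqW [T5, T4, T3, T2, T1, T0, T5, T6, T7, T8, T9, T5, T10, T11] [W67]) (nat_lit 106496) (nat_lit 8192) = true := by decide +kernel
theorem we_16 : allR (OT.ckEqW [T5, T4, T3, T2, T1, T0, T5, T6, T7, T8, T9, T5, T10, T11] [W67]) (nat_lit 131072) (nat_lit 8192) = true := by decide +kernel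
theorem we_19 : allR (OT.ckEqW [T5, T4, T3, T2, T1, T0, T5, T6, T7, T8, T9, T5, T10, T11] [W67]) (nat_lit 155648) (nat_lit 8192) = true := by decide +kernel
theorem we_22 : allR (OT.ckEqW [T5, T4, T3, T2, T1, T0, T5, T6, T7, T8, T9, T5, T10, T11] [W67]) (nat_lit 180224) (nat_lit 8192) = true := by decide +kernel
theorem we_25 : allR (OT.ckEqW [T5, T4, T3, T2, T1, T0, T5, T6, T7, T8, T9, T5, T10, T11] [W67]) (nat_lit 204800) (nat_lit 8192) = true := by decide +kernel
theorem we_28 : allR (OT.ckEqW [T5, T4, T3, T2, T1, T0, T5, T6, T7, T8, T9, T5, T10, T11] [W67]) (nat_lit 229376) (nat_lit 8192) = true := by decide +kernel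
theorem we_31 : allR (OT.ckEqW [T5, T4, T3, T2, T1, T0, T5, T6, T7, T8, T9, T5, T10, T11] [W67]) (nat_lit 253952) (nat_lit 8192) = true := by decide +kernel
theorem we_34 : allR (OT.ckEqW [T5, T4, T3, T2, T1, T0, T5, T6, T7, T8, T9, T5, T10, T11] [W67]) (nat_lit 278528) (nat_lit 8192) = true := by decide +kernel
theorem we_37 : allR (OT.ckEqW [T5, T4, T3, T2, T1, T0, T5, T6, T7, T8, T9, T5, T10, T11] [W67]) (nat_lit 303104) (nat_lit 3832) = true := by decide +kernel
theorem wp_2 : allR (fun i => powT [W67] i (nat_lit 17) i) (nat_lit 16384) (nat_lit 8192) = true := by decide +kernel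
theorem wp_5 : allR (fun i => powT [W67] i (nat_lit 17) i) (nat_lit 40960) (nat_lit 8192) = true := by decide +kernel
theorem wp_8 : allR (fun i => powT [W67] i (nat_lit 17) i) (nat_lit 65536) (nat_lit 8192) = true := by decide +kernel
theorem wp_11 : allR (fun i => powT [W67] i (nat_lit 17) i) (nat_lit 90112) (nat_lit 8192) = true := by decide +kernel
theorem wp_14 : allR (fun i => powT [W67] i (nat_lit 17) i) (nat_lit 114688) (nat_lit 8192) = true := by decide +kernel
theorem wp_17 : allR (fun i => powT [W67] i (nat_lit 17) i) (nat_lit 139264) (nat_lit 8192) = true := by decide +kernel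
theorem wp_20 : allR (fun i => powT [W67] i (nat_lit 17) i) (nat_lit 163840) (nat_lit 8192) = true := by decide +kernel
theorem wp_23 : allR (fun i => powT [W67] i (nat_lit 17) i) (nat_lit 188416) (nat_lit 8192) = true := by decide +kernel
theorem wp_26 : allR (fun i => powT [W67] i (nat_lit 17) i) (nat_lit 212992) (nat_lit 8192) = true := by decide +kernel
theorem wp_29 : allR (fun i => powT [W67] i (nat_lit 17) i) (nat_lit 237568) (nat_lit 8192) = true := by decide +kernel
theorem wp_32 : allR (fun i => powT [W67] i (nat_lit 17) i) (nat_lit 262144) (nat_lit 8192) = true := by decide +kernel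
theorem wp_35 : allR (fun i => powT [W67] i (nat_lit 17) i) (nat_lit 286720) (nat_lit 8192) = true := by decide +kernel

end Cfsg.Agent.H8.Fi24t
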