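import Cfsg.Agent.H8.T.Fi24tTab
import Cfsg.Agent.H8.T.Fi24tW

set_option Elab.async false
set_option autoImplicit false
set_option linter.all false
set_option maxRecDepth 100000

namespace Cfsg.Agent.H8.Fi24t
theorem we_2 : allR (OT.ckEqW [T5, T4, T3, T2, T1, T0, T5, T6, T7, T8, T9, T5, T10, T11] [W67]) (nat_lit 16384) (nat_lit 8192) = true := by decide +kernel
theorem we_5 : allR (OT.ckEqW [T5, T4, T3, T2, T1, T0, T5, T6, T7, T8, T9, T5, T10, T11] [W67]) (nat_lit 40960) (nat_lit 8192) = true := by decide +kernel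
theorem we_8 : allR (OT.ckEqW [T5, T4, T3, T2, T1, T0, T5, T6, T7, T8, T9, T5, T10, T11] [W67]) (nat_lit 65536) (nat_lit 8192) = true := by decide +kernel
theorem we_11 : allR (OT.ckEqW [T5, T4, T3, T2, T1, T0, T5, T6, T7, T8, T9, T5, T10, T11] [W67]) (nat_lit 90112) (nat_lit 8192) = true := by decide +kernel
theorem we_14 : allR (OT.ckEqW [T5, T4, T3, T2, T1, T0, T5, T6, T7, T8, T9, T5, T10, T11] [W67]) (nat_lit 114688) (nat_lit 8192) = true := by decide +kernel
theorem we_17 : allR (OT.ckEqW [T5, T4, T3, T2, T1, T0, T5, T6, T7, T8, T9, T5, T10, T11] [W67]) (nat_lit 139264) (nat_lit 8192) = true := by decide +kernel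
theorem we_20 : allR (OT.ckEqW [T5, T4, T3, T2, T1, T0, T5, T6, T7, T8, T9, T5, T10, T11] [W67]) (nat_lit 163840) (nat_lit 8192) = true := by decide +kernel
theorem we_23 : allR (OT.ckEqW [T5, T4, T3, T2, T1, T0, T5, T6, T7, T8, T9, T5, T10, T11] [W67]) (nat_lit 188416) (nat_lit 8192) = true := by decide +kernel
theorem we_26 : allR (OT.ckEqW [T5, T4, T3, T2, T1, T0, T5, T6, T7, T8, T9, T5, T10, T11] [W67]) (nat_lit 212992) (nat_lit 8192) = true := by decide +kernel
theorem we_29 : allR (OT.ckEqW [T5, T4, T3, T2, T1, T0, T5, T6, T7, T8, T9, T5, T10, T11] [W67]) (nat_lit 237568) (nat_lit 8192) = true := by decide +kernel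
theorem we_32 : allR (OT.ckEqW [T5, T4, T3, T2, T1, T0, T5, T6, T7, T8, T9, T5, T10, T11] [W67]) (nat_lit 262144) (nat_lit 8192) = true := by decide +kernel
theorem we_35 : allR (OT.ckEqW [T5, T4, T3, T2, T1, T0, T5, T6, T7, T8, T9, T5, T10, T11] [W67]) (nat_lit 286720) (nat_lit 8192) = true := by decide +kernel
theorem wp_0 : allR (fun i => powT [W67] i (nat_lit 17) i) (nat_lit 0) (nat_lit 8192) = true := by decide +kernel
theorem wp_3 : allR (fun i => powT [W67] i (nat_lit 17) i) (nat_lit 24576) (nat_lit 8192) = true := by decide +kernel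
theorem wp_6 : allR (fun i => powT [W67] i (nat_lit 17) i) (nat_lit 49152) (nat_lit 8192) = true := by decide +kernel
theorem wp_9 : allR (fun i => powT [W67] i (nat_lit 17) i) (nat_lit 73728) (nat_lit 8192) = true := by decide +kernel
theorem wp_12 : allR (fun i => powT [W67] i (nat_lit 17) i) (nat_lit 98304) (nat_lit 8192) = true := by decide +kernel
theorem wp_15 : allR (fun i => powT [W67] i (nat_lit 17) i) (nat_lit 122880) (nat_lit 8192) = true := by decide +kernel
theorem wp_18 : allR (fun i => powT [W67] i (nat_lit 17) i) (nat_lit 147456) (nat_lit 8192) = true := by decide +kernel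
theorem wp_21 : allR (fun i => powT [W67] i (nat_lit 17) i) (nat_lit 172032) (nat_lit 8192) = true := by decide +kernel
theorem wp_24 : allR (fun i => powT [W67] i (nat_lit 17) i) (nat_lit 196608) (nat_lit 8192) = true := by decide +kernel
theorem wp_27 : allR (fun i => powT [W67] i (nat_lit 17) i) (nat_lit 221184) (nat_lit 8192) = true := by decide +kernel
theorem wp_30 : allR (fun i => powT [W67] i (nat_lit 17) i) (nat_lit 245760) (nat_lit 8192) = true := by decide +kernel
theorem wp_33 : allR (fun i => powT [W67] i (nat_lit 17) i) (nat_lit 270336) (nat_lit 8192) = true := by decide +kernel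
theorem wp_36 : allR (fun i => powT [W67] i (nat_lit 17) i) (nat_lit 294912) (nat_lit 8192) = true := by decide +kernel

end Cfsg.Agent.H8.Fi24t
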