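import Cfsg.Agent.H8.T.Fi24tTab
import Cfsg.Agent.H8.CosetComm

set_option Elab.async false
set_option autoImplicit false
set_option linter.all false
set_option maxRecDepth 100000

namespace Cfsg.Agent.H8.Fi24t
theorem rk10_4 : allR (ckComm T2 T0) (nat_lit 65536) (nat_lit 16384) = true := by decide +kernel
theorem rk10_5 : allR (ckComm T2 T0) (nat_lit 81920) (nat_lit 16384) = true := by decide +kernel
theorem rk10_6 : allR (ckComm T2 T0) (nat_lit 98304) (nat_lit 16384) = true := by decide +kernel
theorem rk10_7 : allR (ckComm T2 T0) (nat_lit 114688) (nat_lit 16384) = true := by decide +kernel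
theorem rk10_8 : allR (ckComm T2 T0) (nat_lit 131072) (nat_lit 16384) = true := by decide +kernel
theorem rk10_9 : allR (ckComm T2 T0) (nat_lit 147456) (nat_lit 16384) = true := by decide +kernel
theorem rk10_10 : allR (ckComm T2 T0) (nat_lit 163840) (nat_lit 16384) = true := by decide +kernel
theorem rk10_11 : allR (ckComm T2 T0) (nat_lit 180224) (nat_lit 16384) = true := by decide +kernel
theorem rk10_12 : allR (ckComm T2 T0) (nat_lit 196608) (nat_lit 16384) = true := by decide +kernel
theorem rk10_13 : allR (ckComm T2 T0) (nat_lit 212992) (nat_lit 16384) = true := by decide +kernel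
theorem rk10_14 : allR (ckComm T2 T0) (nat_lit 229376) (nat_lit 16384) = true := by decide +kernel
theorem rk10_15 : allR (ckComm T2 T0) (nat_lit 245760) (nat_lit 16384) = true := by decide +kernel
theorem rk10_16 : allR (ckComm T2 T0) (nat_lit 262144) (nat_lit 16384) = true := by decide +kernel
theorem rk10_17 : allR (ckComm T2 T0) (nat_lit 278528) (nat_lit 16384) = true := by decide +kernel
theorem rk10_18 : allR (ckComm T2 T0) (nat_lit 294912) (nat_lit 12024) = true := by decide +kernel
theorem rk11_0 : allR (fun i => powT [T3, T4] i (nat_lit 3) i) (nat_lit 0) (nat_lit 16384) = true := by decide +kernel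
theorem rk11_1 : allR (fun i => powT [T3, T4] i (nat_lit 3) i) (nat_lit 16384) (nat_lit 16384) = true := by decide +kernel
theorem rk11_2 : allR (fun i => powT [T3, T4] i (nat_lit 3) i) (nat_lit 32768) (nat_lit 16384) = true := by decide +kernel
theorem rk11_3 : allR (fun i => powT [T3, T4] i (nat_lit 3) i) (nat_lit 49152) (nat_lit 16384) = true := by decide +kernel
theorem rk11_4 : allR (fun i => powT [T3, T4] i (nat_lit 3) i) (nat_lit 65536) (nat_lit 16384) = true := by decide +kernel
theorem rk11_5 : allR (fun i => powT [T3, T4] i (nat_lit 3) i) (nat_lit 81920) (nat_lit 16384) = true := by decide +kernel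
theorem rk11_6 : allR (fun i => powT [T3, T4] i (nat_lit 3) i) (nat_lit 98304) (nat_lit 16384) = true := by decide +kernel
theorem rk11_7 : allR (fun i => powT [T3, T4] i (nat_lit 3) i) (nat_lit 114688) (nat_lit 16384) = true := by decide +kernel
theorem rk11_8 : allR (fun i => powT [T3, T4] i (nat_lit 3) i) (nat_lit 131072) (nat_lit 16384) = true := by decide +kernel
theorem rk11_9 : allR (fun i => powT [T3, T4] i (nat_lit 3) i) (nat_lit 147456) (nat_lit 16384) = true := by decide +kernel
theorem rk11_10 : allR (fun i => powT [T3, T4] i (nat_lit 3) i) (nat_lit 163840) (nat_lit 16384) = true := by decide +kernel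
theorem rk11_11 : allR (fun i => powT [T3, T4] i (nat_lit 3) i) (nat_lit 180224) (nat_lit 16384) = true := by decide +kernel
theorem rk11_12 : allR (fun i => powT [T3, T4] i (nat_lit 3) i) (nat_lit 196608) (nat_lit 16384) = true := by decide +kernel
theorem rk11_13 : allR (fun i => powT [T3, T4] i (nat_lit 3) i) (nat_lit 212992) (nat_lit 16384) = true := by decide +kernel
theorem rk11_14 : allR (fun i => powT [T3, T4] i (nat_lit 3) i) (nat_lit 229376) (nat_lit 16384) = true := by decide +kernel
theorem rk11_15 : allR (fun i => powT [T3, T4] i (nat_lit 3) i) (nat_lit 245760) (nat_lit 16384) = true := by decide +kernel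
theorem rk11_16 : allR (fun i => powT [T3, T4] i (nat_lit 3) i) (nat_lit 262144) (nat_lit 16384) = true := by decide +kernel
theorem rk11_17 : allR (fun i => powT [T3, T4] i (nat_lit 3) i) (nat_lit 278528) (nat_lit 16384) = true := by decide +kernel
theorem rk11_18 : allR (fun i => powT [T3, T4] i (nat_lit 3) i) (nat_lit 294912) (nat_lit 12024) = true := by decide +kernel
theorem rk12_0 : allR (ckComm T3 T5) (nat_lit 0) (nat_lit 16384) = true := by decide +kernel
theorem rk12_1 : allR (ckComm T3 T5) (nat_lit 16384) (nat_lit 16384) = true := by decide +kernel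
theorem rk12_2 : allR (ckComm T3 T5) (nat_lit 32768) (nat_lit 16384) = true := by decide +kernel
theorem rk12_3 : allR (ckComm T3 T5) (nat_lit 49152) (nat_lit 16384) = true := by decide +kernel
theorem rk12_4 : allR (ckComm T3 T5) (nat_lit 65536) (nat_lit 16384) = true := by decide +kernel
theorem rk12_5 : allR (ckComm T3 T5) (nat_lit 81920) (nat_lit 16384) = true := by decide +kernel
theorem rk12_6 : allR (ckComm T3 T5) (nat_lit 98304) (nat_lit 16384) = true := by decide +kernel
theorem rk12_7 : allR (ckComm T3 T5) (nat_lit 114688) (nat_lit 16384) = true := by decide +kernel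
theorem rk12_8 : allR (ckComm T3 T5) (nat_lit 131072) (nat_lit 16384) = true := by decide +kernel
theorem rk12_9 : allR (ckComm T3 T5) (nat_lit 147456) (nat_lit 16384) = true := by decide +kernel
theorem rk12_10 : allR (ckComm T3 T5) (nat_lit 163840) (nat_lit 16384) = true := by decide +kernel
theorem rk12_11 : allR (ckComm T3 T5) (nat_lit 180224) (nat_lit 16384) = true := by decide +kernel
theorem rk12_12 : allR (ckComm T3 T5) (nat_lit 196608) (nat_lit 16384) = true := by decide +kernel
theorem rk12_13 : allR (ckComm T3 T5) (nat_lit 212992) (nat_lit 16384) = true := by decide +kernel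
theorem rk12_14 : allR (ckComm T3 T5) (nat_lit 229376) (nat_lit 16384) = true := by decide +kernel
theorem rk12_15 : allR (ckComm T3 T5) (nat_lit 245760) (nat_lit 16384) = true := by decide +kernel
theorem rk12_16 : allR (ckComm T3 T5) (nat_lit 262144) (nat_lit 16384) = true := by decide +kernel
theorem rk12_17 : allR (ckComm T3 T5) (nat_lit 278528) (nat_lit 16384) = true := by decide +kernel
theorem rk12_18 : allR (ckComm T3 T5) (nat_lit 294912) (nat_lit 12024) = true := by decide +kernel
theorem rk13_0 : allR (ckComm T3 T6) (nat_lit 0) (nat_lit 16384) = true := by decide +kernel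
theorem rk13_1 : allR (ckComm T3 T6) (nat_lit 16384) (nat_lit 16384) = true := by decide +kernel
theorem rk13_2 : allR (ckComm T3 T6) (nat_lit 32768) (nat_lit 16384) = true := by decide +kernel
theorem rk13_3 : allR (ckComm T3 T6) (nat_lit 49152) (nat_lit 16384) = true := by decide +kernel
theorem rk13_4 : allR (ckComm T3 T6) (nat_lit 65536) (nat_lit 16384) = true := by decide +kernel
theorem rk13_5 : allR (ckComm T3 T6) (nat_lit 81920) (nat_lit 16384) = true := by decide +kernel
theorem rk13_6 : allR (ckComm T3 T6) (nat_lit 98304) (nat_lit 16384) = true := by decide +kernel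
theorem rk13_7 : allR (ckComm T3 T6) (nat_lit 114688) (nat_lit 16384) = true := by decide +kernel
theorem rk13_8 : allR (ckComm T3 T6) (nat_lit 131072) (nat_lit 16384) = true := by decide +kernel
theorem rk13_9 : allR (ckComm T3 T6) (nat_lit 147456) (nat_lit 16384) = true := by decide +kernel
theorem rk13_10 : allR (ckComm T3 T6) (nat_lit 163840) (nat_lit 16384) = true := by decide +kernel
theorem rk13_11 : allR (ckComm T3 T6) (nat_lit 180224) (nat_lit 16384) = true := by decide +kernel
theorem rk13_12 : allR (ckComm T3 T6) (nat_lit 196608) (nat_lit 16384) = true := by decide +kernel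
theorem rk13_13 : allR (ckComm T3 T6) (nat_lit 212992) (nat_lit 16384) = true := by decide +kernel
theorem rk13_14 : allR (ckComm T3 T6) (nat_lit 229376) (nat_lit 16384) = true := by decide +kernel
theorem rk13_15 : allR (ckComm T3 T6) (nat_lit 245760) (nat_lit 16384) = true := by decide +kernel
theorem rk13_16 : allR (ckComm T3 T6) (nat_lit 262144) (nat_lit 16384) = true := by decide +kernel
theorem rk13_17 : allR (ckComm T3 T6) (nat_lit 278528) (nat_lit 16384) = true := by decide +kernel
theorem rk13_18 : allR (ckComm T3 T6) (nat_lit 294912) (nat_lit 12024) = true := by decide +kernel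
theorem rk14_0 : allR (ckComm T3 T7) (nat_lit 0) (nat_lit 16384) = true := by decide +kernel
theorem rk14_1 : allR (ckComm T3 T7) (nat_lit 16384) (nat_lit 16384) = true := by decide +kernel
theorem rk14_2 : allR (ckComm T3 T7) (nat_lit 32768) (nat_lit 16384) = true := by decide +kernel
theorem rk14_3 : allR (ckComm T3 T7) (nat_lit 49152) (nat_lit 16384) = true := by decide +kernel
theorem rk14_4 : allR (ckComm T3 T7) (nat_lit 65536) (nat_lit 16384) = true := by decide +kernel
theorem rk14_5 : allR (ckComm T3 T7) (nat_lit 81920) (nat_lit 16384) = true := by decide +kernel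
theorem rk14_6 : allR (ckComm T3 T7) (nat_lit 98304) (nat_lit 16384) = true := by decide +kernel
theorem rk14_7 : allR (ckComm T3 T7) (nat_lit 114688) (nat_lit 16384) = true := by decide +kernel
theorem rk14_8 : allR (ckComm T3 T7) (nat_lit 131072) (nat_lit 16384) = true := by decide +kernel
theorem rk14_9 : allR (ckComm T3 T7) (nat_lit 147456) (nat_lit 16384) = true := by decide +kernel
theorem rk14_10 : allR (ckComm T3 T7) (nat_lit 163840) (nat_lit 16384) = true := by decide +kernel
theorem rk14_11 : allR (ckComm T3 T7) (nat_lit 180224) (nat_lit 16384) = true := by decide +kernel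
theorem rk14_12 : allR (ckComm T3 T7) (nat_lit 196608) (nat_lit 16384) = true := by decide +kernel
theorem rk14_13 : allR (ckComm T3 T7) (nat_lit 212992) (nat_lit 16384) = true := by decide +kernel
theorem rk14_14 : allR (ckComm T3 T7) (nat_lit 229376) (nat_lit 16384) = true := by decide +kernel
theorem rk14_15 : allR (ckComm T3 T7) (nat_lit 245760) (nat_lit 16384) = true := by decide +kernel
theorem rk14_16 : allR (ckComm T3 T7) (nat_lit 262144) (nat_lit 16384) = true := by decide +kernel
theorem rk14_17 : allR (ckComm T3 T7) (nat_lit 278528) (nat_lit 16384) = true := by decide +kernel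
theorem rk14_18 : allR (ckComm T3 T7) (nat_lit 294912) (nat_lit 12024) = true := by decide +kernel
theorem rk15_0 : allR (ckComm T3 T8) (nat_lit 0) (nat_lit 16384) = true := by decide +kernel
theorem rk15_1 : allR (ckComm T3 T8) (nat_lit 16384) (nat_lit 16384) = true := by decide +kernel
theorem rk15_2 : allR (ckComm T3 T8) (nat_lit 32768) (nat_lit 16384) = true := by decide +kernel
theorem rk15_3 : allR (ckComm T3 T8) (nat_lit 49152) (nat_lit 16384) = true := by decide +kernel
theorem rk15_4 : allR (ckComm T3 T8) (nat_lit 65536) (nat_lit 16384) = true := by decide +kernel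
theorem rk15_5 : allR (ckComm T3 T8) (nat_lit 81920) (nat_lit 16384) = true := by decide +kernel

end Cfsg.Agent.H8.Fi24t
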