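import Cfsg.Agent.H8.T.Fi24tTab
import Cfsg.Agent.H8.CosetComm

set_option Elab.async false
set_option autoImplicit false
set_option linter.all false
set_option maxRecDepth 100000

namespace Cfsg.Agent.H8.Fi24t
theorem rk15_6 : allR (ckComm T3 T8) (nat_lit 98304) (nat_lit 16384) = true := by decide +kernel
theorem rk15_7 : allR (ckComm T3 T8) (nat_lit 114688) (nat_lit 16384) = true := by decide +kernel
theorem rk15_8 : allR (ckComm T3 T8) (nat_lit 131072) (nat_lit 16384) = true := by decide +kernel
theorem rk15_9 : allR (ckComm T3 T8) (nat_lit 147456) (nat_lit 16384) = true := by decide +kernel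
theorem rk15_10 : allR (ckComm T3 T8) (nat_lit 163840) (nat_lit 16384) = true := by decide +kernel
theorem rk15_11 : allR (ckComm T3 T8) (nat_lit 180224) (nat_lit 16384) = true := by decide +kernel
theorem rk15_12 : allR (ckComm T3 T8) (nat_lit 196608) (nat_lit 16384) = true := by decide +kernel
theorem rk15_13 : allR (ckComm T3 T8) (nat_lit 212992) (nat_lit 16384) = true := by decide +kernel
theorem rk15_14 : allR (ckComm T3 T8) (nat_lit 229376) (nat_lit 16384) = true := by decide +kernel
theorem rk15_15 : allR (ckComm T3 T8) (nat_lit 245760) (nat_lit 16384) = true := by decide +kernel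
theorem rk15_16 : allR (ckComm T3 T8) (nat_lit 262144) (nat_lit 16384) = true := by decide +kernel
theorem rk15_17 : allR (ckComm T3 T8) (nat_lit 278528) (nat_lit 16384) = true := by decide +kernel
theorem rk15_18 : allR (ckComm T3 T8) (nat_lit 294912) (nat_lit 12024) = true := by decide +kernel
theorem rk16_0 : allR (ckComm T3 T10) (nat_lit 0) (nat_lit 16384) = true := by decide +kernel
theorem rk16_1 : allR (ckComm T3 T10) (nat_lit 16384) (nat_lit 16384) = true := by decide +kernel
theorem rk16_2 : allR (ckComm T3 T10) (nat_lit 32768) (nat_lit 16384) = true := by decide +kernel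
theorem rk16_3 : allR (ckComm T3 T10) (nat_lit 49152) (nat_lit 16384) = true := by decide +kernel
theorem rk16_4 : allR (ckComm T3 T10) (nat_lit 65536) (nat_lit 16384) = true := by decide +kernel
theorem rk16_5 : allR (ckComm T3 T10) (nat_lit 81920) (nat_lit 16384) = true := by decide +kernel
theorem rk16_6 : allR (ckComm T3 T10) (nat_lit 98304) (nat_lit 16384) = true := by decide +kernel
theorem rk16_7 : allR (ckComm T3 T10) (nat_lit 114688) (nat_lit 16384) = true := by decide +kernel
theorem rk16_8 : allR (ckComm T3 T10) (nat_lit 131072) (nat_lit 16384) = true := by decide +kernel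
theorem rk16_9 : allR (ckComm T3 T10) (nat_lit 147456) (nat_lit 16384) = true := by decide +kernel
theorem rk16_10 : allR (ckComm T3 T10) (nat_lit 163840) (nat_lit 16384) = true := by decide +kernel
theorem rk16_11 : allR (ckComm T3 T10) (nat_lit 180224) (nat_lit 16384) = true := by decide +kernel
theorem rk16_12 : allR (ckComm T3 T10) (nat_lit 196608) (nat_lit 16384) = true := by decide +kernel
theorem rk16_13 : allR (ckComm T3 T10) (nat_lit 212992) (nat_lit 16384) = true := by decide +kernel
theorem rk16_14 : allR (ckComm T3 T10) (nat_lit 229376) (nat_lit 16384) = true := by decide +kernel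
theorem rk16_15 : allR (ckComm T3 T10) (nat_lit 245760) (nat_lit 16384) = true := by decide +kernel
theorem rk16_16 : allR (ckComm T3 T10) (nat_lit 262144) (nat_lit 16384) = true := by decide +kernel
theorem rk16_17 : allR (ckComm T3 T10) (nat_lit 278528) (nat_lit 16384) = true := by decide +kernel
theorem rk16_18 : allR (ckComm T3 T10) (nat_lit 294912) (nat_lit 12024) = true := by decide +kernel
theorem rk17_0 : allR (ckComm T3 T11) (nat_lit 0) (nat_lit 16384) = true := by decide +kernel
theorem rk17_1 : allR (ckComm T3 T11) (nat_lit 16384) (nat_lit 16384) = true := by decide +kernel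
theorem rk17_2 : allR (ckComm T3 T11) (nat_lit 32768) (nat_lit 16384) = true := by decide +kernel
theorem rk17_3 : allR (ckComm T3 T11) (nat_lit 49152) (nat_lit 16384) = true := by decide +kernel
theorem rk17_4 : allR (ckComm T3 T11) (nat_lit 65536) (nat_lit 16384) = true := by decide +kernel
theorem rk17_5 : allR (ckComm T3 T11) (nat_lit 81920) (nat_lit 16384) = true := by decide +kernel
theorem rk17_6 : allR (ckComm T3 T11) (nat_lit 98304) (nat_lit 16384) = true := by decide +kernel
theorem rk17_7 : allR (ckComm T3 T11) (nat_lit 114688) (nat_lit 16384) = true := by decide +kernel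
theorem rk17_8 : allR (ckComm T3 T11) (nat_lit 131072) (nat_lit 16384) = true := by decide +kernel
theorem rk17_9 : allR (ckComm T3 T11) (nat_lit 147456) (nat_lit 16384) = true := by decide +kernel
theorem rk17_10 : allR (ckComm T3 T11) (nat_lit 163840) (nat_lit 16384) = true := by decide +kernel
theorem rk17_11 : allR (ckComm T3 T11) (nat_lit 180224) (nat_lit 16384) = true := by decide +kernel
theorem rk17_12 : allR (ckComm T3 T11) (nat_lit 196608) (nat_lit 16384) = true := by decide +kernel
theorem rk17_13 : allR (ckComm T3 T11) (nat_lit 212992) (nat_lit 16384) = true := by decide +kernel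
theorem rk17_14 : allR (ckComm T3 T11) (nat_lit 229376) (nat_lit 16384) = true := by decide +kernel
theorem rk17_15 : allR (ckComm T3 T11) (nat_lit 245760) (nat_lit 16384) = true := by decide +kernel
theorem rk17_16 : allR (ckComm T3 T11) (nat_lit 262144) (nat_lit 16384) = true := by decide +kernel
theorem rk17_17 : allR (ckComm T3 T11) (nat_lit 278528) (nat_lit 16384) = true := by decide +kernel
theorem rk17_18 : allR (ckComm T3 T11) (nat_lit 294912) (nat_lit 12024) = true := by decide +kernel
theorem rk18_0 : allR (ckComm T3 T9) (nat_lit 0) (nat_lit 16384) = true := by decide +kernel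
theorem rk18_1 : allR (ckComm T3 T9) (nat_lit 16384) (nat_lit 16384) = true := by decide +kernel
theorem rk18_2 : allR (ckComm T3 T9) (nat_lit 32768) (nat_lit 16384) = true := by decide +kernel
theorem rk18_3 : allR (ckComm T3 T9) (nat_lit 49152) (nat_lit 16384) = true := by decide +kernel
theorem rk18_4 : allR (ckComm T3 T9) (nat_lit 65536) (nat_lit 16384) = true := by decide +kernel
theorem rk18_5 : allR (ckComm T3 T9) (nat_lit 81920) (nat_lit 16384) = true := by decide +kernel
theorem rk18_6 : allR (ckComm T3 T9) (nat_lit 98304) (nat_lit 16384) = true := by decide +kernel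
theorem rk18_7 : allR (ckComm T3 T9) (nat_lit 114688) (nat_lit 16384) = true := by decide +kernel
theorem rk18_8 : allR (ckComm T3 T9) (nat_lit 131072) (nat_lit 16384) = true := by decide +kernel
theorem rk18_9 : allR (ckComm T3 T9) (nat_lit 147456) (nat_lit 16384) = true := by decide +kernel
theorem rk18_10 : allR (ckComm T3 T9) (nat_lit 163840) (nat_lit 16384) = true := by decide +kernel
theorem rk18_11 : allR (ckComm T3 T9) (nat_lit 180224) (nat_lit 16384) = true := by decide +kernel
theorem rk18_12 : allR (ckComm T3 T9) (nat_lit 196608) (nat_lit 16384) = true := by decide +kernel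
theorem rk18_13 : allR (ckComm T3 T9) (nat_lit 212992) (nat_lit 16384) = true := by decide +kernel
theorem rk18_14 : allR (ckComm T3 T9) (nat_lit 229376) (nat_lit 16384) = true := by decide +kernel
theorem rk18_15 : allR (ckComm T3 T9) (nat_lit 245760) (nat_lit 16384) = true := by decide +kernel
theorem rk18_16 : allR (ckComm T3 T9) (nat_lit 262144) (nat_lit 16384) = true := by decide +kernel
theorem rk18_17 : allR (ckComm T3 T9) (nat_lit 278528) (nat_lit 16384) = true := by decide +kernel
theorem rk18_18 : allR (ckComm T3 T9) (nat_lit 294912) (nat_lit 12024) = true := by decide +kernel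
theorem rk19_0 : allR (ckComm T3 T1) (nat_lit 0) (nat_lit 16384) = true := by decide +kernel
theorem rk19_1 : allR (ckComm T3 T1) (nat_lit 16384) (nat_lit 16384) = true := by decide +kernel
theorem rk19_2 : allR (ckComm T3 T1) (nat_lit 32768) (nat_lit 16384) = true := by decide +kernel
theorem rk19_3 : allR (ckComm T3 T1) (nat_lit 49152) (nat_lit 16384) = true := by decide +kernel
theorem rk19_4 : allR (ckComm T3 T1) (nat_lit 65536) (nat_lit 16384) = true := by decide +kernel
theorem rk19_5 : allR (ckComm T3 T1) (nat_lit 81920) (nat_lit 16384) = true := by decide +kernel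
theorem rk19_6 : allR (ckComm T3 T1) (nat_lit 98304) (nat_lit 16384) = true := by decide +kernel
theorem rk19_7 : allR (ckComm T3 T1) (nat_lit 114688) (nat_lit 16384) = true := by decide +kernel
theorem rk19_8 : allR (ckComm T3 T1) (nat_lit 131072) (nat_lit 16384) = true := by decide +kernel
theorem rk19_9 : allR (ckComm T3 T1) (nat_lit 147456) (nat_lit 16384) = true := by decide +kernel
theorem rk19_10 : allR (ckComm T3 T1) (nat_lit 163840) (nat_lit 16384) = true := by decide +kernel
theorem rk19_11 : allR (ckComm T3 T1) (nat_lit 180224) (nat_lit 16384) = true := by decide +kernel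
theorem rk19_12 : allR (ckComm T3 T1) (nat_lit 196608) (nat_lit 16384) = true := by decide +kernel
theorem rk19_13 : allR (ckComm T3 T1) (nat_lit 212992) (nat_lit 16384) = true := by decide +kernel
theorem rk19_14 : allR (ckComm T3 T1) (nat_lit 229376) (nat_lit 16384) = true := by decide +kernel
theorem rk19_15 : allR (ckComm T3 T1) (nat_lit 245760) (nat_lit 16384) = true := by decide +kernel
theorem rk19_16 : allR (ckComm T3 T1) (nat_lit 262144) (nat_lit 16384) = true := by decide +kernel
theorem rk19_17 : allR (ckComm T3 T1) (nat_lit 278528) (nat_lit 16384) = true := by decide +kernel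
theorem rk19_18 : allR (ckComm T3 T1) (nat_lit 294912) (nat_lit 12024) = true := by decide +kernel
theorem rk20_0 : allR (ckComm T3 T0) (nat_lit 0) (nat_lit 16384) = true := by decide +kernel
theorem rk20_1 : allR (ckComm T3 T0) (nat_lit 16384) (nat_lit 16384) = true := by decide +kernel
theorem rk20_2 : allR (ckComm T3 T0) (nat_lit 32768) (nat_lit 16384) = true := by decide +kernel
theorem rk20_3 : allR (ckComm T3 T0) (nat_lit 49152) (nat_lit 16384) = true := by decide +kernel
theorem rk20_4 : allR (ckComm T3 T0) (nat_lit 65536) (nat_lit 16384) = true := by decide +kernel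
theorem rk20_5 : allR (ckComm T3 T0) (nat_lit 81920) (nat_lit 16384) = true := by decide +kernel
theorem rk20_6 : allR (ckComm T3 T0) (nat_lit 98304) (nat_lit 16384) = true := by decide +kernel
theorem rk20_7 : allR (ckComm T3 T0) (nat_lit 114688) (nat_lit 16384) = true := by decide +kernel
theorem rk20_8 : allR (ckComm T3 T0) (nat_lit 131072) (nat_lit 16384) = true := by decide +kernel
theorem rk20_9 : allR (ckComm T3 T0) (nat_lit 147456) (nat_lit 16384) = true := by decide +kernel
theorem rk20_10 : allR (ckComm T3 T0) (nat_lit 163840) (nat_lit 16384) = true := by decide +kernel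
theorem rk20_11 : allR (ckComm T3 T0) (nat_lit 180224) (nat_lit 16384) = true := by decide +kernel
theorem rk20_12 : allR (ckComm T3 T0) (nat_lit 196608) (nat_lit 16384) = true := by decide +kernel
theorem rk20_13 : allR (ckComm T3 T0) (nat_lit 212992) (nat_lit 16384) = true := by decide +kernel
theorem rk20_14 : allR (ckComm T3 T0) (nat_lit 229376) (nat_lit 16384) = true := by decide +kernel
theorem rk20_15 : allR (ckComm T3 T0) (nat_lit 245760) (nat_lit 16384) = true := by decide +kernel
theorem rk20_16 : allR (ckComm T3 T0) (nat_lit 262144) (nat_lit 16384) = true := by decide +kernel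
theorem rk20_17 : allR (ckComm T3 T0) (nat_lit 278528) (nat_lit 16384) = true := by decide +kernel
theorem rk20_18 : allR (ckComm T3 T0) (nat_lit 294912) (nat_lit 12024) = true := by decide +kernel
theorem rk21_0 : allR (fun i => powT [T4, T5] i (nat_lit 3) i) (nat_lit 0) (nat_lit 16384) = true := by decide +kernel
theorem rk21_1 : allR (fun i => powT [T4, T5] i (nat_lit 3) i) (nat_lit 16384) (nat_lit 16384) = true := by decide +kernel
theorem rk21_2 : allR (fun i => powT [T4, T5] i (nat_lit 3) i) (nat_lit 32768) (nat_lit 16384) = true := by decide +kernel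

end Cfsg.Agent.H8.Fi24t
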