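import Cfsg.Agent.H8.T.Fi24tTab
import Cfsg.Agent.H8.CosetComm

set_option Elab.async false
set_option autoImplicit false
set_option linter.all false
set_option maxRecDepth 100000

namespace Cfsg.Agent.H8.Fi24t
theorem rk21_3 : allR (fun i => powT [T4, T5] i (nat_lit 3) i) (nat_lit 49152) (nat_lit 16384) = true := by decide +kernel
theorem rk21_4 : allR (fun i => powT [T4, T5] i (nat_lit 3) i) (nat_lit 65536) (nat_lit 16384) = true := by decide +kernel
theorem rk21_5 : allR (fun i => powT [T4, T5] i (nat_lit 3) i) (nat_lit 81920) (nat_lit 16384) = true := by decide +kernel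
theorem rk21_6 : allR (fun i => powT [T4, T5] i (nat_lit 3) i) (nat_lit 98304) (nat_lit 16384) = true := by decide +kernel
theorem rk21_7 : allR (fun i => powT [T4, T5] i (nat_lit 3) i) (nat_lit 114688) (nat_lit 16384) = true := by decide +kernel
theorem rk21_8 : allR (fun i => powT [T4, T5] i (nat_lit 3) i) (nat_lit 131072) (nat_lit 16384) = true := by decide +kernel
theorem rk21_9 : allR (fun i => powT [T4, T5] i (nat_lit 3) i) (nat_lit 147456) (nat_lit 16384) = true := by decide +kernel
theorem rk21_10 : allR (fun i => powT [T4, T5] i (nat_lit 3) i) (nat_lit 163840) (nat_lit 16384) = true := by decide +kernel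
theorem rk21_11 : allR (fun i => powT [T4, T5] i (nat_lit 3) i) (nat_lit 180224) (nat_lit 16384) = true := by decide +kernel
theorem rk21_12 : allR (fun i => powT [T4, T5] i (nat_lit 3) i) (nat_lit 196608) (nat_lit 16384) = true := by decide +kernel
theorem rk21_13 : allR (fun i => powT [T4, T5] i (nat_lit 3) i) (nat_lit 212992) (nat_lit 16384) = true := by decide +kernel
theorem rk21_14 : allR (fun i => powT [T4, T5] i (nat_lit 3) i) (nat_lit 229376) (nat_lit 16384) = true := by decide +kernel
theorem rk21_15 : allR (fun i => powT [T4, T5] i (nat_lit 3) i) (nat_lit 245760) (nat_lit 16384) = true := by decide +kernel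
theorem rk21_16 : allR (fun i => powT [T4, T5] i (nat_lit 3) i) (nat_lit 262144) (nat_lit 16384) = true := by decide +kernel
theorem rk21_17 : allR (fun i => powT [T4, T5] i (nat_lit 3) i) (nat_lit 278528) (nat_lit 16384) = true := by decide +kernel
theorem rk21_18 : allR (fun i => powT [T4, T5] i (nat_lit 3) i) (nat_lit 294912) (nat_lit 12024) = true := by decide +kernel
theorem rk22_0 : allR (ckComm T4 T6) (nat_lit 0) (nat_lit 16384) = true := by decide +kernel
theorem rk22_1 : allR (ckComm T4 T6) (nat_lit 16384) (nat_lit 16384) = true := by decide +kernel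
theorem rk22_2 : allR (ckComm T4 T6) (nat_lit 32768) (nat_lit 16384) = true := by decide +kernel
theorem rk22_3 : allR (ckComm T4 T6) (nat_lit 49152) (nat_lit 16384) = true := by decide +kernel
theorem rk22_4 : allR (ckComm T4 T6) (nat_lit 65536) (nat_lit 16384) = true := by decide +kernel
theorem rk22_5 : allR (ckComm T4 T6) (nat_lit 81920) (nat_lit 16384) = true := by decide +kernel
theorem rk22_6 : allR (ckComm T4 T6) (nat_lit 98304) (nat_lit 16384) = true := by decide +kernel
theorem rk22_7 : allR (ckComm T4 T6) (nat_lit 114688) (nat_lit 16384) = true := by decide +kernel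
theorem rk22_8 : allR (ckComm T4 T6) (nat_lit 131072) (nat_lit 16384) = true := by decide +kernel
theorem rk22_9 : allR (ckComm T4 T6) (nat_lit 147456) (nat_lit 16384) = true := by decide +kernel
theorem rk22_10 : allR (ckComm T4 T6) (nat_lit 163840) (nat_lit 16384) = true := by decide +kernel
theorem rk22_11 : allR (ckComm T4 T6) (nat_lit 180224) (nat_lit 16384) = true := by decide +kernel
theorem rk22_12 : allR (ckComm T4 T6) (nat_lit 196608) (nat_lit 16384) = true := by decide +kernel
theorem rk22_13 : allR (ckComm T4 T6) (nat_lit 212992) (nat_lit 16384) = true := by decide +kernel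
theorem rk22_14 : allR (ckComm T4 T6) (nat_lit 229376) (nat_lit 16384) = true := by decide +kernel
theorem rk22_15 : allR (ckComm T4 T6) (nat_lit 245760) (nat_lit 16384) = true := by decide +kernel
theorem rk22_16 : allR (ckComm T4 T6) (nat_lit 262144) (nat_lit 16384) = true := by decide +kernel
theorem rk22_17 : allR (ckComm T4 T6) (nat_lit 278528) (nat_lit 16384) = true := by decide +kernel
theorem rk22_18 : allR (ckComm T4 T6) (nat_lit 294912) (nat_lit 12024) = true := by decide +kernel
theorem rk23_0 : allR (ckComm T4 T7) (nat_lit 0) (nat_lit 16384) = true := by decide +kernel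
theorem rk23_1 : allR (ckComm T4 T7) (nat_lit 16384) (nat_lit 16384) = true := by decide +kernel
theorem rk23_2 : allR (ckComm T4 T7) (nat_lit 32768) (nat_lit 16384) = true := by decide +kernel
theorem rk23_3 : allR (ckComm T4 T7) (nat_lit 49152) (nat_lit 16384) = true := by decide +kernel
theorem rk23_4 : allR (ckComm T4 T7) (nat_lit 65536) (nat_lit 16384) = true := by decide +kernel
theorem rk23_5 : allR (ckComm T4 T7) (nat_lit 81920) (nat_lit 16384) = true := by decide +kernel
theorem rk23_6 : allR (ckComm T4 T7) (nat_lit 98304) (nat_lit 16384) = true := by decide +kernel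
theorem rk23_7 : allR (ckComm T4 T7) (nat_lit 114688) (nat_lit 16384) = true := by decide +kernel
theorem rk23_8 : allR (ckComm T4 T7) (nat_lit 131072) (nat_lit 16384) = true := by decide +kernel
theorem rk23_9 : allR (ckComm T4 T7) (nat_lit 147456) (nat_lit 16384) = true := by decide +kernel
theorem rk23_10 : allR (ckComm T4 T7) (nat_lit 163840) (nat_lit 16384) = true := by decide +kernel
theorem rk23_11 : allR (ckComm T4 T7) (nat_lit 180224) (nat_lit 16384) = true := by decide +kernel
theorem rk23_12 : allR (ckComm T4 T7) (nat_lit 196608) (nat_lit 16384) = true := by decide +kernel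
theorem rk23_13 : allR (ckComm T4 T7) (nat_lit 212992) (nat_lit 16384) = true := by decide +kernel
theorem rk23_14 : allR (ckComm T4 T7) (nat_lit 229376) (nat_lit 16384) = true := by decide +kernel
theorem rk23_15 : allR (ckComm T4 T7) (nat_lit 245760) (nat_lit 16384) = true := by decide +kernel
theorem rk23_16 : allR (ckComm T4 T7) (nat_lit 262144) (nat_lit 16384) = true := by decide +kernel
theorem rk23_17 : allR (ckComm T4 T7) (nat_lit 278528) (nat_lit 16384) = true := by decide +kernel
theorem rk23_18 : allR (ckComm T4 T7) (nat_lit 294912) (nat_lit 12024) = true := by decide +kernel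
theorem rk24_0 : allR (ckComm T4 T8) (nat_lit 0) (nat_lit 16384) = true := by decide +kernel
theorem rk24_1 : allR (ckComm T4 T8) (nat_lit 16384) (nat_lit 16384) = true := by decide +kernel
theorem rk24_2 : allR (ckComm T4 T8) (nat_lit 32768) (nat_lit 16384) = true := by decide +kernel
theorem rk24_3 : allR (ckComm T4 T8) (nat_lit 49152) (nat_lit 16384) = true := by decide +kernel
theorem rk24_4 : allR (ckComm T4 T8) (nat_lit 65536) (nat_lit 16384) = true := by decide +kernel
theorem rk24_5 : allR (ckComm T4 T8) (nat_lit 81920) (nat_lit 16384) = true := by decide +kernel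
theorem rk24_6 : allR (ckComm T4 T8) (nat_lit 98304) (nat_lit 16384) = true := by decide +kernel
theorem rk24_7 : allR (ckComm T4 T8) (nat_lit 114688) (nat_lit 16384) = true := by decide +kernel
theorem rk24_8 : allR (ckComm T4 T8) (nat_lit 131072) (nat_lit 16384) = true := by decide +kernel
theorem rk24_9 : allR (ckComm T4 T8) (nat_lit 147456) (nat_lit 16384) = true := by decide +kernel
theorem rk24_10 : allR (ckComm T4 T8) (nat_lit 163840) (nat_lit 16384) = true := by decide +kernel
theorem rk24_11 : allR (ckComm T4 T8) (nat_lit 180224) (nat_lit 16384) = true := by decide +kernel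
theorem rk24_12 : allR (ckComm T4 T8) (nat_lit 196608) (nat_lit 16384) = true := by decide +kernel
theorem rk24_13 : allR (ckComm T4 T8) (nat_lit 212992) (nat_lit 16384) = true := by decide +kernel
theorem rk24_14 : allR (ckComm T4 T8) (nat_lit 229376) (nat_lit 16384) = true := by decide +kernel
theorem rk24_15 : allR (ckComm T4 T8) (nat_lit 245760) (nat_lit 16384) = true := by decide +kernel
theorem rk24_16 : allR (ckComm T4 T8) (nat_lit 262144) (nat_lit 16384) = true := by decide +kernel
theorem rk24_17 : allR (ckComm T4 T8) (nat_lit 278528) (nat_lit 16384) = true := by decide +kernel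
theorem rk24_18 : allR (ckComm T4 T8) (nat_lit 294912) (nat_lit 12024) = true := by decide +kernel
theorem rk25_0 : allR (ckComm T4 T10) (nat_lit 0) (nat_lit 16384) = true := by decide +kernel
theorem rk25_1 : allR (ckComm T4 T10) (nat_lit 16384) (nat_lit 16384) = true := by decide +kernel
theorem rk25_2 : allR (ckComm T4 T10) (nat_lit 32768) (nat_lit 16384) = true := by decide +kernel
theorem rk25_3 : allR (ckComm T4 T10) (nat_lit 49152) (nat_lit 16384) = true := by decide +kernel
theorem rk25_4 : allR (ckComm T4 T10) (nat_lit 65536) (nat_lit 16384) = true := by decide +kernel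
theorem rk25_5 : allR (ckComm T4 T10) (nat_lit 81920) (nat_lit 16384) = true := by decide +kernel
theorem rk25_6 : allR (ckComm T4 T10) (nat_lit 98304) (nat_lit 16384) = true := by decide +kernel
theorem rk25_7 : allR (ckComm T4 T10) (nat_lit 114688) (nat_lit 16384) = true := by decide +kernel
theorem rk25_8 : allR (ckComm T4 T10) (nat_lit 131072) (nat_lit 16384) = true := by decide +kernel
theorem rk25_9 : allR (ckComm T4 T10) (nat_lit 147456) (nat_lit 16384) = true := by decide +kernel
theorem rk25_10 : allR (ckComm T4 T10) (nat_lit 163840) (nat_lit 16384) = true := by decide +kernel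
theorem rk25_11 : allR (ckComm T4 T10) (nat_lit 180224) (nat_lit 16384) = true := by decide +kernel
theorem rk25_12 : allR (ckComm T4 T10) (nat_lit 196608) (nat_lit 16384) = true := by decide +kernel
theorem rk25_13 : allR (ckComm T4 T10) (nat_lit 212992) (nat_lit 16384) = true := by decide +kernel
theorem rk25_14 : allR (ckComm T4 T10) (nat_lit 229376) (nat_lit 16384) = true := by decide +kernel
theorem rk25_15 : allR (ckComm T4 T10) (nat_lit 245760) (nat_lit 16384) = true := by decide +kernel
theorem rk25_16 : allR (ckComm T4 T10) (nat_lit 262144) (nat_lit 16384) = true := by decide +kernel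
theorem rk25_17 : allR (ckComm T4 T10) (nat_lit 278528) (nat_lit 16384) = true := by decide +kernel
theorem rk25_18 : allR (ckComm T4 T10) (nat_lit 294912) (nat_lit 12024) = true := by decide +kernel
theorem rk26_0 : allR (ckComm T4 T11) (nat_lit 0) (nat_lit 16384) = true := by decide +kernel
theorem rk26_1 : allR (ckComm T4 T11) (nat_lit 16384) (nat_lit 16384) = true := by decide +kernel
theorem rk26_2 : allR (ckComm T4 T11) (nat_lit 32768) (nat_lit 16384) = true := by decide +kernel
theorem rk26_3 : allR (ckComm T4 T11) (nat_lit 49152) (nat_lit 16384) = true := by decide +kernel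
theorem rk26_4 : allR (ckComm T4 T11) (nat_lit 65536) (nat_lit 16384) = true := by decide +kernel
theorem rk26_5 : allR (ckComm T4 T11) (nat_lit 81920) (nat_lit 16384) = true := by decide +kernel
theorem rk26_6 : allR (ckComm T4 T11) (nat_lit 98304) (nat_lit 16384) = true := by decide +kernel
theorem rk26_7 : allR (ckComm T4 T11) (nat_lit 114688) (nat_lit 16384) = true := by decide +kernel

end Cfsg.Agent.H8.Fi24t
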