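import Cfsg.Agent.H8.T.Fi24tTab
import Cfsg.Agent.H8.CosetComm

set_option Elab.async false
set_option autoImplicit false
set_option linter.all false
set_option maxRecDepth 100000

namespace Cfsg.Agent.H8.Fi24t
theorem rk26_8 : allR (ckComm T4 T11) (nat_lit 131072) (nat_lit 16384) = true := by decide +kernel
theorem rk26_9 : allR (ckComm T4 T11) (nat_lit 147456) (nat_lit 16384) = true := by decide +kernel
theorem rk26_10 : allR (ckComm T4 T11) (nat_lit 163840) (nat_lit 16384) = true := by decide +kernel
theorem rk26_11 : allR (ckComm T4 T11) (nat_lit 180224) (nat_lit 16384) = true := by decide +kernel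
theorem rk26_12 : allR (ckComm T4 T11) (nat_lit 196608) (nat_lit 16384) = true := by decide +kernel
theorem rk26_13 : allR (ckComm T4 T11) (nat_lit 212992) (nat_lit 16384) = true := by decide +kernel
theorem rk26_14 : allR (ckComm T4 T11) (nat_lit 229376) (nat_lit 16384) = true := by decide +kernel
theorem rk26_15 : allR (ckComm T4 T11) (nat_lit 245760) (nat_lit 16384) = true := by decide +kernel
theorem rk26_16 : allR (ckComm T4 T11) (nat_lit 262144) (nat_lit 16384) = true := by decide +kernel
theorem rk26_17 : allR (ckComm T4 T11) (nat_lit 278528) (nat_lit 16384) = true := by decide +kernel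
theorem rk26_18 : allR (ckComm T4 T11) (nat_lit 294912) (nat_lit 12024) = true := by decide +kernel
theorem rk27_0 : allR (ckComm T4 T9) (nat_lit 0) (nat_lit 16384) = true := by decide +kernel
theorem rk27_1 : allR (ckComm T4 T9) (nat_lit 16384) (nat_lit 16384) = true := by decide +kernel
theorem rk27_2 : allR (ckComm T4 T9) (nat_lit 32768) (nat_lit 16384) = true := by decide +kernel
theorem rk27_3 : allR (ckComm T4 T9) (nat_lit 49152) (nat_lit 16384) = true := by decide +kernel
theorem rk27_4 : allR (ckComm T4 T9) (nat_lit 65536) (nat_lit 16384) = true := by decide +kernel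
theorem rk27_5 : allR (ckComm T4 T9) (nat_lit 81920) (nat_lit 16384) = true := by decide +kernel
theorem rk27_6 : allR (ckComm T4 T9) (nat_lit 98304) (nat_lit 16384) = true := by decide +kernel
theorem rk27_7 : allR (ckComm T4 T9) (nat_lit 114688) (nat_lit 16384) = true := by decide +kernel
theorem rk27_8 : allR (ckComm T4 T9) (nat_lit 131072) (nat_lit 16384) = true := by decide +kernel
theorem rk27_9 : allR (ckComm T4 T9) (nat_lit 147456) (nat_lit 16384) = true := by decide +kernel
theorem rk27_10 : allR (ckComm T4 T9) (nat_lit 163840) (nat_lit 16384) = true := by decide +kernel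
theorem rk27_11 : allR (ckComm T4 T9) (nat_lit 180224) (nat_lit 16384) = true := by decide +kernel
theorem rk27_12 : allR (ckComm T4 T9) (nat_lit 196608) (nat_lit 16384) = true := by decide +kernel
theorem rk27_13 : allR (ckComm T4 T9) (nat_lit 212992) (nat_lit 16384) = true := by decide +kernel
theorem rk27_14 : allR (ckComm T4 T9) (nat_lit 229376) (nat_lit 16384) = true := by decide +kernel
theorem rk27_15 : allR (ckComm T4 T9) (nat_lit 245760) (nat_lit 16384) = true := by decide +kernel
theorem rk27_16 : allR (ckComm T4 T9) (nat_lit 262144) (nat_lit 16384) = true := by decide +kernel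
theorem rk27_17 : allR (ckComm T4 T9) (nat_lit 278528) (nat_lit 16384) = true := by decide +kernel
theorem rk27_18 : allR (ckComm T4 T9) (nat_lit 294912) (nat_lit 12024) = true := by decide +kernel
theorem rk28_0 : allR (ckComm T4 T1) (nat_lit 0) (nat_lit 16384) = true := by decide +kernel
theorem rk28_1 : allR (ckComm T4 T1) (nat_lit 16384) (nat_lit 16384) = true := by decide +kernel
theorem rk28_2 : allR (ckComm T4 T1) (nat_lit 32768) (nat_lit 16384) = true := by decide +kernel
theorem rk28_3 : allR (ckComm T4 T1) (nat_lit 49152) (nat_lit 16384) = true := by decide +kernel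
theorem rk28_4 : allR (ckComm T4 T1) (nat_lit 65536) (nat_lit 16384) = true := by decide +kernel
theorem rk28_5 : allR (ckComm T4 T1) (nat_lit 81920) (nat_lit 16384) = true := by decide +kernel
theorem rk28_6 : allR (ckComm T4 T1) (nat_lit 98304) (nat_lit 16384) = true := by decide +kernel
theorem rk28_7 : allR (ckComm T4 T1) (nat_lit 114688) (nat_lit 16384) = true := by decide +kernel
theorem rk28_8 : allR (ckComm T4 T1) (nat_lit 131072) (nat_lit 16384) = true := by decide +kernel
theorem rk28_9 : allR (ckComm T4 T1) (nat_lit 147456) (nat_lit 16384) = true := by decide +kernel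
theorem rk28_10 : allR (ckComm T4 T1) (nat_lit 163840) (nat_lit 16384) = true := by decide +kernel
theorem rk28_11 : allR (ckComm T4 T1) (nat_lit 180224) (nat_lit 16384) = true := by decide +kernel
theorem rk28_12 : allR (ckComm T4 T1) (nat_lit 196608) (nat_lit 16384) = true := by decide +kernel
theorem rk28_13 : allR (ckComm T4 T1) (nat_lit 212992) (nat_lit 16384) = true := by decide +kernel
theorem rk28_14 : allR (ckComm T4 T1) (nat_lit 229376) (nat_lit 16384) = true := by decide +kernel
theorem rk28_15 : allR (ckComm T4 T1) (nat_lit 245760) (nat_lit 16384) = true := by decide +kernel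
theorem rk28_16 : allR (ckComm T4 T1) (nat_lit 262144) (nat_lit 16384) = true := by decide +kernel
theorem rk28_17 : allR (ckComm T4 T1) (nat_lit 278528) (nat_lit 16384) = true := by decide +kernel
theorem rk28_18 : allR (ckComm T4 T1) (nat_lit 294912) (nat_lit 12024) = true := by decide +kernel
theorem rk29_0 : allR (ckComm T4 T0) (nat_lit 0) (nat_lit 16384) = true := by decide +kernel
theorem rk29_1 : allR (ckComm T4 T0) (nat_lit 16384) (nat_lit 16384) = true := by decide +kernel
theorem rk29_2 : allR (ckComm T4 T0) (nat_lit 32768) (nat_lit 16384) = true := by decide +kernel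
theorem rk29_3 : allR (ckComm T4 T0) (nat_lit 49152) (nat_lit 16384) = true := by decide +kernel
theorem rk29_4 : allR (ckComm T4 T0) (nat_lit 65536) (nat_lit 16384) = true := by decide +kernel
theorem rk29_5 : allR (ckComm T4 T0) (nat_lit 81920) (nat_lit 16384) = true := by decide +kernel
theorem rk29_6 : allR (ckComm T4 T0) (nat_lit 98304) (nat_lit 16384) = true := by decide +kernel
theorem rk29_7 : allR (ckComm T4 T0) (nat_lit 114688) (nat_lit 16384) = true := by decide +kernel
theorem rk29_8 : allR (ckComm T4 T0) (nat_lit 131072) (nat_lit 16384) = true := by decide +kernel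
theorem rk29_9 : allR (ckComm T4 T0) (nat_lit 147456) (nat_lit 16384) = true := by decide +kernel
theorem rk29_10 : allR (ckComm T4 T0) (nat_lit 163840) (nat_lit 16384) = true := by decide +kernel
theorem rk29_11 : allR (ckComm T4 T0) (nat_lit 180224) (nat_lit 16384) = true := by decide +kernel
theorem rk29_12 : allR (ckComm T4 T0) (nat_lit 196608) (nat_lit 16384) = true := by decide +kernel
theorem rk29_13 : allR (ckComm T4 T0) (nat_lit 212992) (nat_lit 16384) = true := by decide +kernel
theorem rk29_14 : allR (ckComm T4 T0) (nat_lit 229376) (nat_lit 16384) = true := by decide +kernel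
theorem rk29_15 : allR (ckComm T4 T0) (nat_lit 245760) (nat_lit 16384) = true := by decide +kernel
theorem rk29_16 : allR (ckComm T4 T0) (nat_lit 262144) (nat_lit 16384) = true := by decide +kernel
theorem rk29_17 : allR (ckComm T4 T0) (nat_lit 278528) (nat_lit 16384) = true := by decide +kernel
theorem rk29_18 : allR (ckComm T4 T0) (nat_lit 294912) (nat_lit 12024) = true := by decide +kernel
theorem rk30_0 : allR (fun i => powT [T5, T6] i (nat_lit 3) i) (nat_lit 0) (nat_lit 16384) = true := by decide +kernel
theorem rk30_1 : allR (fun i => powT [T5, T6] i (nat_lit 3) i) (nat_lit 16384) (nat_lit 16384) = true := by decide +kernel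
theorem rk30_2 : allR (fun i => powT [T5, T6] i (nat_lit 3) i) (nat_lit 32768) (nat_lit 16384) = true := by decide +kernel
theorem rk30_3 : allR (fun i => powT [T5, T6] i (nat_lit 3) i) (nat_lit 49152) (nat_lit 16384) = true := by decide +kernel
theorem rk30_4 : allR (fun i => powT [T5, T6] i (nat_lit 3) i) (nat_lit 65536) (nat_lit 16384) = true := by decide +kernel
theorem rk30_5 : allR (fun i => powT [T5, T6] i (nat_lit 3) i) (nat_lit 81920) (nat_lit 16384) = true := by decide +kernel
theorem rk30_6 : allR (fun i => powT [T5, T6] i (nat_lit 3) i) (nat_lit 98304) (nat_lit 16384) = true := by decide +kernel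
theorem rk30_7 : allR (fun i => powT [T5, T6] i (nat_lit 3) i) (nat_lit 114688) (nat_lit 16384) = true := by decide +kernel
theorem rk30_8 : allR (fun i => powT [T5, T6] i (nat_lit 3) i) (nat_lit 131072) (nat_lit 16384) = true := by decide +kernel
theorem rk30_9 : allR (fun i => powT [T5, T6] i (nat_lit 3) i) (nat_lit 147456) (nat_lit 16384) = true := by decide +kernel
theorem rk30_10 : allR (fun i => powT [T5, T6] i (nat_lit 3) i) (nat_lit 163840) (nat_lit 16384) = true := by decide +kernel
theorem rk30_11 : allR (fun i => powT [T5, T6] i (nat_lit 3) i) (nat_lit 180224) (nat_lit 16384) = true := by decide +kernel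
theorem rk30_12 : allR (fun i => powT [T5, T6] i (nat_lit 3) i) (nat_lit 196608) (nat_lit 16384) = true := by decide +kernel
theorem rk30_13 : allR (fun i => powT [T5, T6] i (nat_lit 3) i) (nat_lit 212992) (nat_lit 16384) = true := by decide +kernel
theorem rk30_14 : allR (fun i => powT [T5, T6] i (nat_lit 3) i) (nat_lit 229376) (nat_lit 16384) = true := by decide +kernel
theorem rk30_15 : allR (fun i => powT [T5, T6] i (nat_lit 3) i) (nat_lit 245760) (nat_lit 16384) = true := by decide +kernel
theorem rk30_16 : allR (fun i => powT [T5, T6] i (nat_lit 3) i) (nat_lit 262144) (nat_lit 16384) = true := by decide +kernel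
theorem rk30_17 : allR (fun i => powT [T5, T6] i (nat_lit 3) i) (nat_lit 278528) (nat_lit 16384) = true := by decide +kernel
theorem rk30_18 : allR (fun i => powT [T5, T6] i (nat_lit 3) i) (nat_lit 294912) (nat_lit 12024) = true := by decide +kernel
theorem rk31_0 : allR (ckComm T5 T7) (nat_lit 0) (nat_lit 16384) = true := by decide +kernel
theorem rk31_1 : allR (ckComm T5 T7) (nat_lit 16384) (nat_lit 16384) = true := by decide +kernel
theorem rk31_2 : allR (ckComm T5 T7) (nat_lit 32768) (nat_lit 16384) = true := by decide +kernel
theorem rk31_3 : allR (ckComm T5 T7) (nat_lit 49152) (nat_lit 16384) = true := by decide +kernel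
theorem rk31_4 : allR (ckComm T5 T7) (nat_lit 65536) (nat_lit 16384) = true := by decide +kernel
theorem rk31_5 : allR (ckComm T5 T7) (nat_lit 81920) (nat_lit 16384) = true := by decide +kernel
theorem rk31_6 : allR (ckComm T5 T7) (nat_lit 98304) (nat_lit 16384) = true := by decide +kernel
theorem rk31_7 : allR (ckComm T5 T7) (nat_lit 114688) (nat_lit 16384) = true := by decide +kernel
theorem rk31_8 : allR (ckComm T5 T7) (nat_lit 131072) (nat_lit 16384) = true := by decide +kernel
theorem rk31_9 : allR (ckComm T5 T7) (nat_lit 147456) (nat_lit 16384) = true := by decide +kernel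

end Cfsg.Agent.H8.Fi24t
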