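import Cfsg.Agent.H8.T.Fi24tTab
import Cfsg.Agent.H8.CosetComm

set_option Elab.async false
set_option autoImplicit false
set_option linter.all false
set_option maxRecDepth 100000

namespace Cfsg.Agent.H8.Fi24t
theorem rk31_10 : allR (ckComm T5 T7) (nat_lit 163840) (nat_lit 16384) = true := by decide +kernel
theorem rk31_11 : allR (ckComm T5 T7) (nat_lit 180224) (nat_lit 16384) = true := by decide +kernel
theorem rk31_12 : allR (ckComm T5 T7) (nat_lit 196608) (nat_lit 16384) = true := by decide +kernel
theorem rk31_13 : allR (ckComm T5 T7) (nat_lit 212992) (nat_lit 16384) = true := by decide +kernel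
theorem rk31_14 : allR (ckComm T5 T7) (nat_lit 229376) (nat_lit 16384) = true := by decide +kernel
theorem rk31_15 : allR (ckComm T5 T7) (nat_lit 245760) (nat_lit 16384) = true := by decide +kernel
theorem rk31_16 : allR (ckComm T5 T7) (nat_lit 262144) (nat_lit 16384) = true := by decide +kernel
theorem rk31_17 : allR (ckComm T5 T7) (nat_lit 278528) (nat_lit 16384) = true := by decide +kernel
theorem rk31_18 : allR (ckComm T5 T7) (nat_lit 294912) (nat_lit 12024) = true := by decide +kernel
theorem rk32_0 : allR (ckComm T5 T8) (nat_lit 0) (nat_lit 16384) = true := by decide +kernel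
theorem rk32_1 : allR (ckComm T5 T8) (nat_lit 16384) (nat_lit 16384) = true := by decide +kernel
theorem rk32_2 : allR (ckComm T5 T8) (nat_lit 32768) (nat_lit 16384) = true := by decide +kernel
theorem rk32_3 : allR (ckComm T5 T8) (nat_lit 49152) (nat_lit 16384) = true := by decide +kernel
theorem rk32_4 : allR (ckComm T5 T8) (nat_lit 65536) (nat_lit 16384) = true := by decide +kernel
theorem rk32_5 : allR (ckComm T5 T8) (nat_lit 81920) (nat_lit 16384) = true := by decide +kernel
theorem rk32_6 : allR (ckComm T5 T8) (nat_lit 98304) (nat_lit 16384) = true := by decide +kernel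
theorem rk32_7 : allR (ckComm T5 T8) (nat_lit 114688) (nat_lit 16384) = true := by decide +kernel
theorem rk32_8 : allR (ckComm T5 T8) (nat_lit 131072) (nat_lit 16384) = true := by decide +kernel
theorem rk32_9 : allR (ckComm T5 T8) (nat_lit 147456) (nat_lit 16384) = true := by decide +kernel
theorem rk32_10 : allR (ckComm T5 T8) (nat_lit 163840) (nat_lit 16384) = true := by decide +kernel
theorem rk32_11 : allR (ckComm T5 T8) (nat_lit 180224) (nat_lit 16384) = true := by decide +kernel
theorem rk32_12 : allR (ckComm T5 T8) (nat_lit 196608) (nat_lit 16384) = true := by decide +kernel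
theorem rk32_13 : allR (ckComm T5 T8) (nat_lit 212992) (nat_lit 16384) = true := by decide +kernel
theorem rk32_14 : allR (ckComm T5 T8) (nat_lit 229376) (nat_lit 16384) = true := by decide +kernel
theorem rk32_15 : allR (ckComm T5 T8) (nat_lit 245760) (nat_lit 16384) = true := by decide +kernel
theorem rk32_16 : allR (ckComm T5 T8) (nat_lit 262144) (nat_lit 16384) = true := by decide +kernel
theorem rk32_17 : allR (ckComm T5 T8) (nat_lit 278528) (nat_lit 16384) = true := by decide +kernel
theorem rk32_18 : allR (ckComm T5 T8) (nat_lit 294912) (nat_lit 12024) = true := by decide +kernel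
theorem rk33_0 : allR (fun i => powT [T5, T10] i (nat_lit 3) i) (nat_lit 0) (nat_lit 16384) = true := by decide +kernel
theorem rk33_1 : allR (fun i => powT [T5, T10] i (nat_lit 3) i) (nat_lit 16384) (nat_lit 16384) = true := by decide +kernel
theorem rk33_2 : allR (fun i => powT [T5, T10] i (nat_lit 3) i) (nat_lit 32768) (nat_lit 16384) = true := by decide +kernel
theorem rk33_3 : allR (fun i => powT [T5, T10] i (nat_lit 3) i) (nat_lit 49152) (nat_lit 16384) = true := by decide +kernel
theorem rk33_4 : allR (fun i => powT [T5, T10] i (nat_lit 3) i) (nat_lit 65536) (nat_lit 16384) = true := by decide +kernel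
theorem rk33_5 : allR (fun i => powT [T5, T10] i (nat_lit 3) i) (nat_lit 81920) (nat_lit 16384) = true := by decide +kernel
theorem rk33_6 : allR (fun i => powT [T5, T10] i (nat_lit 3) i) (nat_lit 98304) (nat_lit 16384) = true := by decide +kernel
theorem rk33_7 : allR (fun i => powT [T5, T10] i (nat_lit 3) i) (nat_lit 114688) (nat_lit 16384) = true := by decide +kernel
theorem rk33_8 : allR (fun i => powT [T5, T10] i (nat_lit 3) i) (nat_lit 131072) (nat_lit 16384) = true := by decide +kernel
theorem rk33_9 : allR (fun i => powT [T5, T10] i (nat_lit 3) i) (nat_lit 147456) (nat_lit 16384) = true := by decide +kernel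
theorem rk33_10 : allR (fun i => powT [T5, T10] i (nat_lit 3) i) (nat_lit 163840) (nat_lit 16384) = true := by decide +kernel
theorem rk33_11 : allR (fun i => powT [T5, T10] i (nat_lit 3) i) (nat_lit 180224) (nat_lit 16384) = true := by decide +kernel
theorem rk33_12 : allR (fun i => powT [T5, T10] i (nat_lit 3) i) (nat_lit 196608) (nat_lit 16384) = true := by decide +kernel
theorem rk33_13 : allR (fun i => powT [T5, T10] i (nat_lit 3) i) (nat_lit 212992) (nat_lit 16384) = true := by decide +kernel
theorem rk33_14 : allR (fun i => powT [T5, T10] i (nat_lit 3) i) (nat_lit 229376) (nat_lit 16384) = true := by decide +kernel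
theorem rk33_15 : allR (fun i => powT [T5, T10] i (nat_lit 3) i) (nat_lit 245760) (nat_lit 16384) = true := by decide +kernel
theorem rk33_16 : allR (fun i => powT [T5, T10] i (nat_lit 3) i) (nat_lit 262144) (nat_lit 16384) = true := by decide +kernel
theorem rk33_17 : allR (fun i => powT [T5, T10] i (nat_lit 3) i) (nat_lit 278528) (nat_lit 16384) = true := by decide +kernel
theorem rk33_18 : allR (fun i => powT [T5, T10] i (nat_lit 3) i) (nat_lit 294912) (nat_lit 12024) = true := by decide +kernel
theorem rk34_0 : allR (ckComm T5 T11) (nat_lit 0) (nat_lit 16384) = true := by decide +kernel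
theorem rk34_1 : allR (ckComm T5 T11) (nat_lit 16384) (nat_lit 16384) = true := by decide +kernel
theorem rk34_2 : allR (ckComm T5 T11) (nat_lit 32768) (nat_lit 16384) = true := by decide +kernel
theorem rk34_3 : allR (ckComm T5 T11) (nat_lit 49152) (nat_lit 16384) = true := by decide +kernel
theorem rk34_4 : allR (ckComm T5 T11) (nat_lit 65536) (nat_lit 16384) = true := by decide +kernel
theorem rk34_5 : allR (ckComm T5 T11) (nat_lit 81920) (nat_lit 16384) = true := by decide +kernel
theorem rk34_6 : allR (ckComm T5 T11) (nat_lit 98304) (nat_lit 16384) = true := by decide +kernel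
theorem rk34_7 : allR (ckComm T5 T11) (nat_lit 114688) (nat_lit 16384) = true := by decide +kernel
theorem rk34_8 : allR (ckComm T5 T11) (nat_lit 131072) (nat_lit 16384) = true := by decide +kernel
theorem rk34_9 : allR (ckComm T5 T11) (nat_lit 147456) (nat_lit 16384) = true := by decide +kernel
theorem rk34_10 : allR (ckComm T5 T11) (nat_lit 163840) (nat_lit 16384) = true := by decide +kernel
theorem rk34_11 : allR (ckComm T5 T11) (nat_lit 180224) (nat_lit 16384) = true := by decide +kernel
theorem rk34_12 : allR (ckComm T5 T11) (nat_lit 196608) (nat_lit 16384) = true := by decide +kernel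
theorem rk34_13 : allR (ckComm T5 T11) (nat_lit 212992) (nat_lit 16384) = true := by decide +kernel
theorem rk34_14 : allR (ckComm T5 T11) (nat_lit 229376) (nat_lit 16384) = true := by decide +kernel
theorem rk34_15 : allR (ckComm T5 T11) (nat_lit 245760) (nat_lit 16384) = true := by decide +kernel
theorem rk34_16 : allR (ckComm T5 T11) (nat_lit 262144) (nat_lit 16384) = true := by decide +kernel
theorem rk34_17 : allR (ckComm T5 T11) (nat_lit 278528) (nat_lit 16384) = true := by decide +kernel
theorem rk34_18 : allR (ckComm T5 T11) (nat_lit 294912) (nat_lit 12024) = true := by decide +kernel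
theorem rk35_0 : allR (ckComm T5 T9) (nat_lit 0) (nat_lit 16384) = true := by decide +kernel
theorem rk35_1 : allR (ckComm T5 T9) (nat_lit 16384) (nat_lit 16384) = true := by decide +kernel
theorem rk35_2 : allR (ckComm T5 T9) (nat_lit 32768) (nat_lit 16384) = true := by decide +kernel
theorem rk35_3 : allR (ckComm T5 T9) (nat_lit 49152) (nat_lit 16384) = true := by decide +kernel
theorem rk35_4 : allR (ckComm T5 T9) (nat_lit 65536) (nat_lit 16384) = true := by decide +kernel
theorem rk35_5 : allR (ckComm T5 T9) (nat_lit 81920) (nat_lit 16384) = true := by decide +kernel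
theorem rk35_6 : allR (ckComm T5 T9) (nat_lit 98304) (nat_lit 16384) = true := by decide +kernel
theorem rk35_7 : allR (ckComm T5 T9) (nat_lit 114688) (nat_lit 16384) = true := by decide +kernel
theorem rk35_8 : allR (ckComm T5 T9) (nat_lit 131072) (nat_lit 16384) = true := by decide +kernel
theorem rk35_9 : allR (ckComm T5 T9) (nat_lit 147456) (nat_lit 16384) = true := by decide +kernel
theorem rk35_10 : allR (ckComm T5 T9) (nat_lit 163840) (nat_lit 16384) = true := by decide +kernel
theorem rk35_11 : allR (ckComm T5 T9) (nat_lit 180224) (nat_lit 16384) = true := by decide +kernel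
theorem rk35_12 : allR (ckComm T5 T9) (nat_lit 196608) (nat_lit 16384) = true := by decide +kernel
theorem rk35_13 : allR (ckComm T5 T9) (nat_lit 212992) (nat_lit 16384) = true := by decide +kernel
theorem rk35_14 : allR (ckComm T5 T9) (nat_lit 229376) (nat_lit 16384) = true := by decide +kernel
theorem rk35_15 : allR (ckComm T5 T9) (nat_lit 245760) (nat_lit 16384) = true := by decide +kernel
theorem rk35_16 : allR (ckComm T5 T9) (nat_lit 262144) (nat_lit 16384) = true := by decide +kernel
theorem rk35_17 : allR (ckComm T5 T9) (nat_lit 278528) (nat_lit 16384) = true := by decide +kernel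
theorem rk35_18 : allR (ckComm T5 T9) (nat_lit 294912) (nat_lit 12024) = true := by decide +kernel
theorem rk36_0 : allR (ckComm T5 T1) (nat_lit 0) (nat_lit 16384) = true := by decide +kernel
theorem rk36_1 : allR (ckComm T5 T1) (nat_lit 16384) (nat_lit 16384) = true := by decide +kernel
theorem rk36_2 : allR (ckComm T5 T1) (nat_lit 32768) (nat_lit 16384) = true := by decide +kernel
theorem rk36_3 : allR (ckComm T5 T1) (nat_lit 49152) (nat_lit 16384) = true := by decide +kernel
theorem rk36_4 : allR (ckComm T5 T1) (nat_lit 65536) (nat_lit 16384) = true := by decide +kernel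
theorem rk36_5 : allR (ckComm T5 T1) (nat_lit 81920) (nat_lit 16384) = true := by decide +kernel
theorem rk36_6 : allR (ckComm T5 T1) (nat_lit 98304) (nat_lit 16384) = true := by decide +kernel
theorem rk36_7 : allR (ckComm T5 T1) (nat_lit 114688) (nat_lit 16384) = true := by decide +kernel
theorem rk36_8 : allR (ckComm T5 T1) (nat_lit 131072) (nat_lit 16384) = true := by decide +kernel
theorem rk36_9 : allR (ckComm T5 T1) (nat_lit 147456) (nat_lit 16384) = true := by decide +kernel
theorem rk36_10 : allR (ckComm T5 T1) (nat_lit 163840) (nat_lit 16384) = true := by decide +kernel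
theorem rk36_11 : allR (ckComm T5 T1) (nat_lit 180224) (nat_lit 16384) = true := by decide +kernel

end Cfsg.Agent.H8.Fi24t
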