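import Cfsg.Agent.H8.T.Fi24tTab
import Cfsg.Agent.H8.CosetComm

set_option Elab.async false
set_option autoImplicit false
set_option linter.all false
set_option maxRecDepth 100000

namespace Cfsg.Agent.H8.Fi24t
theorem rk36_12 : allR (ckComm T5 T1) (nat_lit 196608) (nat_lit 16384) = true := by decide +kernel
theorem rk36_13 : allR (ckComm T5 T1) (nat_lit 212992) (nat_lit 16384) = true := by decide +kernel
theorem rk36_14 : allR (ckComm T5 T1) (nat_lit 229376) (nat_lit 16384) = true := by decide +kernel
theorem rk36_15 : allR (ckComm T5 T1) (nat_lit 245760) (nat_lit 16384) = true := by decide +kernel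
theorem rk36_16 : allR (ckComm T5 T1) (nat_lit 262144) (nat_lit 16384) = true := by decide +kernel
theorem rk36_17 : allR (ckComm T5 T1) (nat_lit 278528) (nat_lit 16384) = true := by decide +kernel
theorem rk36_18 : allR (ckComm T5 T1) (nat_lit 294912) (nat_lit 12024) = true := by decide +kernel
theorem rk37_0 : allR (ckComm T5 T0) (nat_lit 0) (nat_lit 16384) = true := by decide +kernel
theorem rk37_1 : allR (ckComm T5 T0) (nat_lit 16384) (nat_lit 16384) = true := by decide +kernel
theorem rk37_2 : allR (ckComm T5 T0) (nat_lit 32768) (nat_lit 16384) = true := by decide +kernel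
theorem rk37_3 : allR (ckComm T5 T0) (nat_lit 49152) (nat_lit 16384) = true := by decide +kernel
theorem rk37_4 : allR (ckComm T5 T0) (nat_lit 65536) (nat_lit 16384) = true := by decide +kernel
theorem rk37_5 : allR (ckComm T5 T0) (nat_lit 81920) (nat_lit 16384) = true := by decide +kernel
theorem rk37_6 : allR (ckComm T5 T0) (nat_lit 98304) (nat_lit 16384) = true := by decide +kernel
theorem rk37_7 : allR (ckComm T5 T0) (nat_lit 114688) (nat_lit 16384) = true := by decide +kernel
theorem rk37_8 : allR (ckComm T5 T0) (nat_lit 131072) (nat_lit 16384) = true := by decide +kernel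
theorem rk37_9 : allR (ckComm T5 T0) (nat_lit 147456) (nat_lit 16384) = true := by decide +kernel
theorem rk37_10 : allR (ckComm T5 T0) (nat_lit 163840) (nat_lit 16384) = true := by decide +kernel
theorem rk37_11 : allR (ckComm T5 T0) (nat_lit 180224) (nat_lit 16384) = true := by decide +kernel
theorem rk37_12 : allR (ckComm T5 T0) (nat_lit 196608) (nat_lit 16384) = true := by decide +kernel
theorem rk37_13 : allR (ckComm T5 T0) (nat_lit 212992) (nat_lit 16384) = true := by decide +kernel
theorem rk37_14 : allR (ckComm T5 T0) (nat_lit 229376) (nat_lit 16384) = true := by decide +kernel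
theorem rk37_15 : allR (ckComm T5 T0) (nat_lit 245760) (nat_lit 16384) = true := by decide +kernel
theorem rk37_16 : allR (ckComm T5 T0) (nat_lit 262144) (nat_lit 16384) = true := by decide +kernel
theorem rk37_17 : allR (ckComm T5 T0) (nat_lit 278528) (nat_lit 16384) = true := by decide +kernel
theorem rk37_18 : allR (ckComm T5 T0) (nat_lit 294912) (nat_lit 12024) = true := by decide +kernel
theorem rk38_0 : allR (fun i => powT [T6, T7] i (nat_lit 3) i) (nat_lit 0) (nat_lit 16384) = true := by decide +kernel
theorem rk38_1 : allR (fun i => powT [T6, T7] i (nat_lit 3) i) (nat_lit 16384) (nat_lit 16384) = true := by decide +kernel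
theorem rk38_2 : allR (fun i => powT [T6, T7] i (nat_lit 3) i) (nat_lit 32768) (nat_lit 16384) = true := by decide +kernel
theorem rk38_3 : allR (fun i => powT [T6, T7] i (nat_lit 3) i) (nat_lit 49152) (nat_lit 16384) = true := by decide +kernel
theorem rk38_4 : allR (fun i => powT [T6, T7] i (nat_lit 3) i) (nat_lit 65536) (nat_lit 16384) = true := by decide +kernel
theorem rk38_5 : allR (fun i => powT [T6, T7] i (nat_lit 3) i) (nat_lit 81920) (nat_lit 16384) = true := by decide +kernel
theorem rk38_6 : allR (fun i => powT [T6, T7] i (nat_lit 3) i) (nat_lit 98304) (nat_lit 16384) = true := by decide +kernel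
theorem rk38_7 : allR (fun i => powT [T6, T7] i (nat_lit 3) i) (nat_lit 114688) (nat_lit 16384) = true := by decide +kernel
theorem rk38_8 : allR (fun i => powT [T6, T7] i (nat_lit 3) i) (nat_lit 131072) (nat_lit 16384) = true := by decide +kernel
theorem rk38_9 : allR (fun i => powT [T6, T7] i (nat_lit 3) i) (nat_lit 147456) (nat_lit 16384) = true := by decide +kernel
theorem rk38_10 : allR (fun i => powT [T6, T7] i (nat_lit 3) i) (nat_lit 163840) (nat_lit 16384) = true := by decide +kernel
theorem rk38_11 : allR (fun i => powT [T6, T7] i (nat_lit 3) i) (nat_lit 180224) (nat_lit 16384) = true := by decide +kernel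
theorem rk38_12 : allR (fun i => powT [T6, T7] i (nat_lit 3) i) (nat_lit 196608) (nat_lit 16384) = true := by decide +kernel
theorem rk38_13 : allR (fun i => powT [T6, T7] i (nat_lit 3) i) (nat_lit 212992) (nat_lit 16384) = true := by decide +kernel
theorem rk38_14 : allR (fun i => powT [T6, T7] i (nat_lit 3) i) (nat_lit 229376) (nat_lit 16384) = true := by decide +kernel
theorem rk38_15 : allR (fun i => powT [T6, T7] i (nat_lit 3) i) (nat_lit 245760) (nat_lit 16384) = true := by decide +kernel
theorem rk38_16 : allR (fun i => powT [T6, T7] i (nat_lit 3) i) (nat_lit 262144) (nat_lit 16384) = true := by decide +kernel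
theorem rk38_17 : allR (fun i => powT [T6, T7] i (nat_lit 3) i) (nat_lit 278528) (nat_lit 16384) = true := by decide +kernel
theorem rk38_18 : allR (fun i => powT [T6, T7] i (nat_lit 3) i) (nat_lit 294912) (nat_lit 12024) = true := by decide +kernel
theorem rk39_0 : allR (ckComm T6 T8) (nat_lit 0) (nat_lit 16384) = true := by decide +kernel
theorem rk39_1 : allR (ckComm T6 T8) (nat_lit 16384) (nat_lit 16384) = true := by decide +kernel
theorem rk39_2 : allR (ckComm T6 T8) (nat_lit 32768) (nat_lit 16384) = true := by decide +kernel
theorem rk39_3 : allR (ckComm T6 T8) (nat_lit 49152) (nat_lit 16384) = true := by decide +kernel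
theorem rk39_4 : allR (ckComm T6 T8) (nat_lit 65536) (nat_lit 16384) = true := by decide +kernel
theorem rk39_5 : allR (ckComm T6 T8) (nat_lit 81920) (nat_lit 16384) = true := by decide +kernel
theorem rk39_6 : allR (ckComm T6 T8) (nat_lit 98304) (nat_lit 16384) = true := by decide +kernel
theorem rk39_7 : allR (ckComm T6 T8) (nat_lit 114688) (nat_lit 16384) = true := by decide +kernel
theorem rk39_8 : allR (ckComm T6 T8) (nat_lit 131072) (nat_lit 16384) = true := by decide +kernel
theorem rk39_9 : allR (ckComm T6 T8) (nat_lit 147456) (nat_lit 16384) = true := by decide +kernel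
theorem rk39_10 : allR (ckComm T6 T8) (nat_lit 163840) (nat_lit 16384) = true := by decide +kernel
theorem rk39_11 : allR (ckComm T6 T8) (nat_lit 180224) (nat_lit 16384) = true := by decide +kernel
theorem rk39_12 : allR (ckComm T6 T8) (nat_lit 196608) (nat_lit 16384) = true := by decide +kernel
theorem rk39_13 : allR (ckComm T6 T8) (nat_lit 212992) (nat_lit 16384) = true := by decide +kernel
theorem rk39_14 : allR (ckComm T6 T8) (nat_lit 229376) (nat_lit 16384) = true := by decide +kernel
theorem rk39_15 : allR (ckComm T6 T8) (nat_lit 245760) (nat_lit 16384) = true := by decide +kernel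
theorem rk39_16 : allR (ckComm T6 T8) (nat_lit 262144) (nat_lit 16384) = true := by decide +kernel
theorem rk39_17 : allR (ckComm T6 T8) (nat_lit 278528) (nat_lit 16384) = true := by decide +kernel
theorem rk39_18 : allR (ckComm T6 T8) (nat_lit 294912) (nat_lit 12024) = true := by decide +kernel
theorem rk40_0 : allR (ckComm T6 T10) (nat_lit 0) (nat_lit 16384) = true := by decide +kernel
theorem rk40_1 : allR (ckComm T6 T10) (nat_lit 16384) (nat_lit 16384) = true := by decide +kernel
theorem rk40_2 : allR (ckComm T6 T10) (nat_lit 32768) (nat_lit 16384) = true := by decide +kernel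
theorem rk40_3 : allR (ckComm T6 T10) (nat_lit 49152) (nat_lit 16384) = true := by decide +kernel
theorem rk40_4 : allR (ckComm T6 T10) (nat_lit 65536) (nat_lit 16384) = true := by decide +kernel
theorem rk40_5 : allR (ckComm T6 T10) (nat_lit 81920) (nat_lit 16384) = true := by decide +kernel
theorem rk40_6 : allR (ckComm T6 T10) (nat_lit 98304) (nat_lit 16384) = true := by decide +kernel
theorem rk40_7 : allR (ckComm T6 T10) (nat_lit 114688) (nat_lit 16384) = true := by decide +kernel
theorem rk40_8 : allR (ckComm T6 T10) (nat_lit 131072) (nat_lit 16384) = true := by decide +kernel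
theorem rk40_9 : allR (ckComm T6 T10) (nat_lit 147456) (nat_lit 16384) = true := by decide +kernel
theorem rk40_10 : allR (ckComm T6 T10) (nat_lit 163840) (nat_lit 16384) = true := by decide +kernel
theorem rk40_11 : allR (ckComm T6 T10) (nat_lit 180224) (nat_lit 16384) = true := by decide +kernel
theorem rk40_12 : allR (ckComm T6 T10) (nat_lit 196608) (nat_lit 16384) = true := by decide +kernel
theorem rk40_13 : allR (ckComm T6 T10) (nat_lit 212992) (nat_lit 16384) = true := by decide +kernel
theorem rk40_14 : allR (ckComm T6 T10) (nat_lit 229376) (nat_lit 16384) = true := by decide +kernel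
theorem rk40_15 : allR (ckComm T6 T10) (nat_lit 245760) (nat_lit 16384) = true := by decide +kernel
theorem rk40_16 : allR (ckComm T6 T10) (nat_lit 262144) (nat_lit 16384) = true := by decide +kernel
theorem rk40_17 : allR (ckComm T6 T10) (nat_lit 278528) (nat_lit 16384) = true := by decide +kernel
theorem rk40_18 : allR (ckComm T6 T10) (nat_lit 294912) (nat_lit 12024) = true := by decide +kernel
theorem rk41_0 : allR (ckComm T6 T11) (nat_lit 0) (nat_lit 16384) = true := by decide +kernel
theorem rk41_1 : allR (ckComm T6 T11) (nat_lit 16384) (nat_lit 16384) = true := by decide +kernel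
theorem rk41_2 : allR (ckComm T6 T11) (nat_lit 32768) (nat_lit 16384) = true := by decide +kernel
theorem rk41_3 : allR (ckComm T6 T11) (nat_lit 49152) (nat_lit 16384) = true := by decide +kernel
theorem rk41_4 : allR (ckComm T6 T11) (nat_lit 65536) (nat_lit 16384) = true := by decide +kernel
theorem rk41_5 : allR (ckComm T6 T11) (nat_lit 81920) (nat_lit 16384) = true := by decide +kernel
theorem rk41_6 : allR (ckComm T6 T11) (nat_lit 98304) (nat_lit 16384) = true := by decide +kernel
theorem rk41_7 : allR (ckComm T6 T11) (nat_lit 114688) (nat_lit 16384) = true := by decide +kernel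
theorem rk41_8 : allR (ckComm T6 T11) (nat_lit 131072) (nat_lit 16384) = true := by decide +kernel
theorem rk41_9 : allR (ckComm T6 T11) (nat_lit 147456) (nat_lit 16384) = true := by decide +kernel
theorem rk41_10 : allR (ckComm T6 T11) (nat_lit 163840) (nat_lit 16384) = true := by decide +kernel
theorem rk41_11 : allR (ckComm T6 T11) (nat_lit 180224) (nat_lit 16384) = true := by decide +kernel
theorem rk41_12 : allR (ckComm T6 T11) (nat_lit 196608) (nat_lit 16384) = true := by decide +kernel
theorem rk41_13 : allR (ckComm T6 T11) (nat_lit 212992) (nat_lit 16384) = true := by decide +kernel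

end Cfsg.Agent.H8.Fi24t
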