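import Cfsg.Agent.H8.T.Fi24tTab
import Cfsg.Agent.H8.CosetComm

set_option Elab.async false
set_option autoImplicit false
set_option linter.all false
set_option maxRecDepth 100000

namespace Cfsg.Agent.H8.Fi24t
theorem rk41_14 : allR (ckComm T6 T11) (nat_lit 229376) (nat_lit 16384) = true := by decide +kernel
theorem rk41_15 : allR (ckComm T6 T11) (nat_lit 245760) (nat_lit 16384) = true := by decide +kernel
theorem rk41_16 : allR (ckComm T6 T11) (nat_lit 262144) (nat_lit 16384) = true := by decide +kernel
theorem rk41_17 : allR (ckComm T6 T11) (nat_lit 278528) (nat_lit 16384) = true := by decide +kernel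
theorem rk41_18 : allR (ckComm T6 T11) (nat_lit 294912) (nat_lit 12024) = true := by decide +kernel
theorem rk42_0 : allR (ckComm T6 T9) (nat_lit 0) (nat_lit 16384) = true := by decide +kernel
theorem rk42_1 : allR (ckComm T6 T9) (nat_lit 16384) (nat_lit 16384) = true := by decide +kernel
theorem rk42_2 : allR (ckComm T6 T9) (nat_lit 32768) (nat_lit 16384) = true := by decide +kernel
theorem rk42_3 : allR (ckComm T6 T9) (nat_lit 49152) (nat_lit 16384) = true := by decide +kernel
theorem rk42_4 : allR (ckComm T6 T9) (nat_lit 65536) (nat_lit 16384) = true := by decide +kernel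
theorem rk42_5 : allR (ckComm T6 T9) (nat_lit 81920) (nat_lit 16384) = true := by decide +kernel
theorem rk42_6 : allR (ckComm T6 T9) (nat_lit 98304) (nat_lit 16384) = true := by decide +kernel
theorem rk42_7 : allR (ckComm T6 T9) (nat_lit 114688) (nat_lit 16384) = true := by decide +kernel
theorem rk42_8 : allR (ckComm T6 T9) (nat_lit 131072) (nat_lit 16384) = true := by decide +kernel
theorem rk42_9 : allR (ckComm T6 T9) (nat_lit 147456) (nat_lit 16384) = true := by decide +kernel
theorem rk42_10 : allR (ckComm T6 T9) (nat_lit 163840) (nat_lit 16384) = true := by decide +kernel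
theorem rk42_11 : allR (ckComm T6 T9) (nat_lit 180224) (nat_lit 16384) = true := by decide +kernel
theorem rk42_12 : allR (ckComm T6 T9) (nat_lit 196608) (nat_lit 16384) = true := by decide +kernel
theorem rk42_13 : allR (ckComm T6 T9) (nat_lit 212992) (nat_lit 16384) = true := by decide +kernel
theorem rk42_14 : allR (ckComm T6 T9) (nat_lit 229376) (nat_lit 16384) = true := by decide +kernel
theorem rk42_15 : allR (ckComm T6 T9) (nat_lit 245760) (nat_lit 16384) = true := by decide +kernel
theorem rk42_16 : allR (ckComm T6 T9) (nat_lit 262144) (nat_lit 16384) = true := by decide +kernel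
theorem rk42_17 : allR (ckComm T6 T9) (nat_lit 278528) (nat_lit 16384) = true := by decide +kernel
theorem rk42_18 : allR (ckComm T6 T9) (nat_lit 294912) (nat_lit 12024) = true := by decide +kernel
theorem rk43_0 : allR (ckComm T6 T1) (nat_lit 0) (nat_lit 16384) = true := by decide +kernel
theorem rk43_1 : allR (ckComm T6 T1) (nat_lit 16384) (nat_lit 16384) = true := by decide +kernel
theorem rk43_2 : allR (ckComm T6 T1) (nat_lit 32768) (nat_lit 16384) = true := by decide +kernel
theorem rk43_3 : allR (ckComm T6 T1) (nat_lit 49152) (nat_lit 16384) = true := by decide +kernel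
theorem rk43_4 : allR (ckComm T6 T1) (nat_lit 65536) (nat_lit 16384) = true := by decide +kernel
theorem rk43_5 : allR (ckComm T6 T1) (nat_lit 81920) (nat_lit 16384) = true := by decide +kernel
theorem rk43_6 : allR (ckComm T6 T1) (nat_lit 98304) (nat_lit 16384) = true := by decide +kernel
theorem rk43_7 : allR (ckComm T6 T1) (nat_lit 114688) (nat_lit 16384) = true := by decide +kernel
theorem rk43_8 : allR (ckComm T6 T1) (nat_lit 131072) (nat_lit 16384) = true := by decide +kernel
theorem rk43_9 : allR (ckComm T6 T1) (nat_lit 147456) (nat_lit 16384) = true := by decide +kernel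
theorem rk43_10 : allR (ckComm T6 T1) (nat_lit 163840) (nat_lit 16384) = true := by decide +kernel
theorem rk43_11 : allR (ckComm T6 T1) (nat_lit 180224) (nat_lit 16384) = true := by decide +kernel
theorem rk43_12 : allR (ckComm T6 T1) (nat_lit 196608) (nat_lit 16384) = true := by decide +kernel
theorem rk43_13 : allR (ckComm T6 T1) (nat_lit 212992) (nat_lit 16384) = true := by decide +kernel
theorem rk43_14 : allR (ckComm T6 T1) (nat_lit 229376) (nat_lit 16384) = true := by decide +kernel
theorem rk43_15 : allR (ckComm T6 T1) (nat_lit 245760) (nat_lit 16384) = true := by decide +kernel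
theorem rk43_16 : allR (ckComm T6 T1) (nat_lit 262144) (nat_lit 16384) = true := by decide +kernel
theorem rk43_17 : allR (ckComm T6 T1) (nat_lit 278528) (nat_lit 16384) = true := by decide +kernel
theorem rk43_18 : allR (ckComm T6 T1) (nat_lit 294912) (nat_lit 12024) = true := by decide +kernel
theorem rk44_0 : allR (ckComm T6 T0) (nat_lit 0) (nat_lit 16384) = true := by decide +kernel
theorem rk44_1 : allR (ckComm T6 T0) (nat_lit 16384) (nat_lit 16384) = true := by decide +kernel
theorem rk44_2 : allR (ckComm T6 T0) (nat_lit 32768) (nat_lit 16384) = true := by decide +kernel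
theorem rk44_3 : allR (ckComm T6 T0) (nat_lit 49152) (nat_lit 16384) = true := by decide +kernel
theorem rk44_4 : allR (ckComm T6 T0) (nat_lit 65536) (nat_lit 16384) = true := by decide +kernel
theorem rk44_5 : allR (ckComm T6 T0) (nat_lit 81920) (nat_lit 16384) = true := by decide +kernel
theorem rk44_6 : allR (ckComm T6 T0) (nat_lit 98304) (nat_lit 16384) = true := by decide +kernel
theorem rk44_7 : allR (ckComm T6 T0) (nat_lit 114688) (nat_lit 16384) = true := by decide +kernel
theorem rk44_8 : allR (ckComm T6 T0) (nat_lit 131072) (nat_lit 16384) = true := by decide +kernel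
theorem rk44_9 : allR (ckComm T6 T0) (nat_lit 147456) (nat_lit 16384) = true := by decide +kernel
theorem rk44_10 : allR (ckComm T6 T0) (nat_lit 163840) (nat_lit 16384) = true := by decide +kernel
theorem rk44_11 : allR (ckComm T6 T0) (nat_lit 180224) (nat_lit 16384) = true := by decide +kernel
theorem rk44_12 : allR (ckComm T6 T0) (nat_lit 196608) (nat_lit 16384) = true := by decide +kernel
theorem rk44_13 : allR (ckComm T6 T0) (nat_lit 212992) (nat_lit 16384) = true := by decide +kernel
theorem rk44_14 : allR (ckComm T6 T0) (nat_lit 229376) (nat_lit 16384) = true := by decide +kernel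
theorem rk44_15 : allR (ckComm T6 T0) (nat_lit 245760) (nat_lit 16384) = true := by decide +kernel
theorem rk44_16 : allR (ckComm T6 T0) (nat_lit 262144) (nat_lit 16384) = true := by decide +kernel
theorem rk44_17 : allR (ckComm T6 T0) (nat_lit 278528) (nat_lit 16384) = true := by decide +kernel
theorem rk44_18 : allR (ckComm T6 T0) (nat_lit 294912) (nat_lit 12024) = true := by decide +kernel
theorem rk45_0 : allR (fun i => powT [T7, T8] i (nat_lit 3) i) (nat_lit 0) (nat_lit 16384) = true := by decide +kernel
theorem rk45_1 : allR (fun i => powT [T7, T8] i (nat_lit 3) i) (nat_lit 16384) (nat_lit 16384) = true := by decide +kernel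
theorem rk45_2 : allR (fun i => powT [T7, T8] i (nat_lit 3) i) (nat_lit 32768) (nat_lit 16384) = true := by decide +kernel
theorem rk45_3 : allR (fun i => powT [T7, T8] i (nat_lit 3) i) (nat_lit 49152) (nat_lit 16384) = true := by decide +kernel
theorem rk45_4 : allR (fun i => powT [T7, T8] i (nat_lit 3) i) (nat_lit 65536) (nat_lit 16384) = true := by decide +kernel
theorem rk45_5 : allR (fun i => powT [T7, T8] i (nat_lit 3) i) (nat_lit 81920) (nat_lit 16384) = true := by decide +kernel
theorem rk45_6 : allR (fun i => powT [T7, T8] i (nat_lit 3) i) (nat_lit 98304) (nat_lit 16384) = true := by decide +kernel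
theorem rk45_7 : allR (fun i => powT [T7, T8] i (nat_lit 3) i) (nat_lit 114688) (nat_lit 16384) = true := by decide +kernel
theorem rk45_8 : allR (fun i => powT [T7, T8] i (nat_lit 3) i) (nat_lit 131072) (nat_lit 16384) = true := by decide +kernel
theorem rk45_9 : allR (fun i => powT [T7, T8] i (nat_lit 3) i) (nat_lit 147456) (nat_lit 16384) = true := by decide +kernel
theorem rk45_10 : allR (fun i => powT [T7, T8] i (nat_lit 3) i) (nat_lit 163840) (nat_lit 16384) = true := by decide +kernel
theorem rk45_11 : allR (fun i => powT [T7, T8] i (nat_lit 3) i) (nat_lit 180224) (nat_lit 16384) = true := by decide +kernel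
theorem rk45_12 : allR (fun i => powT [T7, T8] i (nat_lit 3) i) (nat_lit 196608) (nat_lit 16384) = true := by decide +kernel
theorem rk45_13 : allR (fun i => powT [T7, T8] i (nat_lit 3) i) (nat_lit 212992) (nat_lit 16384) = true := by decide +kernel
theorem rk45_14 : allR (fun i => powT [T7, T8] i (nat_lit 3) i) (nat_lit 229376) (nat_lit 16384) = true := by decide +kernel
theorem rk45_15 : allR (fun i => powT [T7, T8] i (nat_lit 3) i) (nat_lit 245760) (nat_lit 16384) = true := by decide +kernel
theorem rk45_16 : allR (fun i => powT [T7, T8] i (nat_lit 3) i) (nat_lit 262144) (nat_lit 16384) = true := by decide +kernel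
theorem rk45_17 : allR (fun i => powT [T7, T8] i (nat_lit 3) i) (nat_lit 278528) (nat_lit 16384) = true := by decide +kernel
theorem rk45_18 : allR (fun i => powT [T7, T8] i (nat_lit 3) i) (nat_lit 294912) (nat_lit 12024) = true := by decide +kernel
theorem rk46_0 : allR (ckComm T7 T10) (nat_lit 0) (nat_lit 16384) = true := by decide +kernel
theorem rk46_1 : allR (ckComm T7 T10) (nat_lit 16384) (nat_lit 16384) = true := by decide +kernel
theorem rk46_2 : allR (ckComm T7 T10) (nat_lit 32768) (nat_lit 16384) = true := by decide +kernel
theorem rk46_3 : allR (ckComm T7 T10) (nat_lit 49152) (nat_lit 16384) = true := by decide +kernel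
theorem rk46_4 : allR (ckComm T7 T10) (nat_lit 65536) (nat_lit 16384) = true := by decide +kernel
theorem rk46_5 : allR (ckComm T7 T10) (nat_lit 81920) (nat_lit 16384) = true := by decide +kernel
theorem rk46_6 : allR (ckComm T7 T10) (nat_lit 98304) (nat_lit 16384) = true := by decide +kernel
theorem rk46_7 : allR (ckComm T7 T10) (nat_lit 114688) (nat_lit 16384) = true := by decide +kernel
theorem rk46_8 : allR (ckComm T7 T10) (nat_lit 131072) (nat_lit 16384) = true := by decide +kernel
theorem rk46_9 : allR (ckComm T7 T10) (nat_lit 147456) (nat_lit 16384) = true := by decide +kernel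
theorem rk46_10 : allR (ckComm T7 T10) (nat_lit 163840) (nat_lit 16384) = true := by decide +kernel
theorem rk46_11 : allR (ckComm T7 T10) (nat_lit 180224) (nat_lit 16384) = true := by decide +kernel
theorem rk46_12 : allR (ckComm T7 T10) (nat_lit 196608) (nat_lit 16384) = true := by decide +kernel
theorem rk46_13 : allR (ckComm T7 T10) (nat_lit 212992) (nat_lit 16384) = true := by decide +kernel
theorem rk46_14 : allR (ckComm T7 T10) (nat_lit 229376) (nat_lit 16384) = true := by decide +kernel
theorem rk46_15 : allR (ckComm T7 T10) (nat_lit 245760) (nat_lit 16384) = true := by decide +kernel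

end Cfsg.Agent.H8.Fi24t
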