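import Cfsg.Agent.H8.T.Fi24tTab
import Cfsg.Agent.H8.CosetComm

set_option Elab.async false
set_option autoImplicit false
set_option linter.all false
set_option maxRecDepth 100000

namespace Cfsg.Agent.H8.Fi24t
theorem rk46_16 : allR (ckComm T7 T10) (nat_lit 262144) (nat_lit 16384) = true := by decide +kernel
theorem rk46_17 : allR (ckComm T7 T10) (nat_lit 278528) (nat_lit 16384) = true := by decide +kernel
theorem rk46_18 : allR (ckComm T7 T10) (nat_lit 294912) (nat_lit 12024) = true := by decide +kernel
theorem rk47_0 : allR (ckComm T7 T11) (nat_lit 0) (nat_lit 16384) = true := by decide +kernel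
theorem rk47_1 : allR (ckComm T7 T11) (nat_lit 16384) (nat_lit 16384) = true := by decide +kernel
theorem rk47_2 : allR (ckComm T7 T11) (nat_lit 32768) (nat_lit 16384) = true := by decide +kernel
theorem rk47_3 : allR (ckComm T7 T11) (nat_lit 49152) (nat_lit 16384) = true := by decide +kernel
theorem rk47_4 : allR (ckComm T7 T11) (nat_lit 65536) (nat_lit 16384) = true := by decide +kernel
theorem rk47_5 : allR (ckComm T7 T11) (nat_lit 81920) (nat_lit 16384) = true := by decide +kernel
theorem rk47_6 : allR (ckComm T7 T11) (nat_lit 98304) (nat_lit 16384) = true := by decide +kernel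
theorem rk47_7 : allR (ckComm T7 T11) (nat_lit 114688) (nat_lit 16384) = true := by decide +kernel
theorem rk47_8 : allR (ckComm T7 T11) (nat_lit 131072) (nat_lit 16384) = true := by decide +kernel
theorem rk47_9 : allR (ckComm T7 T11) (nat_lit 147456) (nat_lit 16384) = true := by decide +kernel
theorem rk47_10 : allR (ckComm T7 T11) (nat_lit 163840) (nat_lit 16384) = true := by decide +kernel
theorem rk47_11 : allR (ckComm T7 T11) (nat_lit 180224) (nat_lit 16384) = true := by decide +kernel
theorem rk47_12 : allR (ckComm T7 T11) (nat_lit 196608) (nat_lit 16384) = true := by decide +kernel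
theorem rk47_13 : allR (ckComm T7 T11) (nat_lit 212992) (nat_lit 16384) = true := by decide +kernel
theorem rk47_14 : allR (ckComm T7 T11) (nat_lit 229376) (nat_lit 16384) = true := by decide +kernel
theorem rk47_15 : allR (ckComm T7 T11) (nat_lit 245760) (nat_lit 16384) = true := by decide +kernel
theorem rk47_16 : allR (ckComm T7 T11) (nat_lit 262144) (nat_lit 16384) = true := by decide +kernel
theorem rk47_17 : allR (ckComm T7 T11) (nat_lit 278528) (nat_lit 16384) = true := by decide +kernel
theorem rk47_18 : allR (ckComm T7 T11) (nat_lit 294912) (nat_lit 12024) = true := by decide +kernel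
theorem rk48_0 : allR (ckComm T7 T9) (nat_lit 0) (nat_lit 16384) = true := by decide +kernel
theorem rk48_1 : allR (ckComm T7 T9) (nat_lit 16384) (nat_lit 16384) = true := by decide +kernel
theorem rk48_2 : allR (ckComm T7 T9) (nat_lit 32768) (nat_lit 16384) = true := by decide +kernel
theorem rk48_3 : allR (ckComm T7 T9) (nat_lit 49152) (nat_lit 16384) = true := by decide +kernel
theorem rk48_4 : allR (ckComm T7 T9) (nat_lit 65536) (nat_lit 16384) = true := by decide +kernel
theorem rk48_5 : allR (ckComm T7 T9) (nat_lit 81920) (nat_lit 16384) = true := by decide +kernel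
theorem rk48_6 : allR (ckComm T7 T9) (nat_lit 98304) (nat_lit 16384) = true := by decide +kernel
theorem rk48_7 : allR (ckComm T7 T9) (nat_lit 114688) (nat_lit 16384) = true := by decide +kernel
theorem rk48_8 : allR (ckComm T7 T9) (nat_lit 131072) (nat_lit 16384) = true := by decide +kernel
theorem rk48_9 : allR (ckComm T7 T9) (nat_lit 147456) (nat_lit 16384) = true := by decide +kernel
theorem rk48_10 : allR (ckComm T7 T9) (nat_lit 163840) (nat_lit 16384) = true := by decide +kernel
theorem rk48_11 : allR (ckComm T7 T9) (nat_lit 180224) (nat_lit 16384) = true := by decide +kernel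
theorem rk48_12 : allR (ckComm T7 T9) (nat_lit 196608) (nat_lit 16384) = true := by decide +kernel
theorem rk48_13 : allR (ckComm T7 T9) (nat_lit 212992) (nat_lit 16384) = true := by decide +kernel
theorem rk48_14 : allR (ckComm T7 T9) (nat_lit 229376) (nat_lit 16384) = true := by decide +kernel
theorem rk48_15 : allR (ckComm T7 T9) (nat_lit 245760) (nat_lit 16384) = true := by decide +kernel
theorem rk48_16 : allR (ckComm T7 T9) (nat_lit 262144) (nat_lit 16384) = true := by decide +kernel
theorem rk48_17 : allR (ckComm T7 T9) (nat_lit 278528) (nat_lit 16384) = true := by decide +kernel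
theorem rk48_18 : allR (ckComm T7 T9) (nat_lit 294912) (nat_lit 12024) = true := by decide +kernel
theorem rk49_0 : allR (ckComm T7 T1) (nat_lit 0) (nat_lit 16384) = true := by decide +kernel
theorem rk49_1 : allR (ckComm T7 T1) (nat_lit 16384) (nat_lit 16384) = true := by decide +kernel
theorem rk49_2 : allR (ckComm T7 T1) (nat_lit 32768) (nat_lit 16384) = true := by decide +kernel
theorem rk49_3 : allR (ckComm T7 T1) (nat_lit 49152) (nat_lit 16384) = true := by decide +kernel
theorem rk49_4 : allR (ckComm T7 T1) (nat_lit 65536) (nat_lit 16384) = true := by decide +kernel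
theorem rk49_5 : allR (ckComm T7 T1) (nat_lit 81920) (nat_lit 16384) = true := by decide +kernel
theorem rk49_6 : allR (ckComm T7 T1) (nat_lit 98304) (nat_lit 16384) = true := by decide +kernel
theorem rk49_7 : allR (ckComm T7 T1) (nat_lit 114688) (nat_lit 16384) = true := by decide +kernel
theorem rk49_8 : allR (ckComm T7 T1) (nat_lit 131072) (nat_lit 16384) = true := by decide +kernel
theorem rk49_9 : allR (ckComm T7 T1) (nat_lit 147456) (nat_lit 16384) = true := by decide +kernel
theorem rk49_10 : allR (ckComm T7 T1) (nat_lit 163840) (nat_lit 16384) = true := by decide +kernel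
theorem rk49_11 : allR (ckComm T7 T1) (nat_lit 180224) (nat_lit 16384) = true := by decide +kernel
theorem rk49_12 : allR (ckComm T7 T1) (nat_lit 196608) (nat_lit 16384) = true := by decide +kernel
theorem rk49_13 : allR (ckComm T7 T1) (nat_lit 212992) (nat_lit 16384) = true := by decide +kernel
theorem rk49_14 : allR (ckComm T7 T1) (nat_lit 229376) (nat_lit 16384) = true := by decide +kernel
theorem rk49_15 : allR (ckComm T7 T1) (nat_lit 245760) (nat_lit 16384) = true := by decide +kernel
theorem rk49_16 : allR (ckComm T7 T1) (nat_lit 262144) (nat_lit 16384) = true := by decide +kernel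
theorem rk49_17 : allR (ckComm T7 T1) (nat_lit 278528) (nat_lit 16384) = true := by decide +kernel
theorem rk49_18 : allR (ckComm T7 T1) (nat_lit 294912) (nat_lit 12024) = true := by decide +kernel
theorem rk50_0 : allR (ckComm T7 T0) (nat_lit 0) (nat_lit 16384) = true := by decide +kernel
theorem rk50_1 : allR (ckComm T7 T0) (nat_lit 16384) (nat_lit 16384) = true := by decide +kernel
theorem rk50_2 : allR (ckComm T7 T0) (nat_lit 32768) (nat_lit 16384) = true := by decide +kernel
theorem rk50_3 : allR (ckComm T7 T0) (nat_lit 49152) (nat_lit 16384) = true := by decide +kernel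
theorem rk50_4 : allR (ckComm T7 T0) (nat_lit 65536) (nat_lit 16384) = true := by decide +kernel
theorem rk50_5 : allR (ckComm T7 T0) (nat_lit 81920) (nat_lit 16384) = true := by decide +kernel
theorem rk50_6 : allR (ckComm T7 T0) (nat_lit 98304) (nat_lit 16384) = true := by decide +kernel
theorem rk50_7 : allR (ckComm T7 T0) (nat_lit 114688) (nat_lit 16384) = true := by decide +kernel
theorem rk50_8 : allR (ckComm T7 T0) (nat_lit 131072) (nat_lit 16384) = true := by decide +kernel
theorem rk50_9 : allR (ckComm T7 T0) (nat_lit 147456) (nat_lit 16384) = true := by decide +kernel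
theorem rk50_10 : allR (ckComm T7 T0) (nat_lit 163840) (nat_lit 16384) = true := by decide +kernel
theorem rk50_11 : allR (ckComm T7 T0) (nat_lit 180224) (nat_lit 16384) = true := by decide +kernel
theorem rk50_12 : allR (ckComm T7 T0) (nat_lit 196608) (nat_lit 16384) = true := by decide +kernel
theorem rk50_13 : allR (ckComm T7 T0) (nat_lit 212992) (nat_lit 16384) = true := by decide +kernel
theorem rk50_14 : allR (ckComm T7 T0) (nat_lit 229376) (nat_lit 16384) = true := by decide +kernel
theorem rk50_15 : allR (ckComm T7 T0) (nat_lit 245760) (nat_lit 16384) = true := by decide +kernel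
theorem rk50_16 : allR (ckComm T7 T0) (nat_lit 262144) (nat_lit 16384) = true := by decide +kernel
theorem rk50_17 : allR (ckComm T7 T0) (nat_lit 278528) (nat_lit 16384) = true := by decide +kernel
theorem rk50_18 : allR (ckComm T7 T0) (nat_lit 294912) (nat_lit 12024) = true := by decide +kernel
theorem rk51_0 : allR (ckComm T8 T10) (nat_lit 0) (nat_lit 16384) = true := by decide +kernel
theorem rk51_1 : allR (ckComm T8 T10) (nat_lit 16384) (nat_lit 16384) = true := by decide +kernel
theorem rk51_2 : allR (ckComm T8 T10) (nat_lit 32768) (nat_lit 16384) = true := by decide +kernel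
theorem rk51_3 : allR (ckComm T8 T10) (nat_lit 49152) (nat_lit 16384) = true := by decide +kernel
theorem rk51_4 : allR (ckComm T8 T10) (nat_lit 65536) (nat_lit 16384) = true := by decide +kernel
theorem rk51_5 : allR (ckComm T8 T10) (nat_lit 81920) (nat_lit 16384) = true := by decide +kernel
theorem rk51_6 : allR (ckComm T8 T10) (nat_lit 98304) (nat_lit 16384) = true := by decide +kernel
theorem rk51_7 : allR (ckComm T8 T10) (nat_lit 114688) (nat_lit 16384) = true := by decide +kernel
theorem rk51_8 : allR (ckComm T8 T10) (nat_lit 131072) (nat_lit 16384) = true := by decide +kernel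
theorem rk51_9 : allR (ckComm T8 T10) (nat_lit 147456) (nat_lit 16384) = true := by decide +kernel
theorem rk51_10 : allR (ckComm T8 T10) (nat_lit 163840) (nat_lit 16384) = true := by decide +kernel
theorem rk51_11 : allR (ckComm T8 T10) (nat_lit 180224) (nat_lit 16384) = true := by decide +kernel
theorem rk51_12 : allR (ckComm T8 T10) (nat_lit 196608) (nat_lit 16384) = true := by decide +kernel
theorem rk51_13 : allR (ckComm T8 T10) (nat_lit 212992) (nat_lit 16384) = true := by decide +kernel
theorem rk51_14 : allR (ckComm T8 T10) (nat_lit 229376) (nat_lit 16384) = true := by decide +kernel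
theorem rk51_15 : allR (ckComm T8 T10) (nat_lit 245760) (nat_lit 16384) = true := by decide +kernel
theorem rk51_16 : allR (ckComm T8 T10) (nat_lit 262144) (nat_lit 16384) = true := by decide +kernel
theorem rk51_17 : allR (ckComm T8 T10) (nat_lit 278528) (nat_lit 16384) = true := by decide +kernel
theorem rk51_18 : allR (ckComm T8 T10) (nat_lit 294912) (nat_lit 12024) = true := by decide +kernel
theorem rk52_0 : allR (ckComm T8 T11) (nat_lit 0) (nat_lit 16384) = true := by decide +kernel
theorem rk52_1 : allR (ckComm T8 T11) (nat_lit 16384) (nat_lit 16384) = true := by decide +kernel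
theorem rk52_2 : allR (ckComm T8 T11) (nat_lit 32768) (nat_lit 16384) = true := by decide +kernel
theorem rk52_3 : allR (ckComm T8 T11) (nat_lit 49152) (nat_lit 16384) = true := by decide +kernel
theorem rk52_4 : allR (ckComm T8 T11) (nat_lit 65536) (nat_lit 16384) = true := by decide +kernel
theorem rk52_5 : allR (ckComm T8 T11) (nat_lit 81920) (nat_lit 16384) = true := by decide +kernel
theorem rk52_6 : allR (ckComm T8 T11) (nat_lit 98304) (nat_lit 16384) = true := by decide +kernel
theorem rk52_7 : allR (ckComm T8 T11) (nat_lit 114688) (nat_lit 16384) = true := by decide +kernel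
theorem rk52_8 : allR (ckComm T8 T11) (nat_lit 131072) (nat_lit 16384) = true := by decide +kernel
theorem rk52_9 : allR (ckComm T8 T11) (nat_lit 147456) (nat_lit 16384) = true := by decide +kernel
theorem rk52_10 : allR (ckComm T8 T11) (nat_lit 163840) (nat_lit 16384) = true := by decide +kernel
theorem rk52_11 : allR (ckComm T8 T11) (nat_lit 180224) (nat_lit 16384) = true := by decide +kernel
theorem rk52_12 : allR (ckComm T8 T11) (nat_lit 196608) (nat_lit 16384) = true := by decide +kernel
theorem rk52_13 : allR (ckComm T8 T11) (nat_lit 212992) (nat_lit 16384) = true := by decide +kernel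
theorem rk52_14 : allR (ckComm T8 T11) (nat_lit 229376) (nat_lit 16384) = true := by decide +kernel
theorem rk52_15 : allR (ckComm T8 T11) (nat_lit 245760) (nat_lit 16384) = true := by decide +kernel

end Cfsg.Agent.H8.Fi24t
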