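import Cfsg.Agent.H8.F4Tab
import Cfsg.Prelude.Def_ChevG2

set_option autoImplicit false
set_option linter.all false
set_option maxRecDepth 100000
set_option maxHeartbeats 400000

namespace Cfsg.Agent.H8.G24M

open Cfsg
noncomputable def R0 : Nat → Nat := fun k => Nat.land (Nat.shiftRight (nat_lit 0xc000033800002240000110000000300c0002008000100400000000000c00c00080080004004000000000030030002002000100100000000000c000000800000040000000000000300c0002008000100400000000000c00000080000004000000000000030000002000000100000000000000c00000080000004000000000000030000002000000100000000000000c00000080000004000000000000030000002000000100000000000003c0000028000001400000000000003000000200000010000000) (Nat.mul (nat_lit 28) k)) (nat_lit 0xfffffff)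
noncomputable def R1 : Nat → Nat := fun k => Nat.land (Nat.shiftRight (nat_lit 0xc0000218000013400003200000003004000200c000100800000000000c004000800c0004008000000000030010002003000100200000000000c0000008000000400000000000003004000200c000100800000000000c00000080000004000000000000030000002000000100000000000000c00000080000004000000000000030000002000000100000000000000c00000080000004000000000000030000002000000100000000000001c0000038000002400000000000003000000200000010000000) (Nat.mul (nat_lit 28) k)) (nat_lit 0xfffffff)
noncomputable def R3 : Nat → Nat := fun k => Nat.land (Nat.shiftRight (nat_lit 0xc03000080200004010000000000030000cf200008a100004500000000c03000080200004010000000000030000002000000100000000000000c03000080200004010000000000030000002000000100000000000000c03000080200004010000000000030000002000000100000000000000c00000080000004000000000000030000002000000100000000000000c0000008000000400000000000003000000200000010000000000000cc00000880000044000000000000c3000008200000410000000) (Nat.mul (nat_lit 28) k)) (nat_lit 0xfffffff)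
noncomputable def R5 : Nat → Nat := fun k => Nat.land (Nat.shiftRight (nat_lit 0xc020000801000040300000000000300004a20000c5100008f00000000c02000080100004030000000000030000002000000100000000000000c02000080100004030000000000030000002000000100000000000000c02000080100004030000000000030000002000000100000000000000c00000080000004000000000000030000002000000100000000000000c00000080000004000000000000030000002000000100000000000008c000004800000c400000000000083000004200000c10000000) (Nat.mul (nat_lit 28) k)) (nat_lit 0xfffffff)
noncomputable def R6 : Nat → Nat := fun k => Nat.land (Nat.shiftRight (nat_lit 0xc3030c082020804101040000000030c0c302080820104041000000000c0030c08002080400104000000003000c002000800100040000000000c00300080020004001000000000030000002000000100000000000000c00000080000004000000000000030c00002080000104000000000000c30000082000004100000000000030000002000000100000000000000c00000080000004000000000000030000002000000100000000000000c0000008000000400000000000303000020200001010000000) (Nat.mul (nat_lit 28) k)) (nat_lit 0xfffffff)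
noncomputable def R7 : Nat → Nat := fun k => Nat.land (Nat.shiftRight (nat_lit 0xc1020c0830108042030400000000304083020c04201080c1000000000c00204080010c040030800000000300080020004001000c0000000000c00200080010004003000000000030000002000000100000000000000c000000800000040000000000000304000020c0000108000000000000c10000083000004200000000000030000002000000100000000000000c00000080000004000000000000030000002000000100000000000000c0000008000000400000000000103000030200002010000000) (Nat.mul (nat_lit 28) k)) (nat_lit 0xfffffff)
noncomputable def R8 : Nat → Nat := fun k => Nat.land (Nat.shiftRight (nat_lit 0xc2010c081030804302040000000030804302040c2010c081000000000c001080800304040020c0000000030004002000c00100080000000000c00100080030004002000000000030000002000000100000000000000c0000008000000400000000000003080000204000010c000000000000c20000081000004300000000000030000002000000100000000000000c00000080000004000000000000030000002000000100000000000000c0000008000000400000000000203000010200003010000000) (Nat.mul (nat_lit 28) k)) (nat_lit 0xfffffff)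
noncomputable def R9 : Nat → Nat := fun k => Nat.land (Nat.shiftRight (nat_lit 0xcccc00088880004444000000000030000002000000100000000000000c0c0000808000040400000000000300c0f020080a0100405000000000cc0000088000004400000000000033330002222000111100000000000c00000080000004000000000000030300002020000101000000000000c00000080000004000000000000033000002200000110000000000000c000000800000040000000000000300000020000001000000000000c0c0000808000040400000000000c03000080200004010000000) (Nat.mul (nat_lit 28) k)) (nat_lit 0xfffffff)
noncomputable def R11 : Nat → Nat := fun k => Nat.land (Nat.shiftRight (nat_lit 0xc84c00084c80004c84000000000030000002000000100000000000000c04000080c00004080000000000030040a0200c05010080f000000000c80000084000004c00000000000032130002132000132100000000000c00000080000004000000000000030100002030000102000000000000c00000080000004000000000000032000002100000130000000000000c00000080000004000000000000030000002000000100000000000080c00004080000c040000000000080300004020000c010000000) (Nat.mul (nat_lit 28) k)) (nat_lit 0xfffffff)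
noncomputable def R17 : Nat → Nat := fun k => Nat.land (Nat.shiftRight (nat_lit 0xe00000090000007000000000000030000002000000100000000000000c000000800000040000000000000380000024000001c0000000000000c00000080000004000000000000034008002c004001800c0000000000c000000800000040000000000000380000024000001c0000000000000c00000080000004000000000000030000002000000100000000000000e00000090000007000000000000030000002000000100000000000000c00000080000004000000000080030004002000c0010000000) (Nat.mul (nat_lit 28) k)) (nat_lit 0xfffffff)
noncomputable def R18 : Nat → Nat := fun k => Nat.land (Nat.shiftRight (nat_lit 0xc000000800000040000000000000f000000a000000500000000000000c00000080000004000000000000030000002000000100000000000003c00000280000014000000000000030000002000000100000000000003c00c00280080014004000000000030000002000000100000000000003c00000280000014000000000000030000002000000100000000000000c000000800000040000000000000f000000a000000500000000000000c0000008000000400000000030003002000200100010000000) (Nat.mul (nat_lit 28) k)) (nat_lit 0xfffffff)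
noncomputable def R19 : Nat → Nat := fun k => Nat.land (Nat.shiftRight (nat_lit 0xc0000008000000400000000000007000000e000000900000000000000c00000080000004000000000000030000002000000100000000000001c00000380000024000000000000030000002000000100000000000002c004001800c0034008000000000030000002000000100000000000001c00000380000024000000000000030000002000000100000000000000c0000008000000400000000000007000000e000000900000000000000c0000008000000400000000010003003000200200010000000) (Nat.mul (nat_lit 28) k)) (nat_lit 0xfffffff)
noncomputable def R20 : Nat → Nat := fun k => Nat.land (Nat.shiftRight (nat_lit 0xc000000800000040000000000000b0000006000000d00000000000000c00000080000004000000000000030000002000000100000000000002c00000180000034000000000000030000002000000100000000000001c0080038004002400c000000000030000002000000100000000000002c00000180000034000000000000030000002000000100000000000000c000000800000040000000000000b0000006000000d00000000000000c0000008000000400000000020003001000200300010000000) (Nat.mul (nat_lit 28) k)) (nat_lit 0xfffffff)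
noncomputable def R22 : Nat → Nat := fun k => Nat.land (Nat.shiftRight (nat_lit 0xc00000080000004000000000000030000002000000100000000000001c00000380000024000000000000230000012000003100000000000000c0000008000000400000000000393000027200001e100000000000000c0000008000000400000000000083001004200300c100200000000004c00000c8000008400000000000083000004200000c1000000000000c9c000087800004e4000000000000030000002000000100000000004000c00c0008008000400000000000003000000200000010000000) (Nat.mul (nat_lit 28) k)) (nat_lit 0xfffffff)
noncomputable def R23 : Nat → Nat := fun k => Nat.land (Nat.shiftRight (nat_lit 0xc00000080000004000000000000030000002000000100000000000002c00000180000034000000000000130000032000002100000000000000c000000800000040000000000036300002d200001b100000000000000c000000800000040000000000004300200c2001008100300000000008c000004800000c40000000000004300000c20000081000000000000c6c00008d800004b4000000000000030000002000000100000000008000c004000800c000400000000000003000000200000010000000) (Nat.mul (nat_lit 28) k)) (nat_lit 0xfffffff)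
noncomputable def R28 : Nat → Nat := fun k => Nat.land (Nat.shiftRight (nat_lit 0xc00000080000004000000000000030000002000000100000000000000c000000800000040000000000004300000c2000008100000000000010c00003080000204000000000000030000002000000100000000000000c00000080000004000000000080030004002000c00100000000002000c001000800300040000000000800304040020c0c001080000000c2010c081030804302040000000030804302040c2010c08100000000000000c00000080000004000000004000030c0000208000010000000) (Nat.mul (nat_lit 28) k)) (nat_lit 0xfffffff)
noncomputable def R29 : Nat → Nat := fun k => Nat.land (Nat.shiftRight (nat_lit 0xc00000080000004000000000000030000002000000100000000000000c0000008000000400000000000083000004200000c100000000000020c00001080000304000000000000030000002000000100000000000000c0000008000000400000000004003000c002000800100000000001000c0030008002000400000000004003080c00204080010c0000000c1020c0830108042030400000000304083020c04201080c100000000000000c000000800000040000000080000304000020c000010000000) (Nat.mul (nat_lit 28) k)) (nat_lit 0xfffffff)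
noncomputable def R32 : Nat → Nat := fun k => Nat.land (Nat.shiftRight (nat_lit 0xc00000080000004000000000000030000002000000100000000000000c00000080000004000000000000030000002000000100000000000000c000000800000040000000000080300004020000c0100000000000000c000000800000040000000000080300004020000c0100000000000000c000000800000040000000000080300004020000c0100000000010000ca3000085200004f000000000080300004020000c0100000000200000c1000008300000400000002000003100000230000010000000) (Nat.mul (nat_lit 28) k)) (nat_lit 0xfffffff)
noncomputable def R33 : Nat → Nat := fun k => Nat.land (Nat.shiftRight (nat_lit 0xc00000080000004000000000000030000002000000100000000000000c00000080000004000000000000030000002000000100000000000000c00000080000004000000000000030000002000000100000000000300c00020080001004000000000000030000002000000100000000000c00c00080080004004000000000030030002002000100100000000000300c0002008000100400000000c000033800002240000110000000c00000c8000008400000400000000000003000000200000010000000) (Nat.mul (nat_lit 28) k)) (nat_lit 0xfffffff)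
noncomputable def R34 : Nat → Nat := fun k => Nat.land (Nat.shiftRight (nat_lit 0xc00000080000004000000000000030000002000000100000000000000c00000080000004000000000000030000002000000100000000000000c00000080000004000000000000030000002000000100000000000100c00030080002004000000000000030000002000000100000000000400c000c0080008004000000000010030003002000200100000000000100c000300800020040000000080000314000023c0000120000000400000cc000008800000400000000000003000000200000010000000) (Nat.mul (nat_lit 28) k)) (nat_lit 0xfffffff)
noncomputable def R35 : Nat → Nat := fun k => Nat.land (Nat.shiftRight (nat_lit 0xc00000080000004000000000000030000002000000100000000000000c00000080000004000000000000030000002000000100000000000000c00000080000004000000000000030000002000000100000000000200c00010080003004000000000000030000002000000100000000000800c0004008000c004000000000020030001002000300100000000000200c00010080003004000000004000032c00002180000130000000800000c4000008c00000400000000000003000000200000010000000) (Nat.mul (nat_lit 28) k)) (nat_lit 0xfffffff)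
noncomputable def A0 : Nat → Nat := fun k => Nat.land (Nat.shiftRight (nat_lit 0x57978e9fe7e497a9e9c7e0000000d9ddc76b7bb8ed6e6649b00000009c024007801c00e4038000000000e1579ed93fe79b72a9e760000000735de7ee2fb9e991a67970000000d35f4d8b2facb461a586c00000005155454f3ffcfca2aa8a80000000e7954e99e7fc9779ea87e000000079df476e7baced9e6589b0000000024039001c027003801e00000000e39795d927e7fb71e9ea6000000071ddedee3bb9b992667670000000924249c71c1c78e3838e40000000f19bc6ba3768d652ed4bd0000000) (Nat.mul (nat_lit 28) k)) (nat_lit 0xfffffff)
noncomputable def A1 : Nat → Nat := fun k => Nat.land (Nat.shiftRight (nat_lit 0x6ba1ae8d653594bdf2f7c00000006b86f74d64daecbdcb5980000000be83eed694299bd7c177600000006fb1becda63698b5d2d740000000b9c7794678ee7cde499e800000004101040c3030c0820208000000002040c2010c081030804300000000ea93aa895725547fe1ffc0000000e685efc9d4f9a87bca75400000007582fa6ef41a5d9ac35fb0000000eea3bac995265877f1df4000000077c665cee8ddf8994bba40000000080010b04003060c0020d0000000f781f6aae43ad559c25bf0000000) (Nat.mul (nat_lit 28) k)) (nat_lit 0xfffffff)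
noncomputable def A2 : Nat → Nat := fun k => Nat.land (Nat.shiftRight (nat_lit 0x4c84823c84c41284c8c3100000002004000100c0003008000000000018004003400c002c008000000000fa44927a5cc71e5f88e39000000010c4000308c00020480000000000e56d45d9fdbcfb7ab68a6000000010080003004000200c0000000000b087423604ec12d0c9831000000004048000c0c4000808c000000000b904a36670c52dde08f1b0000000dcd9d89b8b7b47646e6ce0000000b88cc136448832dcc44210000000d8c4c3eb48c8296c484170000000240c4031c08c0238048010000000) (Nat.mul (nat_lit 28) k)) (nat_lit 0xfffffff)
noncomputable def A3 : Nat → Nat := fun k => Nat.land (Nat.shiftRight (nat_lit 0xebeae2f969591a7d7f7350000000db22045b6110cf6d3308a00000001c4ac2338c5812248f43100000005e7fb3af9ea625a795d1f00000004efbea5c9a695f875d7fa0000000afaee2f5a5991af5f77350000000397bca927e68571e9d4fe0000000aedb53959b6f27f76da1e0000000b69e8fe6d794a9dbe7c570000000f1effa9a39aa5752755fe0000000afb856b5a64fd6f5dcabd0000000ee894fa9947ca577ce85f0000000b65db736dfb6e2dba6d910000000abad878565b4e4fdf6c9c0000000) (Nat.mul (nat_lit 28) k)) (nat_lit 0xfffffff)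
noncomputable def A4 : Nat → Nat := fun k => Nat.land (Nat.shiftRight (nat_lit 0x2ae5279159f1e73f7a39e00000004665a5acddf5f58bbafaf0000000f6b2ca3ad618525bd34f100000008bffb8e46aa649cd55dc7000000016ace583d589f42bf47ac00000004e87c55c94e8ff87c94aa0000000ac52fa758f1a5ef4a35f9000000086dae754db59efcb6f79a0000000458aea7cf4595e8acf7f90000000c97d96f87eb7da4e96eb5000000000213200013210003213000000004da4b4fcb5c6ca86f8d850000000cf74b918aec6734598de20000000cd56ca88bfd85446ab4fc0000000) (Nat.mul (nat_lit 28) k)) (nat_lit 0xfffffff)
noncomputable def A5 : Nat → Nat := fun k => Nat.land (Nat.shiftRight (nat_lit 0xca5e49685f9c7d4fa78eb00000003fbf8e72a6a49e15d5c790000000ec0380098024007401c000000000931e69e7239d79e127be70000000e0ffbeb90aa6967055d7d0000000f3ebcf8a2968a4517d45c0000000d37b4d4b2e6cbc619d86800000009a5f09675fa07defa50eb0000000efbcce79a6889e75d4479000000003803e0024029001c01700000000925e6ce71f9d89e3a7b470000000e3bfb3b926a62671d5d1d0000000e3838ec924249871c1c740000000b15ac5763f58fed2af4a90000000) (Nat.mul (nat_lit 28) k)) (nat_lit 0xfffffff)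
theorem linR0 : ckLin R0 (nat_lit 14) = true := by decide +kernel
theorem sqR0 : allR (fun j => Nat.beq (actP (nat_lit 14) [R0] (bas j) (nat_lit 2)) (bas j)) (nat_lit 0) (nat_lit 14) = true := by decide +kernel
theorem linR1 : ckLin R1 (nat_lit 14) = true := by decide +kernel
theorem sqR1 : allR (fun j => Nat.beq (actP (nat_lit 14) [R1] (bas j) (nat_lit 2)) (bas j)) (nat_lit 0) (nat_lit 14) = true := by decide +kernel
theorem linR3 : ckLin R3 (nat_lit 14) = true := by decide +kernel
theorem sqR3 : allR (fun j => Nat.beq (actP (nat_lit 14) [R3] (bas j) (nat_lit 2)) (bas j)) (nat_lit 0) (nat_lit 14) = true := by decide +kernel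
theorem linR5 : ckLin R5 (nat_lit 14) = true := by decide +kernel
theorem sqR5 : allR (fun j => Nat.beq (actP (nat_lit 14) [R5] (bas j) (nat_lit 2)) (bas j)) (nat_lit 0) (nat_lit 14) = true := by decide +kernel
theorem linR6 : ckLin R6 (nat_lit 14) = true := by decide +kernel
theorem sqR6 : allR (fun j => Nat.beq (actP (nat_lit 14) [R6] (bas j) (nat_lit 2)) (bas j)) (nat_lit 0) (nat_lit 14) = true := by decide +kernel
theorem linR7 : ckLin R7 (nat_lit 14) = true := by decide +kernel
theorem sqR7 : allR (fun j => Nat.beq (actP (nat_lit 14) [R7] (bas j) (nat_lit 2)) (bas j)) (nat_lit 0) (nat_lit 14) = true := by decide +kernel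
theorem linR8 : ckLin R8 (nat_lit 14) = true := by decide +kernel
theorem sqR8 : allR (fun j => Nat.beq (actP (nat_lit 14) [R8] (bas j) (nat_lit 2)) (bas j)) (nat_lit 0) (nat_lit 14) = true := by decide +kernel
theorem linR9 : ckLin R9 (nat_lit 14) = true := by decide +kernel
theorem sqR9 : allR (fun j => Nat.beq (actP (nat_lit 14) [R9] (bas j) (nat_lit 2)) (bas j)) (nat_lit 0) (nat_lit 14) = true := by decide +kernel
theorem linR11 : ckLin R11 (nat_lit 14) = true := by decide +kernel
theorem sqR11 : allR (fun j => Nat.beq (actP (nat_lit 14) [R11] (bas j) (nat_lit 2)) (bas j)) (nat_lit 0) (nat_lit 14) = true := by decide +kernel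
theorem linR17 : ckLin R17 (nat_lit 14) = true := by decide +kernel
theorem sqR17 : allR (fun j => Nat.beq (actP (nat_lit 14) [R17] (bas j) (nat_lit 2)) (bas j)) (nat_lit 0) (nat_lit 14) = true := by decide +kernel
theorem linR18 : ckLin R18 (nat_lit 14) = true := by decide +kernel
theorem sqR18 : allR (fun j => Nat.beq (actP (nat_lit 14) [R18] (bas j) (nat_lit 2)) (bas j)) (nat_lit 0) (nat_lit 14) = true := by decide +kernel
theorem linR19 : ckLin R19 (nat_lit 14) = true := by decide +kernel
theorem sqR19 : allR (fun j => Nat.beq (actP (nat_lit 14) [R19] (bas j) (nat_lit 2)) (bas j)) (nat_lit 0) (nat_lit 14) = true := by decide +kernel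
theorem linR20 : ckLin R20 (nat_lit 14) = true := by decide +kernel
theorem sqR20 : allR (fun j => Nat.beq (actP (nat_lit 14) [R20] (bas j) (nat_lit 2)) (bas j)) (nat_lit 0) (nat_lit 14) = true := by decide +kernel
theorem linR22 : ckLin R22 (nat_lit 14) = true := by decide +kernel
theorem sqR22 : allR (fun j => Nat.beq (actP (nat_lit 14) [R22] (bas j) (nat_lit 2)) (bas j)) (nat_lit 0) (nat_lit 14) = true := by decide +kernel
theorem linR23 : ckLin R23 (nat_lit 14) = true := by decide +kernel
theorem sqR23 : allR (fun j => Nat.beq (actP (nat_lit 14) [R23] (bas j) (nat_lit 2)) (bas j)) (nat_lit 0) (nat_lit 14) = true := by decide +kernel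
theorem linR28 : ckLin R28 (nat_lit 14) = true := by decide +kernel
theorem sqR28 : allR (fun j => Nat.beq (actP (nat_lit 14) [R28] (bas j) (nat_lit 2)) (bas j)) (nat_lit 0) (nat_lit 14) = true := by decide +kernel
theorem linR29 : ckLin R29 (nat_lit 14) = true := by decide +kernel
theorem sqR29 : allR (fun j => Nat.beq (actP (nat_lit 14) [R29] (bas j) (nat_lit 2)) (bas j)) (nat_lit 0) (nat_lit 14) = true := by decide +kernel
theorem linR32 : ckLin R32 (nat_lit 14) = true := by decide +kernel
theorem sqR32 : allR (fun j => Nat.beq (actP (nat_lit 14) [R32] (bas j) (nat_lit 2)) (bas j)) (nat_lit 0) (nat_lit 14) = true := by decide +kernel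
theorem linR33 : ckLin R33 (nat_lit 14) = true := by decide +kernel
theorem sqR33 : allR (fun j => Nat.beq (actP (nat_lit 14) [R33] (bas j) (nat_lit 2)) (bas j)) (nat_lit 0) (nat_lit 14) = true := by decide +kernel
theorem linR34 : ckLin R34 (nat_lit 14) = true := by decide +kernel
theorem sqR34 : allR (fun j => Nat.beq (actP (nat_lit 14) [R34] (bas j) (nat_lit 2)) (bas j)) (nat_lit 0) (nat_lit 14) = true := by decide +kernel
theorem linR35 : ckLin R35 (nat_lit 14) = true := by decide +kernel
theorem sqR35 : allR (fun j => Nat.beq (actP (nat_lit 14) [R35] (bas j) (nat_lit 2)) (bas j)) (nat_lit 0) (nat_lit 14) = true := by decide +kernel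
theorem linA0 : ckLin A0 (nat_lit 14) = true := by decide +kernel
theorem sqA0 : allR (fun j => Nat.beq (actP (nat_lit 14) [A0] (bas j) (nat_lit 2)) (bas j)) (nat_lit 0) (nat_lit 14) = true := by decide +kernel
theorem wA0 : allR (fun j => Nat.beq (actW (nat_lit 14) [R6, R17, R35, R20, R17, R6] (bas j)) (A0 (Nat.add (Nat.mul (nat_lit 4) j) (nat_lit 1)))) (nat_lit 0) (nat_lit 14) = true := by decide +kernel
theorem linA1 : ckLin A1 (nat_lit 14) = true := by decide +kernel
theorem sqA1 : allR (fun j => Nat.beq (actP (nat_lit 14) [A1] (bas j) (nat_lit 2)) (bas j)) (nat_lit 0) (nat_lit 14) = true := by decide +kernel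
theorem wA1 : allR (fun j => Nat.beq (actW (nat_lit 14) [R1, R8, R29, R35, R7, R23, R6] (bas j)) (A1 (Nat.add (Nat.mul (nat_lit 4) j) (nat_lit 1)))) (nat_lit 0) (nat_lit 14) = true := by decide +kernel
theorem linA2 : ckLin A2 (nat_lit 14) = true := by decide +kernel
theorem sqA2 : allR (fun j => Nat.beq (actP (nat_lit 14) [A2] (bas j) (nat_lit 2)) (bas j)) (nat_lit 0) (nat_lit 14) = true := by decide +kernel
theorem wA2 : allR (fun j => Nat.beq (actW (nat_lit 14) [R0, R9, R34, R32, R9, R0] (bas j)) (A2 (Nat.add (Nat.mul (nat_lit 4) j) (nat_lit 1)))) (nat_lit 0) (nat_lit 14) = true := by decide +kernel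
theorem linA3 : ckLin A3 (nat_lit 14) = true := by decide +kernel
theorem sqA3 : allR (fun j => Nat.beq (actP (nat_lit 14) [A3] (bas j) (nat_lit 2)) (bas j)) (nat_lit 0) (nat_lit 14) = true := by decide +kernel
theorem wA3 : allR (fun j => Nat.beq (actW (nat_lit 14) [R9, R22, R18, R5, R32, R28] (bas j)) (A3 (Nat.add (Nat.mul (nat_lit 4) j) (nat_lit 1)))) (nat_lit 0) (nat_lit 14) = true := by decide +kernel
theorem linA4 : ckLin A4 (nat_lit 14) = true := by decide +kernel
theorem sqA4 : allR (fun j => Nat.beq (actP (nat_lit 14) [A4] (bas j) (nat_lit 2)) (bas j)) (nat_lit 0) (nat_lit 14) = true := by decide +kernel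
theorem wA4 : allR (fun j => Nat.beq (actW (nat_lit 14) [R0, R3, R6, R11, R35, R7, R11, R19] (bas j)) (A4 (Nat.add (Nat.mul (nat_lit 4) j) (nat_lit 1)))) (nat_lit 0) (nat_lit 14) = true := by decide +kernel
theorem linA5 : ckLin A5 (nat_lit 14) = true := by decide +kernel
theorem sqA5 : allR (fun j => Nat.beq (actP (nat_lit 14) [A5] (bas j) (nat_lit 2)) (bas j)) (nat_lit 0) (nat_lit 14) = true := by decide +kernel
theorem wA5 : allR (fun j => Nat.beq (actW (nat_lit 14) [R6, R17, R33, R18, R17, R6] (bas j)) (A5 (Nat.add (Nat.mul (nat_lit 4) j) (nat_lit 1)))) (nat_lit 0) (nat_lit 14) = true := by decide +kernel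
theorem rel0 : allR (fun j => Nat.beq (actP (nat_lit 14) [A0, A1] (bas j) (nat_lit 5)) (bas j)) (nat_lit 0) (nat_lit 14) = true := by decide +kernel
theorem rel1 : allR (fun j => Nat.beq (actP (nat_lit 14) [A0, A2] (bas j) (nat_lit 2)) (bas j)) (nat_lit 0) (nat_lit 14) = true := by decide +kernel
theorem rel2 : allR (fun j => Nat.beq (actP (nat_lit 14) [A0, A3] (bas j) (nat_lit 2)) (bas j)) (nat_lit 0) (nat_lit 14) = true := by decide +kernel
theorem rel3 : allR (fun j => Nat.beq (actP (nat_lit 14) [A0, A4] (bas j) (nat_lit 2)) (bas j)) (nat_lit 0) (nat_lit 14) = true := by decide +kernel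
theorem rel4 : allR (fun j => Nat.beq (actP (nat_lit 14) [A0, A5] (bas j) (nat_lit 2)) (bas j)) (nat_lit 0) (nat_lit 14) = true := by decide +kernel
theorem rel5 : allR (fun j => Nat.beq (actP (nat_lit 14) [A1, A2] (bas j) (nat_lit 3)) (bas j)) (nat_lit 0) (nat_lit 14) = true := by decide +kernel
theorem rel6 : allR (fun j => Nat.beq (actP (nat_lit 14) [A1, A3] (bas j) (nat_lit 2)) (bas j)) (nat_lit 0) (nat_lit 14) = true := by decide +kernel
theorem rel7 : allR (fun j => Nat.beq (actP (nat_lit 14) [A1, A4] (bas j) (nat_lit 2)) (bas j)) (nat_lit 0) (nat_lit 14) = true := by decide +kernel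
theorem rel8 : allR (fun j => Nat.beq (actP (nat_lit 14) [A1, A5] (bas j) (nat_lit 3)) (bas j)) (nat_lit 0) (nat_lit 14) = true := by decide +kernel
theorem rel9 : allR (fun j => Nat.beq (actP (nat_lit 14) [A2, A3] (bas j) (nat_lit 8)) (bas j)) (nat_lit 0) (nat_lit 14) = true := by decide +kernel
theorem rel10 : allR (fun j => Nat.beq (actP (nat_lit 14) [A2, A4] (bas j) (nat_lit 2)) (bas j)) (nat_lit 0) (nat_lit 14) = true := by decide +kernel
theorem rel11 : allR (fun j => Nat.beq (actP (nat_lit 14) [A2, A5] (bas j) (nat_lit 2)) (bas j)) (nat_lit 0) (nat_lit 14) = true := by decide +kernel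
theorem rel12 : allR (fun j => Nat.beq (actP (nat_lit 14) [A3, A4] (bas j) (nat_lit 3)) (bas j)) (nat_lit 0) (nat_lit 14) = true := by decide +kernel
theorem rel13 : allR (fun j => Nat.beq (actP (nat_lit 14) [A3, A5] (bas j) (nat_lit 2)) (bas j)) (nat_lit 0) (nat_lit 14) = true := by decide +kernel
theorem rel14 : allR (fun j => Nat.beq (actP (nat_lit 14) [A4, A5] (bas j) (nat_lit 2)) (bas j)) (nat_lit 0) (nat_lit 14) = true := by decide +kernel
theorem rel15 : allR (fun j => Nat.beq (actP (nat_lit 14) [A0, A2, A3, A2, A3, A2, A3, A2, A3] (bas j) (nat_lit 1)) (bas j)) (nat_lit 0) (nat_lit 14) = true := by decide +kernel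
theorem rel16 : allR (fun j => Nat.beq (actP (nat_lit 14) [A0, A1, A2, A5] (bas j) (nat_lit 5)) (bas j)) (nat_lit 0) (nat_lit 14) = true := by decide +kernel
theorem rel17 : allR (fun j => Nat.beq (actP (nat_lit 14) [A1, A2, A3, A2, A3, A1, A2, A3, A2, A3, A1, A2, A3, A2, A3, A1, A2, A3, A2, A3, A1, A2, A3, A2, A3, A4] (bas j) (nat_lit 3)) (bas j)) (nat_lit 0) (nat_lit 14) = true := by decide +kernel
theorem bas14 : ckBas (nat_lit 14) = true := by decide +kernel

/-- index equivalence. -/
def eG : Lie.chevG2.Idx ≃ Fin 14 := (finSumFinEquiv : Fin 2 ⊕ Fin 12 ≃ Fin (2 + 12))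

theorem xm0 : ∀ i j : Fin 2 ⊕ Fin 12, F4.beq' (Lie.chevG2.xMat F4 (0 : Fin 12) F4.o i j) (comp (R0 (4 * (eG j : Nat) + 1)) (eG i)) = true := by decide +kernel
theorem xm1 : ∀ i j : Fin 2 ⊕ Fin 12, F4.beq' (Lie.chevG2.xMat F4 (0 : Fin 12) F4.w i j) (comp (R1 (4 * (eG j : Nat) + 1)) (eG i)) = true := by decide +kernel
theorem xm3 : ∀ i j : Fin 2 ⊕ Fin 12, F4.beq' (Lie.chevG2.xMat F4 (1 : Fin 12) F4.o i j) (comp (R3 (4 * (eG j : Nat) + 1)) (eG i)) = true := by decide +kernel
theorem xm5 : ∀ i j : Fin 2 ⊕ Fin 12, F4.beq' (Lie.chevG2.xMat F4 (1 : Fin 12) F4.v i j) (comp (R5 (4 * (eG j : Nat) + 1)) (eG i)) = true := by decide +kernel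
theorem xm6 : ∀ i j : Fin 2 ⊕ Fin 12, F4.beq' (Lie.chevG2.xMat F4 (2 : Fin 12) F4.o i j) (comp (R6 (4 * (eG j : Nat) + 1)) (eG i)) = true := by decide +kernel
theorem xm7 : ∀ i j : Fin 2 ⊕ Fin 12, F4.beq' (Lie.chevG2.xMat F4 (2 : Fin 12) F4.w i j) (comp (R7 (4 * (eG j : Nat) + 1)) (eG i)) = true := by decide +kernel
theorem xm8 : ∀ i j : Fin 2 ⊕ Fin 12, F4.beq' (Lie.chevG2.xMat F4 (2 : Fin 12) F4.v i j) (comp (R8 (4 * (eG j : Nat) + 1)) (eG i)) = true := by decide +kernel
theorem xm9 : ∀ i j : Fin 2 ⊕ Fin 12, F4.beq' (Lie.chevG2.xMat F4 (3 : Fin 12) F4.o i j) (comp (R9 (4 * (eG j : Nat) + 1)) (eG i)) = true := by decide +kernel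
theorem xm11 : ∀ i j : Fin 2 ⊕ Fin 12, F4.beq' (Lie.chevG2.xMat F4 (3 : Fin 12) F4.v i j) (comp (R11 (4 * (eG j : Nat) + 1)) (eG i)) = true := by decide +kernel
theorem xm17 : ∀ i j : Fin 2 ⊕ Fin 12, F4.beq' (Lie.chevG2.xMat F4 (5 : Fin 12) F4.v i j) (comp (R17 (4 * (eG j : Nat) + 1)) (eG i)) = true := by decide +kernel
theorem xm18 : ∀ i j : Fin 2 ⊕ Fin 12, F4.beq' (Lie.chevG2.xMat F4 (6 : Fin 12) F4.o i j) (comp (R18 (4 * (eG j : Nat) + 1)) (eG i)) = true := by decide +kernel
theorem xm19 : ∀ i j : Fin 2 ⊕ Fin 12, F4.beq' (Lie.chevG2.xMat F4 (6 : Fin 12) F4.w i j) (comp (R19 (4 * (eG j : Nat) + 1)) (eG i)) = true := by decide +kernel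
theorem xm20 : ∀ i j : Fin 2 ⊕ Fin 12, F4.beq' (Lie.chevG2.xMat F4 (6 : Fin 12) F4.v i j) (comp (R20 (4 * (eG j : Nat) + 1)) (eG i)) = true := by decide +kernel
theorem xm22 : ∀ i j : Fin 2 ⊕ Fin 12, F4.beq' (Lie.chevG2.xMat F4 (7 : Fin 12) F4.w i j) (comp (R22 (4 * (eG j : Nat) + 1)) (eG i)) = true := by decide +kernel
theorem xm23 : ∀ i j : Fin 2 ⊕ Fin 12, F4.beq' (Lie.chevG2.xMat F4 (7 : Fin 12) F4.v i j) (comp (R23 (4 * (eG j : Nat) + 1)) (eG i)) = true := by decide +kernel
theorem xm28 : ∀ i j : Fin 2 ⊕ Fin 12, F4.beq' (Lie.chevG2.xMat F4 (9 : Fin 12) F4.w i j) (comp (R28 (4 * (eG j : Nat) + 1)) (eG i)) = true := by decide +kernel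
theorem xm29 : ∀ i j : Fin 2 ⊕ Fin 12, F4.beq' (Lie.chevG2.xMat F4 (9 : Fin 12) F4.v i j) (comp (R29 (4 * (eG j : Nat) + 1)) (eG i)) = true := by decide +kernel
theorem xm32 : ∀ i j : Fin 2 ⊕ Fin 12, F4.beq' (Lie.chevG2.xMat F4 (10 : Fin 12) F4.v i j) (comp (R32 (4 * (eG j : Nat) + 1)) (eG i)) = true := by decide +kernel
theorem xm33 : ∀ i j : Fin 2 ⊕ Fin 12, F4.beq' (Lie.chevG2.xMat F4 (11 : Fin 12) F4.o i j) (comp (R33 (4 * (eG j : Nat) + 1)) (eG i)) = true := by decide +kernel
theorem xm34 : ∀ i j : Fin 2 ⊕ Fin 12, F4.beq' (Lie.chevG2.xMat F4 (11 : Fin 12) F4.w i j) (comp (R34 (4 * (eG j : Nat) + 1)) (eG i)) = true := by decide +kernel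
theorem xm35 : ∀ i j : Fin 2 ⊕ Fin 12, F4.beq' (Lie.chevG2.xMat F4 (11 : Fin 12) F4.v i j) (comp (R35 (4 * (eG j : Nat) + 1)) (eG i)) = true := by decide +kernel

end Cfsg.Agent.H8.G24M
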