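import Cfsg.Agent.H8.CosetPres

set_option autoImplicit false
set_option linter.all false
set_option maxRecDepth 100000

namespace Cfsg.Agent.H8.G24t
noncomputable def E0c0 : Nat := nat_lit 0x94b0f046ba048b90034b0034a180bd180bc0414304142000b5000b498122046b30033f0413c0413b000b000338989011470514b040413759125000ac3c72d3c92c003302c8e41c0ae0032f2c6e1386ab38caa7c6d1000a300328112d578708041240009f94ed40009e100db940d7003208069c7c0de0009a7c6cf1871074acd0871908b1808d170469604895003130031214098140970410c0410b0009104690780a2746be186fa18af9112ad040fe040fd0008c1808e1408d002f6002f5040f30008850ca0002ef4c09d1c6e3100bb002e8380e0380df28aa91c08519084286a63c08334082002dd796bf0007b500b1002d8002d64ccaf800d204676002d078699146c514ac4040c9040c8000721007410073002c1040c00006f186b7150b6002b80c06e1506d28079002b25067a48e781c6a8180a73c6a5344a4244810806618065406643886314069002a15008728c89480861805e0409b000591069310892002940c0580c0570028f0c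68b1408a08053080522485c14c7c4c05d4c05b086801907f4007e3807d0464b04a4a3c0491004e18c774c6682406a4ca6714045002750c6710cc700803e0803d1803f0866c0886b0463904a38200431085f50a4448e4204062040613ca60000320c03418e461485a5004d20a4f4804c1002e20e4018c5408656088550462604a25140270405104050000221ca2c1cc2b0ca474c02d00248080200801f14e2f10a414cc331c0361c0350c01c0c01b1ce281483a0403c0403b0001610017002371801a08a3108c300481210e1d0ca2a0cc29188210801018e1810a23002240c00d0c00c1460f0401e0000a088191401304c090ca150cc1408007002110400e000050880b04c04002080400600002002030860104400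
noncomputable def E0c1 : Nat := nat_lit 0x3c99f30f9e0c19838d9c2c1900c18c349990c99d08186081855498b9c1929418d9d3941d1782d39b1016858b73953930c99a5419508162081610015e0c15d08b9708d960495a2cf83a81675536470b8000149081450814490f7994171941639017c1c191047321d33170170407345818e0012b94b7b70d750012a04d290012304d2128f6b0011f749691098fa87820c11c0c11b541819517a08b8a08d890491500111003880cb870810e0810d041847d3410010a00109747569c11a189335514e001036c5519813590147541530810088926000fc000fb0037f1c10690f4f9413608b7e08d7d046f8048f77c1597413a000f28cb1494116046f1048f07534094127000ee046ea94d46995504017418154041771c176000e5000e23072e3c0e73c0e6003720036f0416e000dc951398814c580e9048d90036d98ef40416c000d30036a7871e7891d0c7660cb659d555080cc080cb080ca94b3d041608c13e000c7000c60035f180ce940ff08b5c08d5b046c3048c20035800357780da707071c748140ec140eb0035270902980ed08b4d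
noncomputable def E0 : Nat → Nat := (fun h => @Nat.rec (fun _ => Nat → Nat)
 (fun i => Nat.land (Nat.shiftRight E0c0 (Nat.mul (nat_lit 20) (Nat.land i (nat_lit 255)))) (nat_lit 0xfffff))
 (fun _ _ => (fun i => Nat.land (Nat.shiftRight E0c1 (Nat.mul (nat_lit 20) (Nat.land i (nat_lit 255)))) (nat_lit 0xfffff))) (Nat.land h (nat_lit 256)) h)
noncomputable def E1c0 : Nat := nat_lit 0x34e900ec8c0ea000b8000b7003490894500347046b6003419c126000b38c73c000b228139046b10033a000af000ae90efea19168c6fd046ad003360033504131000aa000a894ae3000a7000a50032e0032b280d70032a000a1003279d6d6046a00032328ede9c0da041220009d0009b0031f14b147cca2000980031e000960031d0809720b0d0031a041150009400093003110890e0030f046920030a003090008f0008e003070890000303003020468d002fc002fb040f70008a00089002f4002f2040f000087002ee002ed040e9000844868b002e500080002e4002e20007e002e10807f0007c7c0d0002dc040d90007a00079002d400077002d30007500074002cf088cb002cd0467300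2c7002c6040c20007028e90002bf002be040b90006d480ab002b5002b400069002b04006b4c071002ac4406c0c06800062002a9086a4002a604861002a30005e0029f0029e0805c0029c24e760029a0029904095000574c88500291000542486e0028c44a834068644855002880c6823ca50508560804e48a510804d002810407d0004850c5a0027b0804508678048435005f0003f20e5800272500664406a0026f20e530803a480643c0674803b0866508863400374c03c04834046330026054041080310865d0482e0405b0002b54c470802a002591ce3e080274d24b4884f086521ce390482340a4c1ce36446240404a040490001f0884650c290461e040440001b0801c002420884050030046190863d18e260481744035040380001418e2108015002320402f000110882c0022d04610040280000e040250000c088200022214e130460b0021d0401a00009002181480d0021604012000060020f0cc08106070020a000030ca0400205000010020204400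
noncomputable def E1c1 : Nat := nat_lit 0x479d0479a0419f001960478c0419e00189707911818a0039c28b957417e6cb85001777019820b906017204965a518d0419b0016118997003997cd885c1760815c6c1931416000157b1582081540015074d7f74b947077b047427017d6815b0013734b78003925cd8700130ad1740472c6078f9013b741681813f7812f6c140a136c00120841280011c74d7000119a41340418e00117a1133081180038b1478480d5f0011024b1b089866897a0470b8014b10113003830010698955087810490458b4f001010038058152000ff9c1321410880d5978d4a000fa9c121000f894129080f95c1248c1250417c000f66cb6d18d6f901389010c8c0f390f71000ef28ef19213e00379000e8000e7a5566a01639df4d046e6003757856e000e094b2d04173000df000dd94b4684d6a000db9dcf58db435cb44000d8046d59cf480036b000d2000ce000cc003692415d000c9003670896200364a00eb046c8140d110d587cd12000c50035e000c3080c4200ca9093d0415a000c1000c014b4c000bd0035694d0504153000bb000ba00351080bc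
noncomputable def E1 : Nat → Nat := (fun h => @Nat.rec (fun _ => Nat → Nat)
 (fun i => Nat.land (Nat.shiftRight E1c0 (Nat.mul (nat_lit 20) (Nat.land i (nat_lit 255)))) (nat_lit 0xfffff))
 (fun _ _ => (fun i => Nat.land (Nat.shiftRight E1c1 (Nat.mul (nat_lit 20) (Nat.land i (nat_lit 255)))) (nat_lit 0xfffff))) (Nat.land h (nat_lit 256)) h)
noncomputable def E2c0 : Nat := nat_lit 0xb9140c09c10f0034c4c935140ec140eb487390034448d384ccc14c6c31473700340147320033d14d30448b5508c6146fa14af9100b359524100b2046ab30ae6100b0910e4046a80c92b2c0a90412d000a4800d07c6d200329000a0100a200325100a1998d6980d74d6b10c09e003217c0dd0009a806dea811d24b10288cd981110411b000951409b0031700314500ed21298200974c0f40030d4c0f5146fe00308288be04105041040008d10090002ff1008f0468b116ad440ee48091106ea10ce84c0d5108e50008604685100b60c088040e7000822cee1040e30007f2808140083002df5409c106da10cd8002db0c07b0c8d400078548a3146c9002d124899200c520ac410076002ca100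75046711d273488b4106ba10cb80466e002bb0c06f040b70006b0466a0c8ac00068002af040ae00065410a5002aa28ea61406c002a744e6439c630005f0c89f0005d0005c0029d0005a1069610c94046581c0920c05904093000550c88c0408e00052146800028a040890004e0028704a4d10053002844407e3807d10051100503c0490027c000450027a002790c044002770c872040740003d20656002700003a106660026d1066210a61080360026904067000330c0390c0383ca600c03704a31588400025e0ca5b04a2c0802d04a2a58046000271c63e002571c63c1cc3b002540c64b0ca4a0cc480864f0462104a200024c08022040470001e5402804a1c08842040430001a04041000195482f0023f186261882518c2404a1508832040350403400012002301881d0402e000100022b002291081804a0d14816040230000b140110021f146130021b0480a000080401700007002140400f000050020e0020c00003002090000200206002040860104400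
noncomputable def E2c1 : Nat := nat_lit 0x7c19e7c99f78d97181995cb8e64b8a1899c741867819d00184001810017c0017a94179001760017384d6a5c19b0476360162081646419a00160b416604b5c749980015a0039698f832938200395a4f80a01577017b00142003947137e0039396f92001311813c003916cb6f20774003901012f94b450012a6c175001286853600120a4f6b8418fac11e8011faad67b6b8804b180898b0418d60b8c001150038999b19ac11c04b0e041870010b003850010a7db41a117fa515608106253545555254153a1151a114a04b000810394147000fc8c126a0150941099811a9694d9072394171000f7909270037d7c158000f27093a90113000f018777907167013f480f8480f6140f36816d4c0fb347342d533140f100378140ef10d7290f2e046e01c52c0c0e200370000dc0036e901438e74b000d9580e990146a410c000d30036c80968ae569aa2cfae15e04acb98f489815f04165000c89013b00361000c79153ea0f01994cc240ce9d8fd0415d000c2a5f220035b0035994949000bfa510708755046bd04abc0894e2c702a01120414f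
noncomputable def E2 : Nat → Nat := (fun h => @Nat.rec (fun _ => Nat → Nat)
 (fun i => Nat.land (Nat.shiftRight E2c0 (Nat.mul (nat_lit 20) (Nat.land i (nat_lit 255)))) (nat_lit 0xfffff))
 (fun _ _ => (fun i => Nat.land (Nat.shiftRight E2c1 (Nat.mul (nat_lit 20) (Nat.land i (nat_lit 255)))) (nat_lit 0xfffff))) (Nat.land h (nat_lit 256)) h)
noncomputable def E3c0 : Nat := nat_lit 0x25117948ed000b8894ea08949046b7280c404146000b500342300d6300d77c6d12c92a0413e000b00033b50927940fe046ae0cb33880fc000ac59f2504134000aa00331080a918705189030892e046a50032c286b328cb28091f4d0af041260009f00324306f430cf50009d003222c1097c6a17c0f37cca20809924b060891d0469624b00a1d0f0411900094003150891104693290f999b0d000910030b2809b2809a089070468e20a97156a7041010008c002fd040fa0008a002f72c89e280de280dd00087002f04c0db040ec00084002e904683002e6088e404680140bb44081040e00007d240887c0d07c0d20007a002d92c0b4002d52407b286c0288bf088cf04674200bc040cc00072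002c8040c500070002c22467624c75040bd0006d002b90466c002b628079248a3002b10006704666002ad040ab0006344aa6040a80006140a62002a420e692489c002a0292890005b20e5e240902408f040980005700295046560029220059046530028d0408b000500464f2007c0004d00286040850004a0464b002824007e0027f3c0480004720077000440004300278000412086f0463e00273040710003b1ce3f0406e000381c03c0026b0406a0003400268194350406400265000323ca600025f24a460002e0025d0025c4cc2b0025a24a401c05404058000251c6510025500023186260025218c2420a361804c0024e0001f0024920a314c02d0001d002454d23020a2c4c04220a2a18e1b0001800017180390023d180370023a14016046131ca2000233000110022f1ca1c180290000f0000e00228002271482218a1510e0c040210000a0021e000090021a0021914a0d1001400006002120021018c08000040020b148050020710c030c8020860104400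
noncomputable def E3c1 : Nat := nat_lit 0x19c00199001960039f0018b001890039e00185901920039d50190789861819192b971a99352795001655cb729e578001610039b8c1770039ab0f6c609757819400398001583496b04755001532c1690c14a3015c6416d00141001400013d981599c18d8d18a00130601870472d0012b5c18e94b3a7415d30d3f7c94f64d7db018834183841282cb800011b0811a9c1350038f2894e047168c1320038c001130c112a0b2174d7030d7e94b0c0010a9a379003843012028b1e0418200104003811c12f0810228b1c7c16e2816428b188450888f370cd7f080fb2c1109a129046f82c90e6092390936000f60037c0037b3016f046f10037a88114000ef9417194138957398814b901439c766046e70c0eb8cb62000e5003761cd52080e104174000df003732c0f2981478596a500ee046da580e8000d860144000d4a015e30d57800dc28156080cd281500036808967046c92814d240ff04163000c788b3c003600cd5f080c62d948a00ca2c145980c39415b000c10035a2c8d38414c080be240ce180e300354180e208951046ba240cb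
noncomputable def E3 : Nat → Nat := (fun h => @Nat.rec (fun _ => Nat → Nat)
 (fun i => Nat.land (Nat.shiftRight E3c0 (Nat.mul (nat_lit 20) (Nat.land i (nat_lit 255)))) (nat_lit 0xfffff))
 (fun _ _ => (fun i => Nat.land (Nat.shiftRight E3c1 (Nat.mul (nat_lit 20) (Nat.land i (nat_lit 255)))) (nat_lit 0xfffff))) (Nat.land h (nat_lit 256)) h)
noncomputable def E4c0 : Nat := nat_lit 0x34f288c90034d286c7286c604148000b6288c30034528ac128138281391493c1473a100b35c6d9100b2240b4107359411a000ad109329091610b300c0ae003330c0ac4012e4012d4012b080a63c0a83c0a75c0da5c0d88071f540d55c8de5c0f05cadda10d6a00d754edb5469e281097c8a1281087caa20871e04898281020411c000950031b280fe00318280fc280fb0411000092280f80030e280f62409b2409a24099041060008d0030424096003002409424093002f924091246ee108f110aef580a00c08820c890c8e7002eb0c6e50808508084080813c8e03cadf086e10487e38a7f5869f7c0d07c0d2588b1580a3540d4500792407b248c0246bf246be040ce00073248ba002cb24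ab824cb7002c4246b52087620a7520c74002bc2067220e7120c70200af0c6b0080691c06a088ab08caa0486404e65086a904862380a4040a5000605407a2469c54c7c50a9d4ca5c20c5e200902008f2008e002972008c2008b2008a1c0591c0581c057048511c0551ce8608c8704e4e0004c0484b04082040830004904080000480027d50e5d200775005f4c078000421c0451c66f1ce6e1cc6d0483c1ce6b18c3f0483918e3d0406c000370483504068000330026704066000320026300261000300002f1ce5a0002d0002b0025b0002900028180540482618052040560002414027040530002200250048210404f0001f0024d0024a0001e00247002460001b002440001a0024300019002410024014e3a0403e000160023b0001400238040360001200234002312061d000100022e0022c0022a206180000c002250000b002231c813002201ca110021c1c60f1cc0e0000700217002151860a18c0918a080020d14c061460510c0410a030c6020880104400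
noncomputable def E4c1 : Nat := nat_lit 0x7c19c6479978b967c79f5818b601896419e74185001847819d481907877c681911817968d9348d957c16e00164a93785c76158b9b0016060b9a0c15f0015b0015a74798003973076b4497444773081519c96c0014274d7b781947417d64f7618792a818d141376417a1413644182441814412f9014494d466416d7c78f64b6f9c17f3018384b280811d80b299813404919001170038ea4131001155c18c0038a0cb88081110010d0010b003870038680d58801592c12008107049054012c0010358d4e0878004901000ff58152000fd2c1142c1132c1129c121048fa2c10f94170000f7909712c10c0037e2c10a7013f707406012660125140f360124140f2288f428af51497714775100ed98f67000e6100eaa5163100e844b72406e4408e340b54406e260723801688416a58f226093e60d3d60b3b6012a581279c9492cb57800dc080cf08769048cc000ca946ec04166000c800365900e9003622cd4c2cb4b2cb4a0875e048c52c947000c20035d2c9430035c2c741286d328cd108756048bd04155000bb00353288cd04150000b9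
noncomputable def E4 : Nat → Nat := (fun h => @Nat.rec (fun _ => Nat → Nat)
 (fun i => Nat.land (Nat.shiftRight E4c0 (Nat.mul (nat_lit 20) (Nat.land i (nat_lit 255)))) (nat_lit 0xfffff))
 (fun _ _ => (fun i => Nat.land (Nat.shiftRight E4c1 (Nat.mul (nat_lit 20) (Nat.land i (nat_lit 255)))) (nat_lit 0xfffff))) (Nat.land h (nat_lit 256)) h)
noncomputable def E5c0 : Nat := nat_lit 0x94112000b8940ed8cae904147000b600348000b5003460034398f22048b4000b29013a000b00033e0033c0033994cfd000ada411a000ac8c0fc00337000aa00334003320c92e000a784ce2080a9000a40032d000a3780d17c109500b10009f00326741080009e9cad4380a09c0d60411f0009a78cdd7c09c0891d0009704899000950031ca41110009400319003160410f0009200310000919c10d0030c0008f780a1041020008d00306003050008c00301002fe0008a002fa002f8040f400088002f350adb002f12408700084002ec002ea00082002e7088e10007f002e3048810007d002e0002de0007b78abf386d5002da002d734a7a7ccd000075002d2040cd00073002ce00072002cc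002c900070002c5002c30006f002c00006d002bd002ba0006b002b700069002b324eaf20e6800065002ae00063002ab040a600061002a800060002a524a79002a23409d2407c3005d5805e000590029b000570029800296000550029300290000520028e000500028b0004e002892008620e4d0004a00285000490028300048002800027e2005c58a77306782065f2ce4454845002760003d002740003b0027124a54000380026e000370026c000340026a200671c033000320026600264002621ce435cc405405a2c05b1c0472802d5502e5c04620a3f000250025800024002562063a000220025300251000200001f0024f1c64c0024b1802c1802b58c28540412844218e3118a305401c5001b5802f1c627000160023e0023c1ce23002390001200236002351461a5c01854c2a50c291401e510105c61d18e170022618e15186140000a002211000f5001910c115400914e0d14a0c1460b002135460e58a051060710a06580080ca040d203088020000000201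
noncomputable def E5c1 : Nat := nat_lit 0xb0d9eb019fa0198a9199a499ba5391a819ca0d9db1186a1185ad195a019299389a0b94a419aa8d908816ca078e00161a0178a898b90776981939cf659c75cb0197a01969815a6016b00154acd810c1569876e98f759136d9c1799416f941609c77ca078c001309018a9817e0012c8c7739cd720012a9814594f7b9817f9017d88b8f60583081200c11e84b21a4133001189c188acb6400115907310038d9477a98117a811b9c70e9c1879810b98784901419490a801280c98000104003828cf539895208107001009534a9894e98b35881248d1259414f98929000f9048fb000f798d708c123000f694136909599893f98140000f090d13000ef8c114908f2000ee94127000e894b429814d000e6a4967000e590162003778912f0c0e4000df0037488d2b00371981498135794d38000d98c14b8874c8c944980f5841680936a048d30c969080cf000cba8f5ea48eb000c8003669875f000c7003638cf3b9013d950ffa46ca000c4048c69c15d9c6c2000c19875b941587c8dc74cd808951000bc000bb0035588703048be000b900350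
noncomputable def E5 : Nat → Nat := (fun h => @Nat.rec (fun _ => Nat → Nat)
 (fun i => Nat.land (Nat.shiftRight E5c0 (Nat.mul (nat_lit 20) (Nat.land i (nat_lit 255)))) (nat_lit 0xfffff))
 (fun _ _ => (fun i => Nat.land (Nat.shiftRight E5c1 (Nat.mul (nat_lit 20) (Nat.land i (nat_lit 255)))) (nat_lit 0xfffff))) (Nat.land h (nat_lit 256)) h)
noncomputable def Dc0 : Nat := nat_lit 0x5c897055c0d7015b856c55b116a55a8d6a05a016615915641581560358015e157055a55691585560d5805515543550550153954e152854855209465518142150093e54f8d3e04f153c04e8d3a14d853454d093404c052e54b052a54a912a24a152834a052614915244489522348811e547851c146951a44689185460d180451514345051214415100438d0e14309085420d08141150424004fe53f88fc13e94fa33e04f653d80f433d04f213c08ee13a94ea13a04e653990e45390ce403814e033804de53780da5368cda13594d623494d213408ce33294ca23194c633104c25308cc053010be22f04ba22e08b632d08b252c80ae52b8cae12a94aa22a04a452908a05280c9c527089a32610945250c92524909052410901238c8a2220c86321108231f847a51e887651d8c7421c147031b946e41a1468319906621914644190c64018105e4170c5a41590561149050413884a5128c4851210463111444411004050f943e40f8c3e10f103c20e8c3640d843440d083240c883030b8c2c50b102c00a1028109142440908223088420408081e3070c1c10610181059016205141430500123048410203900e2030c0c102880a0020c062018404201000210014000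
noncomputable def Dc1 : Nat := nat_lit 0xce0f323cb0f2c1c58f123c4870a3c213082c08af82bd0aee1bb0ae62b28ec84b096c23b086c04b00abc0ad92b44ad0ab03ab86a85a98ea01a482844a10a823a00e7a39b8662298166039806585958e56095165429502502918240290063e08e063638c863058b922e18a962a48a8a26388822018692164858a143850a14084820c18216083819206080860057f91fe17e91f827e01f607d05f257c05ee57b91ee27b15ec37b05e427901e057809de5778dde17715dc07415d017385cc57311ca5728dca07101c016f95be36f85ba16e09b806d85b256c89b036c05a836989a6069059c166059656511921641590464098e5638d8e263818c0628588561858446109825608d82160057e25e857855d957645d857415c95724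
noncomputable def D : Nat → Nat := (fun h => @Nat.rec (fun _ => Nat → Nat)
 (fun i => Nat.land (Nat.shiftRight Dc0 (Nat.mul (nat_lit 14) (Nat.land i (nat_lit 255)))) (nat_lit 0x3fff))
 (fun _ _ => (fun i => Nat.land (Nat.shiftRight Dc1 (Nat.mul (nat_lit 14) (Nat.land i (nat_lit 255)))) (nat_lit 0x3fff))) (Nat.land h (nat_lit 256)) h)
noncomputable def T0 : Nat → Nat := fun i => Nat.land (E0 i) (nat_lit 511)
noncomputable def T1 : Nat → Nat := fun i => Nat.land (E1 i) (nat_lit 511)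
noncomputable def T2 : Nat → Nat := fun i => Nat.land (E2 i) (nat_lit 511)
noncomputable def T3 : Nat → Nat := fun i => Nat.land (E3 i) (nat_lit 511)
noncomputable def T4 : Nat → Nat := fun i => Nat.land (E4 i) (nat_lit 511)
noncomputable def T5 : Nat → Nat := fun i => Nat.land (E5 i) (nat_lit 511)
noncomputable def E : Nat → Nat → Nat := fun l => (@Nat.rec (fun _ => Nat → Nat) E0 (fun l _ => (@Nat.rec (fun _ => Nat → Nat) E1 (fun l _ => (@Nat.rec (fun _ => Nat → Nat) E2 (fun l _ => (@Nat.rec (fun _ => Nat → Nat) E3 (fun l _ => (@Nat.rec (fun _ => Nat → Nat) E4 (fun l _ => E5) l)) l)) l)) l)) l)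
noncomputable def T : Nat → Nat → Nat := fun l => (@Nat.rec (fun _ => Nat → Nat) T0 (fun l _ => (@Nat.rec (fun _ => Nat → Nat) T1 (fun l _ => (@Nat.rec (fun _ => Nat → Nat) T2 (fun l _ => (@Nat.rec (fun _ => Nat → Nat) T3 (fun l _ => (@Nat.rec (fun _ => Nat → Nat) T4 (fun l _ => T5) l)) l)) l)) l)) l)
noncomputable def inv : Nat → Nat := fun l => l
def rels2 : List (List Nat × Nat) := [([0, 1], 5), ([0, 2], 2), ([0, 3], 2), ([0, 4], 2), ([0, 5], 2), ([1, 2], 3), ([1, 3], 2), ([1, 4], 2), ([1, 5], 3), ([2, 3], 8), ([2, 4], 2), ([2, 5], 2), ([3, 4], 3), ([3, 5], 2), ([4, 5], 2), ([0, 2, 3, 2, 3, 2, 3, 2, 3], 1), ([0, 1, 2, 5], 5), ([1, 2, 3, 2, 3, 1, 2, 3, 2, 3, 1, 2, 3, 2, 3, 1, 2, 3, 2, 3, 1, 2, 3, 2, 3, 4], 3)]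
def rels : List (List Nat) := rels2.map (fun p => wpow p.1 p.2)
def relsP : List (List Nat × Nat) := [([0, 1], 5), ([0, 2], 2), ([0, 3], 2), ([0, 4], 2), ([0, 5], 2), ([1, 2], 3), ([1, 3], 2), ([1, 4], 2), ([1, 5], 3), ([2, 3], 8), ([2, 4], 2), ([2, 5], 2), ([3, 4], 3), ([3, 5], 2), ([4, 5], 2), ([0, 2, 3, 2, 3, 2, 3, 2, 3], 1), ([0, 1, 2, 5], 5), ([1, 2, 3, 2, 3, 1, 2, 3, 2, 3, 1, 2, 3, 2, 3, 1, 2, 3, 2, 3, 1, 2, 3, 2, 3, 4], 3)]
def subw : List (List Nat) := [[0], [1], [2], [3], [4]]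
def RW0 : List (List Nat) := [[5, 0, 5], [3, 0, 3], [4, 0, 4], [2, 0, 2], [1, 0, 1, 0, 1, 0, 1, 0, 1], [3, 2, 3, 2, 3, 2, 3, 2], [2, 3, 2, 3, 2, 3, 2, 3], [1, 2, 5, 0, 1, 2, 5, 0, 1, 2, 5, 0, 1, 2, 5, 0, 1, 2, 5], [5, 2, 1, 0, 5, 2, 1, 0, 5, 2, 1, 0, 5, 2, 1, 0, 5, 2, 1]]
noncomputable def RF0 : List (List (Nat → Nat)) := [[E5, E0, E5], [E3, E0, E3], [E4, E0, E4], [E2, E0, E2], [E1, E0, E1, E0, E1, E0, E1, E0, E1], [E3, E2, E3, E2, E3, E2, E3, E2], [E2, E3, E2, E3, E2, E3, E2, E3], [E1, E2, E5, E0, E1, E2, E5, E0, E1, E2, E5, E0, E1, E2, E5, E0, E1, E2, E5], [E5, E2, E1, E0, E5, E2, E1, E0, E5, E2, E1, E0, E5, E2, E1, E0, E5, E2, E1]]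
def RC0 : List Nat := [2048, 1024, 1536, 512, 0, 7681, 7680, 8192, 8193]
def RW1 : List (List Nat) := [[3, 1, 3], [4, 1, 4], [2, 1, 2, 1, 2], [0, 1, 0, 1, 0, 1, 0, 1, 0], [5, 1, 5, 1, 5], [3, 2, 3, 2, 1, 3, 2, 3, 2, 1, 4, 3, 2, 3, 2, 1, 3, 2, 3, 2, 1, 3, 2, 3, 2, 1, 3, 2, 3, 2, 1, 3, 2, 3, 2, 1, 4, 3, 2, 3, 2, 1, 3, 2, 3, 2, 1, 3, 2, 3, 2, 1, 3, 2, 3, 2, 1, 3, 2, 3, 2, 1, 4, 3, 2, 3, 2, 1, 3, 2, 3, 2, 1, 3, 2, 3, 2], [0, 5, 2, 1, 0, 5, 2, 1, 0, 5, 2, 1, 0, 5, 2, 1, 0, 5, 2], [2, 3, 2, 3, 1, 2, 3, 2, 3, 4, 1, 2, 3, 2, 3, 1, 2, 3, 2, 3, 1, 2, 3, 2, 3, 1, 2, 3, 2, 3, 1, 2, 3, 2, 3, 4, 1, 2, 3, 2, 3, 1, 2, 3, 2, 3, 1, 2, 3, 2, 3, 1, 2, 3, 2, 3, 1, 2, 3, 2, 3, 4, 1, 2, 3, 2, 3, 1, 2, 3, 2, 3, 1, 2, 3, 2, 3], [3, 2, 3, 2, 1, 3, 2, 3, 2, 1, 3, 2, 3, 2, 1, 4, 3, 2, 3, 2, 1, 3, 2, 3, 2, 1, 3, 2, 3, 2, 1, 3, 2, 3, 2, 1, 3, 2, 3, 2, 1, 4, 3, 2, 3, 2, 1, 3, 2, 3, 2, 1, 3, 2, 3, 2, 1, 3, 2, 3, 2, 1, 3, 2, 3, 2, 1, 4, 3,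 2, 3, 2, 1, 3, 2, 3, 2], [3, 2, 3, 2, 1, 4, 3, 2, 3, 2, 1, 3, 2, 3, 2, 1, 3, 2, 3, 2, 1, 3, 2, 3, 2, 1, 3, 2, 3, 2, 1, 4, 3, 2, 3, 2, 1, 3, 2, 3, 2, 1, 3, 2, 3, 2, 1, 3, 2, 3, 2, 1, 3, 2, 3, 2, 1, 4, 3, 2, 3, 2, 1, 3, 2, 3, 2, 1, 3, 2, 3, 2, 1, 3, 2, 3, 2], [2, 5, 0, 1, 2, 5, 0, 1, 2, 5, 0, 1, 2, 5, 0, 1, 2, 5, 0], [2, 3, 2, 3, 1, 2, 3, 2, 3, 1, 2, 3, 2, 3, 1, 2, 3, 2, 3, 4, 1, 2, 3, 2, 3, 1, 2, 3, 2, 3, 1, 2, 3, 2, 3, 1, 2, 3, 2, 3, 1, 2, 3, 2, 3, 4, 1, 2, 3, 2, 3, 1, 2, 3, 2, 3, 1, 2, 3, 2, 3, 1, 2, 3, 2, 3, 1, 2, 3, 2, 3, 4, 1, 2, 3, 2, 3], [2, 3, 2, 3, 1, 2, 3, 2, 3, 1, 2, 3, 2, 3, 1, 2, 3, 2, 3, 1, 2, 3, 2, 3, 4, 1, 2, 3, 2, 3, 1, 2, 3, 2, 3, 1, 2, 3, 2, 3, 1, 2, 3, 2, 3, 1, 2, 3, 2, 3, 4, 1, 2, 3, 2, 3, 1, 2, 3, 2, 3, 1, 2, 3, 2, 3, 1, 2, 3, 2, 3, 1, 2, 3, 2, 3, 4], [2, 3, 2, 3, 1, 2, 3, 2, 3, 1, 2, 3, 2, 3, 4, 1, 2, 3, 2, 3, 1, 2, 3, 2, 3, 1, 2, 3, 2, 3, 1, 2, 3, 2, 3, 1, 2, 3, 2, 3, 4, 1, 2, 3, 2,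 3, 1, 2, 3, 2, 3, 1, 2, 3, 2, 3, 1, 2, 3, 2, 3, 1, 2, 3, 2, 3, 4, 1, 2, 3, 2, 3, 1, 2, 3, 2, 3]]
noncomputable def RF1 : List (List (Nat → Nat)) := [[E3, E1, E3], [E4, E1, E4], [E2, E1, E2, E1, E2], [E0, E1, E0, E1, E0, E1, E0, E1, E0], [E5, E1, E5, E1, E5], [E3, E2, E3, E2, E1, E3, E2, E3, E2, E1, E4, E3, E2, E3, E2, E1, E3, E2, E3, E2, E1, E3, E2, E3, E2, E1, E3, E2, E3, E2, E1, E3, E2, E3, E2, E1, E4, E3, E2, E3, E2, E1, E3, E2, E3, E2, E1, E3, E2, E3, E2, E1, E3, E2, E3, E2, E1, E3, E2, E3, E2, E1, E4, E3, E2, E3, E2, E1, E3, E2, E3, E2, E1, E3, E2, E3, E2], [E0, E5, E2, E1, E0, E5, E2, E1, E0, E5, E2, E1, E0, E5, E2, E1, E0, E5, E2], [E2, E3, E2, E3, E1, E2, E3, E2, E3, E4, E1, E2, E3, E2, E3, E1, E2, E3, E2, E3, E1, E2, E3, E2, E3, E1, E2, E3, E2, E3, E1, E2, E3, E2, E3, E4, E1, E2, E3, E2, E3, E1, E2, E3, E2, E3, E1, E2, E3, E2, E3, E1, E2, E3, E2, E3, E1, E2, E3, E2, E3, E4, E1, E2, E3, E2, E3, E1,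 E2, E3, E2, E3, E1, E2, E3, E2, E3], [E3, E2, E3, E2, E1, E3, E2, E3, E2, E1, E3, E2, E3, E2, E1, E4, E3, E2, E3, E2, E1, E3, E2, E3, E2, E1, E3, E2, E3, E2, E1, E3, E2, E3, E2, E1, E3, E2, E3, E2, E1, E4, E3, E2, E3, E2, E1, E3, E2, E3, E2, E1, E3, E2, E3, E2, E1, E3, E2, E3, E2, E1, E3, E2, E3, E2, E1, E4, E3, E2, E3, E2, E1, E3, E2, E3, E2], [E3, E2, E3, E2, E1, E4, E3, E2, E3, E2, E1, E3, E2, E3, E2, E1, E3, E2, E3, E2, E1, E3, E2, E3, E2, E1, E3, E2, E3, E2, E1, E4, E3, E2, E3, E2, E1, E3, E2, E3, E2, E1, E3, E2, E3, E2, E1, E3, E2, E3, E2, E1, E3, E2, E3, E2, E1, E4, E3, E2, E3, E2, E1, E3, E2, E3, E2, E1, E3, E2, E3, E2, E1, E3, E2, E3, E2], [E2, E5, E0, E1, E2, E5, E0, E1, E2, E5, E0, E1, E2, E5, E0, E1, E2, E5, E0], [E2, E3, E2, E3, E1, E2, E3, E2, E3, E1, E2, E3, E2, E3, E1, E2, E3, E2, E3, E4, E1, E2, E3, E2, E3, E1, E2, E3, E2, E3, E1, E2, E3, E2, E3, E1, E2, E3, E2, E3, E1, E2, E3, E2, E3, E4,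 E1, E2, E3, E2, E3, E1, E2, E3, E2, E3, E1, E2, E3, E2, E3, E1, E2, E3, E2, E3, E1, E2, E3, E2, E3, E4, E1, E2, E3, E2, E3], [E2, E3, E2, E3, E1, E2, E3, E2, E3, E1, E2, E3, E2, E3, E1, E2, E3, E2, E3, E1, E2, E3, E2, E3, E4, E1, E2, E3, E2, E3, E1, E2, E3, E2, E3, E1, E2, E3, E2, E3, E1, E2, E3, E2, E3, E1, E2, E3, E2, E3, E4, E1, E2, E3, E2, E3, E1, E2, E3, E2, E3, E1, E2, E3, E2, E3, E1, E2, E3, E2, E3, E1, E2, E3, E2, E3, E4], [E2, E3, E2, E3, E1, E2, E3, E2, E3, E1, E2, E3, E2, E3, E4, E1, E2, E3, E2, E3, E1, E2, E3, E2, E3, E1, E2, E3, E2, E3, E1, E2, E3, E2, E3, E1, E2, E3, E2, E3, E4, E1, E2, E3, E2, E3, E1, E2, E3, E2, E3, E1, E2, E3, E2, E3, E1, E2, E3, E2, E3, E1, E2, E3, E2, E3, E4, E1, E2, E3, E2, E3, E1, E2, E3, E2, E3]]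
def RC1 : List Nat := [3072, 3584, 2560, 2, 4096, 8725, 8195, 8734, 8735, 8715, 8194, 8714, 8704, 8724]
def RW2 : List (List Nat) := [[5, 2, 5], [1, 2, 1, 2, 1], [4, 2, 4], [0, 2, 0], [1, 0, 5, 2, 1, 0, 5, 2, 1, 0, 5, 2, 1, 0, 5, 2, 1, 0, 5], [5, 0, 1, 2, 5, 0, 1, 2, 5, 0, 1, 2, 5, 0, 1, 2, 5, 0, 1], [3, 2, 3, 0, 2, 3, 2, 3], [3, 2, 3, 2, 3, 2, 3, 0], [3, 2, 0, 3, 2, 3, 2, 3], [1, 4, 3, 2, 3, 2, 1, 3, 2, 3, 2, 1, 3, 2, 3, 2, 1, 3, 2, 3, 2, 1, 3, 2, 3, 2, 1, 4, 3, 2, 3, 2, 1, 3, 2, 3, 2, 1, 3, 2, 3, 2, 1, 3, 2, 3, 2, 1, 3, 2, 3, 2, 1, 4, 3, 2, 3, 2, 1, 3, 2, 3, 2, 1, 3, 2, 3, 2, 1, 3, 2, 3, 2, 1, 3, 2, 3], [3, 0, 2, 3, 2, 3, 2, 3], [3, 2, 3, 2, 3, 2, 0, 3], [3, 2, 3, 1, 2, 3, 2, 3, 1, 2, 3, 2, 3, 1, 2, 3, 2, 3, 1, 2, 3, 2, 3, 4, 1, 2, 3, 2, 3, 1, 2, 3, 2, 3, 1, 2, 3, 2, 3, 1, 2, 3, 2, 3, 1, 2, 3, 2, 3, 4, 1, 2, 3, 2, 3, 1, 2, 3, 2, 3, 1, 2, 3, 2, 3, 1, 2, 3, 2, 3, 1, 2, 3, 2, 3, 4, 1], [3, 2, 1, 4, 3, 2, 3,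 2, 1, 3, 2, 3, 2, 1, 3, 2, 3, 2, 1, 3, 2, 3, 2, 1, 3, 2, 3, 2, 1, 4, 3, 2, 3, 2, 1, 3, 2, 3, 2, 1, 3, 2, 3, 2, 1, 3, 2, 3, 2, 1, 3, 2, 3, 2, 1, 4, 3, 2, 3, 2, 1, 3, 2, 3, 2, 1, 3, 2, 3, 2, 1, 3, 2, 3, 2, 1, 3], [1, 3, 2, 3, 2, 1, 3, 2, 3, 2, 1, 3, 2, 3, 2, 1, 4, 3, 2, 3, 2, 1, 3, 2, 3, 2, 1, 3, 2, 3, 2, 1, 3, 2, 3, 2, 1, 3, 2, 3, 2, 1, 4, 3, 2, 3, 2, 1, 3, 2, 3, 2, 1, 3, 2, 3, 2, 1, 3, 2, 3, 2, 1, 3, 2, 3, 2, 1, 4, 3, 2, 3, 2, 1, 3, 2, 3], [3, 1, 2, 3, 2, 3, 1, 2, 3, 2, 3, 1, 2, 3, 2, 3, 1, 2, 3, 2, 3, 4, 1, 2, 3, 2, 3, 1, 2, 3, 2, 3, 1, 2, 3, 2, 3, 1, 2, 3, 2, 3, 1, 2, 3, 2, 3, 4, 1, 2, 3, 2, 3, 1, 2, 3, 2, 3, 1, 2, 3, 2, 3, 1, 2, 3, 2, 3, 1, 2, 3, 2, 3, 4, 1, 2, 3], [3, 2, 3, 2, 0, 3, 2, 3], [1, 3, 2, 3, 2, 1, 4, 3, 2, 3, 2, 1, 3, 2, 3, 2, 1, 3, 2, 3, 2, 1, 3, 2, 3, 2, 1, 3, 2, 3, 2, 1, 4, 3, 2, 3, 2, 1, 3, 2, 3, 2, 1, 3, 2, 3, 2, 1, 3, 2, 3, 2, 1, 3, 2, 3, 2, 1, 4, 3, 2, 3, 2, 1, 3, 2, 3, 2, 1, 3, 2, 3,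 2, 1, 3, 2, 3], [0, 3, 2, 3, 2, 3, 2, 3], [1, 3, 2, 3, 2, 1, 3, 2, 3, 2, 1, 3, 2, 3, 2, 1, 3, 2, 3, 2, 1, 4, 3, 2, 3, 2, 1, 3, 2, 3, 2, 1, 3, 2, 3, 2, 1, 3, 2, 3, 2, 1, 3, 2, 3, 2, 1, 4, 3, 2, 3, 2, 1, 3, 2, 3, 2, 1, 3, 2, 3, 2, 1, 3, 2, 3, 2, 1, 3, 2, 3, 2, 1, 4, 3, 2, 3], [1, 3, 2, 3, 2, 1, 3, 2, 3, 2, 1, 4, 3, 2, 3, 2, 1, 3, 2, 3, 2, 1, 3, 2, 3, 2, 1, 3, 2, 3, 2, 1, 3, 2, 3, 2, 1, 4, 3, 2, 3, 2, 1, 3, 2, 3, 2, 1, 3, 2, 3, 2, 1, 3, 2, 3, 2, 1, 3, 2, 3, 2, 1, 4, 3, 2, 3, 2, 1, 3, 2, 3, 2, 1, 3, 2, 3]]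
noncomputable def RF2 : List (List (Nat → Nat)) := [[E5, E2, E5], [E1, E2, E1, E2, E1], [E4, E2, E4], [E0, E2, E0], [E1, E0, E5, E2, E1, E0, E5, E2, E1, E0, E5, E2, E1, E0, E5, E2, E1, E0, E5], [E5, E0, E1, E2, E5, E0, E1, E2, E5, E0, E1, E2, E5, E0, E1, E2, E5, E0, E1], [E3, E2, E3, E0, E2, E3, E2, E3], [E3, E2, E3, E2, E3, E2, E3, E0], [E3, E2, E0, E3, E2, E3, E2, E3], [E1, E4, E3, E2, E3, E2, E1, E3, E2, E3, E2, E1, E3, E2, E3, E2, E1, E3, E2, E3, E2, E1, E3, E2, E3, E2, E1, E4, E3, E2, E3, E2, E1, E3, E2, E3, E2, E1, E3, E2, E3, E2, E1, E3, E2, E3, E2, E1, E3, E2, E3, E2, E1, E4, E3, E2, E3, E2, E1, E3, E2, E3, E2, E1, E3, E2, E3, E2, E1, E3, E2, E3, E2, E1, E3, E2, E3], [E3, E0, E2, E3, E2, E3, E2, E3], [E3, E2, E3, E2, E3, E2, E0, E3], [E3, E2, E3, E1, E2, E3, E2, E3, E1, E2, E3, E2, E3, E1, E2, E3, E2, E3, E1, E2, E3, E2, E3, E4, E1, E2, E3, E2, E3, E1, E2, E3, E2, E3, E1, E2, E3, E2, E3, E1, E2, E3,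 E2, E3, E1, E2, E3, E2, E3, E4, E1, E2, E3, E2, E3, E1, E2, E3, E2, E3, E1, E2, E3, E2, E3, E1, E2, E3, E2, E3, E1, E2, E3, E2, E3, E4, E1], [E3, E2, E1, E4, E3, E2, E3, E2, E1, E3, E2, E3, E2, E1, E3, E2, E3, E2, E1, E3, E2, E3, E2, E1, E3, E2, E3, E2, E1, E4, E3, E2, E3, E2, E1, E3, E2, E3, E2, E1, E3, E2, E3, E2, E1, E3, E2, E3, E2, E1, E3, E2, E3, E2, E1, E4, E3, E2, E3, E2, E1, E3, E2, E3, E2, E1, E3, E2, E3, E2, E1, E3, E2, E3, E2, E1, E3], [E1, E3, E2, E3, E2, E1, E3, E2, E3, E2, E1, E3, E2, E3, E2, E1, E4, E3, E2, E3, E2, E1, E3, E2, E3, E2, E1, E3, E2, E3, E2, E1, E3, E2, E3, E2, E1, E3, E2, E3, E2, E1, E4, E3, E2, E3, E2, E1, E3, E2, E3, E2, E1, E3, E2, E3, E2, E1, E3, E2, E3, E2, E1, E3, E2, E3, E2, E1, E4, E3, E2, E3, E2, E1, E3, E2, E3], [E3, E1, E2, E3, E2, E3, E1, E2, E3, E2, E3, E1, E2, E3, E2, E3, E1, E2, E3, E2, E3, E4, E1, E2, E3, E2, E3, E1, E2, E3, E2, E3, E1, E2, E3, E2, E3, E1, E2, E3,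 E2, E3, E1, E2, E3, E2, E3, E4, E1, E2, E3, E2, E3, E1, E2, E3, E2, E3, E1, E2, E3, E2, E3, E1, E2, E3, E2, E3, E1, E2, E3, E2, E3, E4, E1, E2, E3], [E3, E2, E3, E2, E0, E3, E2, E3], [E1, E3, E2, E3, E2, E1, E4, E3, E2, E3, E2, E1, E3, E2, E3, E2, E1, E3, E2, E3, E2, E1, E3, E2, E3, E2, E1, E3, E2, E3, E2, E1, E4, E3, E2, E3, E2, E1, E3, E2, E3, E2, E1, E3, E2, E3, E2, E1, E3, E2, E3, E2, E1, E3, E2, E3, E2, E1, E4, E3, E2, E3, E2, E1, E3, E2, E3, E2, E1, E3, E2, E3, E2, E1, E3, E2, E3], [E0, E3, E2, E3, E2, E3, E2, E3], [E1, E3, E2, E3, E2, E1, E3, E2, E3, E2, E1, E3, E2, E3, E2, E1, E3, E2, E3, E2, E1, E4, E3, E2, E3, E2, E1, E3, E2, E3, E2, E1, E3, E2, E3, E2, E1, E3, E2, E3, E2, E1, E3, E2, E3, E2, E1, E4, E3, E2, E3, E2, E1, E3, E2, E3, E2, E1, E3, E2, E3, E2, E1, E3, E2, E3, E2, E1, E3, E2, E3, E2, E1, E4, E3, E2, E3], [E1, E3, E2, E3, E2, E1, E3, E2, E3, E2, E1, E4, E3, E2, E3, E2, E1, E3, E2, E3, E2,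 E1, E3, E2, E3, E2, E1, E3, E2, E3, E2, E1, E3, E2, E3, E2, E1, E4, E3, E2, E3, E2, E1, E3, E2, E3, E2, E1, E3, E2, E3, E2, E1, E3, E2, E3, E2, E1, E3, E2, E3, E2, E1, E4, E3, E2, E3, E2, E1, E3, E2, E3, E2, E1, E3, E2, E3]]
def RC2 : List Nat := [5632, 2562, 5120, 514, 8197, 8196, 7690, 7682, 7687, 8707, 7694, 7695, 8706, 8711, 8737, 8710, 7691, 8717, 7683, 8747, 8727]
def RW3 : List (List Nat) := [[5, 3, 5], [1, 3, 1], [4, 3, 4, 3, 4], [0, 3, 0], [0, 2, 3, 2, 3, 2, 3, 2], [2, 3, 2, 3, 2, 3, 0, 2], [2, 0, 3, 2, 3, 2, 3, 2], [2, 3, 2, 3, 2, 0, 3, 2], [2, 3, 2, 3, 0, 2, 3, 2], [2, 3, 2, 3, 2, 3, 2, 0], [4, 1, 2, 3, 2, 3, 1, 2, 3, 2, 3, 1, 2, 3, 2, 3, 1, 2, 3, 2, 3, 1, 2, 3, 2, 3, 4, 1, 2, 3, 2, 3, 1, 2, 3, 2, 3, 1, 2, 3, 2, 3, 1, 2, 3, 2, 3, 1, 2, 3, 2, 3, 4, 1, 2, 3, 2, 3, 1, 2, 3, 2, 3, 1, 2, 3, 2, 3, 1, 2, 3, 2, 3, 1, 2, 3, 2], [2, 3, 1, 2, 3, 2, 3, 1, 2, 3, 2, 3, 4, 1, 2, 3, 2, 3, 1, 2, 3, 2, 3, 1, 2, 3,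 2, 3, 1, 2, 3, 2, 3, 1, 2, 3, 2, 3, 4, 1, 2, 3, 2, 3, 1, 2, 3, 2, 3, 1, 2, 3, 2, 3, 1, 2, 3, 2, 3, 1, 2, 3, 2, 3, 4, 1, 2, 3, 2, 3, 1, 2, 3, 2, 3, 1, 2], [2, 3, 0, 2, 3, 2, 3, 2], [2, 3, 2, 1, 3, 2, 3, 2, 1, 3, 2, 3, 2, 1, 3, 2, 3, 2, 1, 4, 3, 2, 3, 2, 1, 3, 2, 3, 2, 1, 3, 2, 3, 2, 1, 3, 2, 3, 2, 1, 3, 2, 3, 2, 1, 4, 3, 2, 3, 2, 1, 3, 2, 3, 2, 1, 3, 2, 3, 2, 1, 3, 2, 3, 2, 1, 3, 2, 3, 2, 1, 4, 3, 2, 3, 2, 1], [2, 3, 2, 1, 3, 2, 3, 2, 1, 3, 2, 3, 2, 1, 3, 2, 3, 2, 1, 3, 2, 3, 2, 1, 4, 3, 2, 3, 2, 1, 3, 2, 3, 2, 1, 3, 2, 3, 2, 1, 3, 2, 3, 2, 1, 3, 2, 3, 2, 1, 4, 3, 2, 3, 2, 1, 3, 2, 3, 2, 1, 3, 2, 3, 2, 1, 3, 2, 3, 2, 1, 3, 2, 3, 2, 1, 4], [2, 3, 4, 1, 2, 3, 2, 3, 1, 2, 3, 2, 3, 1, 2, 3, 2, 3, 1, 2, 3, 2, 3, 1, 2, 3, 2, 3, 4, 1, 2, 3, 2, 3, 1, 2, 3, 2, 3, 1, 2, 3, 2, 3, 1, 2, 3, 2, 3, 1, 2, 3, 2, 3, 4, 1, 2, 3, 2, 3, 1, 2, 3, 2, 3, 1, 2, 3, 2, 3, 1, 2, 3, 2, 3, 1, 2], [2, 3, 1, 2, 3, 2, 3, 1, 2, 3, 2, 3, 1,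 2, 3, 2, 3, 1, 2, 3, 2, 3, 4, 1, 2, 3, 2, 3, 1, 2, 3, 2, 3, 1, 2, 3, 2, 3, 1, 2, 3, 2, 3, 1, 2, 3, 2, 3, 4, 1, 2, 3, 2, 3, 1, 2, 3, 2, 3, 1, 2, 3, 2, 3, 1, 2, 3, 2, 3, 1, 2, 3, 2, 3, 4, 1, 2], [2, 3, 2, 0, 3, 2, 3, 2], [1, 2, 3, 2, 3, 1, 2, 3, 2, 3, 1, 2, 3, 2, 3, 1, 2, 3, 2, 3, 4, 1, 2, 3, 2, 3, 1, 2, 3, 2, 3, 1, 2, 3, 2, 3, 1, 2, 3, 2, 3, 1, 2, 3, 2, 3, 4, 1, 2, 3, 2, 3, 1, 2, 3, 2, 3, 1, 2, 3, 2, 3, 1, 2, 3, 2, 3, 1, 2, 3, 2, 3, 4, 1, 2, 3, 2]]
noncomputable def RF3 : List (List (Nat → Nat)) := [[E5, E3, E5], [E1, E3, E1], [E4, E3, E4, E3, E4], [E0, E3, E0], [E0, E2, E3, E2, E3, E2, E3, E2], [E2, E3, E2, E3, E2, E3, E0, E2], [E2, E0, E3, E2, E3, E2, E3, E2], [E2, E3, E2, E3, E2, E0, E3, E2], [E2, E3, E2, E3, E0, E2, E3, E2], [E2, E3, E2, E3, E2, E3, E2, E0], [E4, E1, E2, E3, E2, E3, E1, E2, E3, E2, E3, E1, E2, E3, E2, E3, E1, E2, E3, E2, E3, E1, E2, E3, E2, E3, E4, E1, E2, E3, E2, E3, E1, E2, E3, E2, E3,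 E1, E2, E3, E2, E3, E1, E2, E3, E2, E3, E1, E2, E3, E2, E3, E4, E1, E2, E3, E2, E3, E1, E2, E3, E2, E3, E1, E2, E3, E2, E3, E1, E2, E3, E2, E3, E1, E2, E3, E2], [E2, E3, E1, E2, E3, E2, E3, E1, E2, E3, E2, E3, E4, E1, E2, E3, E2, E3, E1, E2, E3, E2, E3, E1, E2, E3, E2, E3, E1, E2, E3, E2, E3, E1, E2, E3, E2, E3, E4, E1, E2, E3, E2, E3, E1, E2, E3, E2, E3, E1, E2, E3, E2, E3, E1, E2, E3, E2, E3, E1, E2, E3, E2, E3, E4, E1, E2, E3, E2, E3, E1, E2, E3, E2, E3, E1, E2], [E2, E3, E0, E2, E3, E2, E3, E2], [E2, E3, E2, E1, E3, E2, E3, E2, E1, E3, E2, E3, E2, E1, E3, E2, E3, E2, E1, E4, E3, E2, E3, E2, E1, E3, E2, E3, E2, E1, E3, E2, E3, E2, E1, E3, E2, E3, E2, E1, E3, E2, E3, E2, E1, E4, E3, E2, E3, E2, E1, E3, E2, E3, E2, E1, E3, E2, E3, E2, E1, E3, E2, E3, E2, E1, E3, E2, E3, E2, E1, E4, E3, E2, E3, E2, E1], [E2, E3, E2, E1, E3, E2, E3, E2, E1, E3, E2, E3, E2, E1, E3, E2, E3, E2, E1, E3, E2, E3, E2, E1, E4, E3,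 E2, E3, E2, E1, E3, E2, E3, E2, E1, E3, E2, E3, E2, E1, E3, E2, E3, E2, E1, E3, E2, E3, E2, E1, E4, E3, E2, E3, E2, E1, E3, E2, E3, E2, E1, E3, E2, E3, E2, E1, E3, E2, E3, E2, E1, E3, E2, E3, E2, E1, E4], [E2, E3, E4, E1, E2, E3, E2, E3, E1, E2, E3, E2, E3, E1, E2, E3, E2, E3, E1, E2, E3, E2, E3, E1, E2, E3, E2, E3, E4, E1, E2, E3, E2, E3, E1, E2, E3, E2, E3, E1, E2, E3, E2, E3, E1, E2, E3, E2, E3, E1, E2, E3, E2, E3, E4, E1, E2, E3, E2, E3, E1, E2, E3, E2, E3, E1, E2, E3, E2, E3, E1, E2, E3, E2, E3, E1, E2], [E2, E3, E1, E2, E3, E2, E3, E1, E2, E3, E2, E3, E1, E2, E3, E2, E3, E1, E2, E3, E2, E3, E4, E1, E2, E3, E2, E3, E1, E2, E3, E2, E3, E1, E2, E3, E2, E3, E1, E2, E3, E2, E3, E1, E2, E3, E2, E3, E4, E1, E2, E3, E2, E3, E1, E2, E3, E2, E3, E1, E2, E3, E2, E3, E1, E2, E3, E2, E3, E1, E2, E3, E2, E3, E4, E1, E2], [E2, E3, E2, E0, E3, E2, E3, E2], [E1, E2, E3, E2, E3, E1, E2, E3, E2, E3, E1, E2, E3, E2, E3,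 E1, E2, E3, E2, E3, E4, E1, E2, E3, E2, E3, E1, E2, E3, E2, E3, E1, E2, E3, E2, E3, E1, E2, E3, E2, E3, E1, E2, E3, E2, E3, E4, E1, E2, E3, E2, E3, E1, E2, E3, E2, E3, E1, E2, E3, E2, E3, E1, E2, E3, E2, E3, E1, E2, E3, E2, E3, E4, E1, E2, E3, E2]]
def RC3 : List Nat := [6656, 3074, 6144, 1026, 7696, 7684, 7685, 7693, 7688, 7697, 8752, 8728, 7692, 8743, 8753, 8748, 8708, 7689, 8712]
def RW4 : List (List Nat) := [[1, 4, 1], [5, 4, 5], [0, 4, 0], [2, 4, 2], [3, 4, 3, 4, 3], [3, 2, 3, 2, 1, 3, 2, 3, 2, 1, 3, 2, 3, 2, 1, 3, 2, 3, 2, 1, 3, 2, 3, 2, 1, 4, 3, 2, 3, 2, 1, 3, 2, 3, 2, 1, 3, 2, 3, 2, 1, 3, 2, 3, 2, 1, 3, 2, 3, 2, 1, 4, 3, 2, 3, 2, 1, 3, 2, 3, 2, 1, 3, 2, 3, 2, 1, 3, 2, 3, 2, 1, 3, 2, 3, 2, 1], [1, 2, 3, 2, 3, 1, 2, 3, 2, 3, 1, 2, 3, 2, 3, 1, 2, 3, 2, 3, 1, 2, 3, 2, 3, 4, 1, 2, 3, 2, 3, 1, 2, 3, 2, 3, 1, 2, 3, 2, 3, 1, 2, 3, 2, 3, 1, 2, 3, 2, 3, 4, 1, 2, 3, 2, 3, 1, 2, 3, 2, 3, 1, 2, 3, 2, 3, 1, 2, 3,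 2, 3, 1, 2, 3, 2, 3]]
noncomputable def RF4 : List (List (Nat → Nat)) := [[E1, E4, E1], [E5, E4, E5], [E0, E4, E0], [E2, E4, E2], [E3, E4, E3, E4, E3], [E3, E2, E3, E2, E1, E3, E2, E3, E2, E1, E3, E2, E3, E2, E1, E3, E2, E3, E2, E1, E3, E2, E3, E2, E1, E4, E3, E2, E3, E2, E1, E3, E2, E3, E2, E1, E3, E2, E3, E2, E1, E3, E2, E3, E2, E1, E3, E2, E3, E2, E1, E4, E3, E2, E3, E2, E1, E3, E2, E3, E2, E1, E3, E2, E3, E2, E1, E3, E2, E3, E2, E1, E3, E2, E3, E2, E1], [E1, E2, E3, E2, E3, E1, E2, E3, E2, E3, E1, E2, E3, E2, E3, E1, E2, E3, E2, E3, E1, E2, E3, E2, E3, E4, E1, E2, E3, E2, E3, E1, E2, E3, E2, E3, E1, E2, E3, E2, E3, E1, E2, E3, E2, E3, E1, E2, E3, E2, E3, E4, E1, E2, E3, E2, E3, E1, E2, E3, E2, E3, E1, E2, E3, E2, E3, E1, E2, E3, E2, E3, E1, E2, E3, E2, E3]]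
def RC4 : List Nat := [3586, 7168, 1538, 5122, 6146, 8755, 8754]
def RW5 : List (List Nat) := [[3, 5, 3], [1, 5, 1, 5, 1], [2, 5, 2], [2, 1, 0, 5, 2, 1, 0, 5, 2, 1, 0, 5, 2, 1, 0, 5, 2, 1, 0], [4, 5, 4], [0, 1, 2, 5, 0, 1, 2, 5, 0, 1, 2, 5, 0, 1, 2, 5, 0, 1, 2], [0, 5, 0]]
noncomputable def RF5 : List (List (Nat → Nat)) := [[E3, E5, E3], [E1, E5, E1, E5, E1], [E2, E5, E2], [E2, E1, E0, E5, E2, E1, E0, E5, E2, E1, E0, E5, E2, E1, E0, E5, E2, E1, E0], [E4, E5, E4], [E0, E1, E2, E5, E0, E1, E2, E5, E0, E1, E2, E5, E0, E1, E2, E5, E0, E1, E2], [E0, E5, E0]]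
def RC5 : List Nat := [6658, 4098, 5634, 8199, 7170, 8198, 2050]
def RW : Nat → List (List Nat) := fun l => (@Nat.rec (fun _ => List (List Nat)) RW0 (fun l _ => (@Nat.rec (fun _ => List (List Nat)) RW1 (fun l _ => (@Nat.rec (fun _ => List (List Nat)) RW2 (fun l _ => (@Nat.rec (fun _ => List (List Nat)) RW3 (fun l _ => (@Nat.rec (fun _ => List (List Nat)) RW4 (fun l _ => RW5) l)) l)) l)) l)) l)
def sp : List Nat := [0, 1, 2, 3, 4, 1445, 4128, 4160, 9602, 9697, 10627, 10784, 11621, 11682]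
theorem ck0 : allR (ckE (nat_lit 416) (nat_lit 511) (nat_lit 9) (nat_lit 31) (nat_lit 14) (nat_lit 0) D E0 E0 RF0 sp) (nat_lit 0) (nat_lit 416) = true := by decide +kernel
theorem rf0 : RF0 = (RW0).map (·.map E) := rfl
theorem rc0 : ckRels 6 inv rels 0 RW0 RC0 = true := by decide +kernel
theorem ck1 : allR (ckE (nat_lit 416) (nat_lit 511) (nat_lit 9) (nat_lit 31) (nat_lit 14) (nat_lit 1) D E1 E1 RF1 sp) (nat_lit 0) (nat_lit 416) = true := by decide +kernel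
theorem rf1 : RF1 = (RW1).map (·.map E) := rfl
theorem rc1 : ckRels 6 inv rels 1 RW1 RC1 = true := by decide +kernel
theorem ck2 : allR (ckE (nat_lit 416) (nat_lit 511) (nat_lit 9) (nat_lit 31) (nat_lit 14) (nat_lit 2) D E2 E2 RF2 sp) (nat_lit 0) (nat_lit 416) = true := by decide +kernel
theorem rf2 : RF2 = (RW2).map (·.map E) := rfl
theorem rc2 : ckRels 6 inv rels 2 RW2 RC2 = true := by decide +kernel
theorem ck3 : allR (ckE (nat_lit 416) (nat_lit 511) (nat_lit 9) (nat_lit 31) (nat_lit 14) (nat_lit 3) D E3 E3 RF3 sp) (nat_lit 0) (nat_lit 416) = true := by decide +kernel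
theorem rf3 : RF3 = (RW3).map (·.map E) := rfl
theorem rc3 : ckRels 6 inv rels 3 RW3 RC3 = true := by decide +kernel
theorem ck4 : allR (ckE (nat_lit 416) (nat_lit 511) (nat_lit 9) (nat_lit 31) (nat_lit 14) (nat_lit 4) D E4 E4 RF4 sp) (nat_lit 0) (nat_lit 416) = true := by decide +kernel
theorem rf4 : RF4 = (RW4).map (·.map E) := rfl
theorem rc4 : ckRels 6 inv rels 4 RW4 RC4 = true := by decide +kernel
theorem ck5 : allR (ckE (nat_lit 416) (nat_lit 511) (nat_lit 9) (nat_lit 31) (nat_lit 14) (nat_lit 5) D E5 E5 RF5 sp) (nat_lit 0) (nat_lit 416) = true := by decide +kernel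
theorem rf5 : RF5 = (RW5).map (·.map E) := rfl
theorem rc5 : ckRels 6 inv rels 5 RW5 RC5 = true := by decide +kernel

theorem edgeOK : ∀ l < 6, ∀ i < 416, EdgeOK E 511 416 14 9 31 inv D RW sp l i := by
  intro l hl i hi
  interval_cases l

  · exact ckE_sound 416 511 9 31 14 0 inv D E RW sp i (by
      have := allR_zero _ _ ck0 i hi
      rw [rf0] at this
      exact this)
  · exact ckE_sound 416 511 9 31 14 1 inv D E RW sp i (by
      have := allR_zero _ _ ck1 i hi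
      rw [rf1] at this
      exact this)
  · exact ckE_sound 416 511 9 31 14 2 inv D E RW sp i (by
      have := allR_zero _ _ ck2 i hi
      rw [rf2] at this
      exact this)
  · exact ckE_sound 416 511 9 31 14 3 inv D E RW sp i (by
      have := allR_zero _ _ ck3 i hi
      rw [rf3] at this
      exact this)
  · exact ckE_sound 416 511 9 31 14 4 inv D E RW sp i (by
      have := allR_zero _ _ ck4 i hi
      rw [rf4] at this
      exact this)
  · exact ckE_sound 416 511 9 31 14 5 inv D E RW sp i (by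
      have := allR_zero _ _ ck5 i hi
      rw [rf5] at this
      exact this)
def RB : List (List Nat) := [[1, 3, 1, 3], [2, 1, 2, 1, 2, 1], [1, 2, 1, 2, 1, 2], [5, 2, 5, 2], [0, 4, 0, 4], [3, 0, 3, 0], [5, 3, 5, 3], [2, 3, 2, 3, 2, 3, 0, 2, 3], [2, 5, 2, 5], [5, 1, 5, 1, 5, 1], [2, 0, 2, 0], [0, 5, 0, 5], [3, 1, 3, 1], [2, 4, 2, 4], [2, 3, 2, 3, 0, 2, 3, 2, 3], [1, 5, 1, 5, 1, 5], [0, 5, 2, 1, 0, 5, 2, 1, 0, 5, 2, 1, 0, 5, 2, 1, 0, 5, 2, 1], [0, 0], [0, 3, 0, 3], [5, 0, 5, 0], [1, 0, 1, 0, 1, 0, 1, 0, 1, 0], [5, 2, 1, 0, 5, 2, 1, 0, 5, 2, 1, 0, 5, 2, 1, 0, 5, 2, 1, 0], [4, 5, 4, 5], [1, 4, 1, 4], [0, 1, 0, 1, 0, 1, 0, 1, 0, 1], [0, 2, 0, 2], [3, 2, 3, 2, 3, 0, 2, 3, 2], [2, 0, 3, 2, 3, 2, 3, 2, 3], [0, 2, 3, 2, 3, 2, 3, 2, 3], [3, 5, 3, 5], [4, 2, 4, 2], [31, 2, 3, 2, 3, 0, 2, 3, 2, 3], [3, 4, 3, 4, 3, 4], [4, 0, 4, 0], [2, 1, 0, 5, 2, 1, 0, 5, 2, 1, 0, 5, 2, 1, 0, 5, 2, 1, 0, 5], [31, 3, 2, 3, 2, 0, 3, 2,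 3, 2]]
def RBC : List Nat := [12288, 10248, 10240, 22536, 6144, 4104, 26632, 30744, 22528, 16392, 2056, 8192, 12296, 20480, 30760, 16384, 32769, 4, 4096, 8200, 8, 32793, 28672, 14336, 0, 2048, 30752, 30729, 30720, 26624, 20488, 30762, 24576, 6152, 32785, 30763]
theorem rbc : ckRB 6 inv rels RB RBC = true := by decide +kernel
theorem sp0k : ckSub (nat_lit 511) (nat_lit 14) E0 [] [] (nat_lit 0) = true := by decide +kernel
theorem sp0 {G : Type*} [Group G] (H : Subgroup G) (s : Nat → G) (hinv : ∀ l, s l = (s l)⁻¹) (h31 : s 31 = 1)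
    (hrels : ∀ W ∈ rels, (W.map s).prod = 1) (hsub : ∀ w ∈ subw, (w.map s).prod ∈ H)
    (htgt : ∀ l < 6, ∀ i < 416, Nat.land (E l i) 511 < 416)
    (hlow : ∀ l' < 6, ∀ i' < 416, E l' i' < Nat.shiftLeft (Nat.shiftRight (E 0 0) 14) 14 →
      EdgeP H s (repOf s D) E 511 l' i') : EdgeP H s (repOf s D) E 511 0 0 := by
  have h1 := ckSub_sound E 511 14 0 0 [] [] sp0k
  exact special_sub H s (repOf s D) E 511 416 6 _ htgt hlow (repOf_zero s D) [] [] 0 0 (by decide) (by decide)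
    (by decide) (by decide) (hsub _ (by decide)) h1.1 h1.2
theorem sp1k : ckSub (nat_lit 511) (nat_lit 14) E1 [] [] (nat_lit 0) = true := by decide +kernel
theorem sp1 {G : Type*} [Group G] (H : Subgroup G) (s : Nat → G) (hinv : ∀ l, s l = (s l)⁻¹) (h31 : s 31 = 1)
    (hrels : ∀ W ∈ rels, (W.map s).prod = 1) (hsub : ∀ w ∈ subw, (w.map s).prod ∈ H)
    (htgt : ∀ l < 6, ∀ i < 416, Nat.land (E l i) 511 < 416)
    (hlow : ∀ l' < 6, ∀ i' < 416, E l' i' < Nat.shiftLeft (Nat.shiftRight (E 1 0) 14) 14 →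
      EdgeP H s (repOf s D) E 511 l' i') : EdgeP H s (repOf s D) E 511 1 0 := by
  have h1 := ckSub_sound E 511 14 1 0 [] [] sp1k
  exact special_sub H s (repOf s D) E 511 416 6 _ htgt hlow (repOf_zero s D) [] [] 1 0 (by decide) (by decide)
    (by decide) (by decide) (hsub _ (by decide)) h1.1 h1.2
theorem sp2k : ckSub (nat_lit 511) (nat_lit 14) E2 [] [] (nat_lit 0) = true := by decide +kernel
theorem sp2 {G : Type*} [Group G] (H : Subgroup G) (s : Nat → G) (hinv : ∀ l, s l = (s l)⁻¹) (h31 : s 31 = 1)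
    (hrels : ∀ W ∈ rels, (W.map s).prod = 1) (hsub : ∀ w ∈ subw, (w.map s).prod ∈ H)
    (htgt : ∀ l < 6, ∀ i < 416, Nat.land (E l i) 511 < 416)
    (hlow : ∀ l' < 6, ∀ i' < 416, E l' i' < Nat.shiftLeft (Nat.shiftRight (E 2 0) 14) 14 →
      EdgeP H s (repOf s D) E 511 l' i') : EdgeP H s (repOf s D) E 511 2 0 := by
  have h1 := ckSub_sound E 511 14 2 0 [] [] sp2k
  exact special_sub H s (repOf s D) E 511 416 6 _ htgt hlow (repOf_zero s D) [] [] 2 0 (by decide) (by decide)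
    (by decide) (by decide) (hsub _ (by decide)) h1.1 h1.2
theorem sp3k : ckSub (nat_lit 511) (nat_lit 14) E3 [] [] (nat_lit 0) = true := by decide +kernel
theorem sp3 {G : Type*} [Group G] (H : Subgroup G) (s : Nat → G) (hinv : ∀ l, s l = (s l)⁻¹) (h31 : s 31 = 1)
    (hrels : ∀ W ∈ rels, (W.map s).prod = 1) (hsub : ∀ w ∈ subw, (w.map s).prod ∈ H)
    (htgt : ∀ l < 6, ∀ i < 416, Nat.land (E l i) 511 < 416)
    (hlow : ∀ l' < 6, ∀ i' < 416, E l' i' < Nat.shiftLeft (Nat.shiftRight (E 3 0) 14) 14 →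
      EdgeP H s (repOf s D) E 511 l' i') : EdgeP H s (repOf s D) E 511 3 0 := by
  have h1 := ckSub_sound E 511 14 3 0 [] [] sp3k
  exact special_sub H s (repOf s D) E 511 416 6 _ htgt hlow (repOf_zero s D) [] [] 3 0 (by decide) (by decide)
    (by decide) (by decide) (hsub _ (by decide)) h1.1 h1.2
theorem sp4k : ckSub (nat_lit 511) (nat_lit 14) E4 [] [] (nat_lit 0) = true := by decide +kernel
theorem sp4 {G : Type*} [Group G] (H : Subgroup G) (s : Nat → G) (hinv : ∀ l, s l = (s l)⁻¹) (h31 : s 31 = 1)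
    (hrels : ∀ W ∈ rels, (W.map s).prod = 1) (hsub : ∀ w ∈ subw, (w.map s).prod ∈ H)
    (htgt : ∀ l < 6, ∀ i < 416, Nat.land (E l i) 511 < 416)
    (hlow : ∀ l' < 6, ∀ i' < 416, E l' i' < Nat.shiftLeft (Nat.shiftRight (E 4 0) 14) 14 →
      EdgeP H s (repOf s D) E 511 l' i') : EdgeP H s (repOf s D) E 511 4 0 := by
  have h1 := ckSub_sound E 511 14 4 0 [] [] sp4k
  exact special_sub H s (repOf s D) E 511 416 6 _ htgt hlow (repOf_zero s D) [] [] 4 0 (by decide) (by decide)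
    (by decide) (by decide) (hsub _ (by decide)) h1.1 h1.2
noncomputable def sp1445F : Nat → Nat := fun g => Nat.land (Nat.shiftRight (nat_lit 0xa000840005a100030001a828000d800d408006a00069c20034c0034e5001a700010280017800d30800698000bc20034a0034a5001a4001a51000d2800d2800069400688000342003483001a4001a30000d1800d0140068400688400344003441001a20004b1000d0800d084000d400684600342003401001a00004c) (Nat.mul (nat_lit 45) g)) (nat_lit 0x1fffffffffff)
noncomputable def sp1445T : Nat → Nat := fun g => Nat.land (Nat.shiftRight (nat_lit 0x34e20001028001788006880003463001a000002584006806000981) (Nat.mul (nat_lit 25) g)) (nat_lit 0x1ffffff)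
noncomputable def sp1445L : List Nat := [nat_lit 0x0, nat_lit 0x0, nat_lit 0x2000403001, nat_lit 0x6000000000000000505002, nat_lit 0x0, nat_lit 0x9000000000000000a05002, nat_lit 0x6000000000000000a0500a, nat_lit 0x0, nat_lit 0x0, nat_lit 0x30010001203013, nat_lit 0x0, nat_lit 0x15000b00160300b, nat_lit 0x14000d001603014, nat_lit 0x15000900000000000000000000000a001609015, nat_lit 0x0, nat_lit 0x50007000d0016001b0017001a001400060000000000000000001e13016, nat_lit 0x0, nat_lit 0x20000000000000002205010, nat_lit 0x0, nat_lit 0x22002603004, nat_lit 0x1e0023002605003, nat_lit 0x29002800000500a]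
theorem sp1445k : ckBlock (nat_lit 416) (nat_lit 511) (nat_lit 0x28000) E inv sp1445T sp1445F RB sp1445L (nat_lit 0) = true := by decide +kernel
theorem sp1445r : Nat.shiftLeft (Nat.shiftRight (E 5 45) 14) 14 = 163840 := by decide +kernel
theorem sp1445t : Nat.land (E 5 45) 511 = 66 := by decide +kernel
theorem sp1445l : 21 < sp1445L.length ∧ sp1445F 21 = 45 + 2 ^ 20 * 66 + 2 ^ 40 * 5 := by decide +kernel
theorem sp1445 {G : Type*} [Group G] (H : Subgroup G) (s : Nat → G) (hinv : ∀ l, s l = (s l)⁻¹) (h31 : s 31 = 1)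
    (hrels : ∀ W ∈ rels, (W.map s).prod = 1) (hsub : ∀ w ∈ subw, (w.map s).prod ∈ H)
    (htgt : ∀ l < 6, ∀ i < 416, Nat.land (E l i) 511 < 416)
    (hlow : ∀ l' < 6, ∀ i' < 416, E l' i' < Nat.shiftLeft (Nat.shiftRight (E 5 45) 14) 14 →
      EdgeP H s (repOf s D) E 511 l' i') : EdgeP H s (repOf s D) E 511 5 45 := by
  rw [sp1445r] at hlow
  exact special_block H s 416 6 511 163840 E inv D sp1445T sp1445F RB hinv h31 htgt hlow
    (ckRB_sound s 6 inv rels hrels hinv h31 RB RBC rbc) sp1445L sp1445k 5 45 66 (by decide) (by decide) sp1445t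
    ⟨_, sp1445l⟩ (by decide)
noncomputable def sp4128F : Nat → Nat := fun g => Nat.land (Nat.shiftRight (nat_lit 0x8100081f80040800d700006b8002040001520035a5001ad001af1000d78005490006b4006b840035c0014c2000e1001ad0800d6800d608006b00068840034e0034a100064001ab1000d2000d594006ac006a8200098003542001aa001a6100032000d4840069c006a4600352000c42001a800049180024000d404006a0006986001020034e5001a7001a52800d2000d30c00698001802003480034a3001a5000a618003f000d200006900068c600346003421001a2001a000003f000d090006840068000014a003402001a0000a5) (Nat.mul (nat_lit 45) g)) (nat_lit 0x1fffffffffff)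
noncomputable def sp4128T : Nat → Nat := fun g => Nat.land (Nat.shiftRight (nat_lit 0xa910005308006b02003442001aa2800d3080018860034c1001a52800300c002986003460001a11800d0040068080014a2) (Nat.mul (nat_lit 25) g)) (nat_lit 0x1ffffff)
noncomputable def sp4128L : List Nat := [nat_lit 0x0, nat_lit 0x20801d, nat_lit 0x0, nat_lit 0x3000603005, nat_lit 0x0, nat_lit 0x0, nat_lit 0x0, nat_lit 0x7000c000e03006, nat_lit 0x0, nat_lit 0x100000001203001, nat_lit 0x0, nat_lit 0x100000001603007, nat_lit 0x0, nat_lit 0x12001a0301e, nat_lit 0x0, nat_lit 0x16001e0300d, nat_lit 0x2000000000000000000000000000000800f, nat_lit 0x0, nat_lit 0x1c0000002403001, nat_lit 0x2408008, nat_lit 0x0, nat_lit 0x22001d002a05003, nat_lit 0x0, nat_lit 0x17002a002e03009, nat_lit 0x2b002e05010, nat_lit 0x25002800310030001305002, nat_lit 0x0, nat_lit 0x0, nat_lit 0x2000a0036003805002, nat_lit 0x0, nat_lit 0x3a0000003c0301f, nat_lit 0x0, nat_lit 0x3a0000004003004,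 nat_lit 0x40004213011, nat_lit 0x3e0044000003005, nat_lit 0x1b00330011003c0045001b00330011003c09020, nat_lit 0x46004802012]
theorem sp4128k : ckBlock (nat_lit 416) (nat_lit 511) (nat_lit 0x24000) E inv sp4128T sp4128F RB sp4128L (nat_lit 0) = true := by decide +kernel
theorem sp4128r : Nat.shiftLeft (Nat.shiftRight (E 0 129) 14) 14 = 147456 := by decide +kernel
theorem sp4128t : Nat.land (E 0 129) 511 = 129 := by decide +kernel
theorem sp4128l : 36 < sp4128L.length ∧ sp4128F 36 = 129 + 2 ^ 20 * 129 + 2 ^ 40 * 0 := by decide +kernel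
theorem sp4128 {G : Type*} [Group G] (H : Subgroup G) (s : Nat → G) (hinv : ∀ l, s l = (s l)⁻¹) (h31 : s 31 = 1)
    (hrels : ∀ W ∈ rels, (W.map s).prod = 1) (hsub : ∀ w ∈ subw, (w.map s).prod ∈ H)
    (htgt : ∀ l < 6, ∀ i < 416, Nat.land (E l i) 511 < 416)
    (hlow : ∀ l' < 6, ∀ i' < 416, E l' i' < Nat.shiftLeft (Nat.shiftRight (E 0 129) 14) 14 →
      EdgeP H s (repOf s D) E 511 l' i') : EdgeP H s (repOf s D) E 511 0 129 := by
  rw [sp4128r] at hlow
  exact special_block H s 416 6 511 147456 E inv D sp4128T sp4128F RB hinv h31 htgt hlow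
    (ckRB_sound s 6 inv rels hrels hinv h31 RB RBC rbc) sp4128L sp4128k 0 129 129 (by decide) (by decide) sp4128t
    ⟨_, sp4128l⟩ (by decide)
noncomputable def sp4160F : Nat → Nat := fun g => Nat.land (Nat.shiftRight (nat_lit 0xa4000820800d0000d100001a000688800344000be1001a10005f2000d0800d0140011400684000342003405001a00005a) (Nat.mul (nat_lit 45) g)) (nat_lit 0x1fffffffffff)
noncomputable def sp4160T : Nat → Nat := fun g => Nat.land (Nat.shiftRight (nat_lit 0x2f90006800000b45) (Nat.mul (nat_lit 25) g)) (nat_lit 0x1ffffff)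
noncomputable def sp4160L : List Nat := [nat_lit 0x0, nat_lit 0x0, nat_lit 0x2000403014, nat_lit 0x60000000203017, nat_lit 0x6000000000000000005010, nat_lit 0x0, nat_lit 0xc03005, nat_lit 0x80009000c03018, nat_lit 0xa0003000f000e000009019]
theorem sp4160k : ckBlock (nat_lit 416) (nat_lit 511) (nat_lit 0x34000) E inv sp4160T sp4160F RB sp4160L (nat_lit 0) = true := by decide +kernel
theorem sp4160r : Nat.shiftLeft (Nat.shiftRight (E 0 130) 14) 14 = 212992 := by decide +kernel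
theorem sp4160t : Nat.land (E 0 130) 511 = 164 := by decide +kernel
theorem sp4160l : 8 < sp4160L.length ∧ sp4160F 8 = 130 + 2 ^ 20 * 164 + 2 ^ 40 * 0 := by decide +kernel
theorem sp4160 {G : Type*} [Group G] (H : Subgroup G) (s : Nat → G) (hinv : ∀ l, s l = (s l)⁻¹) (h31 : s 31 = 1)
    (hrels : ∀ W ∈ rels, (W.map s).prod = 1) (hsub : ∀ w ∈ subw, (w.map s).prod ∈ H)
    (htgt : ∀ l < 6, ∀ i < 416, Nat.land (E l i) 511 < 416)
    (hlow : ∀ l' < 6, ∀ i' < 416, E l' i' < Nat.shiftLeft (Nat.shiftRight (E 0 130) 14) 14 →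
      EdgeP H s (repOf s D) E 511 l' i') : EdgeP H s (repOf s D) E 511 0 130 := by
  rw [sp4160r] at hlow
  exact special_block H s 416 6 511 212992 E inv D sp4160T sp4160F RB hinv h31 htgt hlow
    (ckRB_sound s 6 inv rels hrels hinv h31 RB RBC rbc) sp4160L sp4160k 0 130 164 (by decide) (by decide) sp4160t
    ⟨_, sp4160l⟩ (by decide)
noncomputable def sp9602F : Nat → Nat := fun g => Nat.land (Nat.shiftRight (nat_lit 0x8004b0004b04000fa0034a00007d001a52000d2800d2080018000690000348000c0300060001a21800d18002408001240068c200346003442001a2001a1080026000d08c0068400680400340003401001a000035) (Nat.mul (nat_lit 45) g)) (nat_lit 0x1fffffffffff)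
noncomputable def sp9602T : Nat → Nat := fun g => Nat.land (Nat.shiftRight (nat_lit 0x6908000c00001a20800d0880068060006a1) (Nat.mul (nat_lit 25) g)) (nat_lit 0x1ffffff)
noncomputable def sp9602L : List Nat := [nat_lit 0x0, nat_lit 0x1000000000000000205002, nat_lit 0x0, nat_lit 0x2000603001, nat_lit 0x0, nat_lit 0x0, nat_lit 0x7000a000c05002, nat_lit 0xe00000000000000000000000000000801b, nat_lit 0x10000b0300d, nat_lit 0x0, nat_lit 0x110009000500030006000a001200140801c, nat_lit 0x0, nat_lit 0x14001803005, nat_lit 0x1500180300e, nat_lit 0x1b001a0000000000000800f]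
theorem sp9602k : ckBlock (nat_lit 416) (nat_lit 511) (nat_lit 0x1c000) E inv sp9602T sp9602F RB sp9602L (nat_lit 0) = true := by decide +kernel
theorem sp9602r : Nat.shiftLeft (Nat.shiftRight (E 2 300) 14) 14 = 114688 := by decide +kernel
theorem sp9602t : Nat.land (E 2 300) 511 = 300 := by decide +kernel
theorem sp9602l : 14 < sp9602L.length ∧ sp9602F 14 = 300 + 2 ^ 20 * 300 + 2 ^ 40 * 2 := by decide +kernel
theorem sp9602 {G : Type*} [Group G] (H : Subgroup G) (s : Nat → G) (hinv : ∀ l, s l = (s l)⁻¹) (h31 : s 31 = 1)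
    (hrels : ∀ W ∈ rels, (W.map s).prod = 1) (hsub : ∀ w ∈ subw, (w.map s).prod ∈ H)
    (htgt : ∀ l < 6, ∀ i < 416, Nat.land (E l i) 511 < 416)
    (hlow : ∀ l' < 6, ∀ i' < 416, E l' i' < Nat.shiftLeft (Nat.shiftRight (E 2 300) 14) 14 →
      EdgeP H s (repOf s D) E 511 l' i') : EdgeP H s (repOf s D) E 511 2 300 := by
  rw [sp9602r] at hlow
  exact special_block H s 416 6 511 114688 E inv D sp9602T sp9602F RB hinv h31 htgt hlow
    (ckRB_sound s 6 inv rels hrels hinv h31 RB RBC rbc) sp9602L sp9602k 2 300 300 (by decide) (by decide) sp9602t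
    ⟨_, sp9602l⟩ (by decide)
noncomputable def sp9697F : Nat → Nat := fun g => Nat.land (Nat.shiftRight (nat_lit 0x800b7000978400680004a02003420034400009c001a21000d10006e88005a000684000342003402001a00018f) (Nat.mul (nat_lit 45) g)) (nat_lit 0x1fffffffffff)
noncomputable def sp9697T : Nat → Nat := fun g => Nat.land (Nat.shiftRight (nat_lit 0x6e880068000031e2) (Nat.mul (nat_lit 25) g)) (nat_lit 0x1ffffff)
noncomputable def sp9697L : List Nat := [nat_lit 0x0, nat_lit 0x0, nat_lit 0x200040300b, nat_lit 0x0, nat_lit 0x80301a, nat_lit 0x6000000000000000805003, nat_lit 0x4000b000a00000000000000000000000009015, nat_lit 0xe00010000000005003]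
theorem sp9697k : ckBlock (nat_lit 416) (nat_lit 511) (nat_lit 0x78000) E inv sp9697T sp9697F RB sp9697L (nat_lit 0) = true := by decide +kernel
theorem sp9697r : Nat.shiftLeft (Nat.shiftRight (E 1 303) 14) 14 = 491520 := by decide +kernel
theorem sp9697t : Nat.land (E 1 303) 511 = 366 := by decide +kernel
theorem sp9697l : 7 < sp9697L.length ∧ sp9697F 7 = 303 + 2 ^ 20 * 366 + 2 ^ 40 * 1 := by decide +kernel
theorem sp9697 {G : Type*} [Group G] (H : Subgroup G) (s : Nat → G) (hinv : ∀ l, s l = (s l)⁻¹) (h31 : s 31 = 1)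
    (hrels : ∀ W ∈ rels, (W.map s).prod = 1) (hsub : ∀ w ∈ subw, (w.map s).prod ∈ H)
    (htgt : ∀ l < 6, ∀ i < 416, Nat.land (E l i) 511 < 416)
    (hlow : ∀ l' < 6, ∀ i' < 416, E l' i' < Nat.shiftLeft (Nat.shiftRight (E 1 303) 14) 14 →
      EdgeP H s (repOf s D) E 511 l' i') : EdgeP H s (repOf s D) E 511 1 303 := by
  rw [sp9697r] at hlow
  exact special_block H s 416 6 511 491520 E inv D sp9697T sp9697F RB hinv h31 htgt hlow
    (ckRB_sound s 6 inv rels hrels hinv h31 RB RBC rbc) sp9697L sp9697k 1 303 366 (by decide) (by decide) sp9697t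
    ⟨_, sp9697l⟩ (by decide)
noncomputable def sp10627F : Nat → Nat := fun g => Nat.land (Nat.shiftRight (nat_lit 0xc004200053000034a002101000d6001a51800d2800d20400690003d44002960034800014c001a42800d2000d188006880068c000346003400001a1001a22800d1000a594003f000684400342003405001a00014c) (Nat.mul (nat_lit 45) g)) (nat_lit 0x1fffffffffff)
noncomputable def sp10627T : Nat → Nat := fun g => Nat.land (Nat.shiftRight (nat_lit 0x6906003465001a00000a594006804002985) (Nat.mul (nat_lit 25) g)) (nat_lit 0x1ffffff)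
noncomputable def sp10627L : List Nat := [nat_lit 0x0, nat_lit 0x0, nat_lit 0x2000403004, nat_lit 0x0, nat_lit 0x6000000080300c, nat_lit 0x0, nat_lit 0xa0003000c0300b, nat_lit 0x0, nat_lit 0x2000c00100300c, nat_lit 0x8000d001003009, nat_lit 0x14000000000000000005003, nat_lit 0x0, nat_lit 0x16001803001, nat_lit 0x1a0000000000000000000000160012000009019, nat_lit 0x1c0017001203006]
theorem sp10627k : ckBlock (nat_lit 416) (nat_lit 511) (nat_lit 0x84000) E inv sp10627T sp10627F RB sp10627L (nat_lit 0) = true := by decide +kernel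
theorem sp10627r : Nat.shiftLeft (Nat.shiftRight (E 3 332) 14) 14 = 540672 := by decide +kernel
theorem sp10627t : Nat.land (E 3 332) 511 = 264 := by decide +kernel
theorem sp10627l : 14 < sp10627L.length ∧ sp10627F 14 = 332 + 2 ^ 20 * 264 + 2 ^ 40 * 3 := by decide +kernel
theorem sp10627 {G : Type*} [Group G] (H : Subgroup G) (s : Nat → G) (hinv : ∀ l, s l = (s l)⁻¹) (h31 : s 31 = 1)
    (hrels : ∀ W ∈ rels, (W.map s).prod = 1) (hsub : ∀ w ∈ subw, (w.map s).prod ∈ H)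
    (htgt : ∀ l < 6, ∀ i < 416, Nat.land (E l i) 511 < 416)
    (hlow : ∀ l' < 6, ∀ i' < 416, E l' i' < Nat.shiftLeft (Nat.shiftRight (E 3 332) 14) 14 →
      EdgeP H s (repOf s D) E 511 l' i') : EdgeP H s (repOf s D) E 511 3 332 := by
  rw [sp10627r] at hlow
  exact special_block H s 416 6 511 540672 E inv D sp10627T sp10627F RB hinv h31 htgt hlow
    (ckRB_sound s 6 inv rels hrels hinv h31 RB RBC rbc) sp10627L sp10627k 3 332 264 (by decide) (by decide) sp10627t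
    ⟨_, sp10627l⟩ (by decide)
noncomputable def sp10784F : Nat → Nat := fun g => Nat.land (Nat.shiftRight (nat_lit 0x2a2002a3f001a8001510000a8800d400006b0006b4a0035a0034c500122001ac080093000d60c006b0006a8a0024a003562001ab0012628006a000d504006a800368a00350003522001a9001071000a8800d410006a00069c40034e003002001a5001a6000091000d30c006980069020034a0034430010d001a50000d2800d1880035800690000348001a830015b001a30800d18009e8c0032800688000344001fe200101001a128007f800d08c0068400680400232003405001a000117) (Nat.mul (nat_lit 45) g)) (nat_lit 0x1fffffffffff)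
noncomputable def sp10784T : Nat → Nat := fun g => Nat.land (Nat.shiftRight (nat_lit 0x698a0035430012610006d040041c40034e4001801000d20c0068c0001a800013d08007f800068060022e5) (Nat.mul (nat_lit 25) g)) (nat_lit 0x1ffffff)
noncomputable def sp10784L : List Nat := [nat_lit 0x0, nat_lit 0x203009, nat_lit 0x0, nat_lit 0x2000603007, nat_lit 0x3000608008, nat_lit 0x0, nat_lit 0xc03006, nat_lit 0x0, nat_lit 0x100300d, nat_lit 0x0, nat_lit 0x140300b, nat_lit 0x0, nat_lit 0x11001803006, nat_lit 0x1a0000000d03001, nat_lit 0x0, nat_lit 0x14001e03013, nat_lit 0x1a000000000000000000000015001e08008, nat_lit 0x0, nat_lit 0x0, nat_lit 0x2400260300e, nat_lit 0x0, nat_lit 0x280000002a03004, nat_lit 0x0, nat_lit 0x2e0500a, nat_lit 0x0, nat_lit 0x3203004, nat_lit 0x0, nat_lit 0x2e003603001, nat_lit 0x2f003603007, nat_lit 0x0, nat_lit 0x3a001f003c0300c, nat_lit 0x90008000c001c0021003c003e003800320034000000000000000000000000002a002c13011,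 nat_lit 0x28000000000000003f002800000000000009024, nat_lit 0x3f004102012]
theorem sp10784k : ckBlock (nat_lit 416) (nat_lit 511) (nat_lit 0x6c000) E inv sp10784T sp10784F RB sp10784L (nat_lit 0) = true := by decide +kernel
theorem sp10784r : Nat.shiftLeft (Nat.shiftRight (E 0 337) 14) 14 = 442368 := by decide +kernel
theorem sp10784t : Nat.land (E 0 337) 511 = 337 := by decide +kernel
theorem sp10784l : 33 < sp10784L.length ∧ sp10784F 33 = 337 + 2 ^ 20 * 337 + 2 ^ 40 * 0 := by decide +kernel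
theorem sp10784 {G : Type*} [Group G] (H : Subgroup G) (s : Nat → G) (hinv : ∀ l, s l = (s l)⁻¹) (h31 : s 31 = 1)
    (hrels : ∀ W ∈ rels, (W.map s).prod = 1) (hsub : ∀ w ∈ subw, (w.map s).prod ∈ H)
    (htgt : ∀ l < 6, ∀ i < 416, Nat.land (E l i) 511 < 416)
    (hlow : ∀ l' < 6, ∀ i' < 416, E l' i' < Nat.shiftLeft (Nat.shiftRight (E 0 337) 14) 14 →
      EdgeP H s (repOf s D) E 511 l' i') : EdgeP H s (repOf s D) E 511 0 337 := by
  rw [sp10784r] at hlow
  exact special_block H s 416 6 511 442368 E inv D sp10784T sp10784F RB hinv h31 htgt hlow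
    (ckRB_sound s 6 inv rels hrels hinv h31 RB RBC rbc) sp10784L sp10784k 0 337 337 (by decide) (by decide) sp10784t
    ⟨_, sp10784l⟩ (by decide)
noncomputable def sp11621F : Nat → Nat := fun g => Nat.land (Nat.shiftRight (nat_lit 0x140060c005aca002ae0034e10016a001a71000d3800d304006900069880034c0034a20016a001a50800d2800d0900069000684000346003482001a4001a12000d1000d188006880068ca00346001c40001a1001a22800d10009594005c800684600342003405001a00018e) (Nat.mul (nat_lit 45) g)) (nat_lit 0x1fffffffffff)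
noncomputable def sp11621T : Nat → Nat := fun g => Nat.land (Nat.shiftRight (nat_lit 0x1a61000d290006842003422000e2280095940068060031c5) (Nat.mul (nat_lit 25) g)) (nat_lit 0x1ffffff)
noncomputable def sp11621L : List Nat := [nat_lit 0x0, nat_lit 0x0, nat_lit 0x2000403007, nat_lit 0x0, nat_lit 0x6000000080300c, nat_lit 0x0, nat_lit 0x70000000c03009, nat_lit 0x70000000c03017, nat_lit 0x0, nat_lit 0xe000a00120301a, nat_lit 0x140010000a03022, nat_lit 0x0, nat_lit 0x8000a001813023, nat_lit 0x0, nat_lit 0x150018001c03018, nat_lit 0x0, nat_lit 0x1900170012001d002005003, nat_lit 0xc0013001d002013016, nat_lit 0x230022000000000500a]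
theorem sp11621k : ckBlock (nat_lit 416) (nat_lit 511) (nat_lit 0x60000) E inv sp11621T sp11621F RB sp11621L (nat_lit 0) = true := by decide +kernel
theorem sp11621r : Nat.shiftLeft (Nat.shiftRight (E 5 363) 14) 14 = 393216 := by decide +kernel
theorem sp11621t : Nat.land (E 5 363) 511 = 387 := by decide +kernel
theorem sp11621l : 18 < sp11621L.length ∧ sp11621F 18 = 363 + 2 ^ 20 * 387 + 2 ^ 40 * 5 := by decide +kernel
theorem sp11621 {G : Type*} [Group G] (H : Subgroup G) (s : Nat → G) (hinv : ∀ l, s l = (s l)⁻¹) (h31 : s 31 = 1)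
    (hrels : ∀ W ∈ rels, (W.map s).prod = 1) (hsub : ∀ w ∈ subw, (w.map s).prod ∈ H)
    (htgt : ∀ l < 6, ∀ i < 416, Nat.land (E l i) 511 < 416)
    (hlow : ∀ l' < 6, ∀ i' < 416, E l' i' < Nat.shiftLeft (Nat.shiftRight (E 5 363) 14) 14 →
      EdgeP H s (repOf s D) E 511 l' i') : EdgeP H s (repOf s D) E 511 5 363 := by
  rw [sp11621r] at hlow
  exact special_block H s 416 6 511 393216 E inv D sp11621T sp11621F RB hinv h31 htgt hlow
    (ckRB_sound s 6 inv rels hrels hinv h31 RB RBC rbc) sp11621L sp11621k 5 363 387 (by decide) (by decide) sp11621t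
    ⟨_, sp11621l⟩ (by decide)
noncomputable def sp11682F : Nat → Nat := fun g => Nat.land (Nat.shiftRight (nat_lit 0x40026c002da300136001a1100093800d0900068400680400244003403001a00015b) (Nat.mul (nat_lit 45) g)) (nat_lit 0x1fffffffffff)
noncomputable def sp11682T : Nat → Nat := fun g => Nat.land (Nat.shiftRight (nat_lit 0x6808002b63) (Nat.mul (nat_lit 25) g)) (nat_lit 0x1ffffff)
noncomputable def sp11682L : List Nat := [nat_lit 0x0, nat_lit 0x208008, nat_lit 0x0, nat_lit 0x300060300e, nat_lit 0x2000605021, nat_lit 0x900080000000000000000000000000800f]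
theorem sp11682k : ckBlock (nat_lit 416) (nat_lit 511) (nat_lit 0x68000) E inv sp11682T sp11682F RB sp11682L (nat_lit 0) = true := by decide +kernel
theorem sp11682r : Nat.shiftLeft (Nat.shiftRight (E 2 365) 14) 14 = 425984 := by decide +kernel
theorem sp11682t : Nat.land (E 2 365) 511 = 310 := by decide +kernel
theorem sp11682l : 5 < sp11682L.length ∧ sp11682F 5 = 365 + 2 ^ 20 * 310 + 2 ^ 40 * 2 := by decide +kernel
theorem sp11682 {G : Type*} [Group G] (H : Subgroup G) (s : Nat → G) (hinv : ∀ l, s l = (s l)⁻¹) (h31 : s 31 = 1)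
    (hrels : ∀ W ∈ rels, (W.map s).prod = 1) (hsub : ∀ w ∈ subw, (w.map s).prod ∈ H)
    (htgt : ∀ l < 6, ∀ i < 416, Nat.land (E l i) 511 < 416)
    (hlow : ∀ l' < 6, ∀ i' < 416, E l' i' < Nat.shiftLeft (Nat.shiftRight (E 2 365) 14) 14 →
      EdgeP H s (repOf s D) E 511 l' i') : EdgeP H s (repOf s D) E 511 2 365 := by
  rw [sp11682r] at hlow
  exact special_block H s 416 6 511 425984 E inv D sp11682T sp11682F RB hinv h31 htgt hlow
    (ckRB_sound s 6 inv rels hrels hinv h31 RB RBC rbc) sp11682L sp11682k 2 365 310 (by decide) (by decide) sp11682t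
    ⟨_, sp11682l⟩ (by decide)

theorem htgt : ∀ l < 6, ∀ i < 416, Nat.land (E l i) 511 < 416 := fun l hl i hi => (edgeOK l hl i hi).1

theorem edges {G : Type*} [Group G] (H : Subgroup G) (s : Nat → G) (hinv : ∀ l, s l = (s l)⁻¹) (h31 : s 31 = 1)
    (hrels : ∀ W ∈ rels, (W.map s).prod = 1) (hsub : ∀ w ∈ subw, (w.map s).prod ∈ H) :
    ∀ l < 6, ∀ i < 416, EdgeP H s (repOf s D) E 511 l i := by
  refine edges_correct H s E 511 416 6 14 9 31 inv D RW sp (by decide) (fun l hl => hl) (fun l _ => hinv l)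
    ?_ ?_ ?_ edgeOK
  · intro l hl w hw
    interval_cases l
    · exact (ckRels_sound 6 inv rels 0 RW0 RC0 rc0 w hw).1
    · exact (ckRels_sound 6 inv rels 1 RW1 RC1 rc1 w hw).1
    · exact (ckRels_sound 6 inv rels 2 RW2 RC2 rc2 w hw).1
    · exact (ckRels_sound 6 inv rels 3 RW3 RC3 rc3 w hw).1
    · exact (ckRels_sound 6 inv rels 4 RW4 RC4 rc4 w hw).1
    · exact (ckRels_sound 6 inv rels 5 RW5 RC5 rc5 w hw).1
  · intro l hl w hw
    interval_cases l
    · obtain ⟨_, c, hc⟩ := ckRels_sound 6 inv rels 0 RW0 RC0 rc0 w hw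
      exact ckRel_sound s inv rels hrels 0 w c (fun l' _ => hinv l') hc
    · obtain ⟨_, c, hc⟩ := ckRels_sound 6 inv rels 1 RW1 RC1 rc1 w hw
      exact ckRel_sound s inv rels hrels 1 w c (fun l' _ => hinv l') hc
    · obtain ⟨_, c, hc⟩ := ckRels_sound 6 inv rels 2 RW2 RC2 rc2 w hw
      exact ckRel_sound s inv rels hrels 2 w c (fun l' _ => hinv l') hc
    · obtain ⟨_, c, hc⟩ := ckRels_sound 6 inv rels 3 RW3 RC3 rc3 w hw
      exact ckRel_sound s inv rels hrels 3 w c (fun l' _ => hinv l') hc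
    · obtain ⟨_, c, hc⟩ := ckRels_sound 6 inv rels 4 RW4 RC4 rc4 w hw
      exact ckRel_sound s inv rels hrels 4 w c (fun l' _ => hinv l') hc
    · obtain ⟨_, c, hc⟩ := ckRels_sound 6 inv rels 5 RW5 RC5 rc5 w hw
      exact ckRel_sound s inv rels hrels 5 w c (fun l' _ => hinv l') hc
  · refine hsp_of H s (repOf s D) E 511 416 6 14 sp (by decide) ?_
    refine List.forall_mem_cons.2 ⟨fun _ _ h => sp0 H s hinv h31 hrels hsub htgt h, ?_⟩
    refine List.forall_mem_cons.2 ⟨fun _ _ h => sp1 H s hinv h31 hrels hsub htgt h, ?_⟩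
    refine List.forall_mem_cons.2 ⟨fun _ _ h => sp2 H s hinv h31 hrels hsub htgt h, ?_⟩
    refine List.forall_mem_cons.2 ⟨fun _ _ h => sp3 H s hinv h31 hrels hsub htgt h, ?_⟩
    refine List.forall_mem_cons.2 ⟨fun _ _ h => sp4 H s hinv h31 hrels hsub htgt h, ?_⟩
    refine List.forall_mem_cons.2 ⟨fun _ _ h => sp1445 H s hinv h31 hrels hsub htgt h, ?_⟩
    refine List.forall_mem_cons.2 ⟨fun _ _ h => sp4128 H s hinv h31 hrels hsub htgt h, ?_⟩
    refine List.forall_mem_cons.2 ⟨fun _ _ h => sp4160 H s hinv h31 hrels hsub htgt h, ?_⟩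
    refine List.forall_mem_cons.2 ⟨fun _ _ h => sp9602 H s hinv h31 hrels hsub htgt h, ?_⟩
    refine List.forall_mem_cons.2 ⟨fun _ _ h => sp9697 H s hinv h31 hrels hsub htgt h, ?_⟩
    refine List.forall_mem_cons.2 ⟨fun _ _ h => sp10627 H s hinv h31 hrels hsub htgt h, ?_⟩
    refine List.forall_mem_cons.2 ⟨fun _ _ h => sp10784 H s hinv h31 hrels hsub htgt h, ?_⟩
    refine List.forall_mem_cons.2 ⟨fun _ _ h => sp11621 H s hinv h31 hrels hsub htgt h, ?_⟩
    refine List.forall_mem_cons.2 ⟨fun _ _ h => sp11682 H s hinv h31 hrels hsub htgt h, ?_⟩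
    intro c hc
    exact absurd hc List.not_mem_nil

theorem covers {G : Type*} [Group G] (s : Nat → G) (hinv : ∀ l, s l = (s l)⁻¹) (h31 : s 31 = 1)
    (hrels2 : ∀ p ∈ rels2, ((p.1.map s).prod) ^ p.2 = 1) (H : Subgroup G) (hsub : ∀ w ∈ subw, (w.map s).prod ∈ H) :
    ∀ g ∈ letterGroup s 6, ∀ i < 416, ∃ j < 416, repOf s D i * g * (repOf s D j)⁻¹ ∈ H :=
  cover H s (repOf s D) E 511 416 6 inv (fun l hl => hl) (fun l _ => hinv l) htgt
    (edges H s hinv h31 (hrels_of s rels2 hrels2) hsub)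

theorem upper {G : Type*} [Group G] (s : Nat → G) (hinv : ∀ l, s l = (s l)⁻¹) (h31 : s 31 = 1)
    (hrels2 : ∀ p ∈ rels2, ((p.1.map s).prod) ^ p.2 = 1) (H : Subgroup G) (hsub : ∀ w ∈ subw, (w.map s).prod ∈ H)
    (hH : Finite H) : Finite (letterGroup s 6) ∧ Nat.card (letterGroup s 6) ≤ 416 * Nat.card H :=
  card_le_of_cover H (repOf s D) 416 (by decide) (repOf_zero s D) _
    (covers s hinv h31 hrels2 H hsub) hH

theorem upperIndex {G : Type*} [Group G] (s : Nat → G) (hinv : ∀ l, s l = (s l)⁻¹) (h31 : s 31 = 1)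
    (hrels2 : ∀ p ∈ rels2, ((p.1.map s).prod) ^ p.2 = 1) (H : Subgroup G) (hsub : ∀ w ∈ subw, (w.map s).prod ∈ H)
    (htop : letterGroup s 6 = ⊤) : H.FiniteIndex ∧ H.index ≤ 416 :=
  index_le_of_cover H (repOf s D) 416 (by decide) (repOf_zero s D)
    (fun g => covers s hinv h31 hrels2 H hsub g (by rw [htop]; exact Subgroup.mem_top g))


end Cfsg.Agent.H8.G24t
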