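import Cfsg.Agent.H8.T.HSOa

set_option Elab.async false
set_option autoImplicit false
set_option linter.all false
set_option maxRecDepth 100000
set_option maxHeartbeats 400000

namespace Cfsg.Agent.H8.HSO
open Cfsg.Agent.H8.LtH (T0 T1 T2)

theorem pk0_0 : allR (ckPerm (nat_lit 100) X0 X1) (nat_lit 0) (nat_lit 50) = true := by decide +kernel
theorem pk0_1 : allR (ckPerm (nat_lit 100) X0 X1) (nat_lit 50) (nat_lit 50) = true := by decide +kernel
theorem pk1_0 : allR (ckPerm (nat_lit 100) X1 X0) (nat_lit 0) (nat_lit 50) = true := by decide +kernel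
theorem pk1_1 : allR (ckPerm (nat_lit 100) X1 X0) (nat_lit 50) (nat_lit 50) = true := by decide +kernel
theorem pk2_0 : allR (ckPerm (nat_lit 100) X2 X3) (nat_lit 0) (nat_lit 50) = true := by decide +kernel
theorem pk2_1 : allR (ckPerm (nat_lit 100) X2 X3) (nat_lit 50) (nat_lit 50) = true := by decide +kernel
theorem pk3_0 : allR (ckPerm (nat_lit 100) X3 X2) (nat_lit 0) (nat_lit 50) = true := by decide +kernel
theorem pk3_1 : allR (ckPerm (nat_lit 100) X3 X2) (nat_lit 50) (nat_lit 50) = true := by decide +kernel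
theorem pk4_0 : allR (ckPerm (nat_lit 100) X4 X5) (nat_lit 0) (nat_lit 50) = true := by decide +kernel
theorem pk4_1 : allR (ckPerm (nat_lit 100) X4 X5) (nat_lit 50) (nat_lit 50) = true := by decide +kernel
theorem pk5_0 : allR (ckPerm (nat_lit 100) X5 X4) (nat_lit 0) (nat_lit 50) = true := by decide +kernel
theorem pk5_1 : allR (ckPerm (nat_lit 100) X5 X4) (nat_lit 50) (nat_lit 50) = true := by decide +kernel
theorem pk6_0 : allR (ckPerm (nat_lit 100) X6 X7) (nat_lit 0) (nat_lit 50) = true := by decide +kernel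
theorem pk6_1 : allR (ckPerm (nat_lit 100) X6 X7) (nat_lit 50) (nat_lit 50) = true := by decide +kernel
theorem pk7_0 : allR (ckPerm (nat_lit 100) X7 X6) (nat_lit 0) (nat_lit 50) = true := by decide +kernel
theorem pk7_1 : allR (ckPerm (nat_lit 100) X7 X6) (nat_lit 50) (nat_lit 50) = true := by decide +kernel
theorem pk8_0 : allR (ckPerm (nat_lit 100) X8 X9) (nat_lit 0) (nat_lit 50) = true := by decide +kernel
theorem pk8_1 : allR (ckPerm (nat_lit 100) X8 X9) (nat_lit 50) (nat_lit 50) = true := by decide +kernel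
theorem pk9_0 : allR (ckPerm (nat_lit 100) X9 X8) (nat_lit 0) (nat_lit 50) = true := by decide +kernel
theorem pk9_1 : allR (ckPerm (nat_lit 100) X9 X8) (nat_lit 50) (nat_lit 50) = true := by decide +kernel
theorem pk10_0 : allR (ckPerm (nat_lit 100) X10 X11) (nat_lit 0) (nat_lit 50) = true := by decide +kernel
theorem pk10_1 : allR (ckPerm (nat_lit 100) X10 X11) (nat_lit 50) (nat_lit 50) = true := by decide +kernel
theorem pk11_0 : allR (ckPerm (nat_lit 100) X11 X10) (nat_lit 0) (nat_lit 50) = true := by decide +kernel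
theorem pk11_1 : allR (ckPerm (nat_lit 100) X11 X10) (nat_lit 50) (nat_lit 50) = true := by decide +kernel
theorem pk12_0 : allR (ckPerm (nat_lit 100) X12 X13) (nat_lit 0) (nat_lit 50) = true := by decide +kernel
theorem pk12_1 : allR (ckPerm (nat_lit 100) X12 X13) (nat_lit 50) (nat_lit 50) = true := by decide +kernel
theorem pk13_0 : allR (ckPerm (nat_lit 100) X13 X12) (nat_lit 0) (nat_lit 50) = true := by decide +kernel
theorem pk13_1 : allR (ckPerm (nat_lit 100) X13 X12) (nat_lit 50) (nat_lit 50) = true := by decide +kernel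
theorem pk14_0 : allR (ckPerm (nat_lit 100) X14 X15) (nat_lit 0) (nat_lit 50) = true := by decide +kernel
theorem pk14_1 : allR (ckPerm (nat_lit 100) X14 X15) (nat_lit 50) (nat_lit 50) = true := by decide +kernel
theorem pk15_0 : allR (ckPerm (nat_lit 100) X15 X14) (nat_lit 0) (nat_lit 50) = true := by decide +kernel
theorem pk15_1 : allR (ckPerm (nat_lit 100) X15 X14) (nat_lit 50) (nat_lit 50) = true := by decide +kernel
theorem pk16_0 : allR (ckPerm (nat_lit 100) X16 X17) (nat_lit 0) (nat_lit 50) = true := by decide +kernel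
theorem pk16_1 : allR (ckPerm (nat_lit 100) X16 X17) (nat_lit 50) (nat_lit 50) = true := by decide +kernel
theorem pk17_0 : allR (ckPerm (nat_lit 100) X17 X16) (nat_lit 0) (nat_lit 50) = true := by decide +kernel
theorem pk17_1 : allR (ckPerm (nat_lit 100) X17 X16) (nat_lit 50) (nat_lit 50) = true := by decide +kernel
theorem pk18_0 : allR (ckPerm (nat_lit 100) X18 X19) (nat_lit 0) (nat_lit 50) = true := by decide +kernel
theorem pk18_1 : allR (ckPerm (nat_lit 100) X18 X19) (nat_lit 50) (nat_lit 50) = true := by decide +kernel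
theorem pk19_0 : allR (ckPerm (nat_lit 100) X19 X18) (nat_lit 0) (nat_lit 50) = true := by decide +kernel
theorem pk19_1 : allR (ckPerm (nat_lit 100) X19 X18) (nat_lit 50) (nat_lit 50) = true := by decide +kernel
theorem pk20_0 : allR (ckPerm (nat_lit 100) X20 X21) (nat_lit 0) (nat_lit 50) = true := by decide +kernel
theorem pk20_1 : allR (ckPerm (nat_lit 100) X20 X21) (nat_lit 50) (nat_lit 50) = true := by decide +kernel
theorem pk21_0 : allR (ckPerm (nat_lit 100) X21 X20) (nat_lit 0) (nat_lit 50) = true := by decide +kernel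
theorem pk21_1 : allR (ckPerm (nat_lit 100) X21 X20) (nat_lit 50) (nat_lit 50) = true := by decide +kernel
theorem pk22_0 : allR (ckPerm (nat_lit 100) X22 X23) (nat_lit 0) (nat_lit 50) = true := by decide +kernel
theorem pk22_1 : allR (ckPerm (nat_lit 100) X22 X23) (nat_lit 50) (nat_lit 50) = true := by decide +kernel
theorem pk23_0 : allR (ckPerm (nat_lit 100) X23 X22) (nat_lit 0) (nat_lit 50) = true := by decide +kernel
theorem pk23_1 : allR (ckPerm (nat_lit 100) X23 X22) (nat_lit 50) (nat_lit 50) = true := by decide +kernel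
theorem pk24_0 : allR (ckPerm (nat_lit 100) X24 X25) (nat_lit 0) (nat_lit 50) = true := by decide +kernel
theorem pk24_1 : allR (ckPerm (nat_lit 100) X24 X25) (nat_lit 50) (nat_lit 50) = true := by decide +kernel
theorem pk25_0 : allR (ckPerm (nat_lit 100) X25 X24) (nat_lit 0) (nat_lit 50) = true := by decide +kernel
theorem pk25_1 : allR (ckPerm (nat_lit 100) X25 X24) (nat_lit 50) (nat_lit 50) = true := by decide +kernel
theorem pk26_0 : allR (ckPerm (nat_lit 100) X26 X27) (nat_lit 0) (nat_lit 50) = true := by decide +kernel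
theorem pk26_1 : allR (ckPerm (nat_lit 100) X26 X27) (nat_lit 50) (nat_lit 50) = true := by decide +kernel
theorem pk27_0 : allR (ckPerm (nat_lit 100) X27 X26) (nat_lit 0) (nat_lit 50) = true := by decide +kernel
theorem pk27_1 : allR (ckPerm (nat_lit 100) X27 X26) (nat_lit 50) (nat_lit 50) = true := by decide +kernel
theorem pk28_0 : allR (ckPerm (nat_lit 100) X28 X29) (nat_lit 0) (nat_lit 50) = true := by decide +kernel
theorem pk28_1 : allR (ckPerm (nat_lit 100) X28 X29) (nat_lit 50) (nat_lit 50) = true := by decide +kernel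
theorem pk29_0 : allR (ckPerm (nat_lit 100) X29 X28) (nat_lit 0) (nat_lit 50) = true := by decide +kernel
theorem pk29_1 : allR (ckPerm (nat_lit 100) X29 X28) (nat_lit 50) (nat_lit 50) = true := by decide +kernel
theorem pk30_0 : allR (ckPerm (nat_lit 100) X30 X31) (nat_lit 0) (nat_lit 50) = true := by decide +kernel
theorem pk30_1 : allR (ckPerm (nat_lit 100) X30 X31) (nat_lit 50) (nat_lit 50) = true := by decide +kernel
theorem pk31_0 : allR (ckPerm (nat_lit 100) X31 X30) (nat_lit 0) (nat_lit 50) = true := by decide +kernel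
theorem pk31_1 : allR (ckPerm (nat_lit 100) X31 X30) (nat_lit 50) (nat_lit 50) = true := by decide +kernel
theorem pk32_0 : allR (ckPerm (nat_lit 100) X32 X33) (nat_lit 0) (nat_lit 50) = true := by decide +kernel
theorem pk32_1 : allR (ckPerm (nat_lit 100) X32 X33) (nat_lit 50) (nat_lit 50) = true := by decide +kernel
theorem pk33_0 : allR (ckPerm (nat_lit 100) X33 X32) (nat_lit 0) (nat_lit 50) = true := by decide +kernel
theorem pk33_1 : allR (ckPerm (nat_lit 100) X33 X32) (nat_lit 50) (nat_lit 50) = true := by decide +kernel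
theorem pk34_0 : allR (ckPerm (nat_lit 100) X34 X35) (nat_lit 0) (nat_lit 50) = true := by decide +kernel
theorem pk34_1 : allR (ckPerm (nat_lit 100) X34 X35) (nat_lit 50) (nat_lit 50) = true := by decide +kernel
theorem pk35_0 : allR (ckPerm (nat_lit 100) X35 X34) (nat_lit 0) (nat_lit 50) = true := by decide +kernel
theorem pk35_1 : allR (ckPerm (nat_lit 100) X35 X34) (nat_lit 50) (nat_lit 50) = true := by decide +kernel
theorem pk36_0 : allR (ckPerm (nat_lit 100) X36 X37) (nat_lit 0) (nat_lit 50) = true := by decide +kernel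
theorem pk36_1 : allR (ckPerm (nat_lit 100) X36 X37) (nat_lit 50) (nat_lit 50) = true := by decide +kernel
theorem pk37_0 : allR (ckPerm (nat_lit 100) X37 X36) (nat_lit 0) (nat_lit 50) = true := by decide +kernel
theorem pk37_1 : allR (ckPerm (nat_lit 100) X37 X36) (nat_lit 50) (nat_lit 50) = true := by decide +kernel
theorem pk38_0 : allR (ckPerm (nat_lit 100) X38 X39) (nat_lit 0) (nat_lit 50) = true := by decide +kernel
theorem pk38_1 : allR (ckPerm (nat_lit 100) X38 X39) (nat_lit 50) (nat_lit 50) = true := by decide +kernel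
theorem pk39_0 : allR (ckPerm (nat_lit 100) X39 X38) (nat_lit 0) (nat_lit 50) = true := by decide +kernel
theorem pk39_1 : allR (ckPerm (nat_lit 100) X39 X38) (nat_lit 50) (nat_lit 50) = true := by decide +kernel
theorem pk40_0 : allR (ckPerm (nat_lit 100) X40 X41) (nat_lit 0) (nat_lit 50) = true := by decide +kernel
theorem pk40_1 : allR (ckPerm (nat_lit 100) X40 X41) (nat_lit 50) (nat_lit 50) = true := by decide +kernel
theorem pk41_0 : allR (ckPerm (nat_lit 100) X41 X40) (nat_lit 0) (nat_lit 50) = true := by decide +kernel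
theorem pk41_1 : allR (ckPerm (nat_lit 100) X41 X40) (nat_lit 50) (nat_lit 50) = true := by decide +kernel
theorem pk42_0 : allR (ckPerm (nat_lit 100) X42 X43) (nat_lit 0) (nat_lit 50) = true := by decide +kernel
theorem pk42_1 : allR (ckPerm (nat_lit 100) X42 X43) (nat_lit 50) (nat_lit 50) = true := by decide +kernel
theorem pk43_0 : allR (ckPerm (nat_lit 100) X43 X42) (nat_lit 0) (nat_lit 50) = true := by decide +kernel
theorem pk43_1 : allR (ckPerm (nat_lit 100) X43 X42) (nat_lit 50) (nat_lit 50) = true := by decide +kernel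
theorem pk44_0 : allR (ckPerm (nat_lit 100) X44 X45) (nat_lit 0) (nat_lit 50) = true := by decide +kernel
theorem pk44_1 : allR (ckPerm (nat_lit 100) X44 X45) (nat_lit 50) (nat_lit 50) = true := by decide +kernel
theorem pk45_0 : allR (ckPerm (nat_lit 100) X45 X44) (nat_lit 0) (nat_lit 50) = true := by decide +kernel
theorem pk45_1 : allR (ckPerm (nat_lit 100) X45 X44) (nat_lit 50) (nat_lit 50) = true := by decide +kernel
theorem pk46_0 : allR (ckPerm (nat_lit 100) X46 X47) (nat_lit 0) (nat_lit 50) = true := by decide +kernel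
theorem pk46_1 : allR (ckPerm (nat_lit 100) X46 X47) (nat_lit 50) (nat_lit 50) = true := by decide +kernel
theorem pk47_0 : allR (ckPerm (nat_lit 100) X47 X46) (nat_lit 0) (nat_lit 50) = true := by decide +kernel
theorem pk47_1 : allR (ckPerm (nat_lit 100) X47 X46) (nat_lit 50) (nat_lit 50) = true := by decide +kernel
theorem pk48_0 : allR (ckPerm (nat_lit 100) X48 X49) (nat_lit 0) (nat_lit 50) = true := by decide +kernel
theorem pk48_1 : allR (ckPerm (nat_lit 100) X48 X49) (nat_lit 50) (nat_lit 50) = true := by decide +kernel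
theorem pk49_0 : allR (ckPerm (nat_lit 100) X49 X48) (nat_lit 0) (nat_lit 50) = true := by decide +kernel
theorem pk49_1 : allR (ckPerm (nat_lit 100) X49 X48) (nat_lit 50) (nat_lit 50) = true := by decide +kernel
theorem wk7_0 : allR (OT.ckEqW [X11, X12, X12, X11] [X14]) (nat_lit 0) (nat_lit 20) = true := by decide +kernel
theorem wk7_1 : allR (OT.ckEqW [X11, X12, X12, X11] [X14]) (nat_lit 20) (nat_lit 20) = true := by decide +kernel
theorem wk7_2 : allR (OT.ckEqW [X11, X12, X12, X11] [X14]) (nat_lit 40) (nat_lit 20) = true := by decide +kernel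
theorem wk7_3 : allR (OT.ckEqW [X11, X12, X12, X11] [X14]) (nat_lit 60) (nat_lit 20) = true := by decide +kernel
theorem wk7_4 : allR (OT.ckEqW [X11, X12, X12, X11] [X14]) (nat_lit 80) (nat_lit 20) = true := by decide +kernel
theorem wk10_0 : allR (OT.ckEqW [X16] [X20]) (nat_lit 0) (nat_lit 50) = true := by decide +kernel
theorem wk10_1 : allR (OT.ckEqW [X16] [X20]) (nat_lit 50) (nat_lit 50) = true := by decide +kernel
theorem wk11_0 : allR (OT.ckEqW [X16, X0, X16, X16] [X22]) (nat_lit 0) (nat_lit 20) = true := by decide +kernel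
theorem wk11_1 : allR (OT.ckEqW [X16, X0, X16, X16] [X22]) (nat_lit 20) (nat_lit 20) = true := by decide +kernel
theorem wk11_2 : allR (OT.ckEqW [X16, X0, X16, X16] [X22]) (nat_lit 40) (nat_lit 20) = true := by decide +kernel
theorem wk11_3 : allR (OT.ckEqW [X16, X0, X16, X16] [X22]) (nat_lit 60) (nat_lit 20) = true := by decide +kernel
theorem wk11_4 : allR (OT.ckEqW [X16, X0, X16, X16] [X22]) (nat_lit 80) (nat_lit 20) = true := by decide +kernel
theorem wk12_0 : allR (OT.ckEqW [X19, X1, X18, X18] [X24]) (nat_lit 0) (nat_lit 20) = true := by decide +kernel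
theorem wk12_1 : allR (OT.ckEqW [X19, X1, X18, X18] [X24]) (nat_lit 20) (nat_lit 20) = true := by decide +kernel
theorem wk12_2 : allR (OT.ckEqW [X19, X1, X18, X18] [X24]) (nat_lit 40) (nat_lit 20) = true := by decide +kernel
theorem wk12_3 : allR (OT.ckEqW [X19, X1, X18, X18] [X24]) (nat_lit 60) (nat_lit 20) = true := by decide +kernel
theorem wk12_4 : allR (OT.ckEqW [X19, X1, X18, X18] [X24]) (nat_lit 80) (nat_lit 20) = true := by decide +kernel
theorem wk13_0 : allR (OT.ckEqW [X24, X23, X25, X25] [X26]) (nat_lit 0) (nat_lit 20) = true := by decide +kernel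
theorem wk13_1 : allR (OT.ckEqW [X24, X23, X25, X25] [X26]) (nat_lit 20) (nat_lit 20) = true := by decide +kernel
theorem wk13_2 : allR (OT.ckEqW [X24, X23, X25, X25] [X26]) (nat_lit 40) (nat_lit 20) = true := by decide +kernel
theorem wk13_3 : allR (OT.ckEqW [X24, X23, X25, X25] [X26]) (nat_lit 60) (nat_lit 20) = true := by decide +kernel
theorem wk13_4 : allR (OT.ckEqW [X24, X23, X25, X25] [X26]) (nat_lit 80) (nat_lit 20) = true := by decide +kernel
theorem wk14_0 : allR (OT.ckEqW [X22, X24, X24] [X28]) (nat_lit 0) (nat_lit 25) = true := by decide +kernel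
theorem wk14_1 : allR (OT.ckEqW [X22, X24, X24] [X28]) (nat_lit 25) (nat_lit 25) = true := by decide +kernel
theorem wk14_2 : allR (OT.ckEqW [X22, X24, X24] [X28]) (nat_lit 50) (nat_lit 25) = true := by decide +kernel
theorem wk14_3 : allR (OT.ckEqW [X22, X24, X24] [X28]) (nat_lit 75) (nat_lit 25) = true := by decide +kernel
theorem wk17_0 : allR (OT.ckEqW [X30, X33, X30] [X34]) (nat_lit 0) (nat_lit 25) = true := by decide +kernel
theorem wk17_1 : allR (OT.ckEqW [X30, X33, X30] [X34]) (nat_lit 25) (nat_lit 25) = true := by decide +kernel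
theorem wk17_2 : allR (OT.ckEqW [X30, X33, X30] [X34]) (nat_lit 50) (nat_lit 25) = true := by decide +kernel
theorem wk17_3 : allR (OT.ckEqW [X30, X33, X30] [X34]) (nat_lit 75) (nat_lit 25) = true := by decide +kernel
theorem wk18_0 : allR (OT.ckEqW [X17, X17, X0] [X36]) (nat_lit 0) (nat_lit 25) = true := by decide +kernel
theorem wk18_1 : allR (OT.ckEqW [X17, X17, X0] [X36]) (nat_lit 25) (nat_lit 25) = true := by decide +kernel
theorem wk18_2 : allR (OT.ckEqW [X17, X17, X0] [X36]) (nat_lit 50) (nat_lit 25) = true := by decide +kernel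
theorem wk18_3 : allR (OT.ckEqW [X17, X17, X0] [X36]) (nat_lit 75) (nat_lit 25) = true := by decide +kernel
theorem wk21_0 : allR (OT.ckEqW [X36, X38, X36, X36] [X42]) (nat_lit 0) (nat_lit 20) = true := by decide +kernel
theorem wk21_1 : allR (OT.ckEqW [X36, X38, X36, X36] [X42]) (nat_lit 20) (nat_lit 20) = true := by decide +kernel
theorem wk21_2 : allR (OT.ckEqW [X36, X38, X36, X36] [X42]) (nat_lit 40) (nat_lit 20) = true := by decide +kernel
theorem wk21_3 : allR (OT.ckEqW [X36, X38, X36, X36] [X42]) (nat_lit 60) (nat_lit 20) = true := by decide +kernel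
theorem wk21_4 : allR (OT.ckEqW [X36, X38, X36, X36] [X42]) (nat_lit 80) (nat_lit 20) = true := by decide +kernel
theorem wk24_0 : allR (OT.ckEqW [X46, X45, X47, X44] [X48]) (nat_lit 0) (nat_lit 20) = true := by decide +kernel
theorem wk24_1 : allR (OT.ckEqW [X46, X45, X47, X44] [X48]) (nat_lit 20) (nat_lit 20) = true := by decide +kernel
theorem wk24_2 : allR (OT.ckEqW [X46, X45, X47, X44] [X48]) (nat_lit 40) (nat_lit 20) = true := by decide +kernel
theorem wk24_3 : allR (OT.ckEqW [X46, X45, X47, X44] [X48]) (nat_lit 60) (nat_lit 20) = true := by decide +kernel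
theorem wk24_4 : allR (OT.ckEqW [X46, X45, X47, X44] [X48]) (nat_lit 80) (nat_lit 20) = true := by decide +kernel
theorem wk16_0 : allR (OT.ckEqW [X29, X29, X29, X27, X27, X27, X29, X27] [X32]) (nat_lit 0) (nat_lit 11) = true := by decide +kernel
theorem wk16_1 : allR (OT.ckEqW [X29, X29, X29, X27, X27, X27, X29, X27] [X32]) (nat_lit 11) (nat_lit 11) = true := by decide +kernel
theorem wk16_2 : allR (OT.ckEqW [X29, X29, X29, X27, X27, X27, X29, X27] [X32]) (nat_lit 22) (nat_lit 11) = true := by decide +kernel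
theorem wk16_3 : allR (OT.ckEqW [X29, X29, X29, X27, X27, X27, X29, X27] [X32]) (nat_lit 33) (nat_lit 11) = true := by decide +kernel
theorem wk16_4 : allR (OT.ckEqW [X29, X29, X29, X27, X27, X27, X29, X27] [X32]) (nat_lit 44) (nat_lit 11) = true := by decide +kernel
theorem wk16_5 : allR (OT.ckEqW [X29, X29, X29, X27, X27, X27, X29, X27] [X32]) (nat_lit 55) (nat_lit 11) = true := by decide +kernel
theorem wk16_6 : allR (OT.ckEqW [X29, X29, X29, X27, X27, X27, X29, X27] [X32]) (nat_lit 66) (nat_lit 11) = true := by decide +kernel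
theorem wk16_7 : allR (OT.ckEqW [X29, X29, X29, X27, X27, X27, X29, X27] [X32]) (nat_lit 77) (nat_lit 11) = true := by decide +kernel
theorem wk16_8 : allR (OT.ckEqW [X29, X29, X29, X27, X27, X27, X29, X27] [X32]) (nat_lit 88) (nat_lit 11) = true := by decide +kernel
theorem wk1_0 : allR (OT.ckEqW [X1, T0, T2, X0, X0, X0] [X2]) (nat_lit 0) (nat_lit 14) = true := by decide +kernel
theorem wk1_1 : allR (OT.ckEqW [X1, T0, T2, X0, X0, X0] [X2]) (nat_lit 14) (nat_lit 14) = true := by decide +kernel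
theorem wk1_2 : allR (OT.ckEqW [X1, T0, T2, X0, X0, X0] [X2]) (nat_lit 28) (nat_lit 14) = true := by decide +kernel
theorem wk1_3 : allR (OT.ckEqW [X1, T0, T2, X0, X0, X0] [X2]) (nat_lit 42) (nat_lit 14) = true := by decide +kernel
theorem wk1_4 : allR (OT.ckEqW [X1, T0, T2, X0, X0, X0] [X2]) (nat_lit 56) (nat_lit 14) = true := by decide +kernel
theorem wk1_5 : allR (OT.ckEqW [X1, T0, T2, X0, X0, X0] [X2]) (nat_lit 70) (nat_lit 14) = true := by decide +kernel
theorem wk1_6 : allR (OT.ckEqW [X1, T0, T2, X0, X0, X0] [X2]) (nat_lit 84) (nat_lit 14) = true := by decide +kernel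
theorem wk4_0 : allR (OT.ckEqW [X5, X2, X4, X4, X4, X4] [X8]) (nat_lit 0) (nat_lit 14) = true := by decide +kernel
theorem wk4_1 : allR (OT.ckEqW [X5, X2, X4, X4, X4, X4] [X8]) (nat_lit 14) (nat_lit 14) = true := by decide +kernel
theorem wk4_2 : allR (OT.ckEqW [X5, X2, X4, X4, X4, X4] [X8]) (nat_lit 28) (nat_lit 14) = true := by decide +kernel
theorem wk4_3 : allR (OT.ckEqW [X5, X2, X4, X4, X4, X4] [X8]) (nat_lit 42) (nat_lit 14) = true := by decide +kernel
theorem wk4_4 : allR (OT.ckEqW [X5, X2, X4, X4, X4, X4] [X8]) (nat_lit 56) (nat_lit 14) = true := by decide +kernel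
theorem wk4_5 : allR (OT.ckEqW [X5, X2, X4, X4, X4, X4] [X8]) (nat_lit 70) (nat_lit 14) = true := by decide +kernel
theorem wk4_6 : allR (OT.ckEqW [X5, X2, X4, X4, X4, X4] [X8]) (nat_lit 84) (nat_lit 14) = true := by decide +kernel
theorem wk6_0 : allR (OT.ckEqW [X8, X6, X9, X7, X9, X9] [X12]) (nat_lit 0) (nat_lit 14) = true := by decide +kernel
theorem wk6_1 : allR (OT.ckEqW [X8, X6, X9, X7, X9, X9] [X12]) (nat_lit 14) (nat_lit 14) = true := by decide +kernel
theorem wk6_2 : allR (OT.ckEqW [X8, X6, X9, X7, X9, X9] [X12]) (nat_lit 28) (nat_lit 14) = true := by decide +kernel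
theorem wk6_3 : allR (OT.ckEqW [X8, X6, X9, X7, X9, X9] [X12]) (nat_lit 42) (nat_lit 14) = true := by decide +kernel
theorem wk6_4 : allR (OT.ckEqW [X8, X6, X9, X7, X9, X9] [X12]) (nat_lit 56) (nat_lit 14) = true := by decide +kernel
theorem wk6_5 : allR (OT.ckEqW [X8, X6, X9, X7, X9, X9] [X12]) (nat_lit 70) (nat_lit 14) = true := by decide +kernel
theorem wk6_6 : allR (OT.ckEqW [X8, X6, X9, X7, X9, X9] [X12]) (nat_lit 84) (nat_lit 14) = true := by decide +kernel
theorem wk19_0 : allR (OT.ckEqW [X18, X16, X18, X0, X18, X1] [X38]) (nat_lit 0) (nat_lit 14) = true := by decide +kernel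
theorem wk19_1 : allR (OT.ckEqW [X18, X16, X18, X0, X18, X1] [X38]) (nat_lit 14) (nat_lit 14) = true := by decide +kernel
theorem wk19_2 : allR (OT.ckEqW [X18, X16, X18, X0, X18, X1] [X38]) (nat_lit 28) (nat_lit 14) = true := by decide +kernel
theorem wk19_3 : allR (OT.ckEqW [X18, X16, X18, X0, X18, X1] [X38]) (nat_lit 42) (nat_lit 14) = true := by decide +kernel
theorem wk19_4 : allR (OT.ckEqW [X18, X16, X18, X0, X18, X1] [X38]) (nat_lit 56) (nat_lit 14) = true := by decide +kernel
theorem wk19_5 : allR (OT.ckEqW [X18, X16, X18, X0, X18, X1] [X38]) (nat_lit 70) (nat_lit 14) = true := by decide +kernel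
theorem wk19_6 : allR (OT.ckEqW [X18, X16, X18, X0, X18, X1] [X38]) (nat_lit 84) (nat_lit 14) = true := by decide +kernel
theorem wk0_0 : allR (OT.ckEqW [T0, T1, T2, T0, T2, T1, T2] [X0]) (nat_lit 0) (nat_lit 12) = true := by decide +kernel
theorem wk0_1 : allR (OT.ckEqW [T0, T1, T2, T0, T2, T1, T2] [X0]) (nat_lit 12) (nat_lit 12) = true := by decide +kernel
theorem wk0_2 : allR (OT.ckEqW [T0, T1, T2, T0, T2, T1, T2] [X0]) (nat_lit 24) (nat_lit 12) = true := by decide +kernel
theorem wk0_3 : allR (OT.ckEqW [T0, T1, T2, T0, T2, T1, T2] [X0]) (nat_lit 36) (nat_lit 12) = true := by decide +kernel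
theorem wk0_4 : allR (OT.ckEqW [T0, T1, T2, T0, T2, T1, T2] [X0]) (nat_lit 48) (nat_lit 12) = true := by decide +kernel
theorem wk0_5 : allR (OT.ckEqW [T0, T1, T2, T0, T2, T1, T2] [X0]) (nat_lit 60) (nat_lit 12) = true := by decide +kernel
theorem wk0_6 : allR (OT.ckEqW [T0, T1, T2, T0, T2, T1, T2] [X0]) (nat_lit 72) (nat_lit 12) = true := by decide +kernel
theorem wk0_7 : allR (OT.ckEqW [T0, T1, T2, T0, T2, T1, T2] [X0]) (nat_lit 84) (nat_lit 12) = true := by decide +kernel
theorem wk2_0 : allR (OT.ckEqW [T2, X1, T2, T0, T2] [X4]) (nat_lit 0) (nat_lit 16) = true := by decide +kernel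
theorem wk2_1 : allR (OT.ckEqW [T2, X1, T2, T0, T2] [X4]) (nat_lit 16) (nat_lit 16) = true := by decide +kernel
theorem wk2_2 : allR (OT.ckEqW [T2, X1, T2, T0, T2] [X4]) (nat_lit 32) (nat_lit 16) = true := by decide +kernel
theorem wk2_3 : allR (OT.ckEqW [T2, X1, T2, T0, T2] [X4]) (nat_lit 48) (nat_lit 16) = true := by decide +kernel
theorem wk2_4 : allR (OT.ckEqW [T2, X1, T2, T0, T2] [X4]) (nat_lit 64) (nat_lit 16) = true := by decide +kernel
theorem wk2_5 : allR (OT.ckEqW [T2, X1, T2, T0, T2] [X4]) (nat_lit 80) (nat_lit 16) = true := by decide +kernel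
theorem wk3_0 : allR (OT.ckEqW [X5, X2, X5, X2, X2] [X6]) (nat_lit 0) (nat_lit 16) = true := by decide +kernel
theorem wk3_1 : allR (OT.ckEqW [X5, X2, X5, X2, X2] [X6]) (nat_lit 16) (nat_lit 16) = true := by decide +kernel
theorem wk3_2 : allR (OT.ckEqW [X5, X2, X5, X2, X2] [X6]) (nat_lit 32) (nat_lit 16) = true := by decide +kernel
theorem wk3_3 : allR (OT.ckEqW [X5, X2, X5, X2, X2] [X6]) (nat_lit 48) (nat_lit 16) = true := by decide +kernel
theorem wk3_4 : allR (OT.ckEqW [X5, X2, X5, X2, X2] [X6]) (nat_lit 64) (nat_lit 16) = true := by decide +kernel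
theorem wk3_5 : allR (OT.ckEqW [X5, X2, X5, X2, X2] [X6]) (nat_lit 80) (nat_lit 16) = true := by decide +kernel
theorem wk5_0 : allR (OT.ckEqW [X6, X9, X7, X7, X9, X7, X9, X6, X9, X6, X6] [X10]) (nat_lit 0) (nat_lit 8) = true := by decide +kernel
theorem wk5_1 : allR (OT.ckEqW [X6, X9, X7, X7, X9, X7, X9, X6, X9, X6, X6] [X10]) (nat_lit 8) (nat_lit 8) = true := by decide +kernel
theorem wk5_2 : allR (OT.ckEqW [X6, X9, X7, X7, X9, X7, X9, X6, X9, X6, X6] [X10]) (nat_lit 16) (nat_lit 8) = true := by decide +kernel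
theorem wk5_3 : allR (OT.ckEqW [X6, X9, X7, X7, X9, X7, X9, X6, X9, X6, X6] [X10]) (nat_lit 24) (nat_lit 8) = true := by decide +kernel
theorem wk5_4 : allR (OT.ckEqW [X6, X9, X7, X7, X9, X7, X9, X6, X9, X6, X6] [X10]) (nat_lit 32) (nat_lit 8) = true := by decide +kernel
theorem wk5_5 : allR (OT.ckEqW [X6, X9, X7, X7, X9, X7, X9, X6, X9, X6, X6] [X10]) (nat_lit 40) (nat_lit 8) = true := by decide +kernel
theorem wk5_6 : allR (OT.ckEqW [X6, X9, X7, X7, X9, X7, X9, X6, X9, X6, X6] [X10]) (nat_lit 48) (nat_lit 8) = true := by decide +kernel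
theorem wk5_7 : allR (OT.ckEqW [X6, X9, X7, X7, X9, X7, X9, X6, X9, X6, X6] [X10]) (nat_lit 56) (nat_lit 8) = true := by decide +kernel
theorem wk5_8 : allR (OT.ckEqW [X6, X9, X7, X7, X9, X7, X9, X6, X9, X6, X6] [X10]) (nat_lit 64) (nat_lit 8) = true := by decide +kernel
theorem wk5_9 : allR (OT.ckEqW [X6, X9, X7, X7, X9, X7, X9, X6, X9, X6, X6] [X10]) (nat_lit 72) (nat_lit 8) = true := by decide +kernel
theorem wk5_10 : allR (OT.ckEqW [X6, X9, X7, X7, X9, X7, X9, X6, X9, X6, X6] [X10]) (nat_lit 80) (nat_lit 8) = true := by decide +kernel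
theorem wk5_11 : allR (OT.ckEqW [X6, X9, X7, X7, X9, X7, X9, X6, X9, X6, X6] [X10]) (nat_lit 88) (nat_lit 8) = true := by decide +kernel
theorem wk9_0 : allR (OT.ckEqW [X12, X10, X6, X9, X6, X8, X3, X5, X3, X4, X1, T0, X1, T1, X1] [X18]) (nat_lit 0) (nat_lit 6) = true := by decide +kernel
theorem wk9_1 : allR (OT.ckEqW [X12, X10, X6, X9, X6, X8, X3, X5, X3, X4, X1, T0, X1, T1, X1] [X18]) (nat_lit 6) (nat_lit 6) = true := by decide +kernel
theorem wk9_2 : allR (OT.ckEqW [X12, X10, X6, X9, X6, X8, X3, X5, X3, X4, X1, T0, X1, T1, X1] [X18]) (nat_lit 12) (nat_lit 6) = true := by decide +kernel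
theorem wk9_3 : allR (OT.ckEqW [X12, X10, X6, X9, X6, X8, X3, X5, X3, X4, X1, T0, X1, T1, X1] [X18]) (nat_lit 18) (nat_lit 6) = true := by decide +kernel
theorem wk9_4 : allR (OT.ckEqW [X12, X10, X6, X9, X6, X8, X3, X5, X3, X4, X1, T0, X1, T1, X1] [X18]) (nat_lit 24) (nat_lit 6) = true := by decide +kernel
theorem wk9_5 : allR (OT.ckEqW [X12, X10, X6, X9, X6, X8, X3, X5, X3, X4, X1, T0, X1, T1, X1] [X18]) (nat_lit 30) (nat_lit 6) = true := by decide +kernel
theorem wk9_6 : allR (OT.ckEqW [X12, X10, X6, X9, X6, X8, X3, X5, X3, X4, X1, T0, X1, T1, X1] [X18]) (nat_lit 36) (nat_lit 6) = true := by decide +kernel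
theorem wk9_7 : allR (OT.ckEqW [X12, X10, X6, X9, X6, X8, X3, X5, X3, X4, X1, T0, X1, T1, X1] [X18]) (nat_lit 42) (nat_lit 6) = true := by decide +kernel
theorem wk9_8 : allR (OT.ckEqW [X12, X10, X6, X9, X6, X8, X3, X5, X3, X4, X1, T0, X1, T1, X1] [X18]) (nat_lit 48) (nat_lit 6) = true := by decide +kernel
theorem wk9_9 : allR (OT.ckEqW [X12, X10, X6, X9, X6, X8, X3, X5, X3, X4, X1, T0, X1, T1, X1] [X18]) (nat_lit 54) (nat_lit 6) = true := by decide +kernel
theorem wk9_10 : allR (OT.ckEqW [X12, X10, X6, X9, X6, X8, X3, X5, X3, X4, X1, T0, X1, T1, X1] [X18]) (nat_lit 60) (nat_lit 6) = true := by decide +kernel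
theorem wk9_11 : allR (OT.ckEqW [X12, X10, X6, X9, X6, X8, X3, X5, X3, X4, X1, T0, X1, T1, X1] [X18]) (nat_lit 66) (nat_lit 6) = true := by decide +kernel
theorem wk9_12 : allR (OT.ckEqW [X12, X10, X6, X9, X6, X8, X3, X5, X3, X4, X1, T0, X1, T1, X1] [X18]) (nat_lit 72) (nat_lit 6) = true := by decide +kernel
theorem wk9_13 : allR (OT.ckEqW [X12, X10, X6, X9, X6, X8, X3, X5, X3, X4, X1, T0, X1, T1, X1] [X18]) (nat_lit 78) (nat_lit 6) = true := by decide +kernel
theorem wk9_14 : allR (OT.ckEqW [X12, X10, X6, X9, X6, X8, X3, X5, X3, X4, X1, T0, X1, T1, X1] [X18]) (nat_lit 84) (nat_lit 6) = true := by decide +kernel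
theorem wk9_15 : allR (OT.ckEqW [X12, X10, X6, X9, X6, X8, X3, X5, X3, X4, X1, T0, X1, T1, X1] [X18]) (nat_lit 90) (nat_lit 6) = true := by decide +kernel
theorem wk15_0 : allR (OT.ckEqW [X26, X29, X27, X27, X28, X26, X28] [X30]) (nat_lit 0) (nat_lit 12) = true := by decide +kernel
theorem wk15_1 : allR (OT.ckEqW [X26, X29, X27, X27, X28, X26, X28] [X30]) (nat_lit 12) (nat_lit 12) = true := by decide +kernel
theorem wk15_2 : allR (OT.ckEqW [X26, X29, X27, X27, X28, X26, X28] [X30]) (nat_lit 24) (nat_lit 12) = true := by decide +kernel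
theorem wk15_3 : allR (OT.ckEqW [X26, X29, X27, X27, X28, X26, X28] [X30]) (nat_lit 36) (nat_lit 12) = true := by decide +kernel
theorem wk15_4 : allR (OT.ckEqW [X26, X29, X27, X27, X28, X26, X28] [X30]) (nat_lit 48) (nat_lit 12) = true := by decide +kernel
theorem wk15_5 : allR (OT.ckEqW [X26, X29, X27, X27, X28, X26, X28] [X30]) (nat_lit 60) (nat_lit 12) = true := by decide +kernel
theorem wk15_6 : allR (OT.ckEqW [X26, X29, X27, X27, X28, X26, X28] [X30]) (nat_lit 72) (nat_lit 12) = true := by decide +kernel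
theorem wk15_7 : allR (OT.ckEqW [X26, X29, X27, X27, X28, X26, X28] [X30]) (nat_lit 84) (nat_lit 12) = true := by decide +kernel
theorem wk20_0 : allR (OT.ckEqW [X37, X38, X37, X38, X36, X36, X38] [X40]) (nat_lit 0) (nat_lit 12) = true := by decide +kernel
theorem wk20_1 : allR (OT.ckEqW [X37, X38, X37, X38, X36, X36, X38] [X40]) (nat_lit 12) (nat_lit 12) = true := by decide +kernel
theorem wk20_2 : allR (OT.ckEqW [X37, X38, X37, X38, X36, X36, X38] [X40]) (nat_lit 24) (nat_lit 12) = true := by decide +kernel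
theorem wk20_3 : allR (OT.ckEqW [X37, X38, X37, X38, X36, X36, X38] [X40]) (nat_lit 36) (nat_lit 12) = true := by decide +kernel
theorem wk20_4 : allR (OT.ckEqW [X37, X38, X37, X38, X36, X36, X38] [X40]) (nat_lit 48) (nat_lit 12) = true := by decide +kernel
theorem wk20_5 : allR (OT.ckEqW [X37, X38, X37, X38, X36, X36, X38] [X40]) (nat_lit 60) (nat_lit 12) = true := by decide +kernel
theorem wk20_6 : allR (OT.ckEqW [X37, X38, X37, X38, X36, X36, X38] [X40]) (nat_lit 72) (nat_lit 12) = true := by decide +kernel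
theorem wk20_7 : allR (OT.ckEqW [X37, X38, X37, X38, X36, X36, X38] [X40]) (nat_lit 84) (nat_lit 12) = true := by decide +kernel
theorem wk22_0 : allR (OT.ckEqW [X42, X41, X43, X43, X40, X43, X41] [X44]) (nat_lit 0) (nat_lit 12) = true := by decide +kernel
theorem wk22_1 : allR (OT.ckEqW [X42, X41, X43, X43, X40, X43, X41] [X44]) (nat_lit 12) (nat_lit 12) = true := by decide +kernel
theorem wk22_2 : allR (OT.ckEqW [X42, X41, X43, X43, X40, X43, X41] [X44]) (nat_lit 24) (nat_lit 12) = true := by decide +kernel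
theorem wk22_3 : allR (OT.ckEqW [X42, X41, X43, X43, X40, X43, X41] [X44]) (nat_lit 36) (nat_lit 12) = true := by decide +kernel
theorem wk22_4 : allR (OT.ckEqW [X42, X41, X43, X43, X40, X43, X41] [X44]) (nat_lit 48) (nat_lit 12) = true := by decide +kernel
theorem wk22_5 : allR (OT.ckEqW [X42, X41, X43, X43, X40, X43, X41] [X44]) (nat_lit 60) (nat_lit 12) = true := by decide +kernel
theorem wk22_6 : allR (OT.ckEqW [X42, X41, X43, X43, X40, X43, X41] [X44]) (nat_lit 72) (nat_lit 12) = true := by decide +kernel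
theorem wk22_7 : allR (OT.ckEqW [X42, X41, X43, X43, X40, X43, X41] [X44]) (nat_lit 84) (nat_lit 12) = true := by decide +kernel
theorem wk23_0 : allR (OT.ckEqW [X41, X43, X43, X40, X40] [X46]) (nat_lit 0) (nat_lit 16) = true := by decide +kernel
theorem wk23_1 : allR (OT.ckEqW [X41, X43, X43, X40, X40] [X46]) (nat_lit 16) (nat_lit 16) = true := by decide +kernel
theorem wk23_2 : allR (OT.ckEqW [X41, X43, X43, X40, X40] [X46]) (nat_lit 32) (nat_lit 16) = true := by decide +kernel
theorem wk23_3 : allR (OT.ckEqW [X41, X43, X43, X40, X40] [X46]) (nat_lit 48) (nat_lit 16) = true := by decide +kernel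
theorem wk23_4 : allR (OT.ckEqW [X41, X43, X43, X40, X40] [X46]) (nat_lit 64) (nat_lit 16) = true := by decide +kernel
theorem wk23_5 : allR (OT.ckEqW [X41, X43, X43, X40, X40] [X46]) (nat_lit 80) (nat_lit 16) = true := by decide +kernel
theorem wk8_0 : allR (OT.ckEqW [X13, X11, X13, X6, X9, X9, X2, X5, X5, T0, X1, X1] [X16]) (nat_lit 0) (nat_lit 7) = true := by decide +kernel
theorem wk8_1 : allR (OT.ckEqW [X13, X11, X13, X6, X9, X9, X2, X5, X5, T0, X1, X1] [X16]) (nat_lit 7) (nat_lit 7) = true := by decide +kernel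
theorem wk8_2 : allR (OT.ckEqW [X13, X11, X13, X6, X9, X9, X2, X5, X5, T0, X1, X1] [X16]) (nat_lit 14) (nat_lit 7) = true := by decide +kernel
theorem wk8_3 : allR (OT.ckEqW [X13, X11, X13, X6, X9, X9, X2, X5, X5, T0, X1, X1] [X16]) (nat_lit 21) (nat_lit 7) = true := by decide +kernel
theorem wk8_4 : allR (OT.ckEqW [X13, X11, X13, X6, X9, X9, X2, X5, X5, T0, X1, X1] [X16]) (nat_lit 28) (nat_lit 7) = true := by decide +kernel
theorem wk8_5 : allR (OT.ckEqW [X13, X11, X13, X6, X9, X9, X2, X5, X5, T0, X1, X1] [X16]) (nat_lit 35) (nat_lit 7) = true := by decide +kernel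
theorem wk8_6 : allR (OT.ckEqW [X13, X11, X13, X6, X9, X9, X2, X5, X5, T0, X1, X1] [X16]) (nat_lit 42) (nat_lit 7) = true := by decide +kernel
theorem wk8_7 : allR (OT.ckEqW [X13, X11, X13, X6, X9, X9, X2, X5, X5, T0, X1, X1] [X16]) (nat_lit 49) (nat_lit 7) = true := by decide +kernel
theorem wk8_8 : allR (OT.ckEqW [X13, X11, X13, X6, X9, X9, X2, X5, X5, T0, X1, X1] [X16]) (nat_lit 56) (nat_lit 7) = true := by decide +kernel
theorem wk8_9 : allR (OT.ckEqW [X13, X11, X13, X6, X9, X9, X2, X5, X5, T0, X1, X1] [X16]) (nat_lit 63) (nat_lit 7) = true := by decide +kernel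
theorem wk8_10 : allR (OT.ckEqW [X13, X11, X13, X6, X9, X9, X2, X5, X5, T0, X1, X1] [X16]) (nat_lit 70) (nat_lit 7) = true := by decide +kernel
theorem wk8_11 : allR (OT.ckEqW [X13, X11, X13, X6, X9, X9, X2, X5, X5, T0, X1, X1] [X16]) (nat_lit 77) (nat_lit 7) = true := by decide +kernel
theorem wk8_12 : allR (OT.ckEqW [X13, X11, X13, X6, X9, X9, X2, X5, X5, T0, X1, X1] [X16]) (nat_lit 84) (nat_lit 7) = true := by decide +kernel
theorem wk8_13 : allR (OT.ckEqW [X13, X11, X13, X6, X9, X9, X2, X5, X5, T0, X1, X1] [X16]) (nat_lit 91) (nat_lit 7) = true := by decide +kernel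
theorem wk9_16 : allR (OT.ckEqW [X12, X10, X6, X9, X6, X8, X3, X5, X3, X4, X1, T0, X1, T1, X1] [X18]) (nat_lit 96) (nat_lit 4) = true := by decide +kernel
theorem wk5_12 : allR (OT.ckEqW [X6, X9, X7, X7, X9, X7, X9, X6, X9, X6, X6] [X10]) (nat_lit 96) (nat_lit 4) = true := by decide +kernel
theorem wk0_8 : allR (OT.ckEqW [T0, T1, T2, T0, T2, T1, T2] [X0]) (nat_lit 96) (nat_lit 4) = true := by decide +kernel
theorem wk15_8 : allR (OT.ckEqW [X26, X29, X27, X27, X28, X26, X28] [X30]) (nat_lit 96) (nat_lit 4) = true := by decide +kernel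
theorem wk20_8 : allR (OT.ckEqW [X37, X38, X37, X38, X36, X36, X38] [X40]) (nat_lit 96) (nat_lit 4) = true := by decide +kernel
theorem wk22_8 : allR (OT.ckEqW [X42, X41, X43, X43, X40, X43, X41] [X44]) (nat_lit 96) (nat_lit 4) = true := by decide +kernel
theorem wk8_14 : allR (OT.ckEqW [X13, X11, X13, X6, X9, X9, X2, X5, X5, T0, X1, X1] [X16]) (nat_lit 98) (nat_lit 2) = true := by decide +kernel
theorem wk2_6 : allR (OT.ckEqW [T2, X1, T2, T0, T2] [X4]) (nat_lit 96) (nat_lit 4) = true := by decide +kernel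
theorem wk3_6 : allR (OT.ckEqW [X5, X2, X5, X2, X2] [X6]) (nat_lit 96) (nat_lit 4) = true := by decide +kernel
theorem wk23_6 : allR (OT.ckEqW [X41, X43, X43, X40, X40] [X46]) (nat_lit 96) (nat_lit 4) = true := by decide +kernel
theorem wk1_7 : allR (OT.ckEqW [X1, T0, T2, X0, X0, X0] [X2]) (nat_lit 98) (nat_lit 2) = true := by decide +kernel
theorem wk4_7 : allR (OT.ckEqW [X5, X2, X4, X4, X4, X4] [X8]) (nat_lit 98) (nat_lit 2) = true := by decide +kernel
theorem wk6_7 : allR (OT.ckEqW [X8, X6, X9, X7, X9, X9] [X12]) (nat_lit 98) (nat_lit 2) = true := by decide +kernel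
theorem wk19_7 : allR (OT.ckEqW [X18, X16, X18, X0, X18, X1] [X38]) (nat_lit 98) (nat_lit 2) = true := by decide +kernel
theorem wk16_9 : allR (OT.ckEqW [X29, X29, X29, X27, X27, X27, X29, X27] [X32]) (nat_lit 99) (nat_lit 1) = true := by decide +kernel

end Cfsg.Agent.H8.HSO
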