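import Cfsg.Agent.H8.T.HSOa

set_option Elab.async false
set_option autoImplicit false
set_option linter.all false
set_option maxRecDepth 100000
set_option maxHeartbeats 400000

namespace Cfsg.Agent.H8.HSO
open Cfsg.Agent.H8.LtH (T0 T1 T2)

noncomputable def xQ0c0 : Nat := nat_lit 0x43458a589162d588c31d1a9122c0690e131a1560b0a8d60c48906032c9068b3ab01a356349834a1462e58942ac58b461c44506a55808e1c54101a50a14b2c082d2044a6c88418b162354955ac4a5428508ac2ad16b47242
noncomputable def xQ0 : Nat → Nat := (fun i => Nat.land (Nat.shiftRight xQ0c0 (Nat.mul (nat_lit 7) (Nat.land i (nat_lit 255)))) (nat_lit 127))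
theorem xr0 : allR (ckReach xQ0 [[X0], [X1], [X16], [X17], [X18], [X19], [X36], [X37], [X38], [X39], [X40], [X41], [X42], [X43], [X44], [X45], [X46], [X47], [X48], [X49]] (nat_lit 21)) (nat_lit 0) (nat_lit 100) = true := by decide +kernel
theorem xc0 : cntT xQ0 (nat_lit 100) (nat_lit 100) (nat_lit 0) = true := by decide +kernel
def xG0 : List (List Nat) := [[3], [4], [19], [20], [21], [22], [39], [40], [41], [42], [43], [44], [45], [46], [47], [48], [49], [50], [51], [52]]
noncomputable def xQ1c0 : Nat := nat_lit 0x21028d30003080c10c04001069808200000c70e15287458318546120a184030a200041a54b1b2a546040a548033c14280062018620183043a146163c0cc031a104042a08402200011d0a2ca8d300021c2830e050c54d940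
noncomputable def xQ1 : Nat → Nat := (fun i => Nat.land (Nat.shiftRight xQ1c0 (Nat.mul (nat_lit 7) (Nat.land i (nat_lit 255)))) (nat_lit 127))
theorem xr1 : allR (ckReach xQ1 [[X36], [X37], [X38], [X39], [X40], [X41], [X42], [X43], [X44], [X45], [X46], [X47], [X48], [X49]] (nat_lit 99)) (nat_lit 0) (nat_lit 100) = true := by decide +kernel
theorem xc1 : cntT xQ1 (nat_lit 77) (nat_lit 100) (nat_lit 0) = true := by decide +kernel
def xG1 : List (List Nat) := [[39], [40], [41], [42], [43], [44], [45], [46], [47], [48], [49], [50], [51], [52]]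
noncomputable def xQ2c0 : Nat := nat_lit 0x1488520001880854404200c210044000008486841630b14181020206000053a000033a1028d1a106943670c043a302800a0029800144000a1440006000031a2c8032a50c042000218082c8000000002301419c30000000
noncomputable def xQ2 : Nat → Nat := (fun i => Nat.land (Nat.shiftRight xQ2c0 (Nat.mul (nat_lit 7) (Nat.land i (nat_lit 255)))) (nat_lit 127))
theorem xr2 : allR (ckReach xQ2 [[X40], [X41], [X42], [X43], [X44], [X45], [X46], [X47], [X48], [X49]] (nat_lit 97)) (nat_lit 0) (nat_lit 100) = true := by decide +kernel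
theorem xc2 : cntT xQ2 (nat_lit 60) (nat_lit 100) (nat_lit 0) = true := by decide +kernel
def xG2 : List (List Nat) := [[43], [44], [45], [46], [47], [48], [49], [50], [51], [52]]
noncomputable def xQ3c0 : Nat := nat_lit 0xc00400003100014c043000000060000008300000010215100820b20000032a4000224200000800118000cc0008402100000290000cc000a00000064000000000031a04003100000000000000000004300000000000000
noncomputable def xQ3 : Nat → Nat := (fun i => Nat.land (Nat.shiftRight xQ3c0 (Nat.mul (nat_lit 7) (Nat.land i (nat_lit 255)))) (nat_lit 127))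
theorem xr3 : allR (ckReach xQ3 [[X44], [X45], [X46], [X47], [X48], [X49]] (nat_lit 22)) (nat_lit 0) (nat_lit 100) = true := by decide +kernel
theorem xc3 : cntT xQ3 (nat_lit 32) (nat_lit 100) (nat_lit 0) = true := by decide +kernel
def xG3 : List (List Nat) := [[47], [48], [49], [50], [51], [52]]
noncomputable def xQ4c0 : Nat := nat_lit 0x20000000000000000000000000000000010000000000000000000000000000000000000000000000000000000000000000000840000000000000000000000000000000000
noncomputable def xQ4 : Nat → Nat := (fun i => Nat.land (Nat.shiftRight xQ4c0 (Nat.mul (nat_lit 6) (Nat.land i (nat_lit 255)))) (nat_lit 63))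
theorem xr4 : allR (ckReach xQ4 [[X48], [X49]] (nat_lit 68)) (nat_lit 0) (nat_lit 100) = true := by decide +kernel
theorem xc4 : cntT xQ4 (nat_lit 3) (nat_lit 100) (nat_lit 0) = true := by decide +kernel
def xG4 : List (List Nat) := [[51], [52]]
noncomputable def xQ5c0 : Nat := nat_lit 0x1000000000000000000000000000000000000000000000000000000000000000000000000000000000
noncomputable def xQ5 : Nat → Nat := (fun i => Nat.land (Nat.shiftRight xQ5c0 (Nat.mul (nat_lit 5) (Nat.land i (nat_lit 255)))) (nat_lit 31))
theorem xr5 : allR (ckReach xQ5 ([] : List (List (Nat → Nat))) (nat_lit 64)) (nat_lit 0) (nat_lit 100) = true := by decide +kernel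
theorem xc5 : cntT xQ5 (nat_lit 1) (nat_lit 100) (nat_lit 0) = true := by decide +kernel
def xG5 : List (List Nat) := []
noncomputable def xK5 : List Nat → Bool := levF xQ5 ([] : List (List (Nat → Nat))) (nat_lit 64) (fun _ => false) (nat_lit 7)
noncomputable def xK4 : List Nat → Bool := levF xQ4 [[X48], [X49]] (nat_lit 68) xK5 (nat_lit 7)
noncomputable def xK3 : List Nat → Bool := levF xQ3 [[X44], [X45], [X46], [X47], [X48], [X49]] (nat_lit 22) xK4 (nat_lit 7)
noncomputable def xK2 : List Nat → Bool := levF xQ2 [[X40], [X41], [X42], [X43], [X44], [X45], [X46], [X47], [X48], [X49]] (nat_lit 97) xK3 (nat_lit 7)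
noncomputable def xK1 : List Nat → Bool := levF xQ1 [[X36], [X37], [X38], [X39], [X40], [X41], [X42], [X43], [X44], [X45], [X46], [X47], [X48], [X49]] (nat_lit 99) xK2 (nat_lit 7)
noncomputable def xK0 : List Nat → Bool := levF xQ0 [[X0], [X1], [X16], [X17], [X18], [X19], [X36], [X37], [X38], [X39], [X40], [X41], [X42], [X43], [X44], [X45], [X46], [X47], [X48], [X49]] (nat_lit 21) xK1 (nat_lit 7)
theorem xS : allR (OT.ckCand [X0] (nat_lit 6) xK0 [21, 22]) (nat_lit 0) (nat_lit 100) = true := by decide +kernel
theorem xN : allR (OT.ckCand [X0, X0] (nat_lit 6) xK0 []) (nat_lit 0) (nat_lit 100) = true := by decide +kernel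

end Cfsg.Agent.H8.HSO
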