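import Cfsg.Agent.H8.T.HeCa

set_option Elab.async false
set_option autoImplicit false
set_option linter.all false
set_option maxRecDepth 100000
set_option maxHeartbeats 400000

namespace Cfsg.Agent.H8.HeC
open Cfsg.Agent.H8.Het (T0 T1 T2 T3 T4 T5 T6)

theorem pk0_0 : allR (ckPerm (nat_lit 2058) X0 X1) (nat_lit 0) (nat_lit 1029) = true := by decide +kernel
theorem pk0_1 : allR (ckPerm (nat_lit 2058) X0 X1) (nat_lit 1029) (nat_lit 1029) = true := by decide +kernel
theorem pk1_0 : allR (ckPerm (nat_lit 2058) X1 X0) (nat_lit 0) (nat_lit 1029) = true := by decide +kernel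
theorem pk1_1 : allR (ckPerm (nat_lit 2058) X1 X0) (nat_lit 1029) (nat_lit 1029) = true := by decide +kernel
theorem pk2_0 : allR (ckPerm (nat_lit 2058) X2 X3) (nat_lit 0) (nat_lit 1029) = true := by decide +kernel
theorem pk2_1 : allR (ckPerm (nat_lit 2058) X2 X3) (nat_lit 1029) (nat_lit 1029) = true := by decide +kernel
theorem pk3_0 : allR (ckPerm (nat_lit 2058) X3 X2) (nat_lit 0) (nat_lit 1029) = true := by decide +kernel
theorem pk3_1 : allR (ckPerm (nat_lit 2058) X3 X2) (nat_lit 1029) (nat_lit 1029) = true := by decide +kernel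
theorem pk4_0 : allR (ckPerm (nat_lit 2058) X4 X5) (nat_lit 0) (nat_lit 1029) = true := by decide +kernel
theorem pk4_1 : allR (ckPerm (nat_lit 2058) X4 X5) (nat_lit 1029) (nat_lit 1029) = true := by decide +kernel
theorem pk5_0 : allR (ckPerm (nat_lit 2058) X5 X4) (nat_lit 0) (nat_lit 1029) = true := by decide +kernel
theorem pk5_1 : allR (ckPerm (nat_lit 2058) X5 X4) (nat_lit 1029) (nat_lit 1029) = true := by decide +kernel
theorem pk6_0 : allR (ckPerm (nat_lit 2058) X6 X7) (nat_lit 0) (nat_lit 1029) = true := by decide +kernel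
theorem pk6_1 : allR (ckPerm (nat_lit 2058) X6 X7) (nat_lit 1029) (nat_lit 1029) = true := by decide +kernel
theorem pk7_0 : allR (ckPerm (nat_lit 2058) X7 X6) (nat_lit 0) (nat_lit 1029) = true := by decide +kernel
theorem pk7_1 : allR (ckPerm (nat_lit 2058) X7 X6) (nat_lit 1029) (nat_lit 1029) = true := by decide +kernel
theorem pk8_0 : allR (ckPerm (nat_lit 2058) X8 X9) (nat_lit 0) (nat_lit 1029) = true := by decide +kernel
theorem pk8_1 : allR (ckPerm (nat_lit 2058) X8 X9) (nat_lit 1029) (nat_lit 1029) = true := by decide +kernel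
theorem pk9_0 : allR (ckPerm (nat_lit 2058) X9 X8) (nat_lit 0) (nat_lit 1029) = true := by decide +kernel
theorem pk9_1 : allR (ckPerm (nat_lit 2058) X9 X8) (nat_lit 1029) (nat_lit 1029) = true := by decide +kernel
theorem pk10_0 : allR (ckPerm (nat_lit 2058) X10 X11) (nat_lit 0) (nat_lit 1029) = true := by decide +kernel
theorem pk10_1 : allR (ckPerm (nat_lit 2058) X10 X11) (nat_lit 1029) (nat_lit 1029) = true := by decide +kernel
theorem pk11_0 : allR (ckPerm (nat_lit 2058) X11 X10) (nat_lit 0) (nat_lit 1029) = true := by decide +kernel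
theorem pk11_1 : allR (ckPerm (nat_lit 2058) X11 X10) (nat_lit 1029) (nat_lit 1029) = true := by decide +kernel
theorem pk12_0 : allR (ckPerm (nat_lit 2058) X12 X13) (nat_lit 0) (nat_lit 1029) = true := by decide +kernel
theorem pk12_1 : allR (ckPerm (nat_lit 2058) X12 X13) (nat_lit 1029) (nat_lit 1029) = true := by decide +kernel
theorem pk13_0 : allR (ckPerm (nat_lit 2058) X13 X12) (nat_lit 0) (nat_lit 1029) = true := by decide +kernel
theorem pk13_1 : allR (ckPerm (nat_lit 2058) X13 X12) (nat_lit 1029) (nat_lit 1029) = true := by decide +kernel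
theorem pk14_0 : allR (ckPerm (nat_lit 2058) X14 X15) (nat_lit 0) (nat_lit 1029) = true := by decide +kernel
theorem pk14_1 : allR (ckPerm (nat_lit 2058) X14 X15) (nat_lit 1029) (nat_lit 1029) = true := by decide +kernel
theorem pk15_0 : allR (ckPerm (nat_lit 2058) X15 X14) (nat_lit 0) (nat_lit 1029) = true := by decide +kernel
theorem pk15_1 : allR (ckPerm (nat_lit 2058) X15 X14) (nat_lit 1029) (nat_lit 1029) = true := by decide +kernel
theorem pk16_0 : allR (ckPerm (nat_lit 2058) X16 X17) (nat_lit 0) (nat_lit 1029) = true := by decide +kernel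
theorem pk16_1 : allR (ckPerm (nat_lit 2058) X16 X17) (nat_lit 1029) (nat_lit 1029) = true := by decide +kernel
theorem pk17_0 : allR (ckPerm (nat_lit 2058) X17 X16) (nat_lit 0) (nat_lit 1029) = true := by decide +kernel
theorem pk17_1 : allR (ckPerm (nat_lit 2058) X17 X16) (nat_lit 1029) (nat_lit 1029) = true := by decide +kernel
theorem pk18_0 : allR (ckPerm (nat_lit 2058) X18 X19) (nat_lit 0) (nat_lit 1029) = true := by decide +kernel
theorem pk18_1 : allR (ckPerm (nat_lit 2058) X18 X19) (nat_lit 1029) (nat_lit 1029) = true := by decide +kernel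
theorem pk19_0 : allR (ckPerm (nat_lit 2058) X19 X18) (nat_lit 0) (nat_lit 1029) = true := by decide +kernel
theorem pk19_1 : allR (ckPerm (nat_lit 2058) X19 X18) (nat_lit 1029) (nat_lit 1029) = true := by decide +kernel
theorem pk20_0 : allR (ckPerm (nat_lit 2058) X20 X21) (nat_lit 0) (nat_lit 1029) = true := by decide +kernel
theorem pk20_1 : allR (ckPerm (nat_lit 2058) X20 X21) (nat_lit 1029) (nat_lit 1029) = true := by decide +kernel
theorem pk21_0 : allR (ckPerm (nat_lit 2058) X21 X20) (nat_lit 0) (nat_lit 1029) = true := by decide +kernel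
theorem pk21_1 : allR (ckPerm (nat_lit 2058) X21 X20) (nat_lit 1029) (nat_lit 1029) = true := by decide +kernel
theorem pk22_0 : allR (ckPerm (nat_lit 2058) X22 X23) (nat_lit 0) (nat_lit 1029) = true := by decide +kernel
theorem pk22_1 : allR (ckPerm (nat_lit 2058) X22 X23) (nat_lit 1029) (nat_lit 1029) = true := by decide +kernel
theorem pk23_0 : allR (ckPerm (nat_lit 2058) X23 X22) (nat_lit 0) (nat_lit 1029) = true := by decide +kernel
theorem pk23_1 : allR (ckPerm (nat_lit 2058) X23 X22) (nat_lit 1029) (nat_lit 1029) = true := by decide +kernel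
theorem pk24_0 : allR (ckPerm (nat_lit 2058) X24 X25) (nat_lit 0) (nat_lit 1029) = true := by decide +kernel
theorem pk24_1 : allR (ckPerm (nat_lit 2058) X24 X25) (nat_lit 1029) (nat_lit 1029) = true := by decide +kernel
theorem pk25_0 : allR (ckPerm (nat_lit 2058) X25 X24) (nat_lit 0) (nat_lit 1029) = true := by decide +kernel
theorem pk25_1 : allR (ckPerm (nat_lit 2058) X25 X24) (nat_lit 1029) (nat_lit 1029) = true := by decide +kernel
theorem pk26_0 : allR (ckPerm (nat_lit 2058) X26 X27) (nat_lit 0) (nat_lit 1029) = true := by decide +kernel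
theorem pk26_1 : allR (ckPerm (nat_lit 2058) X26 X27) (nat_lit 1029) (nat_lit 1029) = true := by decide +kernel
theorem pk27_0 : allR (ckPerm (nat_lit 2058) X27 X26) (nat_lit 0) (nat_lit 1029) = true := by decide +kernel
theorem pk27_1 : allR (ckPerm (nat_lit 2058) X27 X26) (nat_lit 1029) (nat_lit 1029) = true := by decide +kernel
theorem pk28_0 : allR (ckPerm (nat_lit 2058) X28 X29) (nat_lit 0) (nat_lit 1029) = true := by decide +kernel
theorem pk28_1 : allR (ckPerm (nat_lit 2058) X28 X29) (nat_lit 1029) (nat_lit 1029) = true := by decide +kernel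
theorem pk29_0 : allR (ckPerm (nat_lit 2058) X29 X28) (nat_lit 0) (nat_lit 1029) = true := by decide +kernel
theorem pk29_1 : allR (ckPerm (nat_lit 2058) X29 X28) (nat_lit 1029) (nat_lit 1029) = true := by decide +kernel
theorem pk30_0 : allR (ckPerm (nat_lit 2058) X30 X31) (nat_lit 0) (nat_lit 1029) = true := by decide +kernel
theorem pk30_1 : allR (ckPerm (nat_lit 2058) X30 X31) (nat_lit 1029) (nat_lit 1029) = true := by decide +kernel
theorem pk31_0 : allR (ckPerm (nat_lit 2058) X31 X30) (nat_lit 0) (nat_lit 1029) = true := by decide +kernel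
theorem pk31_1 : allR (ckPerm (nat_lit 2058) X31 X30) (nat_lit 1029) (nat_lit 1029) = true := by decide +kernel
theorem pk32_0 : allR (ckPerm (nat_lit 2058) X32 X33) (nat_lit 0) (nat_lit 1029) = true := by decide +kernel
theorem pk32_1 : allR (ckPerm (nat_lit 2058) X32 X33) (nat_lit 1029) (nat_lit 1029) = true := by decide +kernel
theorem pk33_0 : allR (ckPerm (nat_lit 2058) X33 X32) (nat_lit 0) (nat_lit 1029) = true := by decide +kernel
theorem pk33_1 : allR (ckPerm (nat_lit 2058) X33 X32) (nat_lit 1029) (nat_lit 1029) = true := by decide +kernel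
theorem wk3_0 : allR (OT.ckEqW [T1, T2, T1, T3, T0, T1, T2, T3, T2, T1, T6, T3, T5, T1, T2, T3, T1, T2, T0, T1] [X6]) (nat_lit 0) (nat_lit 98) = true := by decide +kernel
theorem wk3_1 : allR (OT.ckEqW [T1, T2, T1, T3, T0, T1, T2, T3, T2, T1, T6, T3, T5, T1, T2, T3, T1, T2, T0, T1] [X6]) (nat_lit 98) (nat_lit 98) = true := by decide +kernel
theorem wk3_2 : allR (OT.ckEqW [T1, T2, T1, T3, T0, T1, T2, T3, T2, T1, T6, T3, T5, T1, T2, T3, T1, T2, T0, T1] [X6]) (nat_lit 196) (nat_lit 98) = true := by decide +kernel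
theorem wk3_3 : allR (OT.ckEqW [T1, T2, T1, T3, T0, T1, T2, T3, T2, T1, T6, T3, T5, T1, T2, T3, T1, T2, T0, T1] [X6]) (nat_lit 294) (nat_lit 98) = true := by decide +kernel
theorem wk3_4 : allR (OT.ckEqW [T1, T2, T1, T3, T0, T1, T2, T3, T2, T1, T6, T3, T5, T1, T2, T3, T1, T2, T0, T1] [X6]) (nat_lit 392) (nat_lit 98) = true := by decide +kernel
theorem wk3_5 : allR (OT.ckEqW [T1, T2, T1, T3, T0, T1, T2, T3, T2, T1, T6, T3, T5, T1, T2, T3, T1, T2, T0, T1] [X6]) (nat_lit 490) (nat_lit 98) = true := by decide +kernel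
theorem wk3_6 : allR (OT.ckEqW [T1, T2, T1, T3, T0, T1, T2, T3, T2, T1, T6, T3, T5, T1, T2, T3, T1, T2, T0, T1] [X6]) (nat_lit 588) (nat_lit 98) = true := by decide +kernel
theorem wk3_7 : allR (OT.ckEqW [T1, T2, T1, T3, T0, T1, T2, T3, T2, T1, T6, T3, T5, T1, T2, T3, T1, T2, T0, T1] [X6]) (nat_lit 686) (nat_lit 98) = true := by decide +kernel
theorem wk3_8 : allR (OT.ckEqW [T1, T2, T1, T3, T0, T1, T2, T3, T2, T1, T6, T3, T5, T1, T2, T3, T1, T2, T0, T1] [X6]) (nat_lit 784) (nat_lit 98) = true := by decide +kernel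
theorem wk3_9 : allR (OT.ckEqW [T1, T2, T1, T3, T0, T1, T2, T3, T2, T1, T6, T3, T5, T1, T2, T3, T1, T2, T0, T1] [X6]) (nat_lit 882) (nat_lit 98) = true := by decide +kernel
theorem wk3_10 : allR (OT.ckEqW [T1, T2, T1, T3, T0, T1, T2, T3, T2, T1, T6, T3, T5, T1, T2, T3, T1, T2, T0, T1] [X6]) (nat_lit 980) (nat_lit 98) = true := by decide +kernel
theorem wk3_11 : allR (OT.ckEqW [T1, T2, T1, T3, T0, T1, T2, T3, T2, T1, T6, T3, T5, T1, T2, T3, T1, T2, T0, T1] [X6]) (nat_lit 1078) (nat_lit 98) = true := by decide +kernel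
theorem wk3_12 : allR (OT.ckEqW [T1, T2, T1, T3, T0, T1, T2, T3, T2, T1, T6, T3, T5, T1, T2, T3, T1, T2, T0, T1] [X6]) (nat_lit 1176) (nat_lit 98) = true := by decide +kernel
theorem wk3_13 : allR (OT.ckEqW [T1, T2, T1, T3, T0, T1, T2, T3, T2, T1, T6, T3, T5, T1, T2, T3, T1, T2, T0, T1] [X6]) (nat_lit 1274) (nat_lit 98) = true := by decide +kernel
theorem wk3_14 : allR (OT.ckEqW [T1, T2, T1, T3, T0, T1, T2, T3, T2, T1, T6, T3, T5, T1, T2, T3, T1, T2, T0, T1] [X6]) (nat_lit 1372) (nat_lit 98) = true := by decide +kernel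
theorem wk3_15 : allR (OT.ckEqW [T1, T2, T1, T3, T0, T1, T2, T3, T2, T1, T6, T3, T5, T1, T2, T3, T1, T2, T0, T1] [X6]) (nat_lit 1470) (nat_lit 98) = true := by decide +kernel
theorem wk3_16 : allR (OT.ckEqW [T1, T2, T1, T3, T0, T1, T2, T3, T2, T1, T6, T3, T5, T1, T2, T3, T1, T2, T0, T1] [X6]) (nat_lit 1568) (nat_lit 98) = true := by decide +kernel
theorem wk3_17 : allR (OT.ckEqW [T1, T2, T1, T3, T0, T1, T2, T3, T2, T1, T6, T3, T5, T1, T2, T3, T1, T2, T0, T1] [X6]) (nat_lit 1666) (nat_lit 98) = true := by decide +kernel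
theorem wk3_18 : allR (OT.ckEqW [T1, T2, T1, T3, T0, T1, T2, T3, T2, T1, T6, T3, T5, T1, T2, T3, T1, T2, T0, T1] [X6]) (nat_lit 1764) (nat_lit 98) = true := by decide +kernel
theorem wk3_19 : allR (OT.ckEqW [T1, T2, T1, T3, T0, T1, T2, T3, T2, T1, T6, T3, T5, T1, T2, T3, T1, T2, T0, T1] [X6]) (nat_lit 1862) (nat_lit 98) = true := by decide +kernel
theorem wk3_20 : allR (OT.ckEqW [T1, T2, T1, T3, T0, T1, T2, T3, T2, T1, T6, T3, T5, T1, T2, T3, T1, T2, T0, T1] [X6]) (nat_lit 1960) (nat_lit 98) = true := by decide +kernel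
theorem wk7_0 : allR (OT.ckEqW [X8] [X14]) (nat_lit 0) (nat_lit 1029) = true := by decide +kernel
theorem wk7_1 : allR (OT.ckEqW [X8] [X14]) (nat_lit 1029) (nat_lit 1029) = true := by decide +kernel
theorem wk10_0 : allR (OT.ckEqW [X12] [X20]) (nat_lit 0) (nat_lit 1029) = true := by decide +kernel
theorem wk10_1 : allR (OT.ckEqW [X12] [X20]) (nat_lit 1029) (nat_lit 1029) = true := by decide +kernel
theorem wk12_0 : allR (OT.ckEqW [X18] [X24]) (nat_lit 0) (nat_lit 1029) = true := by decide +kernel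
theorem wk12_1 : allR (OT.ckEqW [X18] [X24]) (nat_lit 1029) (nat_lit 1029) = true := by decide +kernel
theorem wk13_0 : allR (OT.ckEqW [X23] [X26]) (nat_lit 0) (nat_lit 1029) = true := by decide +kernel
theorem wk13_1 : allR (OT.ckEqW [X23] [X26]) (nat_lit 1029) (nat_lit 1029) = true := by decide +kernel
theorem wk14_0 : allR (OT.ckEqW [T3] [X28]) (nat_lit 0) (nat_lit 1029) = true := by decide +kernel
theorem wk14_1 : allR (OT.ckEqW [T3] [X28]) (nat_lit 1029) (nat_lit 1029) = true := by decide +kernel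
theorem wk16_0 : allR (OT.ckEqW [X24, X20, X16, X10, X8, X10, X10, X8, X7, X0, X7, X4, X6, X6, T6, T3, T2, T1, T4, T5] [X32]) (nat_lit 0) (nat_lit 98) = true := by decide +kernel
theorem wk16_1 : allR (OT.ckEqW [X24, X20, X16, X10, X8, X10, X10, X8, X7, X0, X7, X4, X6, X6, T6, T3, T2, T1, T4, T5] [X32]) (nat_lit 98) (nat_lit 98) = true := by decide +kernel
theorem wk16_2 : allR (OT.ckEqW [X24, X20, X16, X10, X8, X10, X10, X8, X7, X0, X7, X4, X6, X6, T6, T3, T2, T1, T4, T5] [X32]) (nat_lit 196) (nat_lit 98) = true := by decide +kernel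
theorem wk16_3 : allR (OT.ckEqW [X24, X20, X16, X10, X8, X10, X10, X8, X7, X0, X7, X4, X6, X6, T6, T3, T2, T1, T4, T5] [X32]) (nat_lit 294) (nat_lit 98) = true := by decide +kernel
theorem wk16_4 : allR (OT.ckEqW [X24, X20, X16, X10, X8, X10, X10, X8, X7, X0, X7, X4, X6, X6, T6, T3, T2, T1, T4, T5] [X32]) (nat_lit 392) (nat_lit 98) = true := by decide +kernel
theorem wk16_5 : allR (OT.ckEqW [X24, X20, X16, X10, X8, X10, X10, X8, X7, X0, X7, X4, X6, X6, T6, T3, T2, T1, T4, T5] [X32]) (nat_lit 490) (nat_lit 98) = true := by decide +kernel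
theorem wk16_6 : allR (OT.ckEqW [X24, X20, X16, X10, X8, X10, X10, X8, X7, X0, X7, X4, X6, X6, T6, T3, T2, T1, T4, T5] [X32]) (nat_lit 588) (nat_lit 98) = true := by decide +kernel
theorem wk16_7 : allR (OT.ckEqW [X24, X20, X16, X10, X8, X10, X10, X8, X7, X0, X7, X4, X6, X6, T6, T3, T2, T1, T4, T5] [X32]) (nat_lit 686) (nat_lit 98) = true := by decide +kernel
theorem wk16_8 : allR (OT.ckEqW [X24, X20, X16, X10, X8, X10, X10, X8, X7, X0, X7, X4, X6, X6, T6, T3, T2, T1, T4, T5] [X32]) (nat_lit 784) (nat_lit 98) = true := by decide +kernel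
theorem wk16_9 : allR (OT.ckEqW [X24, X20, X16, X10, X8, X10, X10, X8, X7, X0, X7, X4, X6, X6, T6, T3, T2, T1, T4, T5] [X32]) (nat_lit 882) (nat_lit 98) = true := by decide +kernel
theorem wk16_10 : allR (OT.ckEqW [X24, X20, X16, X10, X8, X10, X10, X8, X7, X0, X7, X4, X6, X6, T6, T3, T2, T1, T4, T5] [X32]) (nat_lit 980) (nat_lit 98) = true := by decide +kernel
theorem wk16_11 : allR (OT.ckEqW [X24, X20, X16, X10, X8, X10, X10, X8, X7, X0, X7, X4, X6, X6, T6, T3, T2, T1, T4, T5] [X32]) (nat_lit 1078) (nat_lit 98) = true := by decide +kernel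
theorem wk16_12 : allR (OT.ckEqW [X24, X20, X16, X10, X8, X10, X10, X8, X7, X0, X7, X4, X6, X6, T6, T3, T2, T1, T4, T5] [X32]) (nat_lit 1176) (nat_lit 98) = true := by decide +kernel
theorem wk16_13 : allR (OT.ckEqW [X24, X20, X16, X10, X8, X10, X10, X8, X7, X0, X7, X4, X6, X6, T6, T3, T2, T1, T4, T5] [X32]) (nat_lit 1274) (nat_lit 98) = true := by decide +kernel
theorem wk16_14 : allR (OT.ckEqW [X24, X20, X16, X10, X8, X10, X10, X8, X7, X0, X7, X4, X6, X6, T6, T3, T2, T1, T4, T5] [X32]) (nat_lit 1372) (nat_lit 98) = true := by decide +kernel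
theorem wk16_15 : allR (OT.ckEqW [X24, X20, X16, X10, X8, X10, X10, X8, X7, X0, X7, X4, X6, X6, T6, T3, T2, T1, T4, T5] [X32]) (nat_lit 1470) (nat_lit 98) = true := by decide +kernel
theorem wk16_16 : allR (OT.ckEqW [X24, X20, X16, X10, X8, X10, X10, X8, X7, X0, X7, X4, X6, X6, T6, T3, T2, T1, T4, T5] [X32]) (nat_lit 1568) (nat_lit 98) = true := by decide +kernel
theorem wk16_17 : allR (OT.ckEqW [X24, X20, X16, X10, X8, X10, X10, X8, X7, X0, X7, X4, X6, X6, T6, T3, T2, T1, T4, T5] [X32]) (nat_lit 1666) (nat_lit 98) = true := by decide +kernel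
theorem wk16_18 : allR (OT.ckEqW [X24, X20, X16, X10, X8, X10, X10, X8, X7, X0, X7, X4, X6, X6, T6, T3, T2, T1, T4, T5] [X32]) (nat_lit 1764) (nat_lit 98) = true := by decide +kernel
theorem wk16_19 : allR (OT.ckEqW [X24, X20, X16, X10, X8, X10, X10, X8, X7, X0, X7, X4, X6, X6, T6, T3, T2, T1, T4, T5] [X32]) (nat_lit 1862) (nat_lit 98) = true := by decide +kernel
theorem wk16_20 : allR (OT.ckEqW [X24, X20, X16, X10, X8, X10, X10, X8, X7, X0, X7, X4, X6, X6, T6, T3, T2, T1, T4, T5] [X32]) (nat_lit 1960) (nat_lit 98) = true := by decide +kernel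
theorem wk5_0 : allR (OT.ckEqW [X1, X4, X6, X0, X7, X7, X5, X1, X1, X7, X7, X7, X5, X1, X5, X1] [X10]) (nat_lit 0) (nat_lit 121) = true := by decide +kernel
theorem wk5_1 : allR (OT.ckEqW [X1, X4, X6, X0, X7, X7, X5, X1, X1, X7, X7, X7, X5, X1, X5, X1] [X10]) (nat_lit 121) (nat_lit 121) = true := by decide +kernel
theorem wk5_2 : allR (OT.ckEqW [X1, X4, X6, X0, X7, X7, X5, X1, X1, X7, X7, X7, X5, X1, X5, X1] [X10]) (nat_lit 242) (nat_lit 121) = true := by decide +kernel
theorem wk5_3 : allR (OT.ckEqW [X1, X4, X6, X0, X7, X7, X5, X1, X1, X7, X7, X7, X5, X1, X5, X1] [X10]) (nat_lit 363) (nat_lit 121) = true := by decide +kernel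
theorem wk5_4 : allR (OT.ckEqW [X1, X4, X6, X0, X7, X7, X5, X1, X1, X7, X7, X7, X5, X1, X5, X1] [X10]) (nat_lit 484) (nat_lit 121) = true := by decide +kernel
theorem wk5_5 : allR (OT.ckEqW [X1, X4, X6, X0, X7, X7, X5, X1, X1, X7, X7, X7, X5, X1, X5, X1] [X10]) (nat_lit 605) (nat_lit 121) = true := by decide +kernel
theorem wk5_6 : allR (OT.ckEqW [X1, X4, X6, X0, X7, X7, X5, X1, X1, X7, X7, X7, X5, X1, X5, X1] [X10]) (nat_lit 726) (nat_lit 121) = true := by decide +kernel
theorem wk5_7 : allR (OT.ckEqW [X1, X4, X6, X0, X7, X7, X5, X1, X1, X7, X7, X7, X5, X1, X5, X1] [X10]) (nat_lit 847) (nat_lit 121) = true := by decide +kernel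
theorem wk5_8 : allR (OT.ckEqW [X1, X4, X6, X0, X7, X7, X5, X1, X1, X7, X7, X7, X5, X1, X5, X1] [X10]) (nat_lit 968) (nat_lit 121) = true := by decide +kernel
theorem wk5_9 : allR (OT.ckEqW [X1, X4, X6, X0, X7, X7, X5, X1, X1, X7, X7, X7, X5, X1, X5, X1] [X10]) (nat_lit 1089) (nat_lit 121) = true := by decide +kernel
theorem wk5_10 : allR (OT.ckEqW [X1, X4, X6, X0, X7, X7, X5, X1, X1, X7, X7, X7, X5, X1, X5, X1] [X10]) (nat_lit 1210) (nat_lit 121) = true := by decide +kernel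
theorem wk5_11 : allR (OT.ckEqW [X1, X4, X6, X0, X7, X7, X5, X1, X1, X7, X7, X7, X5, X1, X5, X1] [X10]) (nat_lit 1331) (nat_lit 121) = true := by decide +kernel
theorem wk5_12 : allR (OT.ckEqW [X1, X4, X6, X0, X7, X7, X5, X1, X1, X7, X7, X7, X5, X1, X5, X1] [X10]) (nat_lit 1452) (nat_lit 121) = true := by decide +kernel
theorem wk5_13 : allR (OT.ckEqW [X1, X4, X6, X0, X7, X7, X5, X1, X1, X7, X7, X7, X5, X1, X5, X1] [X10]) (nat_lit 1573) (nat_lit 121) = true := by decide +kernel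
theorem wk5_14 : allR (OT.ckEqW [X1, X4, X6, X0, X7, X7, X5, X1, X1, X7, X7, X7, X5, X1, X5, X1] [X10]) (nat_lit 1694) (nat_lit 121) = true := by decide +kernel
theorem wk5_15 : allR (OT.ckEqW [X1, X4, X6, X0, X7, X7, X5, X1, X1, X7, X7, X7, X5, X1, X5, X1] [X10]) (nat_lit 1815) (nat_lit 121) = true := by decide +kernel
theorem wk5_16 : allR (OT.ckEqW [X1, X4, X6, X0, X7, X7, X5, X1, X1, X7, X7, X7, X5, X1, X5, X1] [X10]) (nat_lit 1936) (nat_lit 121) = true := by decide +kernel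
theorem wk2_0 : allR (OT.ckEqW [T6, T4, T2] [X4]) (nat_lit 0) (nat_lit 514) = true := by decide +kernel
theorem wk2_1 : allR (OT.ckEqW [T6, T4, T2] [X4]) (nat_lit 514) (nat_lit 514) = true := by decide +kernel
theorem wk2_2 : allR (OT.ckEqW [T6, T4, T2] [X4]) (nat_lit 1028) (nat_lit 514) = true := by decide +kernel
theorem wk2_3 : allR (OT.ckEqW [T6, T4, T2] [X4]) (nat_lit 1542) (nat_lit 514) = true := by decide +kernel
theorem wk9_0 : allR (OT.ckEqW [X15, X17, X17] [X18]) (nat_lit 0) (nat_lit 514) = true := by decide +kernel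
theorem wk9_1 : allR (OT.ckEqW [X15, X17, X17] [X18]) (nat_lit 514) (nat_lit 514) = true := by decide +kernel
theorem wk9_2 : allR (OT.ckEqW [X15, X17, X17] [X18]) (nat_lit 1028) (nat_lit 514) = true := by decide +kernel
theorem wk9_3 : allR (OT.ckEqW [X15, X17, X17] [X18]) (nat_lit 1542) (nat_lit 514) = true := by decide +kernel
theorem wk11_0 : allR (OT.ckEqW [X20, X19, X19, X20] [X22]) (nat_lit 0) (nat_lit 411) = true := by decide +kernel
theorem wk11_1 : allR (OT.ckEqW [X20, X19, X19, X20] [X22]) (nat_lit 411) (nat_lit 411) = true := by decide +kernel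
theorem wk11_2 : allR (OT.ckEqW [X20, X19, X19, X20] [X22]) (nat_lit 822) (nat_lit 411) = true := by decide +kernel
theorem wk11_3 : allR (OT.ckEqW [X20, X19, X19, X20] [X22]) (nat_lit 1233) (nat_lit 411) = true := by decide +kernel
theorem wk11_4 : allR (OT.ckEqW [X20, X19, X19, X20] [X22]) (nat_lit 1644) (nat_lit 411) = true := by decide +kernel
theorem wk0_0 : allR (OT.ckEqW [T4, T0, T1, T4, T6, T1, T5, T0, T6, T1, T0, T1] [X0]) (nat_lit 0) (nat_lit 158) = true := by decide +kernel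
theorem wk0_1 : allR (OT.ckEqW [T4, T0, T1, T4, T6, T1, T5, T0, T6, T1, T0, T1] [X0]) (nat_lit 158) (nat_lit 158) = true := by decide +kernel
theorem wk0_2 : allR (OT.ckEqW [T4, T0, T1, T4, T6, T1, T5, T0, T6, T1, T0, T1] [X0]) (nat_lit 316) (nat_lit 158) = true := by decide +kernel
theorem wk0_3 : allR (OT.ckEqW [T4, T0, T1, T4, T6, T1, T5, T0, T6, T1, T0, T1] [X0]) (nat_lit 474) (nat_lit 158) = true := by decide +kernel
theorem wk0_4 : allR (OT.ckEqW [T4, T0, T1, T4, T6, T1, T5, T0, T6, T1, T0, T1] [X0]) (nat_lit 632) (nat_lit 158) = true := by decide +kernel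
theorem wk0_5 : allR (OT.ckEqW [T4, T0, T1, T4, T6, T1, T5, T0, T6, T1, T0, T1] [X0]) (nat_lit 790) (nat_lit 158) = true := by decide +kernel
theorem wk0_6 : allR (OT.ckEqW [T4, T0, T1, T4, T6, T1, T5, T0, T6, T1, T0, T1] [X0]) (nat_lit 948) (nat_lit 158) = true := by decide +kernel
theorem wk0_7 : allR (OT.ckEqW [T4, T0, T1, T4, T6, T1, T5, T0, T6, T1, T0, T1] [X0]) (nat_lit 1106) (nat_lit 158) = true := by decide +kernel
theorem wk0_8 : allR (OT.ckEqW [T4, T0, T1, T4, T6, T1, T5, T0, T6, T1, T0, T1] [X0]) (nat_lit 1264) (nat_lit 158) = true := by decide +kernel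
theorem wk0_9 : allR (OT.ckEqW [T4, T0, T1, T4, T6, T1, T5, T0, T6, T1, T0, T1] [X0]) (nat_lit 1422) (nat_lit 158) = true := by decide +kernel
theorem wk0_10 : allR (OT.ckEqW [T4, T0, T1, T4, T6, T1, T5, T0, T6, T1, T0, T1] [X0]) (nat_lit 1580) (nat_lit 158) = true := by decide +kernel
theorem wk0_11 : allR (OT.ckEqW [T4, T0, T1, T4, T6, T1, T5, T0, T6, T1, T0, T1] [X0]) (nat_lit 1738) (nat_lit 158) = true := by decide +kernel
theorem wk0_12 : allR (OT.ckEqW [T4, T0, T1, T4, T6, T1, T5, T0, T6, T1, T0, T1] [X0]) (nat_lit 1896) (nat_lit 158) = true := by decide +kernel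
theorem wk1_0 : allR (OT.ckEqW [T3, T1, T0, T5, T4, T5, T3, T4, T1, T3, T5] [X2]) (nat_lit 0) (nat_lit 171) = true := by decide +kernel
theorem wk1_1 : allR (OT.ckEqW [T3, T1, T0, T5, T4, T5, T3, T4, T1, T3, T5] [X2]) (nat_lit 171) (nat_lit 171) = true := by decide +kernel
theorem wk1_2 : allR (OT.ckEqW [T3, T1, T0, T5, T4, T5, T3, T4, T1, T3, T5] [X2]) (nat_lit 342) (nat_lit 171) = true := by decide +kernel
theorem wk1_3 : allR (OT.ckEqW [T3, T1, T0, T5, T4, T5, T3, T4, T1, T3, T5] [X2]) (nat_lit 513) (nat_lit 171) = true := by decide +kernel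
theorem wk1_4 : allR (OT.ckEqW [T3, T1, T0, T5, T4, T5, T3, T4, T1, T3, T5] [X2]) (nat_lit 684) (nat_lit 171) = true := by decide +kernel
theorem wk1_5 : allR (OT.ckEqW [T3, T1, T0, T5, T4, T5, T3, T4, T1, T3, T5] [X2]) (nat_lit 855) (nat_lit 171) = true := by decide +kernel
theorem wk1_6 : allR (OT.ckEqW [T3, T1, T0, T5, T4, T5, T3, T4, T1, T3, T5] [X2]) (nat_lit 1026) (nat_lit 171) = true := by decide +kernel
theorem wk1_7 : allR (OT.ckEqW [T3, T1, T0, T5, T4, T5, T3, T4, T1, T3, T5] [X2]) (nat_lit 1197) (nat_lit 171) = true := by decide +kernel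
theorem wk1_8 : allR (OT.ckEqW [T3, T1, T0, T5, T4, T5, T3, T4, T1, T3, T5] [X2]) (nat_lit 1368) (nat_lit 171) = true := by decide +kernel
theorem wk1_9 : allR (OT.ckEqW [T3, T1, T0, T5, T4, T5, T3, T4, T1, T3, T5] [X2]) (nat_lit 1539) (nat_lit 171) = true := by decide +kernel
theorem wk1_10 : allR (OT.ckEqW [T3, T1, T0, T5, T4, T5, T3, T4, T1, T3, T5] [X2]) (nat_lit 1710) (nat_lit 171) = true := by decide +kernel
theorem wk1_11 : allR (OT.ckEqW [T3, T1, T0, T5, T4, T5, T3, T4, T1, T3, T5] [X2]) (nat_lit 1881) (nat_lit 171) = true := by decide +kernel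
theorem wk8_0 : allR (OT.ckEqW [X11, X11, X11, X8, X10, X8, X11, X9, X10, X9, X10] [X16]) (nat_lit 0) (nat_lit 171) = true := by decide +kernel
theorem wk8_1 : allR (OT.ckEqW [X11, X11, X11, X8, X10, X8, X11, X9, X10, X9, X10] [X16]) (nat_lit 171) (nat_lit 171) = true := by decide +kernel
theorem wk8_2 : allR (OT.ckEqW [X11, X11, X11, X8, X10, X8, X11, X9, X10, X9, X10] [X16]) (nat_lit 342) (nat_lit 171) = true := by decide +kernel
theorem wk8_3 : allR (OT.ckEqW [X11, X11, X11, X8, X10, X8, X11, X9, X10, X9, X10] [X16]) (nat_lit 513) (nat_lit 171) = true := by decide +kernel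
theorem wk8_4 : allR (OT.ckEqW [X11, X11, X11, X8, X10, X8, X11, X9, X10, X9, X10] [X16]) (nat_lit 684) (nat_lit 171) = true := by decide +kernel
theorem wk8_5 : allR (OT.ckEqW [X11, X11, X11, X8, X10, X8, X11, X9, X10, X9, X10] [X16]) (nat_lit 855) (nat_lit 171) = true := by decide +kernel
theorem wk8_6 : allR (OT.ckEqW [X11, X11, X11, X8, X10, X8, X11, X9, X10, X9, X10] [X16]) (nat_lit 1026) (nat_lit 171) = true := by decide +kernel
theorem wk8_7 : allR (OT.ckEqW [X11, X11, X11, X8, X10, X8, X11, X9, X10, X9, X10] [X16]) (nat_lit 1197) (nat_lit 171) = true := by decide +kernel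
theorem wk8_8 : allR (OT.ckEqW [X11, X11, X11, X8, X10, X8, X11, X9, X10, X9, X10] [X16]) (nat_lit 1368) (nat_lit 171) = true := by decide +kernel
theorem wk8_9 : allR (OT.ckEqW [X11, X11, X11, X8, X10, X8, X11, X9, X10, X9, X10] [X16]) (nat_lit 1539) (nat_lit 171) = true := by decide +kernel
theorem wk8_10 : allR (OT.ckEqW [X11, X11, X11, X8, X10, X8, X11, X9, X10, X9, X10] [X16]) (nat_lit 1710) (nat_lit 171) = true := by decide +kernel
theorem wk8_11 : allR (OT.ckEqW [X11, X11, X11, X8, X10, X8, X11, X9, X10, X9, X10] [X16]) (nat_lit 1881) (nat_lit 171) = true := by decide +kernel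
theorem wk15_0 : allR (OT.ckEqW [X26, X24, X10, X10, X4, X6, X6, X4, X7, X7, X4, T1, T6, T3, T2, T1, T3, T6] [X30]) (nat_lit 0) (nat_lit 108) = true := by decide +kernel
theorem wk15_1 : allR (OT.ckEqW [X26, X24, X10, X10, X4, X6, X6, X4, X7, X7, X4, T1, T6, T3, T2, T1, T3, T6] [X30]) (nat_lit 108) (nat_lit 108) = true := by decide +kernel
theorem wk15_2 : allR (OT.ckEqW [X26, X24, X10, X10, X4, X6, X6, X4, X7, X7, X4, T1, T6, T3, T2, T1, T3, T6] [X30]) (nat_lit 216) (nat_lit 108) = true := by decide +kernel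
theorem wk15_3 : allR (OT.ckEqW [X26, X24, X10, X10, X4, X6, X6, X4, X7, X7, X4, T1, T6, T3, T2, T1, T3, T6] [X30]) (nat_lit 324) (nat_lit 108) = true := by decide +kernel
theorem wk15_4 : allR (OT.ckEqW [X26, X24, X10, X10, X4, X6, X6, X4, X7, X7, X4, T1, T6, T3, T2, T1, T3, T6] [X30]) (nat_lit 432) (nat_lit 108) = true := by decide +kernel
theorem wk15_5 : allR (OT.ckEqW [X26, X24, X10, X10, X4, X6, X6, X4, X7, X7, X4, T1, T6, T3, T2, T1, T3, T6] [X30]) (nat_lit 540) (nat_lit 108) = true := by decide +kernel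
theorem wk15_6 : allR (OT.ckEqW [X26, X24, X10, X10, X4, X6, X6, X4, X7, X7, X4, T1, T6, T3, T2, T1, T3, T6] [X30]) (nat_lit 648) (nat_lit 108) = true := by decide +kernel
theorem wk15_7 : allR (OT.ckEqW [X26, X24, X10, X10, X4, X6, X6, X4, X7, X7, X4, T1, T6, T3, T2, T1, T3, T6] [X30]) (nat_lit 756) (nat_lit 108) = true := by decide +kernel
theorem wk15_8 : allR (OT.ckEqW [X26, X24, X10, X10, X4, X6, X6, X4, X7, X7, X4, T1, T6, T3, T2, T1, T3, T6] [X30]) (nat_lit 864) (nat_lit 108) = true := by decide +kernel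
theorem wk15_9 : allR (OT.ckEqW [X26, X24, X10, X10, X4, X6, X6, X4, X7, X7, X4, T1, T6, T3, T2, T1, T3, T6] [X30]) (nat_lit 972) (nat_lit 108) = true := by decide +kernel
theorem wk15_10 : allR (OT.ckEqW [X26, X24, X10, X10, X4, X6, X6, X4, X7, X7, X4, T1, T6, T3, T2, T1, T3, T6] [X30]) (nat_lit 1080) (nat_lit 108) = true := by decide +kernel
theorem wk15_11 : allR (OT.ckEqW [X26, X24, X10, X10, X4, X6, X6, X4, X7, X7, X4, T1, T6, T3, T2, T1, T3, T6] [X30]) (nat_lit 1188) (nat_lit 108) = true := by decide +kernel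
theorem wk15_12 : allR (OT.ckEqW [X26, X24, X10, X10, X4, X6, X6, X4, X7, X7, X4, T1, T6, T3, T2, T1, T3, T6] [X30]) (nat_lit 1296) (nat_lit 108) = true := by decide +kernel
theorem wk15_13 : allR (OT.ckEqW [X26, X24, X10, X10, X4, X6, X6, X4, X7, X7, X4, T1, T6, T3, T2, T1, T3, T6] [X30]) (nat_lit 1404) (nat_lit 108) = true := by decide +kernel
theorem wk15_14 : allR (OT.ckEqW [X26, X24, X10, X10, X4, X6, X6, X4, X7, X7, X4, T1, T6, T3, T2, T1, T3, T6] [X30]) (nat_lit 1512) (nat_lit 108) = true := by decide +kernel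
theorem wk15_15 : allR (OT.ckEqW [X26, X24, X10, X10, X4, X6, X6, X4, X7, X7, X4, T1, T6, T3, T2, T1, T3, T6] [X30]) (nat_lit 1620) (nat_lit 108) = true := by decide +kernel
theorem wk15_16 : allR (OT.ckEqW [X26, X24, X10, X10, X4, X6, X6, X4, X7, X7, X4, T1, T6, T3, T2, T1, T3, T6] [X30]) (nat_lit 1728) (nat_lit 108) = true := by decide +kernel
theorem wk15_17 : allR (OT.ckEqW [X26, X24, X10, X10, X4, X6, X6, X4, X7, X7, X4, T1, T6, T3, T2, T1, T3, T6] [X30]) (nat_lit 1836) (nat_lit 108) = true := by decide +kernel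
theorem wk15_18 : allR (OT.ckEqW [X26, X24, X10, X10, X4, X6, X6, X4, X7, X7, X4, T1, T6, T3, T2, T1, T3, T6] [X30]) (nat_lit 1944) (nat_lit 108) = true := by decide +kernel
theorem wk4_0 : allR (OT.ckEqW [X3, X3, X5, X7, X0, X2, X2, X6, X5] [X8]) (nat_lit 0) (nat_lit 205) = true := by decide +kernel
theorem wk4_1 : allR (OT.ckEqW [X3, X3, X5, X7, X0, X2, X2, X6, X5] [X8]) (nat_lit 205) (nat_lit 205) = true := by decide +kernel
theorem wk4_2 : allR (OT.ckEqW [X3, X3, X5, X7, X0, X2, X2, X6, X5] [X8]) (nat_lit 410) (nat_lit 205) = true := by decide +kernel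
theorem wk4_3 : allR (OT.ckEqW [X3, X3, X5, X7, X0, X2, X2, X6, X5] [X8]) (nat_lit 615) (nat_lit 205) = true := by decide +kernel
theorem wk4_4 : allR (OT.ckEqW [X3, X3, X5, X7, X0, X2, X2, X6, X5] [X8]) (nat_lit 820) (nat_lit 205) = true := by decide +kernel
theorem wk4_5 : allR (OT.ckEqW [X3, X3, X5, X7, X0, X2, X2, X6, X5] [X8]) (nat_lit 1025) (nat_lit 205) = true := by decide +kernel
theorem wk4_6 : allR (OT.ckEqW [X3, X3, X5, X7, X0, X2, X2, X6, X5] [X8]) (nat_lit 1230) (nat_lit 205) = true := by decide +kernel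
theorem wk4_7 : allR (OT.ckEqW [X3, X3, X5, X7, X0, X2, X2, X6, X5] [X8]) (nat_lit 1435) (nat_lit 205) = true := by decide +kernel
theorem wk4_8 : allR (OT.ckEqW [X3, X3, X5, X7, X0, X2, X2, X6, X5] [X8]) (nat_lit 1640) (nat_lit 205) = true := by decide +kernel
theorem wk4_9 : allR (OT.ckEqW [X3, X3, X5, X7, X0, X2, X2, X6, X5] [X8]) (nat_lit 1845) (nat_lit 205) = true := by decide +kernel
theorem wk6_0 : allR (OT.ckEqW [X9, X10, X10, X8, X8, X11, X11, X9, X9, X11, X11, X11, X8, X11, X9, X11, X11, X8, X11, X9, X10, X9, X11, X11] [X12]) (nat_lit 0) (nat_lit 82) = true := by decide +kernel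
theorem wk6_1 : allR (OT.ckEqW [X9, X10, X10, X8, X8, X11, X11, X9, X9, X11, X11, X11, X8, X11, X9, X11, X11, X8, X11, X9, X10, X9, X11, X11] [X12]) (nat_lit 82) (nat_lit 82) = true := by decide +kernel
theorem wk6_2 : allR (OT.ckEqW [X9, X10, X10, X8, X8, X11, X11, X9, X9, X11, X11, X11, X8, X11, X9, X11, X11, X8, X11, X9, X10, X9, X11, X11] [X12]) (nat_lit 164) (nat_lit 82) = true := by decide +kernel
theorem wk6_3 : allR (OT.ckEqW [X9, X10, X10, X8, X8, X11, X11, X9, X9, X11, X11, X11, X8, X11, X9, X11, X11, X8, X11, X9, X10, X9, X11, X11] [X12]) (nat_lit 246) (nat_lit 82) = true := by decide +kernel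
theorem wk6_4 : allR (OT.ckEqW [X9, X10, X10, X8, X8, X11, X11, X9, X9, X11, X11, X11, X8, X11, X9, X11, X11, X8, X11, X9, X10, X9, X11, X11] [X12]) (nat_lit 328) (nat_lit 82) = true := by decide +kernel
theorem wk6_5 : allR (OT.ckEqW [X9, X10, X10, X8, X8, X11, X11, X9, X9, X11, X11, X11, X8, X11, X9, X11, X11, X8, X11, X9, X10, X9, X11, X11] [X12]) (nat_lit 410) (nat_lit 82) = true := by decide +kernel
theorem wk6_6 : allR (OT.ckEqW [X9, X10, X10, X8, X8, X11, X11, X9, X9, X11, X11, X11, X8, X11, X9, X11, X11, X8, X11, X9, X10, X9, X11, X11] [X12]) (nat_lit 492) (nat_lit 82) = true := by decide +kernel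
theorem wk6_7 : allR (OT.ckEqW [X9, X10, X10, X8, X8, X11, X11, X9, X9, X11, X11, X11, X8, X11, X9, X11, X11, X8, X11, X9, X10, X9, X11, X11] [X12]) (nat_lit 574) (nat_lit 82) = true := by decide +kernel
theorem wk6_8 : allR (OT.ckEqW [X9, X10, X10, X8, X8, X11, X11, X9, X9, X11, X11, X11, X8, X11, X9, X11, X11, X8, X11, X9, X10, X9, X11, X11] [X12]) (nat_lit 656) (nat_lit 82) = true := by decide +kernel
theorem wk6_9 : allR (OT.ckEqW [X9, X10, X10, X8, X8, X11, X11, X9, X9, X11, X11, X11, X8, X11, X9, X11, X11, X8, X11, X9, X10, X9, X11, X11] [X12]) (nat_lit 738) (nat_lit 82) = true := by decide +kernel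
theorem wk6_10 : allR (OT.ckEqW [X9, X10, X10, X8, X8, X11, X11, X9, X9, X11, X11, X11, X8, X11, X9, X11, X11, X8, X11, X9, X10, X9, X11, X11] [X12]) (nat_lit 820) (nat_lit 82) = true := by decide +kernel
theorem wk6_11 : allR (OT.ckEqW [X9, X10, X10, X8, X8, X11, X11, X9, X9, X11, X11, X11, X8, X11, X9, X11, X11, X8, X11, X9, X10, X9, X11, X11] [X12]) (nat_lit 902) (nat_lit 82) = true := by decide +kernel
theorem wk6_12 : allR (OT.ckEqW [X9, X10, X10, X8, X8, X11, X11, X9, X9, X11, X11, X11, X8, X11, X9, X11, X11, X8, X11, X9, X10, X9, X11, X11] [X12]) (nat_lit 984) (nat_lit 82) = true := by decide +kernel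
theorem wk6_13 : allR (OT.ckEqW [X9, X10, X10, X8, X8, X11, X11, X9, X9, X11, X11, X11, X8, X11, X9, X11, X11, X8, X11, X9, X10, X9, X11, X11] [X12]) (nat_lit 1066) (nat_lit 82) = true := by decide +kernel
theorem wk6_14 : allR (OT.ckEqW [X9, X10, X10, X8, X8, X11, X11, X9, X9, X11, X11, X11, X8, X11, X9, X11, X11, X8, X11, X9, X10, X9, X11, X11] [X12]) (nat_lit 1148) (nat_lit 82) = true := by decide +kernel
theorem wk6_15 : allR (OT.ckEqW [X9, X10, X10, X8, X8, X11, X11, X9, X9, X11, X11, X11, X8, X11, X9, X11, X11, X8, X11, X9, X10, X9, X11, X11] [X12]) (nat_lit 1230) (nat_lit 82) = true := by decide +kernel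
theorem wk6_16 : allR (OT.ckEqW [X9, X10, X10, X8, X8, X11, X11, X9, X9, X11, X11, X11, X8, X11, X9, X11, X11, X8, X11, X9, X10, X9, X11, X11] [X12]) (nat_lit 1312) (nat_lit 82) = true := by decide +kernel
theorem wk6_17 : allR (OT.ckEqW [X9, X10, X10, X8, X8, X11, X11, X9, X9, X11, X11, X11, X8, X11, X9, X11, X11, X8, X11, X9, X10, X9, X11, X11] [X12]) (nat_lit 1394) (nat_lit 82) = true := by decide +kernel
theorem wk6_18 : allR (OT.ckEqW [X9, X10, X10, X8, X8, X11, X11, X9, X9, X11, X11, X11, X8, X11, X9, X11, X11, X8, X11, X9, X10, X9, X11, X11] [X12]) (nat_lit 1476) (nat_lit 82) = true := by decide +kernel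
theorem wk6_19 : allR (OT.ckEqW [X9, X10, X10, X8, X8, X11, X11, X9, X9, X11, X11, X11, X8, X11, X9, X11, X11, X8, X11, X9, X10, X9, X11, X11] [X12]) (nat_lit 1558) (nat_lit 82) = true := by decide +kernel
theorem wk6_20 : allR (OT.ckEqW [X9, X10, X10, X8, X8, X11, X11, X9, X9, X11, X11, X11, X8, X11, X9, X11, X11, X8, X11, X9, X10, X9, X11, X11] [X12]) (nat_lit 1640) (nat_lit 82) = true := by decide +kernel
theorem wk6_21 : allR (OT.ckEqW [X9, X10, X10, X8, X8, X11, X11, X9, X9, X11, X11, X11, X8, X11, X9, X11, X11, X8, X11, X9, X10, X9, X11, X11] [X12]) (nat_lit 1722) (nat_lit 82) = true := by decide +kernel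
theorem wk6_22 : allR (OT.ckEqW [X9, X10, X10, X8, X8, X11, X11, X9, X9, X11, X11, X11, X8, X11, X9, X11, X11, X8, X11, X9, X10, X9, X11, X11] [X12]) (nat_lit 1804) (nat_lit 82) = true := by decide +kernel
theorem wk6_23 : allR (OT.ckEqW [X9, X10, X10, X8, X8, X11, X11, X9, X9, X11, X11, X11, X8, X11, X9, X11, X11, X8, X11, X9, X10, X9, X11, X11] [X12]) (nat_lit 1886) (nat_lit 82) = true := by decide +kernel
theorem wk6_24 : allR (OT.ckEqW [X9, X10, X10, X8, X8, X11, X11, X9, X9, X11, X11, X11, X8, X11, X9, X11, X11, X8, X11, X9, X10, X9, X11, X11] [X12]) (nat_lit 1968) (nat_lit 82) = true := by decide +kernel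
theorem wk6_25 : allR (OT.ckEqW [X9, X10, X10, X8, X8, X11, X11, X9, X9, X11, X11, X11, X8, X11, X9, X11, X11, X8, X11, X9, X10, X9, X11, X11] [X12]) (nat_lit 2050) (nat_lit 8) = true := by decide +kernel
theorem wk15_19 : allR (OT.ckEqW [X26, X24, X10, X10, X4, X6, X6, X4, X7, X7, X4, T1, T6, T3, T2, T1, T3, T6] [X30]) (nat_lit 2052) (nat_lit 6) = true := by decide +kernel
theorem wk4_10 : allR (OT.ckEqW [X3, X3, X5, X7, X0, X2, X2, X6, X5] [X8]) (nat_lit 2050) (nat_lit 8) = true := by decide +kernel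
theorem wk1_12 : allR (OT.ckEqW [T3, T1, T0, T5, T4, T5, T3, T4, T1, T3, T5] [X2]) (nat_lit 2052) (nat_lit 6) = true := by decide +kernel
theorem wk8_12 : allR (OT.ckEqW [X11, X11, X11, X8, X10, X8, X11, X9, X10, X9, X10] [X16]) (nat_lit 2052) (nat_lit 6) = true := by decide +kernel
theorem wk0_13 : allR (OT.ckEqW [T4, T0, T1, T4, T6, T1, T5, T0, T6, T1, T0, T1] [X0]) (nat_lit 2054) (nat_lit 4) = true := by decide +kernel
theorem wk5_17 : allR (OT.ckEqW [X1, X4, X6, X0, X7, X7, X5, X1, X1, X7, X7, X7, X5, X1, X5, X1] [X10]) (nat_lit 2057) (nat_lit 1) = true := by decide +kernel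
theorem wk11_5 : allR (OT.ckEqW [X20, X19, X19, X20] [X22]) (nat_lit 2055) (nat_lit 3) = true := by decide +kernel
theorem wk2_4 : allR (OT.ckEqW [T6, T4, T2] [X4]) (nat_lit 2056) (nat_lit 2) = true := by decide +kernel
theorem wk9_4 : allR (OT.ckEqW [X15, X17, X17] [X18]) (nat_lit 2056) (nat_lit 2) = true := by decide +kernel

end Cfsg.Agent.H8.HeC
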