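import Cfsg.Agent.H8.T.HeCa
import Cfsg.Agent.H8.CentChain

set_option Elab.async false
set_option autoImplicit false
set_option linter.all false
set_option maxRecDepth 100000
set_option maxHeartbeats 400000

namespace Cfsg.Agent.H8.HeC
open Cfsg.Agent.H8.Het (T0 T1 T2 T3 T4 T5 T6)

noncomputable def ZQ0c0 : Nat := nat_lit 0x9695a3a3a3a5a3a6a3a6a5a396959473828586868586858381f6e2d3f1a3b39583b392d3e6f6a3c2b5c6c2b4a1a4a39693e2b0a1c1d4c3b5d3d5c3d693d2d6b5e3d4d3d2e6434363767574724553324153449395b396b3b3969584869295969695969594827376757472e2f19293a593a1d6e6c6a4a6b2c5d3c3b4b2a3d2d6b1d2d4c3d2d6a2e2c3e4e633333435506342213146829496838685a5a6a6a58283868584826563e2a2b3a3b1d6b3d6c6a2c3c4d5b2d2c3e5d6b3d310222425304651553673937573969594757352d3b2c3c5d6b3d5c3d5c563452633356546436585618362c5c3c4c5c15555333553755171b5b4b26542446482a3547396638676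
noncomputable def ZQ0c1 : Nat := nat_lit 0xb693b5b5c3a2c1d6b3b3b5b4a2c4a392b3b493a6a495b3b2b4c4b4c5d2e3c5e3a4a5a5b3d6d67586859676d3a5c1d2c3b2b2c5b5c1c3d6e3c5c6636385868685838193939393868584959396939695939695949695949390666362757676756476757473715554526665627556767475647275747166656362a6c395a5a683a5b6b2a3b493b4a3b3b3b5b593a5a3a6a3a6a5928685848395939395939693969594969593e3f2f1f6b6a3a3e5f293b2c3c1b6c2c6b391959685869595938594d3d3a0a5b1c2c2c4b2a2b3a5c5c3d6d3b5c68683e3a5d1c4c3c5d3d6d3d6525276757285868685748685848381536665646243536365646253a6a4a2b4a3b6a395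
noncomputable def ZQ0c2 : Nat := nat_lit 0xc3b5b3a2c4a3a2c3b1b6a1c3c2b1c4b1c5d2e3d5f3b4b5b5b3d6d676727674757293939593949695a6a4a2a5a49293a6a2939396959396a5968682a486a3a5a592a6a3a6a592a5a3a3a6a5a3a6a5a4a2a6a5a37576767273718383838376747485838685838684868483806665656463617576767573718365666683848376757483868384858385808476767575727383b693a5a4a693a594a5c3a485a3b492b3c4a3c2b6a3c3b4c3a6a584a3a0b2b3a6b4b6b4b5b5b3a6a5839596969396959396959493a683a5a2a493a4a3a3a3a6a3a6a5a3a3a5a5a2a3e3f6e6b6b3d2d5f5b2a6b6c3a58693a58596a670957185869595819685868576867585e6c2e3b5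
noncomputable def ZQ0c3 : Nat := nat_lit 0x86969492737395949573969283838685939286949695939395838383838385848293a2a394b6a4a586b3a5b592c5d5c2c4a476b495b3b2a6a2a483c4a1c3b495b3b3b4c692b6b5c5a5b3b6b59294b6a3b6a6b6a2a4c4c5c5c5c5a4a5a5b3c6b5a5b39695a3a695a3a5a5a6a6a5a4a6a593a594a486a3b692b391b3a3a3b4b6b4b5a5b6b4a5b2b393b3a4b3b6a6b6b5d1a2a6e1b5b59396a6a696838183939395a393969686838483d2d4b3d1c6a3c5a4b5c3d5d5c1d4b3b1a6c6a5a3a4a5c5a3a5b3b4b496a3c6c4b5b583a4b3a1a391969485b5c3b6a3c6a4d2c5a2a4c4d4d5d5c5b4b5c3e1f6d5e39495b395c2d3d5e6748576859695867675c2b693b5b5d3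
noncomputable def ZQ0c4 : Nat := nat_lit 0xd2c4a6c3e4e1c6a4c5d3c5c3d4c1d6e5e3c3c6d2c4c5b2b4b1b691b5a4b691b5b2b4b5c6b595949595c2a5a6a6b2b6c2c5b3c3c3c2b5a5a3a39282c6b4b5b3c3c3d6a5b3e4d5c6d3b6c6c6a3c3d5c5d3e3e5c4c5d5e4d5b3c3b3c2a3d2d2c3c5d3d1e583938393a3a3d5d4b3a4c5d6d1d3b6b3a1b5c5a5b4b496b3c5c6b5b2c6d5b3c6d3c5b2a1c4d4d5d5d5c4c5e1f3e5f3a5b6c2e3d6e6818686848581a6a4a5929495a6a5b6b4b3b1a3a695a3b1a6a2a3a6a596869695939696a59592a5a695b3a5a691b4b2b3b5a1b6b3b6b5a1b6b5b3b3b6b583838584839694929594959296928384868395949293969592939393939694929373737573747383838583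
noncomputable def ZQ0c5 : Nat := nat_lit 0xa3a5a5a5b6b2b5c6c4c0b3b09296a6a5a693a3a6a3a5b5c2b6b396a1c4b4a691b6b3c3b6a1a6c295969595959492a6a1a3a1a6a1949693a5a4a1a5a3a6a2a593a4a2a6a5a2a3a3a6a4a3a6a4a28584828385828384829495949695a6a4a4a1868482858285959693a692a2a39692969392868496b3c6b5c3b3b3c3c3b3b5d3a6b4b486a5a5b4a3b5b59694c2b6b0b1b4a58396a5a5a4b3a3c4a5d5b5c4a6a693b693b4b6d5b3c2c4d5d5d5b6a6c595a6a396a3b6b3a6b3a4b3b5a1b39594b496b3b5a692a4c2a1b39294a5a3b496b3a3c6b5c5b5c5949595a3c6c5b5a5b2a3c382b5c5a5b6b5e5e4d1a0a5c39590969492959492a393a2a3a2a3a1b2a29694c2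
noncomputable def ZQ0c6 : Nat := nat_lit 0xb5c4c5b3c692a6b0b5c3b3c3b3b3d4b6a3c5b4e5c3e5d196c6b6c6b6b5a3b2b3c3a3b3a1c5a5a4a4a6a4a5c4b6a1a0a49696a3c5d5c5c5c6d6a694d5b6a5b4d1b0b5b3a6a5a6a6a3a1a5b2a2b3b2b1b3b2a6c2c2c6b5b6c3b6e1b6b5b4c1b1c6c2d2e6c2c2b3c5b2c5b4c6a3c3c3a1a5b5c5b4c3b3a1b6b3d5d3a4a5c3b5a5a5a6b3b5b6a4c3c6c2b3b3b5c3c6c3d2d1b5b2b293c5c6c6a3c2b4d3d1c4b3d6c6d4b5c5b3d3d6d5d5d6e5b3d3c3c2c5c5c2d6c2d1a3b2c6d5c3d2b3d2d3c3e1d3d5e1959392a3a29392a2b2c5c4b394b3c4c3c6d5e3d3e2b6c5a0c2b1c5b5c4a5a6b5c6b2c4d5c4c3b2d4d5c4d3c6d5b3c5e0e5d4d5e4e5c2c2d3d5d1e6939395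
noncomputable def ZQ0c7 : Nat := nat_lit 0xb4c5d3b6d6d6d2e5e3d3d3c5c5d3c5b5c3c3c2c3c1c4b3a5a4c2d0c6d4b6a1c0c3d3d2d5a6c3b3c2b5a0b4b4b4b5b3d6c6a3c4b5b3b6b6b5c1c2d1a6c5c0c5b3c3d2b3b6b5c3d6b3b6c5c3d5c3d5d4b3d2b6c4c3b3c5c5b6c3d3d4c2c1a3b3b3c4c2d2d4c4c2c3c2c3d4c3d5b0d4d3e6d2d1c1c5d5d5c2d3c3d5d3c3d6e1d5a2b2b3a2a1a4b1c6e2f3d2c3c3b0c5c6c5a5a6a2c6b3d2b3d2c6c3d4d4c6c3d6c3e5d4e1c3d5d6e5d6d6d3d2c3d1d1e4e5e6a5a2a5c1c3a5a3b3c3d1c5c4c2a3b3b6c4a3c3c3b1c6a6a5a5a4a3b6b3a3b3b3b5b4b1b3b1b5b6b2b5b2b3b4b6b1959493b4a5b6b0b4919591b2a6a3939594c5b5d2b0b3b5a2b6d3c0c3b6c4c496b3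
noncomputable def ZQ0c8 : Nat := nat_lit 0xc4c2c6d3b3d2e4c2c5b1
noncomputable def ZQ0 : Nat → Nat := (fun h => @Nat.rec (fun _ => Nat → Nat)
 (fun h => @Nat.rec (fun _ => Nat → Nat)
 (fun h => @Nat.rec (fun _ => Nat → Nat)
 (fun h => @Nat.rec (fun _ => Nat → Nat)
 (fun i => Nat.land (Nat.shiftRight ZQ0c0 (Nat.mul (nat_lit 8) (Nat.land i (nat_lit 255)))) (nat_lit 255))
 (fun _ _ => (fun i => Nat.land (Nat.shiftRight ZQ0c1 (Nat.mul (nat_lit 8) (Nat.land i (nat_lit 255)))) (nat_lit 255))) (Nat.land h (nat_lit 256)) h)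
 (fun _ _ => (fun h => @Nat.rec (fun _ => Nat → Nat)
 (fun i => Nat.land (Nat.shiftRight ZQ0c2 (Nat.mul (nat_lit 8) (Nat.land i (nat_lit 255)))) (nat_lit 255))
 (fun _ _ => (fun i => Nat.land (Nat.shiftRight ZQ0c3 (Nat.mul (nat_lit 8) (Nat.land i (nat_lit 255)))) (nat_lit 255))) (Nat.land h (nat_lit 256)) h)) (Nat.land h (nat_lit 512)) h)
 (fun _ _ => (fun h => @Nat.rec (fun _ => Nat → Nat)
 (fun h => @Nat.rec (fun _ => Nat → Nat)
 (fun i => Nat.land (Nat.shiftRight ZQ0c4 (Nat.mul (nat_lit 8) (Nat.land i (nat_lit 255)))) (nat_lit 255))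
 (fun _ _ => (fun i => Nat.land (Nat.shiftRight ZQ0c5 (Nat.mul (nat_lit 8) (Nat.land i (nat_lit 255)))) (nat_lit 255))) (Nat.land h (nat_lit 256)) h)
 (fun _ _ => (fun h => @Nat.rec (fun _ => Nat → Nat)
 (fun i => Nat.land (Nat.shiftRight ZQ0c6 (Nat.mul (nat_lit 8) (Nat.land i (nat_lit 255)))) (nat_lit 255))
 (fun _ _ => (fun i => Nat.land (Nat.shiftRight ZQ0c7 (Nat.mul (nat_lit 8) (Nat.land i (nat_lit 255)))) (nat_lit 255))) (Nat.land h (nat_lit 256)) h)) (Nat.land h (nat_lit 512)) h)) (Nat.land h (nat_lit 0x400)) h)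
 (fun _ _ => (fun i => Nat.land (Nat.shiftRight ZQ0c8 (Nat.mul (nat_lit 8) (Nat.land i (nat_lit 255)))) (nat_lit 255))) (Nat.land h (nat_lit 0x800)) h)
theorem Zr0 : allR (ckReach ZQ0 [[T0], [T1], [T2], [T3], [T4], [T5], [T6], [X0], [X1], [X2], [X3], [X4], [X5], [X6], [X7], [X8], [X9], [X10], [X11], [X12], [X13], [X14], [X15], [X16], [X17], [X18], [X19], [X20], [X21], [X22], [X23], [X24], [X25], [X26], [X27]] (nat_lit 69)) (nat_lit 0) (nat_lit 2058) = true := by decide +kernel
theorem Zc0 : cntT ZQ0 (nat_lit 2058) (nat_lit 2058) (nat_lit 0) = true := by decide +kernel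
def ZG0 : List (List Nat) := [[0], [1], [2], [3], [4], [5], [6], [7], [8], [9], [10], [11], [12], [13], [14], [15], [16], [17], [18], [19], [20], [21], [22], [23], [24], [25], [26], [27], [28], [29], [30], [31], [32], [33], [34]]
theorem Zf0 : cntT (fixQ ZQ0 X28) (nat_lit 42) (nat_lit 2058) (nat_lit 0) = true := by decide +kernel
noncomputable def ZQ1c0 : Nat := nat_lit 0x8466808070968697748600000097868780740080809767960097009700009496670084a7009796277776960074000080779670605667000046707486569790009470008697a797000070708697769600749497008646008494007094978400849676770087900087908094000077669600008686849400807000000074668700705400748667870000800000949600948600968694807670505797460037878600968770767687747676848477678684008084647700008786640000000000878687878600904050906090978687008077907480966097000000000097879496008600807700760097000000009400000000000000000094008400a796000000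
noncomputable def ZQ1c1 : Nat := nat_lit 0x8697745776908780007777007697006677878770007774540000668700868496709700640000808600670094640087006787678600648480749466940087875784849774007086768674008087800077740000678687848760000076905684800000870084567790666064009497006474570000778484008780969090869077840087949686600080777056007087860060866400009677777686974700576784000000000000848466860077678434947767700000000077670074708700000070740090940087868476008074777486908686608400008474508697a6847076768780008684800084777400777790970000746790668700969600970080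
noncomputable def ZQ1c2 : Nat := nat_lit 0x8066760080700080747066867670000070570074878776970087006684800000705000848676000000676000800000000090670000577600970076007077746686008087600000008600009480500000007794700076840000007797870087947770848600878690000000747400007484760056868477760066647650007484907600746687008770000000667670008496768777979774978094006676005600900080a767740086747464708400878776500097870067968686960076948400540046008076800077848670660074777000860064848474000096868690770000860000007080770086808700000000747676006057007674877496000000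
noncomputable def ZQ1c3 : Nat := nat_lit 0x37670084008600840000748400000087000087707467860000708096776684848677706480809777507686600000540097008684008490004087000067000066879484860086869600849776007490540066779600649057007000000000708400008400645784009000867470009487870077840070748600768480740086870057008797867600946077708600768400008484760077876484000000968644000070640096706796006687000080570044107787777774000000008686807480007700008760748400869000760000000000960076760080476770607600007476770000a7849400570056000000000000777700778077000077975067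
noncomputable def ZQ1c4 : Nat := nat_lit 0x86860000000000800090008064248600807744000070648600579694000000600090008680500000008694000070647400006000004700766600000000778066849750a770508684800066660094770087000000866750007700300067667776000000007750009687740000205470770000008687770077000080647084000067007484847666600000707780008790006770000000877076668600700087000070947466008480000046008486970000007487807784770000846486006074608066000000008060a600000000000076806700778094007740877687879777000074608077870070849446a77686007700940096646700766634006694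
noncomputable def ZQ1c5 : Nat := nat_lit 0x6797868400647700808497009076008096007400979700978090600074000036860000677000007697940087000047865700845686978400a66680746796007676000096005600008764a400968774008667808074960077549670440060006744874700848700770060007600878667849667769680949064479000607064878400000097500054000077447077770076a6975400848490600064860080670000806774568700506490560000408484008767006677000070007486640000a780009687006090706774007097708770960060978600840000000086000054606600679494860000000000878094007797008780007600000064007476008700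
noncomputable def ZQ1c6 : Nat := nat_lit 0x7066947456008036777054667686505677007000903097946476808494870000000084a47600742650807086807686968700007097007470560087770000979790600096769600748457000086768457000000000000700087000000778456007487945054668600643700008700648700766690007744007700000086000076000000000000000000878676549646007080605600000064904686008760747464009757008496868700768470840070748496867400978600600074478700700087840000000066708600000074008460406600849080000084007400007000007476670060707486775486640076000000947680340066660000679000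
noncomputable def ZQ1c7 : Nat := nat_lit 0x960000807490806600970000770080765600009796867690007600748000848484500000760076807076006600847787646000967657009700008600008000000097744086540000000090770080000000906460560076007666808790007780009776800000006600007794640070006400600096967400667600008484846000007600849674a074a6749700008000000000000000747600808486004094560000969700903600908000006400860070868600867667769797000000740000009076860000800090000094866000978780770000670084000090000090000084708494840074008700875787779780848796869774646680606400906000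
noncomputable def ZQ1c8 : Nat := nat_lit 0x808687777490840076a0
noncomputable def ZQ1 : Nat → Nat := (fun h => @Nat.rec (fun _ => Nat → Nat)
 (fun h => @Nat.rec (fun _ => Nat → Nat)
 (fun h => @Nat.rec (fun _ => Nat → Nat)
 (fun h => @Nat.rec (fun _ => Nat → Nat)
 (fun i => Nat.land (Nat.shiftRight ZQ1c0 (Nat.mul (nat_lit 8) (Nat.land i (nat_lit 255)))) (nat_lit 255))
 (fun _ _ => (fun i => Nat.land (Nat.shiftRight ZQ1c1 (Nat.mul (nat_lit 8) (Nat.land i (nat_lit 255)))) (nat_lit 255))) (Nat.land h (nat_lit 256)) h)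
 (fun _ _ => (fun h => @Nat.rec (fun _ => Nat → Nat)
 (fun i => Nat.land (Nat.shiftRight ZQ1c2 (Nat.mul (nat_lit 8) (Nat.land i (nat_lit 255)))) (nat_lit 255))
 (fun _ _ => (fun i => Nat.land (Nat.shiftRight ZQ1c3 (Nat.mul (nat_lit 8) (Nat.land i (nat_lit 255)))) (nat_lit 255))) (Nat.land h (nat_lit 256)) h)) (Nat.land h (nat_lit 512)) h)
 (fun _ _ => (fun h => @Nat.rec (fun _ => Nat → Nat)
 (fun h => @Nat.rec (fun _ => Nat → Nat)
 (fun i => Nat.land (Nat.shiftRight ZQ1c4 (Nat.mul (nat_lit 8) (Nat.land i (nat_lit 255)))) (nat_lit 255))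
 (fun _ _ => (fun i => Nat.land (Nat.shiftRight ZQ1c5 (Nat.mul (nat_lit 8) (Nat.land i (nat_lit 255)))) (nat_lit 255))) (Nat.land h (nat_lit 256)) h)
 (fun _ _ => (fun h => @Nat.rec (fun _ => Nat → Nat)
 (fun i => Nat.land (Nat.shiftRight ZQ1c6 (Nat.mul (nat_lit 8) (Nat.land i (nat_lit 255)))) (nat_lit 255))
 (fun _ _ => (fun i => Nat.land (Nat.shiftRight ZQ1c7 (Nat.mul (nat_lit 8) (Nat.land i (nat_lit 255)))) (nat_lit 255))) (Nat.land h (nat_lit 256)) h)) (Nat.land h (nat_lit 512)) h)) (Nat.land h (nat_lit 0x400)) h)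
 (fun _ _ => (fun i => Nat.land (Nat.shiftRight ZQ1c8 (Nat.mul (nat_lit 8) (Nat.land i (nat_lit 255)))) (nat_lit 255))) (Nat.land h (nat_lit 0x800)) h)
theorem Zr1 : allR (ckReach ZQ1 [[X0], [X1], [X2], [X3], [X4], [X5], [X6], [X7], [X8], [X9], [X10], [X11], [X12], [X13], [X14], [X15], [X16], [X17], [X18], [X19], [X20], [X21], [X22], [X23], [X24], [X25], [X26], [X27]] (nat_lit 843)) (nat_lit 0) (nat_lit 2058) = true := by decide +kernel
theorem Zc1 : cntT ZQ1 (nat_lit 1360) (nat_lit 2058) (nat_lit 0) = true := by decide +kernel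
def ZG1 : List (List Nat) := [[7], [8], [9], [10], [11], [12], [13], [14], [15], [16], [17], [18], [19], [20], [21], [22], [23], [24], [25], [26], [27], [28], [29], [30], [31], [32], [33], [34]]
theorem Zf1 : cntT (fixQ ZQ1 X28) (nat_lit 16) (nat_lit 2058) (nat_lit 0) = true := by decide +kernel
noncomputable def ZQ2c0 : Nat := nat_lit 0x8300000080000092000000000000000000000000000000000000000000000000000000000000000000000000000000000000000000007200007200006200000000000000000000000000000000000083000000609000000000300000000000000000000000000000000000000000000000000000000000000000000000000053000000000000000000000000000000000000009200000000000000000000000000000000000000620000000000000000000000000000000000000000000000000000007200600000000083000000000000000083100022000000000000000000000000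
noncomputable def ZQ2c1 : Nat := nat_lit 0x63000000000000000000000000000000000000000000000000008200006300000000000000000000000000000000000000000000007200000000000000000000000000000000000000000000000000000000000000000000000000000000000000000000000000000000000000000000000000000000000000000000000000000000000000000000000000000000000000000000000000000000000000000000000000000000000000000000000000000000000000000000000000000000000000000000000000000000000063000000000000000000000000000000000000000000000000000000000000000000000000000000000000000062000052007000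
noncomputable def ZQ2c2 : Nat := nat_lit 0x63000000000000000000000000000000000000000000000000000000000000000000000000000000000000000000000000000000000000000000000000000000000000000000000000000000000000000000000000000000000000000000000000000000000000000000000000000000000000000000000000000000000000000000000000000000000000000000000000320000000000000000000000000000000000000000000000000000000000000000000000000000000000000000000000000000000000000000000000000000000000000000000000000000000000000000000000000000000000000000000000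
noncomputable def ZQ2c3 : Nat := nat_lit 0x40000000000000000000000000000000000000000000000000000000000000000000000000000000000000000000000000000000000000000000000000000000000000000000000000000000000000000000000000000000000000000000000000000000000000000000000000000000000000000000000000000000000000000000000000000000000062000000000000000000000000000000000000000000000000006200000000605300000000000000000050000000000000000000007300000000
noncomputable def ZQ2c4 : Nat := nat_lit 0x72000000000000000000800000000000000000000000000000000000000000000000000000000000000000000052000000800000000000000000000000008000000000000000000000000000000000000000000000000062000000000042000000000000000000000000007200000000000000600000000000000000000000000000000000000000000000000000000000000000000000000000000000000000000000000000000000000000000000000000000000000000000000000000000000000000000000000000000000000000000000000000000000000000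
noncomputable def ZQ2c5 : Nat := nat_lit 0x50000000000000000000000000000000000000000000000000000000820000000000000000000000000000000000000000000000000000000000000000000000500000000000000000000000000000000000000000000000000000000000000000000000000000000000000000000000000000000000000000000000000000000000000000000000000000000000000000000000000000000000000000000000000000000000000000000000000000000000000000000000000000000000
noncomputable def ZQ2c6 : Nat := nat_lit 0x730000000000720000000000000000000000300000000000000000000000000000000000000000000000000000000000000000820000000000002300000000000000000000000062000000000000000000000000000000000000008200000000600000000000000000000063000000000000000000000000000000700000007000000000000000000000000000000000000000000000000000000000000000000000000000000000000000000000000000000000000000000000000000000000000000000000430000000000000000000000000000000000000000000000000000730000000000000000000000000000004250000000000000000060000000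
noncomputable def ZQ2c7 : Nat := nat_lit 0x730000000000000000600000000000000000008300000000000000900000000000000090330040000000000000000000000000a3000000000000000000a30000004200000000000000000000000000000000000000000000000000000000000000000000000000800050530000000000730070000000000000000072000000000000000000000000000000000000000000620000005373000000000000000000000052000000000000000092000043007300000000000000000000000000000000000000000000000000000000000000000000000083000000000000000000000000000000008200000000000000000000000000000000000000000090000000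
noncomputable def ZQ2c8 : Nat := nat_lit 0x0
noncomputable def ZQ2 : Nat → Nat := (fun h => @Nat.rec (fun _ => Nat → Nat)
 (fun h => @Nat.rec (fun _ => Nat → Nat)
 (fun h => @Nat.rec (fun _ => Nat → Nat)
 (fun h => @Nat.rec (fun _ => Nat → Nat)
 (fun i => Nat.land (Nat.shiftRight ZQ2c0 (Nat.mul (nat_lit 8) (Nat.land i (nat_lit 255)))) (nat_lit 255))
 (fun _ _ => (fun i => Nat.land (Nat.shiftRight ZQ2c1 (Nat.mul (nat_lit 8) (Nat.land i (nat_lit 255)))) (nat_lit 255))) (Nat.land h (nat_lit 256)) h)
 (fun _ _ => (fun h => @Nat.rec (fun _ => Nat → Nat)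
 (fun i => Nat.land (Nat.shiftRight ZQ2c2 (Nat.mul (nat_lit 8) (Nat.land i (nat_lit 255)))) (nat_lit 255))
 (fun _ _ => (fun i => Nat.land (Nat.shiftRight ZQ2c3 (Nat.mul (nat_lit 8) (Nat.land i (nat_lit 255)))) (nat_lit 255))) (Nat.land h (nat_lit 256)) h)) (Nat.land h (nat_lit 512)) h)
 (fun _ _ => (fun h => @Nat.rec (fun _ => Nat → Nat)
 (fun h => @Nat.rec (fun _ => Nat → Nat)
 (fun i => Nat.land (Nat.shiftRight ZQ2c4 (Nat.mul (nat_lit 8) (Nat.land i (nat_lit 255)))) (nat_lit 255))
 (fun _ _ => (fun i => Nat.land (Nat.shiftRight ZQ2c5 (Nat.mul (nat_lit 8) (Nat.land i (nat_lit 255)))) (nat_lit 255))) (Nat.land h (nat_lit 256)) h)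
 (fun _ _ => (fun h => @Nat.rec (fun _ => Nat → Nat)
 (fun i => Nat.land (Nat.shiftRight ZQ2c6 (Nat.mul (nat_lit 8) (Nat.land i (nat_lit 255)))) (nat_lit 255))
 (fun _ _ => (fun i => Nat.land (Nat.shiftRight ZQ2c7 (Nat.mul (nat_lit 8) (Nat.land i (nat_lit 255)))) (nat_lit 255))) (Nat.land h (nat_lit 256)) h)) (Nat.land h (nat_lit 512)) h)) (Nat.land h (nat_lit 0x400)) h)
 (fun _ _ => (fun i => Nat.land (Nat.shiftRight ZQ2c8 (Nat.mul (nat_lit 8) (Nat.land i (nat_lit 255)))) (nat_lit 255))) (Nat.land h (nat_lit 0x800)) h)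
theorem Zr2 : allR (ckReach ZQ2 [[X8], [X9], [X10], [X11], [X12], [X13], [X14], [X15], [X16], [X17], [X18], [X19], [X20], [X21], [X22], [X23], [X24], [X25], [X26], [X27]] (nat_lit 14)) (nat_lit 0) (nat_lit 2058) = true := by decide +kernel
theorem Zc2 : cntT ZQ2 (nat_lit 90) (nat_lit 2058) (nat_lit 0) = true := by decide +kernel
def ZG2 : List (List Nat) := [[15], [16], [17], [18], [19], [20], [21], [22], [23], [24], [25], [26], [27], [28], [29], [30], [31], [32], [33], [34]]
theorem Zf2 : cntT (fixQ ZQ2 X28) (nat_lit 2) (nat_lit 2058) (nat_lit 0) = true := by decide +kernel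
noncomputable def ZQ3c0 : Nat := nat_lit 0x10000000000000000000000000000000000000000000000000000000024000000000000000000000000000000000000000000000000000000000000000000000
noncomputable def ZQ3c1 : Nat := nat_lit 0x0
noncomputable def ZQ3c2 : Nat := nat_lit 0x0
noncomputable def ZQ3c3 : Nat := nat_lit 0x0
noncomputable def ZQ3c4 : Nat := nat_lit 0x0
noncomputable def ZQ3c5 : Nat := nat_lit 0x0
noncomputable def ZQ3c6 : Nat := nat_lit 0x0
noncomputable def ZQ3c7 : Nat := nat_lit 0x0
noncomputable def ZQ3c8 : Nat := nat_lit 0x0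
noncomputable def ZQ3 : Nat → Nat := (fun h => @Nat.rec (fun _ => Nat → Nat)
 (fun h => @Nat.rec (fun _ => Nat → Nat)
 (fun h => @Nat.rec (fun _ => Nat → Nat)
 (fun h => @Nat.rec (fun _ => Nat → Nat)
 (fun i => Nat.land (Nat.shiftRight ZQ3c0 (Nat.mul (nat_lit 6) (Nat.land i (nat_lit 255)))) (nat_lit 63))
 (fun _ _ => (fun i => Nat.land (Nat.shiftRight ZQ3c1 (Nat.mul (nat_lit 6) (Nat.land i (nat_lit 255)))) (nat_lit 63))) (Nat.land h (nat_lit 256)) h)
 (fun _ _ => (fun h => @Nat.rec (fun _ => Nat → Nat)
 (fun i => Nat.land (Nat.shiftRight ZQ3c2 (Nat.mul (nat_lit 6) (Nat.land i (nat_lit 255)))) (nat_lit 63))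
 (fun _ _ => (fun i => Nat.land (Nat.shiftRight ZQ3c3 (Nat.mul (nat_lit 6) (Nat.land i (nat_lit 255)))) (nat_lit 63))) (Nat.land h (nat_lit 256)) h)) (Nat.land h (nat_lit 512)) h)
 (fun _ _ => (fun h => @Nat.rec (fun _ => Nat → Nat)
 (fun h => @Nat.rec (fun _ => Nat → Nat)
 (fun i => Nat.land (Nat.shiftRight ZQ3c4 (Nat.mul (nat_lit 6) (Nat.land i (nat_lit 255)))) (nat_lit 63))
 (fun _ _ => (fun i => Nat.land (Nat.shiftRight ZQ3c5 (Nat.mul (nat_lit 6) (Nat.land i (nat_lit 255)))) (nat_lit 63))) (Nat.land h (nat_lit 256)) h)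
 (fun _ _ => (fun h => @Nat.rec (fun _ => Nat → Nat)
 (fun i => Nat.land (Nat.shiftRight ZQ3c6 (Nat.mul (nat_lit 6) (Nat.land i (nat_lit 255)))) (nat_lit 63))
 (fun _ _ => (fun i => Nat.land (Nat.shiftRight ZQ3c7 (Nat.mul (nat_lit 6) (Nat.land i (nat_lit 255)))) (nat_lit 63))) (Nat.land h (nat_lit 256)) h)) (Nat.land h (nat_lit 512)) h)) (Nat.land h (nat_lit 0x400)) h)
 (fun _ _ => (fun i => Nat.land (Nat.shiftRight ZQ3c8 (Nat.mul (nat_lit 6) (Nat.land i (nat_lit 255)))) (nat_lit 63))) (Nat.land h (nat_lit 0x800)) h)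
theorem Zr3 : allR (ckReach ZQ3 [[X12], [X13], [X14], [X15], [X16], [X17], [X18], [X19], [X20], [X21], [X22], [X23], [X24], [X25], [X26], [X27]] (nat_lit 84)) (nat_lit 0) (nat_lit 2058) = true := by decide +kernel
theorem Zc3 : cntT ZQ3 (nat_lit 2) (nat_lit 2058) (nat_lit 0) = true := by decide +kernel
def ZG3 : List (List Nat) := [[19], [20], [21], [22], [23], [24], [25], [26], [27], [28], [29], [30], [31], [32], [33], [34]]
theorem Zf3 : cntT (fixQ ZQ3 X28) (nat_lit 2) (nat_lit 2058) (nat_lit 0) = true := by decide +kernel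
noncomputable def ZQ4c0 : Nat := nat_lit 0x880000000000000000
noncomputable def ZQ4c1 : Nat := nat_lit 0x400000000000000000000000000000000000000000000000000000000000000000000000000000000000000000000000000000000000000000000000000000000000000
noncomputable def ZQ4c2 : Nat := nat_lit 0x0
noncomputable def ZQ4c3 : Nat := nat_lit 0x0
noncomputable def ZQ4c4 : Nat := nat_lit 0x0
noncomputable def ZQ4c5 : Nat := nat_lit 0x0
noncomputable def ZQ4c6 : Nat := nat_lit 0x0
noncomputable def ZQ4c7 : Nat := nat_lit 0x0
noncomputable def ZQ4c8 : Nat := nat_lit 0x0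
noncomputable def ZQ4 : Nat → Nat := (fun h => @Nat.rec (fun _ => Nat → Nat)
 (fun h => @Nat.rec (fun _ => Nat → Nat)
 (fun h => @Nat.rec (fun _ => Nat → Nat)
 (fun h => @Nat.rec (fun _ => Nat → Nat)
 (fun i => Nat.land (Nat.shiftRight ZQ4c0 (Nat.mul (nat_lit 6) (Nat.land i (nat_lit 255)))) (nat_lit 63))
 (fun _ _ => (fun i => Nat.land (Nat.shiftRight ZQ4c1 (Nat.mul (nat_lit 6) (Nat.land i (nat_lit 255)))) (nat_lit 63))) (Nat.land h (nat_lit 256)) h)
 (fun _ _ => (fun h => @Nat.rec (fun _ => Nat → Nat)
 (fun i => Nat.land (Nat.shiftRight ZQ4c2 (Nat.mul (nat_lit 6) (Nat.land i (nat_lit 255)))) (nat_lit 63))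
 (fun _ _ => (fun i => Nat.land (Nat.shiftRight ZQ4c3 (Nat.mul (nat_lit 6) (Nat.land i (nat_lit 255)))) (nat_lit 63))) (Nat.land h (nat_lit 256)) h)) (Nat.land h (nat_lit 512)) h)
 (fun _ _ => (fun h => @Nat.rec (fun _ => Nat → Nat)
 (fun h => @Nat.rec (fun _ => Nat → Nat)
 (fun i => Nat.land (Nat.shiftRight ZQ4c4 (Nat.mul (nat_lit 6) (Nat.land i (nat_lit 255)))) (nat_lit 63))
 (fun _ _ => (fun i => Nat.land (Nat.shiftRight ZQ4c5 (Nat.mul (nat_lit 6) (Nat.land i (nat_lit 255)))) (nat_lit 63))) (Nat.land h (nat_lit 256)) h)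
 (fun _ _ => (fun h => @Nat.rec (fun _ => Nat → Nat)
 (fun i => Nat.land (Nat.shiftRight ZQ4c6 (Nat.mul (nat_lit 6) (Nat.land i (nat_lit 255)))) (nat_lit 63))
 (fun _ _ => (fun i => Nat.land (Nat.shiftRight ZQ4c7 (Nat.mul (nat_lit 6) (Nat.land i (nat_lit 255)))) (nat_lit 63))) (Nat.land h (nat_lit 256)) h)) (Nat.land h (nat_lit 512)) h)) (Nat.land h (nat_lit 0x400)) h)
 (fun _ _ => (fun i => Nat.land (Nat.shiftRight ZQ4c8 (Nat.mul (nat_lit 6) (Nat.land i (nat_lit 255)))) (nat_lit 63))) (Nat.land h (nat_lit 0x800)) h)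
theorem Zr4 : allR (ckReach ZQ4 [[X18], [X19], [X20], [X21], [X22], [X23], [X24], [X25], [X26], [X27]] (nat_lit 345)) (nat_lit 0) (nat_lit 2058) = true := by decide +kernel
theorem Zc4 : cntT ZQ4 (nat_lit 2) (nat_lit 2058) (nat_lit 0) = true := by decide +kernel
def ZG4 : List (List Nat) := [[25], [26], [27], [28], [29], [30], [31], [32], [33], [34]]
theorem Zf4 : cntT (fixQ ZQ4 X28) (nat_lit 2) (nat_lit 2058) (nat_lit 0) = true := by decide +kernel
noncomputable def ZQ5c0 : Nat := nat_lit 0x0
noncomputable def ZQ5c1 : Nat := nat_lit 0x0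
noncomputable def ZQ5c2 : Nat := nat_lit 0x0
noncomputable def ZQ5c3 : Nat := nat_lit 0x0
noncomputable def ZQ5c4 : Nat := nat_lit 0x0
noncomputable def ZQ5c5 : Nat := nat_lit 0x0
noncomputable def ZQ5c6 : Nat := nat_lit 0x10000000880000000000000000000000000000000000000000000000000000000000000000000000000000000000000000000000000000000000000000000000000000000000000000000000000000000000000000000000000000000000000000000000000000000000000000000000000000000000000000000000000000000000000000000000
noncomputable def ZQ5c7 : Nat := nat_lit 0x0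
noncomputable def ZQ5c8 : Nat := nat_lit 0x0
noncomputable def ZQ5 : Nat → Nat := (fun h => @Nat.rec (fun _ => Nat → Nat)
 (fun h => @Nat.rec (fun _ => Nat → Nat)
 (fun h => @Nat.rec (fun _ => Nat → Nat)
 (fun h => @Nat.rec (fun _ => Nat → Nat)
 (fun i => Nat.land (Nat.shiftRight ZQ5c0 (Nat.mul (nat_lit 6) (Nat.land i (nat_lit 255)))) (nat_lit 63))
 (fun _ _ => (fun i => Nat.land (Nat.shiftRight ZQ5c1 (Nat.mul (nat_lit 6) (Nat.land i (nat_lit 255)))) (nat_lit 63))) (Nat.land h (nat_lit 256)) h)
 (fun _ _ => (fun h => @Nat.rec (fun _ => Nat → Nat)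
 (fun i => Nat.land (Nat.shiftRight ZQ5c2 (Nat.mul (nat_lit 6) (Nat.land i (nat_lit 255)))) (nat_lit 63))
 (fun _ _ => (fun i => Nat.land (Nat.shiftRight ZQ5c3 (Nat.mul (nat_lit 6) (Nat.land i (nat_lit 255)))) (nat_lit 63))) (Nat.land h (nat_lit 256)) h)) (Nat.land h (nat_lit 512)) h)
 (fun _ _ => (fun h => @Nat.rec (fun _ => Nat → Nat)
 (fun h => @Nat.rec (fun _ => Nat → Nat)
 (fun i => Nat.land (Nat.shiftRight ZQ5c4 (Nat.mul (nat_lit 6) (Nat.land i (nat_lit 255)))) (nat_lit 63))
 (fun _ _ => (fun i => Nat.land (Nat.shiftRight ZQ5c5 (Nat.mul (nat_lit 6) (Nat.land i (nat_lit 255)))) (nat_lit 63))) (Nat.land h (nat_lit 256)) h)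
 (fun _ _ => (fun h => @Nat.rec (fun _ => Nat → Nat)
 (fun i => Nat.land (Nat.shiftRight ZQ5c6 (Nat.mul (nat_lit 6) (Nat.land i (nat_lit 255)))) (nat_lit 63))
 (fun _ _ => (fun i => Nat.land (Nat.shiftRight ZQ5c7 (Nat.mul (nat_lit 6) (Nat.land i (nat_lit 255)))) (nat_lit 63))) (Nat.land h (nat_lit 256)) h)) (Nat.land h (nat_lit 512)) h)) (Nat.land h (nat_lit 0x400)) h)
 (fun _ _ => (fun i => Nat.land (Nat.shiftRight ZQ5c8 (Nat.mul (nat_lit 6) (Nat.land i (nat_lit 255)))) (nat_lit 63))) (Nat.land h (nat_lit 0x800)) h)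
theorem Zr5 : allR (ckReach ZQ5 [[X22], [X23], [X24], [X25], [X26], [X27]] (nat_lit 1716)) (nat_lit 0) (nat_lit 2058) = true := by decide +kernel
theorem Zc5 : cntT ZQ5 (nat_lit 2) (nat_lit 2058) (nat_lit 0) = true := by decide +kernel
def ZG5 : List (List Nat) := [[29], [30], [31], [32], [33], [34]]
theorem Zf5 : cntT (fixQ ZQ5 X28) (nat_lit 2) (nat_lit 2058) (nat_lit 0) = true := by decide +kernel
noncomputable def ZQ6c0 : Nat := nat_lit 0x800010000
noncomputable def ZQ6c1 : Nat := nat_lit 0x0
noncomputable def ZQ6c2 : Nat := nat_lit 0x0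
noncomputable def ZQ6c3 : Nat := nat_lit 0x0
noncomputable def ZQ6c4 : Nat := nat_lit 0x0
noncomputable def ZQ6c5 : Nat := nat_lit 0x0
noncomputable def ZQ6c6 : Nat := nat_lit 0x0
noncomputable def ZQ6c7 : Nat := nat_lit 0x0
noncomputable def ZQ6c8 : Nat := nat_lit 0x0
noncomputable def ZQ6 : Nat → Nat := (fun h => @Nat.rec (fun _ => Nat → Nat)
 (fun h => @Nat.rec (fun _ => Nat → Nat)
 (fun h => @Nat.rec (fun _ => Nat → Nat)
 (fun h => @Nat.rec (fun _ => Nat → Nat)
 (fun i => Nat.land (Nat.shiftRight ZQ6c0 (Nat.mul (nat_lit 6) (Nat.land i (nat_lit 255)))) (nat_lit 63))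
 (fun _ _ => (fun i => Nat.land (Nat.shiftRight ZQ6c1 (Nat.mul (nat_lit 6) (Nat.land i (nat_lit 255)))) (nat_lit 63))) (Nat.land h (nat_lit 256)) h)
 (fun _ _ => (fun h => @Nat.rec (fun _ => Nat → Nat)
 (fun i => Nat.land (Nat.shiftRight ZQ6c2 (Nat.mul (nat_lit 6) (Nat.land i (nat_lit 255)))) (nat_lit 63))
 (fun _ _ => (fun i => Nat.land (Nat.shiftRight ZQ6c3 (Nat.mul (nat_lit 6) (Nat.land i (nat_lit 255)))) (nat_lit 63))) (Nat.land h (nat_lit 256)) h)) (Nat.land h (nat_lit 512)) h)
 (fun _ _ => (fun h => @Nat.rec (fun _ => Nat → Nat)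
 (fun h => @Nat.rec (fun _ => Nat → Nat)
 (fun i => Nat.land (Nat.shiftRight ZQ6c4 (Nat.mul (nat_lit 6) (Nat.land i (nat_lit 255)))) (nat_lit 63))
 (fun _ _ => (fun i => Nat.land (Nat.shiftRight ZQ6c5 (Nat.mul (nat_lit 6) (Nat.land i (nat_lit 255)))) (nat_lit 63))) (Nat.land h (nat_lit 256)) h)
 (fun _ _ => (fun h => @Nat.rec (fun _ => Nat → Nat)
 (fun i => Nat.land (Nat.shiftRight ZQ6c6 (Nat.mul (nat_lit 6) (Nat.land i (nat_lit 255)))) (nat_lit 63))
 (fun _ _ => (fun i => Nat.land (Nat.shiftRight ZQ6c7 (Nat.mul (nat_lit 6) (Nat.land i (nat_lit 255)))) (nat_lit 63))) (Nat.land h (nat_lit 256)) h)) (Nat.land h (nat_lit 512)) h)) (Nat.land h (nat_lit 0x400)) h)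
 (fun _ _ => (fun i => Nat.land (Nat.shiftRight ZQ6c8 (Nat.mul (nat_lit 6) (Nat.land i (nat_lit 255)))) (nat_lit 63))) (Nat.land h (nat_lit 0x800)) h)
theorem Zr6 : allR (ckReach ZQ6 [[X26], [X27]] (nat_lit 2)) (nat_lit 0) (nat_lit 2058) = true := by decide +kernel
theorem Zc6 : cntT ZQ6 (nat_lit 2) (nat_lit 2058) (nat_lit 0) = true := by decide +kernel
def ZG6 : List (List Nat) := [[33], [34]]

end Cfsg.Agent.H8.HeC
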