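import Cfsg.Agent.H8.T.J2Ca

set_option Elab.async false
set_option autoImplicit false
set_option linter.all false
set_option maxRecDepth 100000
set_option maxHeartbeats 400000

namespace Cfsg.Agent.H8.J2C
open Cfsg.Agent.H8.J2t (T0 T1 T2 T3 T4)

theorem pk0_0 : allR (ckPerm (nat_lit 280) X0 X1) (nat_lit 0) (nat_lit 140) = true := by decide +kernel
theorem pk0_1 : allR (ckPerm (nat_lit 280) X0 X1) (nat_lit 140) (nat_lit 140) = true := by decide +kernel
theorem pk1_0 : allR (ckPerm (nat_lit 280) X1 X0) (nat_lit 0) (nat_lit 140) = true := by decide +kernel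
theorem pk1_1 : allR (ckPerm (nat_lit 280) X1 X0) (nat_lit 140) (nat_lit 140) = true := by decide +kernel
theorem pk2_0 : allR (ckPerm (nat_lit 280) X2 X3) (nat_lit 0) (nat_lit 140) = true := by decide +kernel
theorem pk2_1 : allR (ckPerm (nat_lit 280) X2 X3) (nat_lit 140) (nat_lit 140) = true := by decide +kernel
theorem pk3_0 : allR (ckPerm (nat_lit 280) X3 X2) (nat_lit 0) (nat_lit 140) = true := by decide +kernel
theorem pk3_1 : allR (ckPerm (nat_lit 280) X3 X2) (nat_lit 140) (nat_lit 140) = true := by decide +kernel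
theorem pk4_0 : allR (ckPerm (nat_lit 280) X4 X5) (nat_lit 0) (nat_lit 140) = true := by decide +kernel
theorem pk4_1 : allR (ckPerm (nat_lit 280) X4 X5) (nat_lit 140) (nat_lit 140) = true := by decide +kernel
theorem pk5_0 : allR (ckPerm (nat_lit 280) X5 X4) (nat_lit 0) (nat_lit 140) = true := by decide +kernel
theorem pk5_1 : allR (ckPerm (nat_lit 280) X5 X4) (nat_lit 140) (nat_lit 140) = true := by decide +kernel
theorem pk6_0 : allR (ckPerm (nat_lit 280) X6 X7) (nat_lit 0) (nat_lit 140) = true := by decide +kernel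
theorem pk6_1 : allR (ckPerm (nat_lit 280) X6 X7) (nat_lit 140) (nat_lit 140) = true := by decide +kernel
theorem pk7_0 : allR (ckPerm (nat_lit 280) X7 X6) (nat_lit 0) (nat_lit 140) = true := by decide +kernel
theorem pk7_1 : allR (ckPerm (nat_lit 280) X7 X6) (nat_lit 140) (nat_lit 140) = true := by decide +kernel
theorem pk8_0 : allR (ckPerm (nat_lit 280) X8 X9) (nat_lit 0) (nat_lit 140) = true := by decide +kernel
theorem pk8_1 : allR (ckPerm (nat_lit 280) X8 X9) (nat_lit 140) (nat_lit 140) = true := by decide +kernel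
theorem pk9_0 : allR (ckPerm (nat_lit 280) X9 X8) (nat_lit 0) (nat_lit 140) = true := by decide +kernel
theorem pk9_1 : allR (ckPerm (nat_lit 280) X9 X8) (nat_lit 140) (nat_lit 140) = true := by decide +kernel
theorem pk10_0 : allR (ckPerm (nat_lit 280) X10 X11) (nat_lit 0) (nat_lit 140) = true := by decide +kernel
theorem pk10_1 : allR (ckPerm (nat_lit 280) X10 X11) (nat_lit 140) (nat_lit 140) = true := by decide +kernel
theorem pk11_0 : allR (ckPerm (nat_lit 280) X11 X10) (nat_lit 0) (nat_lit 140) = true := by decide +kernel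
theorem pk11_1 : allR (ckPerm (nat_lit 280) X11 X10) (nat_lit 140) (nat_lit 140) = true := by decide +kernel
theorem pk12_0 : allR (ckPerm (nat_lit 280) X12 X13) (nat_lit 0) (nat_lit 140) = true := by decide +kernel
theorem pk12_1 : allR (ckPerm (nat_lit 280) X12 X13) (nat_lit 140) (nat_lit 140) = true := by decide +kernel
theorem pk13_0 : allR (ckPerm (nat_lit 280) X13 X12) (nat_lit 0) (nat_lit 140) = true := by decide +kernel
theorem pk13_1 : allR (ckPerm (nat_lit 280) X13 X12) (nat_lit 140) (nat_lit 140) = true := by decide +kernel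
theorem pk14_0 : allR (ckPerm (nat_lit 280) X14 X15) (nat_lit 0) (nat_lit 140) = true := by decide +kernel
theorem pk14_1 : allR (ckPerm (nat_lit 280) X14 X15) (nat_lit 140) (nat_lit 140) = true := by decide +kernel
theorem pk15_0 : allR (ckPerm (nat_lit 280) X15 X14) (nat_lit 0) (nat_lit 140) = true := by decide +kernel
theorem pk15_1 : allR (ckPerm (nat_lit 280) X15 X14) (nat_lit 140) (nat_lit 140) = true := by decide +kernel
theorem wk4_0 : allR (OT.ckEqW [X4] [X8]) (nat_lit 0) (nat_lit 140) = true := by decide +kernel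
theorem wk4_1 : allR (OT.ckEqW [X4] [X8]) (nat_lit 140) (nat_lit 140) = true := by decide +kernel
theorem wk5_0 : allR (OT.ckEqW [T0] [X10]) (nat_lit 0) (nat_lit 140) = true := by decide +kernel
theorem wk5_1 : allR (OT.ckEqW [T0] [X10]) (nat_lit 140) (nat_lit 140) = true := by decide +kernel
theorem wk3_0 : allR (OT.ckEqW [X1, X2, X0, X2, X1, X3, X0, X0] [X6]) (nat_lit 0) (nat_lit 31) = true := by decide +kernel
theorem wk3_1 : allR (OT.ckEqW [X1, X2, X0, X2, X1, X3, X0, X0] [X6]) (nat_lit 31) (nat_lit 31) = true := by decide +kernel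
theorem wk3_2 : allR (OT.ckEqW [X1, X2, X0, X2, X1, X3, X0, X0] [X6]) (nat_lit 62) (nat_lit 31) = true := by decide +kernel
theorem wk3_3 : allR (OT.ckEqW [X1, X2, X0, X2, X1, X3, X0, X0] [X6]) (nat_lit 93) (nat_lit 31) = true := by decide +kernel
theorem wk3_4 : allR (OT.ckEqW [X1, X2, X0, X2, X1, X3, X0, X0] [X6]) (nat_lit 124) (nat_lit 31) = true := by decide +kernel
theorem wk3_5 : allR (OT.ckEqW [X1, X2, X0, X2, X1, X3, X0, X0] [X6]) (nat_lit 155) (nat_lit 31) = true := by decide +kernel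
theorem wk3_6 : allR (OT.ckEqW [X1, X2, X0, X2, X1, X3, X0, X0] [X6]) (nat_lit 186) (nat_lit 31) = true := by decide +kernel
theorem wk3_7 : allR (OT.ckEqW [X1, X2, X0, X2, X1, X3, X0, X0] [X6]) (nat_lit 217) (nat_lit 31) = true := by decide +kernel
theorem wk3_8 : allR (OT.ckEqW [X1, X2, X0, X2, X1, X3, X0, X0] [X6]) (nat_lit 248) (nat_lit 31) = true := by decide +kernel
theorem wk1_0 : allR (OT.ckEqW [T0, T2, T3, T0, T3] [X2]) (nat_lit 0) (nat_lit 46) = true := by decide +kernel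
theorem wk1_1 : allR (OT.ckEqW [T0, T2, T3, T0, T3] [X2]) (nat_lit 46) (nat_lit 46) = true := by decide +kernel
theorem wk1_2 : allR (OT.ckEqW [T0, T2, T3, T0, T3] [X2]) (nat_lit 92) (nat_lit 46) = true := by decide +kernel
theorem wk1_3 : allR (OT.ckEqW [T0, T2, T3, T0, T3] [X2]) (nat_lit 138) (nat_lit 46) = true := by decide +kernel
theorem wk1_4 : allR (OT.ckEqW [T0, T2, T3, T0, T3] [X2]) (nat_lit 184) (nat_lit 46) = true := by decide +kernel
theorem wk1_5 : allR (OT.ckEqW [T0, T2, T3, T0, T3] [X2]) (nat_lit 230) (nat_lit 46) = true := by decide +kernel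
theorem wk2_0 : allR (OT.ckEqW [X2, X0, X2, X1, X1, X2, X2, X1, X1, X3, X1] [X4]) (nat_lit 0) (nat_lit 23) = true := by decide +kernel
theorem wk2_1 : allR (OT.ckEqW [X2, X0, X2, X1, X1, X2, X2, X1, X1, X3, X1] [X4]) (nat_lit 23) (nat_lit 23) = true := by decide +kernel
theorem wk2_2 : allR (OT.ckEqW [X2, X0, X2, X1, X1, X2, X2, X1, X1, X3, X1] [X4]) (nat_lit 46) (nat_lit 23) = true := by decide +kernel
theorem wk2_3 : allR (OT.ckEqW [X2, X0, X2, X1, X1, X2, X2, X1, X1, X3, X1] [X4]) (nat_lit 69) (nat_lit 23) = true := by decide +kernel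
theorem wk2_4 : allR (OT.ckEqW [X2, X0, X2, X1, X1, X2, X2, X1, X1, X3, X1] [X4]) (nat_lit 92) (nat_lit 23) = true := by decide +kernel
theorem wk2_5 : allR (OT.ckEqW [X2, X0, X2, X1, X1, X2, X2, X1, X1, X3, X1] [X4]) (nat_lit 115) (nat_lit 23) = true := by decide +kernel
theorem wk2_6 : allR (OT.ckEqW [X2, X0, X2, X1, X1, X2, X2, X1, X1, X3, X1] [X4]) (nat_lit 138) (nat_lit 23) = true := by decide +kernel
theorem wk2_7 : allR (OT.ckEqW [X2, X0, X2, X1, X1, X2, X2, X1, X1, X3, X1] [X4]) (nat_lit 161) (nat_lit 23) = true := by decide +kernel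
theorem wk2_8 : allR (OT.ckEqW [X2, X0, X2, X1, X1, X2, X2, X1, X1, X3, X1] [X4]) (nat_lit 184) (nat_lit 23) = true := by decide +kernel
theorem wk2_9 : allR (OT.ckEqW [X2, X0, X2, X1, X1, X2, X2, X1, X1, X3, X1] [X4]) (nat_lit 207) (nat_lit 23) = true := by decide +kernel
theorem wk2_10 : allR (OT.ckEqW [X2, X0, X2, X1, X1, X2, X2, X1, X1, X3, X1] [X4]) (nat_lit 230) (nat_lit 23) = true := by decide +kernel
theorem wk2_11 : allR (OT.ckEqW [X2, X0, X2, X1, X1, X2, X2, X1, X1, X3, X1] [X4]) (nat_lit 253) (nat_lit 23) = true := by decide +kernel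
theorem wk7_0 : allR (OT.ckEqW [X6, X4, X6, X4, X6, X4, X6, X4, X0, X0, X2, X1, X1, X1, X2, X1, X1, T3, T2, T4] [X14]) (nat_lit 0) (nat_lit 13) = true := by decide +kernel
theorem wk7_1 : allR (OT.ckEqW [X6, X4, X6, X4, X6, X4, X6, X4, X0, X0, X2, X1, X1, X1, X2, X1, X1, T3, T2, T4] [X14]) (nat_lit 13) (nat_lit 13) = true := by decide +kernel
theorem wk7_2 : allR (OT.ckEqW [X6, X4, X6, X4, X6, X4, X6, X4, X0, X0, X2, X1, X1, X1, X2, X1, X1, T3, T2, T4] [X14]) (nat_lit 26) (nat_lit 13) = true := by decide +kernel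
theorem wk7_3 : allR (OT.ckEqW [X6, X4, X6, X4, X6, X4, X6, X4, X0, X0, X2, X1, X1, X1, X2, X1, X1, T3, T2, T4] [X14]) (nat_lit 39) (nat_lit 13) = true := by decide +kernel
theorem wk7_4 : allR (OT.ckEqW [X6, X4, X6, X4, X6, X4, X6, X4, X0, X0, X2, X1, X1, X1, X2, X1, X1, T3, T2, T4] [X14]) (nat_lit 52) (nat_lit 13) = true := by decide +kernel
theorem wk7_5 : allR (OT.ckEqW [X6, X4, X6, X4, X6, X4, X6, X4, X0, X0, X2, X1, X1, X1, X2, X1, X1, T3, T2, T4] [X14]) (nat_lit 65) (nat_lit 13) = true := by decide +kernel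
theorem wk7_6 : allR (OT.ckEqW [X6, X4, X6, X4, X6, X4, X6, X4, X0, X0, X2, X1, X1, X1, X2, X1, X1, T3, T2, T4] [X14]) (nat_lit 78) (nat_lit 13) = true := by decide +kernel
theorem wk7_7 : allR (OT.ckEqW [X6, X4, X6, X4, X6, X4, X6, X4, X0, X0, X2, X1, X1, X1, X2, X1, X1, T3, T2, T4] [X14]) (nat_lit 91) (nat_lit 13) = true := by decide +kernel
theorem wk7_8 : allR (OT.ckEqW [X6, X4, X6, X4, X6, X4, X6, X4, X0, X0, X2, X1, X1, X1, X2, X1, X1, T3, T2, T4] [X14]) (nat_lit 104) (nat_lit 13) = true := by decide +kernel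
theorem wk7_9 : allR (OT.ckEqW [X6, X4, X6, X4, X6, X4, X6, X4, X0, X0, X2, X1, X1, X1, X2, X1, X1, T3, T2, T4] [X14]) (nat_lit 117) (nat_lit 13) = true := by decide +kernel
theorem wk7_10 : allR (OT.ckEqW [X6, X4, X6, X4, X6, X4, X6, X4, X0, X0, X2, X1, X1, X1, X2, X1, X1, T3, T2, T4] [X14]) (nat_lit 130) (nat_lit 13) = true := by decide +kernel
theorem wk7_11 : allR (OT.ckEqW [X6, X4, X6, X4, X6, X4, X6, X4, X0, X0, X2, X1, X1, X1, X2, X1, X1, T3, T2, T4] [X14]) (nat_lit 143) (nat_lit 13) = true := by decide +kernel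
theorem wk7_12 : allR (OT.ckEqW [X6, X4, X6, X4, X6, X4, X6, X4, X0, X0, X2, X1, X1, X1, X2, X1, X1, T3, T2, T4] [X14]) (nat_lit 156) (nat_lit 13) = true := by decide +kernel
theorem wk7_13 : allR (OT.ckEqW [X6, X4, X6, X4, X6, X4, X6, X4, X0, X0, X2, X1, X1, X1, X2, X1, X1, T3, T2, T4] [X14]) (nat_lit 169) (nat_lit 13) = true := by decide +kernel
theorem wk7_14 : allR (OT.ckEqW [X6, X4, X6, X4, X6, X4, X6, X4, X0, X0, X2, X1, X1, X1, X2, X1, X1, T3, T2, T4] [X14]) (nat_lit 182) (nat_lit 13) = true := by decide +kernel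
theorem wk7_15 : allR (OT.ckEqW [X6, X4, X6, X4, X6, X4, X6, X4, X0, X0, X2, X1, X1, X1, X2, X1, X1, T3, T2, T4] [X14]) (nat_lit 195) (nat_lit 13) = true := by decide +kernel
theorem wk7_16 : allR (OT.ckEqW [X6, X4, X6, X4, X6, X4, X6, X4, X0, X0, X2, X1, X1, X1, X2, X1, X1, T3, T2, T4] [X14]) (nat_lit 208) (nat_lit 13) = true := by decide +kernel
theorem wk7_17 : allR (OT.ckEqW [X6, X4, X6, X4, X6, X4, X6, X4, X0, X0, X2, X1, X1, X1, X2, X1, X1, T3, T2, T4] [X14]) (nat_lit 221) (nat_lit 13) = true := by decide +kernel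
theorem wk7_18 : allR (OT.ckEqW [X6, X4, X6, X4, X6, X4, X6, X4, X0, X0, X2, X1, X1, X1, X2, X1, X1, T3, T2, T4] [X14]) (nat_lit 234) (nat_lit 13) = true := by decide +kernel
theorem wk7_19 : allR (OT.ckEqW [X6, X4, X6, X4, X6, X4, X6, X4, X0, X0, X2, X1, X1, X1, X2, X1, X1, T3, T2, T4] [X14]) (nat_lit 247) (nat_lit 13) = true := by decide +kernel
theorem wk7_20 : allR (OT.ckEqW [X6, X4, X6, X4, X6, X4, X6, X4, X0, X0, X2, X1, X1, X1, X2, X1, X1, T3, T2, T4] [X14]) (nat_lit 260) (nat_lit 13) = true := by decide +kernel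
theorem wk6_0 : allR (OT.ckEqW [X8, X6, X4, X6, X4, X6, X4, X0, X2, X0, T3, T2, T4, T3, T2] [X12]) (nat_lit 0) (nat_lit 17) = true := by decide +kernel
theorem wk6_1 : allR (OT.ckEqW [X8, X6, X4, X6, X4, X6, X4, X0, X2, X0, T3, T2, T4, T3, T2] [X12]) (nat_lit 17) (nat_lit 17) = true := by decide +kernel
theorem wk6_2 : allR (OT.ckEqW [X8, X6, X4, X6, X4, X6, X4, X0, X2, X0, T3, T2, T4, T3, T2] [X12]) (nat_lit 34) (nat_lit 17) = true := by decide +kernel
theorem wk6_3 : allR (OT.ckEqW [X8, X6, X4, X6, X4, X6, X4, X0, X2, X0, T3, T2, T4, T3, T2] [X12]) (nat_lit 51) (nat_lit 17) = true := by decide +kernel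
theorem wk6_4 : allR (OT.ckEqW [X8, X6, X4, X6, X4, X6, X4, X0, X2, X0, T3, T2, T4, T3, T2] [X12]) (nat_lit 68) (nat_lit 17) = true := by decide +kernel
theorem wk6_5 : allR (OT.ckEqW [X8, X6, X4, X6, X4, X6, X4, X0, X2, X0, T3, T2, T4, T3, T2] [X12]) (nat_lit 85) (nat_lit 17) = true := by decide +kernel
theorem wk6_6 : allR (OT.ckEqW [X8, X6, X4, X6, X4, X6, X4, X0, X2, X0, T3, T2, T4, T3, T2] [X12]) (nat_lit 102) (nat_lit 17) = true := by decide +kernel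
theorem wk6_7 : allR (OT.ckEqW [X8, X6, X4, X6, X4, X6, X4, X0, X2, X0, T3, T2, T4, T3, T2] [X12]) (nat_lit 119) (nat_lit 17) = true := by decide +kernel
theorem wk6_8 : allR (OT.ckEqW [X8, X6, X4, X6, X4, X6, X4, X0, X2, X0, T3, T2, T4, T3, T2] [X12]) (nat_lit 136) (nat_lit 17) = true := by decide +kernel
theorem wk6_9 : allR (OT.ckEqW [X8, X6, X4, X6, X4, X6, X4, X0, X2, X0, T3, T2, T4, T3, T2] [X12]) (nat_lit 153) (nat_lit 17) = true := by decide +kernel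
theorem wk6_10 : allR (OT.ckEqW [X8, X6, X4, X6, X4, X6, X4, X0, X2, X0, T3, T2, T4, T3, T2] [X12]) (nat_lit 170) (nat_lit 17) = true := by decide +kernel
theorem wk6_11 : allR (OT.ckEqW [X8, X6, X4, X6, X4, X6, X4, X0, X2, X0, T3, T2, T4, T3, T2] [X12]) (nat_lit 187) (nat_lit 17) = true := by decide +kernel
theorem wk6_12 : allR (OT.ckEqW [X8, X6, X4, X6, X4, X6, X4, X0, X2, X0, T3, T2, T4, T3, T2] [X12]) (nat_lit 204) (nat_lit 17) = true := by decide +kernel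
theorem wk6_13 : allR (OT.ckEqW [X8, X6, X4, X6, X4, X6, X4, X0, X2, X0, T3, T2, T4, T3, T2] [X12]) (nat_lit 221) (nat_lit 17) = true := by decide +kernel
theorem wk6_14 : allR (OT.ckEqW [X8, X6, X4, X6, X4, X6, X4, X0, X2, X0, T3, T2, T4, T3, T2] [X12]) (nat_lit 238) (nat_lit 17) = true := by decide +kernel
theorem wk6_15 : allR (OT.ckEqW [X8, X6, X4, X6, X4, X6, X4, X0, X2, X0, T3, T2, T4, T3, T2] [X12]) (nat_lit 255) (nat_lit 17) = true := by decide +kernel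
theorem wk0_0 : allR (OT.ckEqW [T1, T3, T1, T4, T1, T2, T1, T0, T3, T4, T3, T1, T0, T3, T2, T1, T4, T0, T3, T4, T0, T3, T1, T2, T3, T4, T1, T0, T1, T2, T3] [X0]) (nat_lit 0) (nat_lit 8) = true := by decide +kernel
theorem wk0_1 : allR (OT.ckEqW [T1, T3, T1, T4, T1, T2, T1, T0, T3, T4, T3, T1, T0, T3, T2, T1, T4, T0, T3, T4, T0, T3, T1, T2, T3, T4, T1, T0, T1, T2, T3] [X0]) (nat_lit 8) (nat_lit 8) = true := by decide +kernel
theorem wk0_2 : allR (OT.ckEqW [T1, T3, T1, T4, T1, T2, T1, T0, T3, T4, T3, T1, T0, T3, T2, T1, T4, T0, T3, T4, T0, T3, T1, T2, T3, T4, T1, T0, T1, T2, T3] [X0]) (nat_lit 16) (nat_lit 8) = true := by decide +kernel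
theorem wk0_3 : allR (OT.ckEqW [T1, T3, T1, T4, T1, T2, T1, T0, T3, T4, T3, T1, T0, T3, T2, T1, T4, T0, T3, T4, T0, T3, T1, T2, T3, T4, T1, T0, T1, T2, T3] [X0]) (nat_lit 24) (nat_lit 8) = true := by decide +kernel
theorem wk0_4 : allR (OT.ckEqW [T1, T3, T1, T4, T1, T2, T1, T0, T3, T4, T3, T1, T0, T3, T2, T1, T4, T0, T3, T4, T0, T3, T1, T2, T3, T4, T1, T0, T1, T2, T3] [X0]) (nat_lit 32) (nat_lit 8) = true := by decide +kernel
theorem wk0_5 : allR (OT.ckEqW [T1, T3, T1, T4, T1, T2, T1, T0, T3, T4, T3, T1, T0, T3, T2, T1, T4, T0, T3, T4, T0, T3, T1, T2, T3, T4, T1, T0, T1, T2, T3] [X0]) (nat_lit 40) (nat_lit 8) = true := by decide +kernel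
theorem wk0_6 : allR (OT.ckEqW [T1, T3, T1, T4, T1, T2, T1, T0, T3, T4, T3, T1, T0, T3, T2, T1, T4, T0, T3, T4, T0, T3, T1, T2, T3, T4, T1, T0, T1, T2, T3] [X0]) (nat_lit 48) (nat_lit 8) = true := by decide +kernel
theorem wk0_7 : allR (OT.ckEqW [T1, T3, T1, T4, T1, T2, T1, T0, T3, T4, T3, T1, T0, T3, T2, T1, T4, T0, T3, T4, T0, T3, T1, T2, T3, T4, T1, T0, T1, T2, T3] [X0]) (nat_lit 56) (nat_lit 8) = true := by decide +kernel
theorem wk0_8 : allR (OT.ckEqW [T1, T3, T1, T4, T1, T2, T1, T0, T3, T4, T3, T1, T0, T3, T2, T1, T4, T0, T3, T4, T0, T3, T1, T2, T3, T4, T1, T0, T1, T2, T3] [X0]) (nat_lit 64) (nat_lit 8) = true := by decide +kernel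
theorem wk0_9 : allR (OT.ckEqW [T1, T3, T1, T4, T1, T2, T1, T0, T3, T4, T3, T1, T0, T3, T2, T1, T4, T0, T3, T4, T0, T3, T1, T2, T3, T4, T1, T0, T1, T2, T3] [X0]) (nat_lit 72) (nat_lit 8) = true := by decide +kernel
theorem wk0_10 : allR (OT.ckEqW [T1, T3, T1, T4, T1, T2, T1, T0, T3, T4, T3, T1, T0, T3, T2, T1, T4, T0, T3, T4, T0, T3, T1, T2, T3, T4, T1, T0, T1, T2, T3] [X0]) (nat_lit 80) (nat_lit 8) = true := by decide +kernel
theorem wk0_11 : allR (OT.ckEqW [T1, T3, T1, T4, T1, T2, T1, T0, T3, T4, T3, T1, T0, T3, T2, T1, T4, T0, T3, T4, T0, T3, T1, T2, T3, T4, T1, T0, T1, T2, T3] [X0]) (nat_lit 88) (nat_lit 8) = true := by decide +kernel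
theorem wk0_12 : allR (OT.ckEqW [T1, T3, T1, T4, T1, T2, T1, T0, T3, T4, T3, T1, T0, T3, T2, T1, T4, T0, T3, T4, T0, T3, T1, T2, T3, T4, T1, T0, T1, T2, T3] [X0]) (nat_lit 96) (nat_lit 8) = true := by decide +kernel
theorem wk0_13 : allR (OT.ckEqW [T1, T3, T1, T4, T1, T2, T1, T0, T3, T4, T3, T1, T0, T3, T2, T1, T4, T0, T3, T4, T0, T3, T1, T2, T3, T4, T1, T0, T1, T2, T3] [X0]) (nat_lit 104) (nat_lit 8) = true := by decide +kernel
theorem wk0_14 : allR (OT.ckEqW [T1, T3, T1, T4, T1, T2, T1, T0, T3, T4, T3, T1, T0, T3, T2, T1, T4, T0, T3, T4, T0, T3, T1, T2, T3, T4, T1, T0, T1, T2, T3] [X0]) (nat_lit 112) (nat_lit 8) = true := by decide +kernel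
theorem wk0_15 : allR (OT.ckEqW [T1, T3, T1, T4, T1, T2, T1, T0, T3, T4, T3, T1, T0, T3, T2, T1, T4, T0, T3, T4, T0, T3, T1, T2, T3, T4, T1, T0, T1, T2, T3] [X0]) (nat_lit 120) (nat_lit 8) = true := by decide +kernel
theorem wk0_16 : allR (OT.ckEqW [T1, T3, T1, T4, T1, T2, T1, T0, T3, T4, T3, T1, T0, T3, T2, T1, T4, T0, T3, T4, T0, T3, T1, T2, T3, T4, T1, T0, T1, T2, T3] [X0]) (nat_lit 128) (nat_lit 8) = true := by decide +kernel
theorem wk0_17 : allR (OT.ckEqW [T1, T3, T1, T4, T1, T2, T1, T0, T3, T4, T3, T1, T0, T3, T2, T1, T4, T0, T3, T4, T0, T3, T1, T2, T3, T4, T1, T0, T1, T2, T3] [X0]) (nat_lit 136) (nat_lit 8) = true := by decide +kernel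
theorem wk0_18 : allR (OT.ckEqW [T1, T3, T1, T4, T1, T2, T1, T0, T3, T4, T3, T1, T0, T3, T2, T1, T4, T0, T3, T4, T0, T3, T1, T2, T3, T4, T1, T0, T1, T2, T3] [X0]) (nat_lit 144) (nat_lit 8) = true := by decide +kernel
theorem wk0_19 : allR (OT.ckEqW [T1, T3, T1, T4, T1, T2, T1, T0, T3, T4, T3, T1, T0, T3, T2, T1, T4, T0, T3, T4, T0, T3, T1, T2, T3, T4, T1, T0, T1, T2, T3] [X0]) (nat_lit 152) (nat_lit 8) = true := by decide +kernel
theorem wk0_20 : allR (OT.ckEqW [T1, T3, T1, T4, T1, T2, T1, T0, T3, T4, T3, T1, T0, T3, T2, T1, T4, T0, T3, T4, T0, T3, T1, T2, T3, T4, T1, T0, T1, T2, T3] [X0]) (nat_lit 160) (nat_lit 8) = true := by decide +kernel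
theorem wk0_21 : allR (OT.ckEqW [T1, T3, T1, T4, T1, T2, T1, T0, T3, T4, T3, T1, T0, T3, T2, T1, T4, T0, T3, T4, T0, T3, T1, T2, T3, T4, T1, T0, T1, T2, T3] [X0]) (nat_lit 168) (nat_lit 8) = true := by decide +kernel
theorem wk0_22 : allR (OT.ckEqW [T1, T3, T1, T4, T1, T2, T1, T0, T3, T4, T3, T1, T0, T3, T2, T1, T4, T0, T3, T4, T0, T3, T1, T2, T3, T4, T1, T0, T1, T2, T3] [X0]) (nat_lit 176) (nat_lit 8) = true := by decide +kernel
theorem wk0_23 : allR (OT.ckEqW [T1, T3, T1, T4, T1, T2, T1, T0, T3, T4, T3, T1, T0, T3, T2, T1, T4, T0, T3, T4, T0, T3, T1, T2, T3, T4, T1, T0, T1, T2, T3] [X0]) (nat_lit 184) (nat_lit 8) = true := by decide +kernel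
theorem wk0_24 : allR (OT.ckEqW [T1, T3, T1, T4, T1, T2, T1, T0, T3, T4, T3, T1, T0, T3, T2, T1, T4, T0, T3, T4, T0, T3, T1, T2, T3, T4, T1, T0, T1, T2, T3] [X0]) (nat_lit 192) (nat_lit 8) = true := by decide +kernel
theorem wk0_25 : allR (OT.ckEqW [T1, T3, T1, T4, T1, T2, T1, T0, T3, T4, T3, T1, T0, T3, T2, T1, T4, T0, T3, T4, T0, T3, T1, T2, T3, T4, T1, T0, T1, T2, T3] [X0]) (nat_lit 200) (nat_lit 8) = true := by decide +kernel
theorem wk0_26 : allR (OT.ckEqW [T1, T3, T1, T4, T1, T2, T1, T0, T3, T4, T3, T1, T0, T3, T2, T1, T4, T0, T3, T4, T0, T3, T1, T2, T3, T4, T1, T0, T1, T2, T3] [X0]) (nat_lit 208) (nat_lit 8) = true := by decide +kernel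
theorem wk0_27 : allR (OT.ckEqW [T1, T3, T1, T4, T1, T2, T1, T0, T3, T4, T3, T1, T0, T3, T2, T1, T4, T0, T3, T4, T0, T3, T1, T2, T3, T4, T1, T0, T1, T2, T3] [X0]) (nat_lit 216) (nat_lit 8) = true := by decide +kernel
theorem wk0_28 : allR (OT.ckEqW [T1, T3, T1, T4, T1, T2, T1, T0, T3, T4, T3, T1, T0, T3, T2, T1, T4, T0, T3, T4, T0, T3, T1, T2, T3, T4, T1, T0, T1, T2, T3] [X0]) (nat_lit 224) (nat_lit 8) = true := by decide +kernel
theorem wk0_29 : allR (OT.ckEqW [T1, T3, T1, T4, T1, T2, T1, T0, T3, T4, T3, T1, T0, T3, T2, T1, T4, T0, T3, T4, T0, T3, T1, T2, T3, T4, T1, T0, T1, T2, T3] [X0]) (nat_lit 232) (nat_lit 8) = true := by decide +kernel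
theorem wk0_30 : allR (OT.ckEqW [T1, T3, T1, T4, T1, T2, T1, T0, T3, T4, T3, T1, T0, T3, T2, T1, T4, T0, T3, T4, T0, T3, T1, T2, T3, T4, T1, T0, T1, T2, T3] [X0]) (nat_lit 240) (nat_lit 8) = true := by decide +kernel
theorem wk0_31 : allR (OT.ckEqW [T1, T3, T1, T4, T1, T2, T1, T0, T3, T4, T3, T1, T0, T3, T2, T1, T4, T0, T3, T4, T0, T3, T1, T2, T3, T4, T1, T0, T1, T2, T3] [X0]) (nat_lit 248) (nat_lit 8) = true := by decide +kernel
theorem wk0_32 : allR (OT.ckEqW [T1, T3, T1, T4, T1, T2, T1, T0, T3, T4, T3, T1, T0, T3, T2, T1, T4, T0, T3, T4, T0, T3, T1, T2, T3, T4, T1, T0, T1, T2, T3] [X0]) (nat_lit 256) (nat_lit 8) = true := by decide +kernel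
theorem wk0_33 : allR (OT.ckEqW [T1, T3, T1, T4, T1, T2, T1, T0, T3, T4, T3, T1, T0, T3, T2, T1, T4, T0, T3, T4, T0, T3, T1, T2, T3, T4, T1, T0, T1, T2, T3] [X0]) (nat_lit 264) (nat_lit 8) = true := by decide +kernel
theorem wk0_34 : allR (OT.ckEqW [T1, T3, T1, T4, T1, T2, T1, T0, T3, T4, T3, T1, T0, T3, T2, T1, T4, T0, T3, T4, T0, T3, T1, T2, T3, T4, T1, T0, T1, T2, T3] [X0]) (nat_lit 272) (nat_lit 8) = true := by decide +kernel
theorem wk7_21 : allR (OT.ckEqW [X6, X4, X6, X4, X6, X4, X6, X4, X0, X0, X2, X1, X1, X1, X2, X1, X1, T3, T2, T4] [X14]) (nat_lit 273) (nat_lit 7) = true := by decide +kernel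
theorem wk6_16 : allR (OT.ckEqW [X8, X6, X4, X6, X4, X6, X4, X0, X2, X0, T3, T2, T4, T3, T2] [X12]) (nat_lit 272) (nat_lit 8) = true := by decide +kernel
theorem wk2_12 : allR (OT.ckEqW [X2, X0, X2, X1, X1, X2, X2, X1, X1, X3, X1] [X4]) (nat_lit 276) (nat_lit 4) = true := by decide +kernel
theorem wk1_6 : allR (OT.ckEqW [T0, T2, T3, T0, T3] [X2]) (nat_lit 276) (nat_lit 4) = true := by decide +kernel
theorem wk3_9 : allR (OT.ckEqW [X1, X2, X0, X2, X1, X3, X0, X0] [X6]) (nat_lit 279) (nat_lit 1) = true := by decide +kernel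

end Cfsg.Agent.H8.J2C
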