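import Cfsg.Agent.H8.T.J2Ca
import Cfsg.Agent.H8.CentChain

set_option Elab.async false
set_option autoImplicit false
set_option linter.all false
set_option maxRecDepth 100000
set_option maxHeartbeats 400000

namespace Cfsg.Agent.H8.J2C
open Cfsg.Agent.H8.J2t (T0 T1 T2 T3 T4)

noncomputable def ZQ0c0 : Nat := nat_lit 0x61b0580c472349c2c4613cde4c451b4988c36130d42a251a01a8d16a311a8c368ac9a0c16a35164b358ad168b449b51a4b379b916691692cd64b4592cd629449a41269038b9166c460b1182c068b0986b058b1146a25229106c350b8dc4c45028948c26130d44b361a9140a451a81068141a04c4d35a2c168b1602cd62a1512d126924a250e6b059349a6b25a2cd60b451acd609348a4d22723914c681061a8d42a258a8924935220908632189186c36030146a151a8504823198c882359a49449341a1128733a14866d059ac56292491cce6542a0c9488349a04e87342184c84260a89448341990c84121a50e08438988e85129ac926933a1d0a05342180e48431a8d08843098d287339250e09439a0906a441a0926b44924d42a359b09a6e4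
noncomputable def ZQ0c1 : Nat := nat_lit 0x9138626f168b11a6d07a385a90380b8982c36134566e368ac9a6e0
noncomputable def ZQ0 : Nat → Nat := (fun h => @Nat.rec (fun _ => Nat → Nat)
 (fun i => Nat.land (Nat.shiftRight ZQ0c0 (Nat.mul (nat_lit 9) (Nat.land i (nat_lit 255)))) (nat_lit 511))
 (fun _ _ => (fun i => Nat.land (Nat.shiftRight ZQ0c1 (Nat.mul (nat_lit 9) (Nat.land i (nat_lit 255)))) (nat_lit 511))) (Nat.land h (nat_lit 256)) h)
theorem Zr0 : allR (ckReach ZQ0 [[T0], [T1], [T2], [T3], [T4], [X0], [X1], [X2], [X4], [X6], [X8]] (nat_lit 116)) (nat_lit 0) (nat_lit 280) = true := by decide +kernel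
theorem Zc0 : cntT ZQ0 (nat_lit 280) (nat_lit 280) (nat_lit 0) = true := by decide +kernel
def ZG0 : List (List Nat) := [[0], [1], [2], [3], [4], [5], [6], [7], [9], [11], [13]]
theorem Zf0 : cntT (fixQ ZQ0 X10) (nat_lit 40) (nat_lit 280) (nat_lit 0) = true := by decide +kernel
noncomputable def ZQ1c0 : Nat := nat_lit 0x4100500000000000a0000051004040300000320000320070929000009150700000000000510000000000000040000042506152000080200000708200000021508180000091006200000040000000000000423000000000907231007051720072820000817000005062520000a100520000007000000000003100008260624200619260006200710000410000608000c0008200620091000000410000805000a2005100004192008200b181720051a2000000900071009000000052a200719100006091000000820081000000600090a000000000000000710000007000000000000000000062000000000051000000720000006100007100b092810000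
noncomputable def ZQ1c1 : Nat := nat_lit 0x220000000000000010000000008261
noncomputable def ZQ1 : Nat → Nat := (fun h => @Nat.rec (fun _ => Nat → Nat)
 (fun i => Nat.land (Nat.shiftRight ZQ1c0 (Nat.mul (nat_lit 8) (Nat.land i (nat_lit 255)))) (nat_lit 255))
 (fun _ _ => (fun i => Nat.land (Nat.shiftRight ZQ1c1 (Nat.mul (nat_lit 8) (Nat.land i (nat_lit 255)))) (nat_lit 255))) (Nat.land h (nat_lit 256)) h)
theorem Zr1 : allR (ckReach ZQ1 [[X0], [X1], [X2], [X4], [X6], [X8]] (nat_lit 262)) (nat_lit 0) (nat_lit 280) = true := by decide +kernel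
theorem Zc1 : cntT ZQ1 (nat_lit 108) (nat_lit 280) (nat_lit 0) = true := by decide +kernel
def ZG1 : List (List Nat) := [[5], [6], [7], [9], [11], [13]]
theorem Zf1 : cntT (fixQ ZQ1 X10) (nat_lit 12) (nat_lit 280) (nat_lit 0) = true := by decide +kernel
noncomputable def ZQ2c0 : Nat := nat_lit 0x61000000000000000000500000000000000000000000000000000000000000000000000000000000000000000000000000000000000000000000000000000000000000000000000000000000000000000000000000000000000000000000000000000000000000000000000000000000000000000000000000000000000000000000000000000000000000000000000000000000000000000000000000a10000000000000000000000000000000000000000000000000000000030000000000000000000000000000000002100000000000000000000000000000000000000000000000000000000000000000000000000000000000010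
noncomputable def ZQ2c1 : Nat := nat_lit 0x8100000070000090000000000000410000
noncomputable def ZQ2 : Nat → Nat := (fun h => @Nat.rec (fun _ => Nat → Nat)
 (fun i => Nat.land (Nat.shiftRight ZQ2c0 (Nat.mul (nat_lit 8) (Nat.land i (nat_lit 255)))) (nat_lit 255))
 (fun _ _ => (fun i => Nat.land (Nat.shiftRight ZQ2c1 (Nat.mul (nat_lit 8) (Nat.land i (nat_lit 255)))) (nat_lit 255))) (Nat.land h (nat_lit 256)) h)
theorem Zr2 : allR (ckReach ZQ2 [[X4], [X6], [X8]] (nat_lit 0)) (nat_lit 0) (nat_lit 280) = true := by decide +kernel
theorem Zc2 : cntT ZQ2 (nat_lit 10) (nat_lit 280) (nat_lit 0) = true := by decide +kernel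
def ZG2 : List (List Nat) := [[9], [11], [13]]
theorem Zf2 : cntT (fixQ ZQ2 X10) (nat_lit 2) (nat_lit 280) (nat_lit 0) = true := by decide +kernel
noncomputable def ZQ3c0 : Nat := nat_lit 0x20010000000
noncomputable def ZQ3c1 : Nat := nat_lit 0x0
noncomputable def ZQ3 : Nat → Nat := (fun h => @Nat.rec (fun _ => Nat → Nat)
 (fun i => Nat.land (Nat.shiftRight ZQ3c0 (Nat.mul (nat_lit 6) (Nat.land i (nat_lit 255)))) (nat_lit 63))
 (fun _ _ => (fun i => Nat.land (Nat.shiftRight ZQ3c1 (Nat.mul (nat_lit 6) (Nat.land i (nat_lit 255)))) (nat_lit 63))) (Nat.land h (nat_lit 256)) h)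
theorem Zr3 : allR (ckReach ZQ3 [[X8]] (nat_lit 4)) (nat_lit 0) (nat_lit 280) = true := by decide +kernel
theorem Zc3 : cntT ZQ3 (nat_lit 2) (nat_lit 280) (nat_lit 0) = true := by decide +kernel
def ZG3 : List (List Nat) := [[13]]

end Cfsg.Agent.H8.J2C
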