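import Cfsg.Agent.H8.T.J2Oa

set_option Elab.async false
set_option autoImplicit false
set_option linter.all false
set_option maxRecDepth 100000
set_option maxHeartbeats 400000

namespace Cfsg.Agent.H8.J2O
open Cfsg.Agent.H8.J2t (T0 T1 T2 T3 T4)

theorem pk0_0 : allR (ckPerm (nat_lit 280) X0 X1) (nat_lit 0) (nat_lit 140) = true := by decide +kernel
theorem pk0_1 : allR (ckPerm (nat_lit 280) X0 X1) (nat_lit 140) (nat_lit 140) = true := by decide +kernel
theorem pk1_0 : allR (ckPerm (nat_lit 280) X1 X0) (nat_lit 0) (nat_lit 140) = true := by decide +kernel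
theorem pk1_1 : allR (ckPerm (nat_lit 280) X1 X0) (nat_lit 140) (nat_lit 140) = true := by decide +kernel
theorem pk2_0 : allR (ckPerm (nat_lit 280) X2 X3) (nat_lit 0) (nat_lit 140) = true := by decide +kernel
theorem pk2_1 : allR (ckPerm (nat_lit 280) X2 X3) (nat_lit 140) (nat_lit 140) = true := by decide +kernel
theorem pk3_0 : allR (ckPerm (nat_lit 280) X3 X2) (nat_lit 0) (nat_lit 140) = true := by decide +kernel
theorem pk3_1 : allR (ckPerm (nat_lit 280) X3 X2) (nat_lit 140) (nat_lit 140) = true := by decide +kernel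
theorem pk4_0 : allR (ckPerm (nat_lit 280) X4 X5) (nat_lit 0) (nat_lit 140) = true := by decide +kernel
theorem pk4_1 : allR (ckPerm (nat_lit 280) X4 X5) (nat_lit 140) (nat_lit 140) = true := by decide +kernel
theorem pk5_0 : allR (ckPerm (nat_lit 280) X5 X4) (nat_lit 0) (nat_lit 140) = true := by decide +kernel
theorem pk5_1 : allR (ckPerm (nat_lit 280) X5 X4) (nat_lit 140) (nat_lit 140) = true := by decide +kernel
theorem pk6_0 : allR (ckPerm (nat_lit 280) X6 X7) (nat_lit 0) (nat_lit 140) = true := by decide +kernel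
theorem pk6_1 : allR (ckPerm (nat_lit 280) X6 X7) (nat_lit 140) (nat_lit 140) = true := by decide +kernel
theorem pk7_0 : allR (ckPerm (nat_lit 280) X7 X6) (nat_lit 0) (nat_lit 140) = true := by decide +kernel
theorem pk7_1 : allR (ckPerm (nat_lit 280) X7 X6) (nat_lit 140) (nat_lit 140) = true := by decide +kernel
theorem pk8_0 : allR (ckPerm (nat_lit 280) X8 X9) (nat_lit 0) (nat_lit 140) = true := by decide +kernel
theorem pk8_1 : allR (ckPerm (nat_lit 280) X8 X9) (nat_lit 140) (nat_lit 140) = true := by decide +kernel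
theorem pk9_0 : allR (ckPerm (nat_lit 280) X9 X8) (nat_lit 0) (nat_lit 140) = true := by decide +kernel
theorem pk9_1 : allR (ckPerm (nat_lit 280) X9 X8) (nat_lit 140) (nat_lit 140) = true := by decide +kernel
theorem pk10_0 : allR (ckPerm (nat_lit 280) X10 X11) (nat_lit 0) (nat_lit 140) = true := by decide +kernel
theorem pk10_1 : allR (ckPerm (nat_lit 280) X10 X11) (nat_lit 140) (nat_lit 140) = true := by decide +kernel
theorem pk11_0 : allR (ckPerm (nat_lit 280) X11 X10) (nat_lit 0) (nat_lit 140) = true := by decide +kernel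
theorem pk11_1 : allR (ckPerm (nat_lit 280) X11 X10) (nat_lit 140) (nat_lit 140) = true := by decide +kernel
theorem pk12_0 : allR (ckPerm (nat_lit 280) X12 X13) (nat_lit 0) (nat_lit 140) = true := by decide +kernel
theorem pk12_1 : allR (ckPerm (nat_lit 280) X12 X13) (nat_lit 140) (nat_lit 140) = true := by decide +kernel
theorem pk13_0 : allR (ckPerm (nat_lit 280) X13 X12) (nat_lit 0) (nat_lit 140) = true := by decide +kernel
theorem pk13_1 : allR (ckPerm (nat_lit 280) X13 X12) (nat_lit 140) (nat_lit 140) = true := by decide +kernel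
theorem pk14_0 : allR (ckPerm (nat_lit 280) X14 X15) (nat_lit 0) (nat_lit 140) = true := by decide +kernel
theorem pk14_1 : allR (ckPerm (nat_lit 280) X14 X15) (nat_lit 140) (nat_lit 140) = true := by decide +kernel
theorem pk15_0 : allR (ckPerm (nat_lit 280) X15 X14) (nat_lit 0) (nat_lit 140) = true := by decide +kernel
theorem pk15_1 : allR (ckPerm (nat_lit 280) X15 X14) (nat_lit 140) (nat_lit 140) = true := by decide +kernel
theorem pk16_0 : allR (ckPerm (nat_lit 280) X16 X17) (nat_lit 0) (nat_lit 140) = true := by decide +kernel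
theorem pk16_1 : allR (ckPerm (nat_lit 280) X16 X17) (nat_lit 140) (nat_lit 140) = true := by decide +kernel
theorem pk17_0 : allR (ckPerm (nat_lit 280) X17 X16) (nat_lit 0) (nat_lit 140) = true := by decide +kernel
theorem pk17_1 : allR (ckPerm (nat_lit 280) X17 X16) (nat_lit 140) (nat_lit 140) = true := by decide +kernel
theorem pk18_0 : allR (ckPerm (nat_lit 280) X18 X19) (nat_lit 0) (nat_lit 140) = true := by decide +kernel
theorem pk18_1 : allR (ckPerm (nat_lit 280) X18 X19) (nat_lit 140) (nat_lit 140) = true := by decide +kernel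
theorem pk19_0 : allR (ckPerm (nat_lit 280) X19 X18) (nat_lit 0) (nat_lit 140) = true := by decide +kernel
theorem pk19_1 : allR (ckPerm (nat_lit 280) X19 X18) (nat_lit 140) (nat_lit 140) = true := by decide +kernel
theorem pk20_0 : allR (ckPerm (nat_lit 280) X20 X21) (nat_lit 0) (nat_lit 140) = true := by decide +kernel
theorem pk20_1 : allR (ckPerm (nat_lit 280) X20 X21) (nat_lit 140) (nat_lit 140) = true := by decide +kernel
theorem pk21_0 : allR (ckPerm (nat_lit 280) X21 X20) (nat_lit 0) (nat_lit 140) = true := by decide +kernel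
theorem pk21_1 : allR (ckPerm (nat_lit 280) X21 X20) (nat_lit 140) (nat_lit 140) = true := by decide +kernel
theorem pk22_0 : allR (ckPerm (nat_lit 280) X22 X23) (nat_lit 0) (nat_lit 140) = true := by decide +kernel
theorem pk22_1 : allR (ckPerm (nat_lit 280) X22 X23) (nat_lit 140) (nat_lit 140) = true := by decide +kernel
theorem pk23_0 : allR (ckPerm (nat_lit 280) X23 X22) (nat_lit 0) (nat_lit 140) = true := by decide +kernel
theorem pk23_1 : allR (ckPerm (nat_lit 280) X23 X22) (nat_lit 140) (nat_lit 140) = true := by decide +kernel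
theorem pk24_0 : allR (ckPerm (nat_lit 280) X24 X25) (nat_lit 0) (nat_lit 140) = true := by decide +kernel
theorem pk24_1 : allR (ckPerm (nat_lit 280) X24 X25) (nat_lit 140) (nat_lit 140) = true := by decide +kernel
theorem pk25_0 : allR (ckPerm (nat_lit 280) X25 X24) (nat_lit 0) (nat_lit 140) = true := by decide +kernel
theorem pk25_1 : allR (ckPerm (nat_lit 280) X25 X24) (nat_lit 140) (nat_lit 140) = true := by decide +kernel
theorem pk26_0 : allR (ckPerm (nat_lit 280) X26 X27) (nat_lit 0) (nat_lit 140) = true := by decide +kernel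
theorem pk26_1 : allR (ckPerm (nat_lit 280) X26 X27) (nat_lit 140) (nat_lit 140) = true := by decide +kernel
theorem pk27_0 : allR (ckPerm (nat_lit 280) X27 X26) (nat_lit 0) (nat_lit 140) = true := by decide +kernel
theorem pk27_1 : allR (ckPerm (nat_lit 280) X27 X26) (nat_lit 140) (nat_lit 140) = true := by decide +kernel
theorem pk28_0 : allR (ckPerm (nat_lit 280) X28 X29) (nat_lit 0) (nat_lit 140) = true := by decide +kernel
theorem pk28_1 : allR (ckPerm (nat_lit 280) X28 X29) (nat_lit 140) (nat_lit 140) = true := by decide +kernel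
theorem pk29_0 : allR (ckPerm (nat_lit 280) X29 X28) (nat_lit 0) (nat_lit 140) = true := by decide +kernel
theorem pk29_1 : allR (ckPerm (nat_lit 280) X29 X28) (nat_lit 140) (nat_lit 140) = true := by decide +kernel
theorem pk30_0 : allR (ckPerm (nat_lit 280) X30 X31) (nat_lit 0) (nat_lit 140) = true := by decide +kernel
theorem pk30_1 : allR (ckPerm (nat_lit 280) X30 X31) (nat_lit 140) (nat_lit 140) = true := by decide +kernel
theorem pk31_0 : allR (ckPerm (nat_lit 280) X31 X30) (nat_lit 0) (nat_lit 140) = true := by decide +kernel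
theorem pk31_1 : allR (ckPerm (nat_lit 280) X31 X30) (nat_lit 140) (nat_lit 140) = true := by decide +kernel
theorem wk0_0 : allR (OT.ckEqW [T0, T1, T2, T1, T3, T2, T1, T3, T4] [X0]) (nat_lit 0) (nat_lit 28) = true := by decide +kernel
theorem wk0_1 : allR (OT.ckEqW [T0, T1, T2, T1, T3, T2, T1, T3, T4] [X0]) (nat_lit 28) (nat_lit 28) = true := by decide +kernel
theorem wk0_2 : allR (OT.ckEqW [T0, T1, T2, T1, T3, T2, T1, T3, T4] [X0]) (nat_lit 56) (nat_lit 28) = true := by decide +kernel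
theorem wk0_3 : allR (OT.ckEqW [T0, T1, T2, T1, T3, T2, T1, T3, T4] [X0]) (nat_lit 84) (nat_lit 28) = true := by decide +kernel
theorem wk0_4 : allR (OT.ckEqW [T0, T1, T2, T1, T3, T2, T1, T3, T4] [X0]) (nat_lit 112) (nat_lit 28) = true := by decide +kernel
theorem wk0_5 : allR (OT.ckEqW [T0, T1, T2, T1, T3, T2, T1, T3, T4] [X0]) (nat_lit 140) (nat_lit 28) = true := by decide +kernel
theorem wk0_6 : allR (OT.ckEqW [T0, T1, T2, T1, T3, T2, T1, T3, T4] [X0]) (nat_lit 168) (nat_lit 28) = true := by decide +kernel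
theorem wk0_7 : allR (OT.ckEqW [T0, T1, T2, T1, T3, T2, T1, T3, T4] [X0]) (nat_lit 196) (nat_lit 28) = true := by decide +kernel
theorem wk0_8 : allR (OT.ckEqW [T0, T1, T2, T1, T3, T2, T1, T3, T4] [X0]) (nat_lit 224) (nat_lit 28) = true := by decide +kernel
theorem wk0_9 : allR (OT.ckEqW [T0, T1, T2, T1, T3, T2, T1, T3, T4] [X0]) (nat_lit 252) (nat_lit 28) = true := by decide +kernel
theorem wk1_0 : allR (OT.ckEqW [T1, T2, T3] [X2]) (nat_lit 0) (nat_lit 70) = true := by decide +kernel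
theorem wk1_1 : allR (OT.ckEqW [T1, T2, T3] [X2]) (nat_lit 70) (nat_lit 70) = true := by decide +kernel
theorem wk1_2 : allR (OT.ckEqW [T1, T2, T3] [X2]) (nat_lit 140) (nat_lit 70) = true := by decide +kernel
theorem wk1_3 : allR (OT.ckEqW [T1, T2, T3] [X2]) (nat_lit 210) (nat_lit 70) = true := by decide +kernel
theorem wk4_0 : allR (OT.ckEqW [X4] [X8]) (nat_lit 0) (nat_lit 140) = true := by decide +kernel
theorem wk4_1 : allR (OT.ckEqW [X4] [X8]) (nat_lit 140) (nat_lit 140) = true := by decide +kernel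
theorem wk7_0 : allR (OT.ckEqW [X10] [X14]) (nat_lit 0) (nat_lit 140) = true := by decide +kernel
theorem wk7_1 : allR (OT.ckEqW [X10] [X14]) (nat_lit 140) (nat_lit 140) = true := by decide +kernel
theorem wk8_0 : allR (OT.ckEqW [X11, X0, X13, X10, X0, X0, X12, X1, X1] [X16]) (nat_lit 0) (nat_lit 28) = true := by decide +kernel
theorem wk8_1 : allR (OT.ckEqW [X11, X0, X13, X10, X0, X0, X12, X1, X1] [X16]) (nat_lit 28) (nat_lit 28) = true := by decide +kernel
theorem wk8_2 : allR (OT.ckEqW [X11, X0, X13, X10, X0, X0, X12, X1, X1] [X16]) (nat_lit 56) (nat_lit 28) = true := by decide +kernel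
theorem wk8_3 : allR (OT.ckEqW [X11, X0, X13, X10, X0, X0, X12, X1, X1] [X16]) (nat_lit 84) (nat_lit 28) = true := by decide +kernel
theorem wk8_4 : allR (OT.ckEqW [X11, X0, X13, X10, X0, X0, X12, X1, X1] [X16]) (nat_lit 112) (nat_lit 28) = true := by decide +kernel
theorem wk8_5 : allR (OT.ckEqW [X11, X0, X13, X10, X0, X0, X12, X1, X1] [X16]) (nat_lit 140) (nat_lit 28) = true := by decide +kernel
theorem wk8_6 : allR (OT.ckEqW [X11, X0, X13, X10, X0, X0, X12, X1, X1] [X16]) (nat_lit 168) (nat_lit 28) = true := by decide +kernel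
theorem wk8_7 : allR (OT.ckEqW [X11, X0, X13, X10, X0, X0, X12, X1, X1] [X16]) (nat_lit 196) (nat_lit 28) = true := by decide +kernel
theorem wk8_8 : allR (OT.ckEqW [X11, X0, X13, X10, X0, X0, X12, X1, X1] [X16]) (nat_lit 224) (nat_lit 28) = true := by decide +kernel
theorem wk8_9 : allR (OT.ckEqW [X11, X0, X13, X10, X0, X0, X12, X1, X1] [X16]) (nat_lit 252) (nat_lit 28) = true := by decide +kernel
theorem wk12_0 : allR (OT.ckEqW [X0, X12, X11, X1, X12, X1] [X24]) (nat_lit 0) (nat_lit 40) = true := by decide +kernel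
theorem wk12_1 : allR (OT.ckEqW [X0, X12, X11, X1, X12, X1] [X24]) (nat_lit 40) (nat_lit 40) = true := by decide +kernel
theorem wk12_2 : allR (OT.ckEqW [X0, X12, X11, X1, X12, X1] [X24]) (nat_lit 80) (nat_lit 40) = true := by decide +kernel
theorem wk12_3 : allR (OT.ckEqW [X0, X12, X11, X1, X12, X1] [X24]) (nat_lit 120) (nat_lit 40) = true := by decide +kernel
theorem wk12_4 : allR (OT.ckEqW [X0, X12, X11, X1, X12, X1] [X24]) (nat_lit 160) (nat_lit 40) = true := by decide +kernel
theorem wk12_5 : allR (OT.ckEqW [X0, X12, X11, X1, X12, X1] [X24]) (nat_lit 200) (nat_lit 40) = true := by decide +kernel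
theorem wk12_6 : allR (OT.ckEqW [X0, X12, X11, X1, X12, X1] [X24]) (nat_lit 240) (nat_lit 40) = true := by decide +kernel
theorem wk13_0 : allR (OT.ckEqW [X12, X0, X11, X12, X0, X0, X12, X1, X1] [X26]) (nat_lit 0) (nat_lit 28) = true := by decide +kernel
theorem wk13_1 : allR (OT.ckEqW [X12, X0, X11, X12, X0, X0, X12, X1, X1] [X26]) (nat_lit 28) (nat_lit 28) = true := by decide +kernel
theorem wk13_2 : allR (OT.ckEqW [X12, X0, X11, X12, X0, X0, X12, X1, X1] [X26]) (nat_lit 56) (nat_lit 28) = true := by decide +kernel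
theorem wk13_3 : allR (OT.ckEqW [X12, X0, X11, X12, X0, X0, X12, X1, X1] [X26]) (nat_lit 84) (nat_lit 28) = true := by decide +kernel
theorem wk13_4 : allR (OT.ckEqW [X12, X0, X11, X12, X0, X0, X12, X1, X1] [X26]) (nat_lit 112) (nat_lit 28) = true := by decide +kernel
theorem wk13_5 : allR (OT.ckEqW [X12, X0, X11, X12, X0, X0, X12, X1, X1] [X26]) (nat_lit 140) (nat_lit 28) = true := by decide +kernel
theorem wk13_6 : allR (OT.ckEqW [X12, X0, X11, X12, X0, X0, X12, X1, X1] [X26]) (nat_lit 168) (nat_lit 28) = true := by decide +kernel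
theorem wk13_7 : allR (OT.ckEqW [X12, X0, X11, X12, X0, X0, X12, X1, X1] [X26]) (nat_lit 196) (nat_lit 28) = true := by decide +kernel
theorem wk13_8 : allR (OT.ckEqW [X12, X0, X11, X12, X0, X0, X12, X1, X1] [X26]) (nat_lit 224) (nat_lit 28) = true := by decide +kernel
theorem wk13_9 : allR (OT.ckEqW [X12, X0, X11, X12, X0, X0, X12, X1, X1] [X26]) (nat_lit 252) (nat_lit 28) = true := by decide +kernel
theorem wk14_0 : allR (OT.ckEqW [X26, X25, X25, X25, X26, X24, X27, X25, X27] [X28]) (nat_lit 0) (nat_lit 28) = true := by decide +kernel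
theorem wk14_1 : allR (OT.ckEqW [X26, X25, X25, X25, X26, X24, X27, X25, X27] [X28]) (nat_lit 28) (nat_lit 28) = true := by decide +kernel
theorem wk14_2 : allR (OT.ckEqW [X26, X25, X25, X25, X26, X24, X27, X25, X27] [X28]) (nat_lit 56) (nat_lit 28) = true := by decide +kernel
theorem wk14_3 : allR (OT.ckEqW [X26, X25, X25, X25, X26, X24, X27, X25, X27] [X28]) (nat_lit 84) (nat_lit 28) = true := by decide +kernel
theorem wk14_4 : allR (OT.ckEqW [X26, X25, X25, X25, X26, X24, X27, X25, X27] [X28]) (nat_lit 112) (nat_lit 28) = true := by decide +kernel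
theorem wk14_5 : allR (OT.ckEqW [X26, X25, X25, X25, X26, X24, X27, X25, X27] [X28]) (nat_lit 140) (nat_lit 28) = true := by decide +kernel
theorem wk14_6 : allR (OT.ckEqW [X26, X25, X25, X25, X26, X24, X27, X25, X27] [X28]) (nat_lit 168) (nat_lit 28) = true := by decide +kernel
theorem wk14_7 : allR (OT.ckEqW [X26, X25, X25, X25, X26, X24, X27, X25, X27] [X28]) (nat_lit 196) (nat_lit 28) = true := by decide +kernel
theorem wk14_8 : allR (OT.ckEqW [X26, X25, X25, X25, X26, X24, X27, X25, X27] [X28]) (nat_lit 224) (nat_lit 28) = true := by decide +kernel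
theorem wk14_9 : allR (OT.ckEqW [X26, X25, X25, X25, X26, X24, X27, X25, X27] [X28]) (nat_lit 252) (nat_lit 28) = true := by decide +kernel
theorem wk2_0 : allR (OT.ckEqW [T0, T3] [X4]) (nat_lit 0) (nat_lit 93) = true := by decide +kernel
theorem wk2_1 : allR (OT.ckEqW [T0, T3] [X4]) (nat_lit 93) (nat_lit 93) = true := by decide +kernel
theorem wk2_2 : allR (OT.ckEqW [T0, T3] [X4]) (nat_lit 186) (nat_lit 93) = true := by decide +kernel
theorem wk9_0 : allR (OT.ckEqW [X11, X13, X1, X13, X0, X10, X0, X11] [X18]) (nat_lit 0) (nat_lit 31) = true := by decide +kernel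
theorem wk9_1 : allR (OT.ckEqW [X11, X13, X1, X13, X0, X10, X0, X11] [X18]) (nat_lit 31) (nat_lit 31) = true := by decide +kernel
theorem wk9_2 : allR (OT.ckEqW [X11, X13, X1, X13, X0, X10, X0, X11] [X18]) (nat_lit 62) (nat_lit 31) = true := by decide +kernel
theorem wk9_3 : allR (OT.ckEqW [X11, X13, X1, X13, X0, X10, X0, X11] [X18]) (nat_lit 93) (nat_lit 31) = true := by decide +kernel
theorem wk9_4 : allR (OT.ckEqW [X11, X13, X1, X13, X0, X10, X0, X11] [X18]) (nat_lit 124) (nat_lit 31) = true := by decide +kernel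
theorem wk9_5 : allR (OT.ckEqW [X11, X13, X1, X13, X0, X10, X0, X11] [X18]) (nat_lit 155) (nat_lit 31) = true := by decide +kernel
theorem wk9_6 : allR (OT.ckEqW [X11, X13, X1, X13, X0, X10, X0, X11] [X18]) (nat_lit 186) (nat_lit 31) = true := by decide +kernel
theorem wk9_7 : allR (OT.ckEqW [X11, X13, X1, X13, X0, X10, X0, X11] [X18]) (nat_lit 217) (nat_lit 31) = true := by decide +kernel
theorem wk9_8 : allR (OT.ckEqW [X11, X13, X1, X13, X0, X10, X0, X11] [X18]) (nat_lit 248) (nat_lit 31) = true := by decide +kernel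
theorem wk11_0 : allR (OT.ckEqW [X16, X18, X16, X16, X19, X16, X19, X19] [X22]) (nat_lit 0) (nat_lit 31) = true := by decide +kernel
theorem wk11_1 : allR (OT.ckEqW [X16, X18, X16, X16, X19, X16, X19, X19] [X22]) (nat_lit 31) (nat_lit 31) = true := by decide +kernel
theorem wk11_2 : allR (OT.ckEqW [X16, X18, X16, X16, X19, X16, X19, X19] [X22]) (nat_lit 62) (nat_lit 31) = true := by decide +kernel
theorem wk11_3 : allR (OT.ckEqW [X16, X18, X16, X16, X19, X16, X19, X19] [X22]) (nat_lit 93) (nat_lit 31) = true := by decide +kernel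
theorem wk11_4 : allR (OT.ckEqW [X16, X18, X16, X16, X19, X16, X19, X19] [X22]) (nat_lit 124) (nat_lit 31) = true := by decide +kernel
theorem wk11_5 : allR (OT.ckEqW [X16, X18, X16, X16, X19, X16, X19, X19] [X22]) (nat_lit 155) (nat_lit 31) = true := by decide +kernel
theorem wk11_6 : allR (OT.ckEqW [X16, X18, X16, X16, X19, X16, X19, X19] [X22]) (nat_lit 186) (nat_lit 31) = true := by decide +kernel
theorem wk11_7 : allR (OT.ckEqW [X16, X18, X16, X16, X19, X16, X19, X19] [X22]) (nat_lit 217) (nat_lit 31) = true := by decide +kernel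
theorem wk11_8 : allR (OT.ckEqW [X16, X18, X16, X16, X19, X16, X19, X19] [X22]) (nat_lit 248) (nat_lit 31) = true := by decide +kernel
theorem wk15_0 : allR (OT.ckEqW [X24, X26, X25, X27, X27] [X30]) (nat_lit 0) (nat_lit 46) = true := by decide +kernel
theorem wk15_1 : allR (OT.ckEqW [X24, X26, X25, X27, X27] [X30]) (nat_lit 46) (nat_lit 46) = true := by decide +kernel
theorem wk15_2 : allR (OT.ckEqW [X24, X26, X25, X27, X27] [X30]) (nat_lit 92) (nat_lit 46) = true := by decide +kernel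
theorem wk15_3 : allR (OT.ckEqW [X24, X26, X25, X27, X27] [X30]) (nat_lit 138) (nat_lit 46) = true := by decide +kernel
theorem wk15_4 : allR (OT.ckEqW [X24, X26, X25, X27, X27] [X30]) (nat_lit 184) (nat_lit 46) = true := by decide +kernel
theorem wk15_5 : allR (OT.ckEqW [X24, X26, X25, X27, X27] [X30]) (nat_lit 230) (nat_lit 46) = true := by decide +kernel
theorem wk10_0 : allR (OT.ckEqW [X18, X16, X18, X18, X18, X16, X16, X19, X17, X17] [X20]) (nat_lit 0) (nat_lit 25) = true := by decide +kernel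
theorem wk10_1 : allR (OT.ckEqW [X18, X16, X18, X18, X18, X16, X16, X19, X17, X17] [X20]) (nat_lit 25) (nat_lit 25) = true := by decide +kernel
theorem wk10_2 : allR (OT.ckEqW [X18, X16, X18, X18, X18, X16, X16, X19, X17, X17] [X20]) (nat_lit 50) (nat_lit 25) = true := by decide +kernel
theorem wk10_3 : allR (OT.ckEqW [X18, X16, X18, X18, X18, X16, X16, X19, X17, X17] [X20]) (nat_lit 75) (nat_lit 25) = true := by decide +kernel
theorem wk10_4 : allR (OT.ckEqW [X18, X16, X18, X18, X18, X16, X16, X19, X17, X17] [X20]) (nat_lit 100) (nat_lit 25) = true := by decide +kernel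
theorem wk10_5 : allR (OT.ckEqW [X18, X16, X18, X18, X18, X16, X16, X19, X17, X17] [X20]) (nat_lit 125) (nat_lit 25) = true := by decide +kernel
theorem wk10_6 : allR (OT.ckEqW [X18, X16, X18, X18, X18, X16, X16, X19, X17, X17] [X20]) (nat_lit 150) (nat_lit 25) = true := by decide +kernel
theorem wk10_7 : allR (OT.ckEqW [X18, X16, X18, X18, X18, X16, X16, X19, X17, X17] [X20]) (nat_lit 175) (nat_lit 25) = true := by decide +kernel
theorem wk10_8 : allR (OT.ckEqW [X18, X16, X18, X18, X18, X16, X16, X19, X17, X17] [X20]) (nat_lit 200) (nat_lit 25) = true := by decide +kernel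
theorem wk10_9 : allR (OT.ckEqW [X18, X16, X18, X18, X18, X16, X16, X19, X17, X17] [X20]) (nat_lit 225) (nat_lit 25) = true := by decide +kernel
theorem wk10_10 : allR (OT.ckEqW [X18, X16, X18, X18, X18, X16, X16, X19, X17, X17] [X20]) (nat_lit 250) (nat_lit 25) = true := by decide +kernel
theorem wk3_0 : allR (OT.ckEqW [X4, X2, X2, X2, X4, X2, X2, X5, X3, X4, X2, X2, X2, X2, X5, X3, X5, X2, X2, X2] [X6]) (nat_lit 0) (nat_lit 13) = true := by decide +kernel
theorem wk3_1 : allR (OT.ckEqW [X4, X2, X2, X2, X4, X2, X2, X5, X3, X4, X2, X2, X2, X2, X5, X3, X5, X2, X2, X2] [X6]) (nat_lit 13) (nat_lit 13) = true := by decide +kernel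
theorem wk3_2 : allR (OT.ckEqW [X4, X2, X2, X2, X4, X2, X2, X5, X3, X4, X2, X2, X2, X2, X5, X3, X5, X2, X2, X2] [X6]) (nat_lit 26) (nat_lit 13) = true := by decide +kernel
theorem wk3_3 : allR (OT.ckEqW [X4, X2, X2, X2, X4, X2, X2, X5, X3, X4, X2, X2, X2, X2, X5, X3, X5, X2, X2, X2] [X6]) (nat_lit 39) (nat_lit 13) = true := by decide +kernel
theorem wk3_4 : allR (OT.ckEqW [X4, X2, X2, X2, X4, X2, X2, X5, X3, X4, X2, X2, X2, X2, X5, X3, X5, X2, X2, X2] [X6]) (nat_lit 52) (nat_lit 13) = true := by decide +kernel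
theorem wk3_5 : allR (OT.ckEqW [X4, X2, X2, X2, X4, X2, X2, X5, X3, X4, X2, X2, X2, X2, X5, X3, X5, X2, X2, X2] [X6]) (nat_lit 65) (nat_lit 13) = true := by decide +kernel
theorem wk3_6 : allR (OT.ckEqW [X4, X2, X2, X2, X4, X2, X2, X5, X3, X4, X2, X2, X2, X2, X5, X3, X5, X2, X2, X2] [X6]) (nat_lit 78) (nat_lit 13) = true := by decide +kernel
theorem wk3_7 : allR (OT.ckEqW [X4, X2, X2, X2, X4, X2, X2, X5, X3, X4, X2, X2, X2, X2, X5, X3, X5, X2, X2, X2] [X6]) (nat_lit 91) (nat_lit 13) = true := by decide +kernel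
theorem wk3_8 : allR (OT.ckEqW [X4, X2, X2, X2, X4, X2, X2, X5, X3, X4, X2, X2, X2, X2, X5, X3, X5, X2, X2, X2] [X6]) (nat_lit 104) (nat_lit 13) = true := by decide +kernel
theorem wk3_9 : allR (OT.ckEqW [X4, X2, X2, X2, X4, X2, X2, X5, X3, X4, X2, X2, X2, X2, X5, X3, X5, X2, X2, X2] [X6]) (nat_lit 117) (nat_lit 13) = true := by decide +kernel
theorem wk3_10 : allR (OT.ckEqW [X4, X2, X2, X2, X4, X2, X2, X5, X3, X4, X2, X2, X2, X2, X5, X3, X5, X2, X2, X2] [X6]) (nat_lit 130) (nat_lit 13) = true := by decide +kernel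
theorem wk3_11 : allR (OT.ckEqW [X4, X2, X2, X2, X4, X2, X2, X5, X3, X4, X2, X2, X2, X2, X5, X3, X5, X2, X2, X2] [X6]) (nat_lit 143) (nat_lit 13) = true := by decide +kernel
theorem wk3_12 : allR (OT.ckEqW [X4, X2, X2, X2, X4, X2, X2, X5, X3, X4, X2, X2, X2, X2, X5, X3, X5, X2, X2, X2] [X6]) (nat_lit 156) (nat_lit 13) = true := by decide +kernel
theorem wk3_13 : allR (OT.ckEqW [X4, X2, X2, X2, X4, X2, X2, X5, X3, X4, X2, X2, X2, X2, X5, X3, X5, X2, X2, X2] [X6]) (nat_lit 169) (nat_lit 13) = true := by decide +kernel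
theorem wk3_14 : allR (OT.ckEqW [X4, X2, X2, X2, X4, X2, X2, X5, X3, X4, X2, X2, X2, X2, X5, X3, X5, X2, X2, X2] [X6]) (nat_lit 182) (nat_lit 13) = true := by decide +kernel
theorem wk3_15 : allR (OT.ckEqW [X4, X2, X2, X2, X4, X2, X2, X5, X3, X4, X2, X2, X2, X2, X5, X3, X5, X2, X2, X2] [X6]) (nat_lit 195) (nat_lit 13) = true := by decide +kernel
theorem wk3_16 : allR (OT.ckEqW [X4, X2, X2, X2, X4, X2, X2, X5, X3, X4, X2, X2, X2, X2, X5, X3, X5, X2, X2, X2] [X6]) (nat_lit 208) (nat_lit 13) = true := by decide +kernel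
theorem wk3_17 : allR (OT.ckEqW [X4, X2, X2, X2, X4, X2, X2, X5, X3, X4, X2, X2, X2, X2, X5, X3, X5, X2, X2, X2] [X6]) (nat_lit 221) (nat_lit 13) = true := by decide +kernel
theorem wk3_18 : allR (OT.ckEqW [X4, X2, X2, X2, X4, X2, X2, X5, X3, X4, X2, X2, X2, X2, X5, X3, X5, X2, X2, X2] [X6]) (nat_lit 234) (nat_lit 13) = true := by decide +kernel
theorem wk3_19 : allR (OT.ckEqW [X4, X2, X2, X2, X4, X2, X2, X5, X3, X4, X2, X2, X2, X2, X5, X3, X5, X2, X2, X2] [X6]) (nat_lit 247) (nat_lit 13) = true := by decide +kernel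
theorem wk3_20 : allR (OT.ckEqW [X4, X2, X2, X2, X4, X2, X2, X5, X3, X4, X2, X2, X2, X2, X5, X3, X5, X2, X2, X2] [X6]) (nat_lit 260) (nat_lit 13) = true := by decide +kernel
theorem wk5_0 : allR (OT.ckEqW [X6, X8, X6, X8, X3, X3, X4, X1, T0, X1, T1, T2] [X10]) (nat_lit 0) (nat_lit 21) = true := by decide +kernel
theorem wk5_1 : allR (OT.ckEqW [X6, X8, X6, X8, X3, X3, X4, X1, T0, X1, T1, T2] [X10]) (nat_lit 21) (nat_lit 21) = true := by decide +kernel
theorem wk5_2 : allR (OT.ckEqW [X6, X8, X6, X8, X3, X3, X4, X1, T0, X1, T1, T2] [X10]) (nat_lit 42) (nat_lit 21) = true := by decide +kernel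
theorem wk5_3 : allR (OT.ckEqW [X6, X8, X6, X8, X3, X3, X4, X1, T0, X1, T1, T2] [X10]) (nat_lit 63) (nat_lit 21) = true := by decide +kernel
theorem wk5_4 : allR (OT.ckEqW [X6, X8, X6, X8, X3, X3, X4, X1, T0, X1, T1, T2] [X10]) (nat_lit 84) (nat_lit 21) = true := by decide +kernel
theorem wk5_5 : allR (OT.ckEqW [X6, X8, X6, X8, X3, X3, X4, X1, T0, X1, T1, T2] [X10]) (nat_lit 105) (nat_lit 21) = true := by decide +kernel
theorem wk5_6 : allR (OT.ckEqW [X6, X8, X6, X8, X3, X3, X4, X1, T0, X1, T1, T2] [X10]) (nat_lit 126) (nat_lit 21) = true := by decide +kernel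
theorem wk5_7 : allR (OT.ckEqW [X6, X8, X6, X8, X3, X3, X4, X1, T0, X1, T1, T2] [X10]) (nat_lit 147) (nat_lit 21) = true := by decide +kernel
theorem wk5_8 : allR (OT.ckEqW [X6, X8, X6, X8, X3, X3, X4, X1, T0, X1, T1, T2] [X10]) (nat_lit 168) (nat_lit 21) = true := by decide +kernel
theorem wk5_9 : allR (OT.ckEqW [X6, X8, X6, X8, X3, X3, X4, X1, T0, X1, T1, T2] [X10]) (nat_lit 189) (nat_lit 21) = true := by decide +kernel
theorem wk5_10 : allR (OT.ckEqW [X6, X8, X6, X8, X3, X3, X4, X1, T0, X1, T1, T2] [X10]) (nat_lit 210) (nat_lit 21) = true := by decide +kernel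
theorem wk5_11 : allR (OT.ckEqW [X6, X8, X6, X8, X3, X3, X4, X1, T0, X1, T1, T2] [X10]) (nat_lit 231) (nat_lit 21) = true := by decide +kernel
theorem wk5_12 : allR (OT.ckEqW [X6, X8, X6, X8, X3, X3, X4, X1, T0, X1, T1, T2] [X10]) (nat_lit 252) (nat_lit 21) = true := by decide +kernel
theorem wk6_0 : allR (OT.ckEqW [X6, X8, X6, X3, X3, X3, X4, X2, X4, X3, X1, T3] [X12]) (nat_lit 0) (nat_lit 21) = true := by decide +kernel
theorem wk6_1 : allR (OT.ckEqW [X6, X8, X6, X3, X3, X3, X4, X2, X4, X3, X1, T3] [X12]) (nat_lit 21) (nat_lit 21) = true := by decide +kernel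
theorem wk6_2 : allR (OT.ckEqW [X6, X8, X6, X3, X3, X3, X4, X2, X4, X3, X1, T3] [X12]) (nat_lit 42) (nat_lit 21) = true := by decide +kernel
theorem wk6_3 : allR (OT.ckEqW [X6, X8, X6, X3, X3, X3, X4, X2, X4, X3, X1, T3] [X12]) (nat_lit 63) (nat_lit 21) = true := by decide +kernel
theorem wk6_4 : allR (OT.ckEqW [X6, X8, X6, X3, X3, X3, X4, X2, X4, X3, X1, T3] [X12]) (nat_lit 84) (nat_lit 21) = true := by decide +kernel
theorem wk6_5 : allR (OT.ckEqW [X6, X8, X6, X3, X3, X3, X4, X2, X4, X3, X1, T3] [X12]) (nat_lit 105) (nat_lit 21) = true := by decide +kernel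
theorem wk6_6 : allR (OT.ckEqW [X6, X8, X6, X3, X3, X3, X4, X2, X4, X3, X1, T3] [X12]) (nat_lit 126) (nat_lit 21) = true := by decide +kernel
theorem wk6_7 : allR (OT.ckEqW [X6, X8, X6, X3, X3, X3, X4, X2, X4, X3, X1, T3] [X12]) (nat_lit 147) (nat_lit 21) = true := by decide +kernel
theorem wk6_8 : allR (OT.ckEqW [X6, X8, X6, X3, X3, X3, X4, X2, X4, X3, X1, T3] [X12]) (nat_lit 168) (nat_lit 21) = true := by decide +kernel
theorem wk6_9 : allR (OT.ckEqW [X6, X8, X6, X3, X3, X3, X4, X2, X4, X3, X1, T3] [X12]) (nat_lit 189) (nat_lit 21) = true := by decide +kernel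
theorem wk6_10 : allR (OT.ckEqW [X6, X8, X6, X3, X3, X3, X4, X2, X4, X3, X1, T3] [X12]) (nat_lit 210) (nat_lit 21) = true := by decide +kernel
theorem wk6_11 : allR (OT.ckEqW [X6, X8, X6, X3, X3, X3, X4, X2, X4, X3, X1, T3] [X12]) (nat_lit 231) (nat_lit 21) = true := by decide +kernel
theorem wk6_12 : allR (OT.ckEqW [X6, X8, X6, X3, X3, X3, X4, X2, X4, X3, X1, T3] [X12]) (nat_lit 252) (nat_lit 21) = true := by decide +kernel
theorem wk3_21 : allR (OT.ckEqW [X4, X2, X2, X2, X4, X2, X2, X5, X3, X4, X2, X2, X2, X2, X5, X3, X5, X2, X2, X2] [X6]) (nat_lit 273) (nat_lit 7) = true := by decide +kernel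
theorem wk5_13 : allR (OT.ckEqW [X6, X8, X6, X8, X3, X3, X4, X1, T0, X1, T1, T2] [X10]) (nat_lit 273) (nat_lit 7) = true := by decide +kernel
theorem wk6_13 : allR (OT.ckEqW [X6, X8, X6, X3, X3, X3, X4, X2, X4, X3, X1, T3] [X12]) (nat_lit 273) (nat_lit 7) = true := by decide +kernel
theorem wk10_11 : allR (OT.ckEqW [X18, X16, X18, X18, X18, X16, X16, X19, X17, X17] [X20]) (nat_lit 275) (nat_lit 5) = true := by decide +kernel
theorem wk15_6 : allR (OT.ckEqW [X24, X26, X25, X27, X27] [X30]) (nat_lit 276) (nat_lit 4) = true := by decide +kernel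
theorem wk9_9 : allR (OT.ckEqW [X11, X13, X1, X13, X0, X10, X0, X11] [X18]) (nat_lit 279) (nat_lit 1) = true := by decide +kernel
theorem wk11_9 : allR (OT.ckEqW [X16, X18, X16, X16, X19, X16, X19, X19] [X22]) (nat_lit 279) (nat_lit 1) = true := by decide +kernel
theorem wk2_3 : allR (OT.ckEqW [T0, T3] [X4]) (nat_lit 279) (nat_lit 1) = true := by decide +kernel

end Cfsg.Agent.H8.J2O
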