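import Cfsg.Agent.H8.T.J2Oa

set_option Elab.async false
set_option autoImplicit false
set_option linter.all false
set_option maxRecDepth 100000
set_option maxHeartbeats 400000

namespace Cfsg.Agent.H8.J2O
open Cfsg.Agent.H8.J2t (T0 T1 T2 T3 T4)

noncomputable def xQ0c0 : Nat := nat_lit 0x34755060634430303051637454858550325544447341526031515161405081517143708551757581604225546571434451606150806045428423623071704550417454658435608434614353426081646070424074446031624561354051618241705172527551506541614530625544406545407144547140648475334520216154706462344550458463547251617544504022325562426554644561418441554450526444515052656171554475645482315351554065644551505452745555415064344142336050647362406165605544535461554535404310715264535461545054715445506065415043424174603365522443315155528171607064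
noncomputable def xQ0c1 : Nat := nat_lit 0x417161854470705074405550635341514154325131516453
noncomputable def xQ0 : Nat → Nat := (fun h => @Nat.rec (fun _ => Nat → Nat)
 (fun i => Nat.land (Nat.shiftRight xQ0c0 (Nat.mul (nat_lit 8) (Nat.land i (nat_lit 255)))) (nat_lit 255))
 (fun _ _ => (fun i => Nat.land (Nat.shiftRight xQ0c1 (Nat.mul (nat_lit 8) (Nat.land i (nat_lit 255)))) (nat_lit 255))) (Nat.land h (nat_lit 256)) h)
theorem xr0 : allR (ckReach xQ0 [[X0], [X1], [X10], [X11], [X12], [X13], [X24], [X25], [X26], [X27], [X28], [X29], [X30], [X31]] (nat_lit 36)) (nat_lit 0) (nat_lit 280) = true := by decide +kernel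
theorem xc0 : cntT xQ0 (nat_lit 280) (nat_lit 280) (nat_lit 0) = true := by decide +kernel
def xG0 : List (List Nat) := [[5], [6], [15], [16], [17], [18], [29], [30], [31], [32], [33], [34], [35], [36]]
noncomputable def xQ1c0 : Nat := nat_lit 0x8200008343005033008200000000527280000000000000307060000000530080736373000000738300830070004300006200820053000083008382420062600000007200005000000000700000000000000053000000008200920083000000000000003300008000006273420000000023520070307300000000628363100000006300000000707000000073000000626063400000532062620000000040000080000000000032007000000000700000000080000000004300526200005200720082000000630043007200007262000000000000004200000000004200720050720000007073000000003280720000830000220000007282000063008200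
noncomputable def xQ1c1 : Nat := nat_lit 0x7363000000000070006000600060000072005050006370
noncomputable def xQ1 : Nat → Nat := (fun h => @Nat.rec (fun _ => Nat → Nat)
 (fun i => Nat.land (Nat.shiftRight xQ1c0 (Nat.mul (nat_lit 8) (Nat.land i (nat_lit 255)))) (nat_lit 255))
 (fun _ _ => (fun i => Nat.land (Nat.shiftRight xQ1c1 (Nat.mul (nat_lit 8) (Nat.land i (nat_lit 255)))) (nat_lit 255))) (Nat.land h (nat_lit 256)) h)
theorem xr1 : allR (ckReach xQ1 [[X24], [X25], [X26], [X27], [X28], [X29], [X30], [X31]] (nat_lit 128)) (nat_lit 0) (nat_lit 280) = true := by decide +kernel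
theorem xc1 : cntT xQ1 (nat_lit 108) (nat_lit 280) (nat_lit 0) = true := by decide +kernel
def xG1 : List (List Nat) := [[29], [30], [31], [32], [33], [34], [35], [36]]
noncomputable def xQ2c0 : Nat := nat_lit 0x4200000000000000a400000000000000cc042000198000019000188053008c00000000000000000000000000000000000000e40000000000000080000000000000000000000000a600000000000000000620000000000218000000000000000018c000010c0000000022000000000000000000000000000000000000000000000000000000000000000000000000000000000000000000000000000000000000000000000000000000000000000000000000000000000000000000000000000000000000000000000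
noncomputable def xQ2c1 : Nat := nat_lit 0xc800000000000000000000000000000002000052
noncomputable def xQ2 : Nat → Nat := (fun h => @Nat.rec (fun _ => Nat → Nat)
 (fun i => Nat.land (Nat.shiftRight xQ2c0 (Nat.mul (nat_lit 7) (Nat.land i (nat_lit 255)))) (nat_lit 127))
 (fun _ _ => (fun i => Nat.land (Nat.shiftRight xQ2c1 (Nat.mul (nat_lit 7) (Nat.land i (nat_lit 255)))) (nat_lit 127))) (Nat.land h (nat_lit 256)) h)
theorem xr2 : allR (ckReach xQ2 [[X28], [X29], [X30], [X31]] (nat_lit 259)) (nat_lit 0) (nat_lit 280) = true := by decide +kernel
theorem xc2 : cntT xQ2 (nat_lit 20) (nat_lit 280) (nat_lit 0) = true := by decide +kernel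
def xG2 : List (List Nat) := [[33], [34], [35], [36]]
noncomputable def xQ3c0 : Nat := nat_lit 0x0
noncomputable def xQ3c1 : Nat := nat_lit 0x8000000000
noncomputable def xQ3 : Nat → Nat := (fun h => @Nat.rec (fun _ => Nat → Nat)
 (fun i => Nat.land (Nat.shiftRight xQ3c0 (Nat.mul (nat_lit 5) (Nat.land i (nat_lit 255)))) (nat_lit 31))
 (fun _ _ => (fun i => Nat.land (Nat.shiftRight xQ3c1 (Nat.mul (nat_lit 5) (Nat.land i (nat_lit 255)))) (nat_lit 31))) (Nat.land h (nat_lit 256)) h)
theorem xr3 : allR (ckReach xQ3 ([] : List (List (Nat → Nat))) (nat_lit 263)) (nat_lit 0) (nat_lit 280) = true := by decide +kernel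
theorem xc3 : cntT xQ3 (nat_lit 1) (nat_lit 280) (nat_lit 0) = true := by decide +kernel
def xG3 : List (List Nat) := []
noncomputable def xK3 : List Nat → Bool := levF xQ3 ([] : List (List (Nat → Nat))) (nat_lit 263) (fun _ => false) (nat_lit 10)
noncomputable def xK2 : List Nat → Bool := levF xQ2 [[X28], [X29], [X30], [X31]] (nat_lit 259) xK3 (nat_lit 10)
noncomputable def xK1 : List Nat → Bool := levF xQ1 [[X24], [X25], [X26], [X27], [X28], [X29], [X30], [X31]] (nat_lit 128) xK2 (nat_lit 10)
noncomputable def xK0 : List Nat → Bool := levF xQ0 [[X0], [X1], [X10], [X11], [X12], [X13], [X24], [X25], [X26], [X27], [X28], [X29], [X30], [X31]] (nat_lit 36) xK1 (nat_lit 10)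
theorem xS : allR (OT.ckCand [X0] (nat_lit 4) xK0 [36, 128]) (nat_lit 0) (nat_lit 280) = true := by decide +kernel

end Cfsg.Agent.H8.J2O
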