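import Cfsg.Agent.H8.T.J2tP

/-! # Element orders of `J₂`: tables -/

set_option Elab.async false
set_option autoImplicit false
set_option linter.all false
set_option maxRecDepth 100000

namespace Cfsg.Agent.H8.J2s

open Cfsg.Agent.H8.J2t (T T0 T1 T2 T3 T4)

def V1 : List (List Nat) := [[], [1], [1, 0], [1, 2], [1, 0, 1], [1, 0, 2], [1, 2, 3], [1, 0, 1, 0], [1, 0, 1, 2], [1, 0, 2, 1], [1, 0, 2, 3], [1, 2, 3, 2], [1, 0, 1, 0, 2], [1, 0, 1, 2, 1], [1, 0, 1, 2, 3], [1, 0, 2, 1, 0], [1, 0, 2, 1, 3], [1, 0, 2, 3, 2], [1, 2, 3, 2, 1], [1, 0, 1, 0, 2, 1], [1, 0, 1, 0, 2, 3], [1, 0, 1, 2, 1, 0], [1, 0, 1, 2, 1, 3], [1, 0, 1, 2, 3, 2], [1, 0, 2, 1, 0, 1], [1, 0, 2, 1, 0, 3], [1, 0, 2, 1, 3, 2], [1, 0, 2, 3, 2, 1], [1, 2,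 3, 2, 1, 0], [1, 0, 1, 0, 2, 1, 3], [1, 0, 1, 0, 2, 3, 2], [1, 0, 1, 2, 1, 0, 3], [1, 0, 1, 2, 1, 3, 2], [1, 0, 1, 2, 3, 2, 1], [1, 0, 2, 1, 0, 1, 3], [1, 0, 2, 1, 0, 3, 2], [1, 0, 2, 1, 3, 2, 1], [1, 0, 2, 1, 3, 2, 3], [1, 0, 2, 3, 2, 1, 0], [1, 2, 3, 2, 1, 0, 1], [1, 0, 1, 0, 2, 1, 3, 2], [1, 0, 1, 0, 2, 3, 2, 1], [1, 0, 1, 2, 1, 0, 3, 2], [1, 0, 1, 2, 1, 3, 2, 1], [1, 0, 1, 2, 1, 3, 2, 3], [1, 0, 1, 2, 3, 2, 1, 0], [1, 0, 2, 1, 0, 1, 3, 2], [1, 0, 2, 1, 0, 3, 2, 1], [1, 0, 2, 1, 0, 3, 2, 3], [1, 0, 2, 1, 3, 2, 1, 0], [1, 0, 2, 1, 3, 2, 1, 3], [1, 0, 2, 1, 3, 2, 3, 2], [1, 0, 2, 3, 2, 1, 0, 1], [1, 2, 3, 2, 1, 0, 1, 0], [1, 2, 3, 2, 1, 0, 1, 2], [1, 0, 1, 0, 2, 1, 3, 2, 1], [1, 0, 1, 0, 2, 1, 3, 2, 3], [1, 0,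 1, 0, 2, 3, 2, 1, 0], [1, 0, 1, 2, 1, 0, 3, 2, 1], [1, 0, 1, 2, 1, 3, 2, 1, 0], [1, 0, 1, 2, 1, 3, 2, 1, 3], [1, 0, 1, 2, 3, 2, 1, 0, 1], [1, 0, 2, 1, 0, 1, 3, 2, 1], [1, 0, 2, 1, 0, 1, 3, 2, 3], [1, 0, 2, 1, 0, 3, 2, 1, 0], [1, 0, 2, 1, 0, 3, 2, 1, 3], [1, 0, 2, 1, 3, 2, 1, 0, 1], [1, 0, 2, 1, 3, 2, 1, 0, 3], [1, 0, 2, 1, 3, 2, 3, 2, 1], [1, 0, 2, 3, 2, 1, 0, 1, 0], [1, 0, 2, 3, 2, 1, 0, 1, 2], [1, 2, 3, 2, 1, 0, 1, 0, 2], [1, 2, 3, 2, 1, 0, 1, 2, 3], [1, 0, 1, 0, 2, 1, 3, 2, 1, 0], [1, 0, 1, 0, 2, 1, 3, 2, 1, 3], [1, 0, 1, 0, 2, 3, 2, 1, 0, 1], [1, 0, 1, 2, 1, 0, 3, 2, 1, 0], [1, 0, 1, 2, 1, 3, 2, 1, 0, 1], [1, 0, 1, 2, 1, 3, 2, 1, 0, 3], [1, 0, 1, 2, 1, 3, 2, 1, 3, 2], [1, 0, 1, 2, 3, 2, 1, 0, 1, 0], [1, 0, 2,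 1, 0, 1, 3, 2, 1, 0], [1, 0, 2, 1, 0, 1, 3, 2, 1, 3], [1, 0, 2, 1, 0, 3, 2, 1, 0, 1], [1, 0, 2, 1, 0, 3, 2, 1, 0, 3], [1, 0, 2, 1, 0, 3, 2, 1, 3, 2], [1, 0, 2, 1, 3, 2, 1, 0, 1, 0], [1, 0, 2, 1, 3, 2, 1, 0, 1, 3], [1, 0, 2, 1, 3, 2, 3, 2, 1, 0], [1, 0, 2, 3, 2, 1, 0, 1, 2, 3], [1, 2, 3, 2, 1, 0, 1, 0, 2, 3], [1, 2, 3, 2, 1, 0, 1, 2, 3, 2], [1, 0, 1, 0, 2, 1, 3, 2, 1, 0, 1], [1, 0, 1, 0, 2, 1, 3, 2, 1, 0, 3], [1, 0, 1, 0, 2, 1, 3, 2, 1, 3, 2], [1, 0, 1, 0, 2, 3, 2, 1, 0, 1, 0], [1, 0, 1, 0, 2, 3, 2, 1, 0, 1, 2], [1, 0, 1, 2, 1, 0, 3, 2, 1, 0, 1], [1, 0, 1, 2, 1, 3, 2, 1, 0, 1, 3], [1, 0, 1, 2, 1, 3, 2, 1, 0, 3, 2], [1, 0, 1, 2, 1, 3, 2, 1, 3, 2, 3], [1, 0, 2, 1, 0, 1, 3, 2, 1, 0, 3], [1, 0, 2, 1, 0, 1, 3, 2, 1, 3,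 2], [1, 0, 2, 1, 0, 3, 2, 1, 0, 1, 3], [1, 0, 2, 1, 0, 3, 2, 1, 0, 3, 2], [1, 0, 2, 1, 0, 3, 2, 1, 3, 2, 3], [1, 0, 2, 1, 3, 2, 1, 0, 1, 0, 3], [1, 0, 2, 1, 3, 2, 3, 2, 1, 0, 1], [1, 0, 2, 3, 2, 1, 0, 1, 2, 3, 2], [1, 2, 3, 2, 1, 0, 1, 0, 2, 3, 2], [1, 2, 3, 2, 1, 0, 1, 2, 3, 2, 1], [1, 2, 3, 2, 1, 0, 1, 2, 3, 2, 3], [1, 0, 1, 0, 2, 1, 3, 2, 1, 0, 1, 0], [1, 0, 1, 0, 2, 1, 3, 2, 1, 0, 1, 2], [1, 0, 1, 0, 2, 1, 3, 2, 1, 0, 1, 3], [1, 0, 1, 0, 2, 3, 2, 1, 0, 1, 2, 3], [1, 0, 2, 1, 0, 1, 3, 2, 1, 0, 3, 2], [1, 0, 2, 1, 0, 1, 3, 2, 1, 3, 2, 3], [1, 0, 2, 1, 0, 3, 2, 1, 0, 3, 2, 1], [1, 0, 2, 1, 0, 3, 2, 1, 0, 3, 2, 3], [1, 0, 2, 1, 0, 3, 2, 1, 3, 2, 3, 2], [1, 0, 2, 1, 3, 2, 3, 2, 1, 0, 1, 0], [1, 0, 2, 1, 3, 2, 3,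 2, 1, 0, 1, 2], [1, 2, 3, 2, 1, 0, 1, 0, 2, 3, 2, 1], [1, 2, 3, 2, 1, 0, 1, 2, 3, 2, 1, 3], [1, 0, 1, 0, 2, 1, 3, 2, 1, 0, 1, 0, 3], [1, 0, 1, 0, 2, 1, 3, 2, 1, 0, 1, 3, 2], [1, 0, 2, 1, 0, 1, 3, 2, 1, 0, 3, 2, 1], [1, 0, 2, 1, 0, 3, 2, 1, 0, 3, 2, 1, 3], [1, 0, 2, 1, 3, 2, 3, 2, 1, 0, 1, 0, 2], [1, 2, 3, 2, 1, 0, 1, 0, 2, 3, 2, 1, 0], [1, 0, 1, 0, 2, 1, 3, 2, 1, 0, 1, 0, 3, 2], [1, 0, 2, 1, 0, 1, 3, 2, 1, 0, 3, 2, 1, 0], [1, 0, 1, 0, 2, 1, 3, 2, 1, 0, 1, 0, 3, 2, 1], [1, 0, 2, 1, 0, 1, 3, 2, 1, 0, 3, 2, 1, 0, 1]]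
def V2 : List (List Nat) := [[], [0], [3], [0, 3], [3, 2], [0, 3, 2], [3, 2, 3], [0, 3, 2, 3]]
def V3 : List (List Nat) := [[], [2]]
noncomputable def F1 : List (List (Nat → Nat)) := [[], [T1], [T1, T0], [T1, T2], [T1, T0, T1], [T1, T0, T2], [T1, T2, T3], [T1, T0, T1, T0], [T1, T0, T1, T2], [T1, T0, T2, T1], [T1, T0, T2, T3], [T1, T2, T3, T2], [T1, T0, T1, T0, T2], [T1, T0, T1, T2, T1], [T1, T0, T1, T2, T3], [T1, T0, T2, T1, T0], [T1, T0, T2, T1, T3], [T1, T0, T2, T3, T2], [T1, T2, T3, T2, T1], [T1, T0, T1, T0, T2, T1], [T1, T0, T1, T0, T2, T3], [T1, T0, T1, T2, T1, T0], [T1, T0, T1, T2, T1, T3], [T1, T0, T1, T2, T3, T2], [T1, T0, T2, T1, T0, T1], [T1, T0, T2, T1, T0, T3], [T1, T0, T2, T1, T3, T2], [T1, T0, T2,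 T3, T2, T1], [T1, T2, T3, T2, T1, T0], [T1, T0, T1, T0, T2, T1, T3], [T1, T0, T1, T0, T2, T3, T2], [T1, T0, T1, T2, T1, T0, T3], [T1, T0, T1, T2, T1, T3, T2], [T1, T0, T1, T2, T3, T2, T1], [T1, T0, T2, T1, T0, T1, T3], [T1, T0, T2, T1, T0, T3, T2], [T1, T0, T2, T1, T3, T2, T1], [T1, T0, T2, T1, T3, T2, T3], [T1, T0, T2, T3, T2, T1, T0], [T1, T2, T3, T2, T1, T0, T1], [T1, T0, T1, T0, T2, T1, T3, T2], [T1, T0, T1, T0, T2, T3, T2, T1], [T1, T0, T1, T2, T1, T0, T3, T2], [T1, T0, T1, T2, T1, T3, T2, T1], [T1, T0, T1, T2, T1, T3, T2, T3], [T1, T0, T1, T2, T3, T2, T1, T0], [T1, T0, T2, T1, T0, T1, T3, T2], [T1, T0, T2, T1, T0, T3, T2, T1], [T1, T0, T2, T1, T0, T3, T2, T3], [T1, T0, T2, T1, T3, T2, T1, T0], [T1, T0, T2,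 T1, T3, T2, T1, T3], [T1, T0, T2, T1, T3, T2, T3, T2], [T1, T0, T2, T3, T2, T1, T0, T1], [T1, T2, T3, T2, T1, T0, T1, T0], [T1, T2, T3, T2, T1, T0, T1, T2], [T1, T0, T1, T0, T2, T1, T3, T2, T1], [T1, T0, T1, T0, T2, T1, T3, T2, T3], [T1, T0, T1, T0, T2, T3, T2, T1, T0], [T1, T0, T1, T2, T1, T0, T3, T2, T1], [T1, T0, T1, T2, T1, T3, T2, T1, T0], [T1, T0, T1, T2, T1, T3, T2, T1, T3], [T1, T0, T1, T2, T3, T2, T1, T0, T1], [T1, T0, T2, T1, T0, T1, T3, T2, T1], [T1, T0, T2, T1, T0, T1, T3, T2, T3], [T1, T0, T2, T1, T0, T3, T2, T1, T0], [T1, T0, T2, T1, T0, T3, T2, T1, T3], [T1, T0, T2, T1, T3, T2, T1, T0, T1], [T1, T0, T2, T1, T3, T2, T1, T0, T3], [T1, T0, T2, T1, T3, T2, T3, T2, T1], [T1, T0, T2, T3, T2, T1, T0, T1,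 T0], [T1, T0, T2, T3, T2, T1, T0, T1, T2], [T1, T2, T3, T2, T1, T0, T1, T0, T2], [T1, T2, T3, T2, T1, T0, T1, T2, T3], [T1, T0, T1, T0, T2, T1, T3, T2, T1, T0], [T1, T0, T1, T0, T2, T1, T3, T2, T1, T3], [T1, T0, T1, T0, T2, T3, T2, T1, T0, T1], [T1, T0, T1, T2, T1, T0, T3, T2, T1, T0], [T1, T0, T1, T2, T1, T3, T2, T1, T0, T1], [T1, T0, T1, T2, T1, T3, T2, T1, T0, T3], [T1, T0, T1, T2, T1, T3, T2, T1, T3, T2], [T1, T0, T1, T2, T3, T2, T1, T0, T1, T0], [T1, T0, T2, T1, T0, T1, T3, T2, T1, T0], [T1, T0, T2, T1, T0, T1, T3, T2, T1, T3], [T1, T0, T2, T1, T0, T3, T2, T1, T0, T1], [T1, T0, T2, T1, T0, T3, T2, T1, T0, T3], [T1, T0, T2, T1, T0, T3, T2, T1, T3, T2], [T1, T0, T2, T1, T3, T2, T1, T0, T1, T0], [T1, T0, T2, T1,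 T3, T2, T1, T0, T1, T3], [T1, T0, T2, T1, T3, T2, T3, T2, T1, T0], [T1, T0, T2, T3, T2, T1, T0, T1, T2, T3], [T1, T2, T3, T2, T1, T0, T1, T0, T2, T3], [T1, T2, T3, T2, T1, T0, T1, T2, T3, T2], [T1, T0, T1, T0, T2, T1, T3, T2, T1, T0, T1], [T1, T0, T1, T0, T2, T1, T3, T2, T1, T0, T3], [T1, T0, T1, T0, T2, T1, T3, T2, T1, T3, T2], [T1, T0, T1, T0, T2, T3, T2, T1, T0, T1, T0], [T1, T0, T1, T0, T2, T3, T2, T1, T0, T1, T2], [T1, T0, T1, T2, T1, T0, T3, T2, T1, T0, T1], [T1, T0, T1, T2, T1, T3, T2, T1, T0, T1, T3], [T1, T0, T1, T2, T1, T3, T2, T1, T0, T3, T2], [T1, T0, T1, T2, T1, T3, T2, T1, T3, T2, T3], [T1, T0, T2, T1, T0, T1, T3, T2, T1, T0, T3], [T1, T0, T2, T1, T0, T1, T3, T2, T1, T3, T2], [T1, T0, T2, T1, T0, T3,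 T2, T1, T0, T1, T3], [T1, T0, T2, T1, T0, T3, T2, T1, T0, T3, T2], [T1, T0, T2, T1, T0, T3, T2, T1, T3, T2, T3], [T1, T0, T2, T1, T3, T2, T1, T0, T1, T0, T3], [T1, T0, T2, T1, T3, T2, T3, T2, T1, T0, T1], [T1, T0, T2, T3, T2, T1, T0, T1, T2, T3, T2], [T1, T2, T3, T2, T1, T0, T1, T0, T2, T3, T2], [T1, T2, T3, T2, T1, T0, T1, T2, T3, T2, T1], [T1, T2, T3, T2, T1, T0, T1, T2, T3, T2, T3], [T1, T0, T1, T0, T2, T1, T3, T2, T1, T0, T1, T0], [T1, T0, T1, T0, T2, T1, T3, T2, T1, T0, T1, T2], [T1, T0, T1, T0, T2, T1, T3, T2, T1, T0, T1, T3], [T1, T0, T1, T0, T2, T3, T2, T1, T0, T1, T2, T3], [T1, T0, T2, T1, T0, T1, T3, T2, T1, T0, T3, T2], [T1, T0, T2, T1, T0, T1, T3, T2, T1, T3, T2, T3], [T1, T0, T2, T1, T0, T3, T2, T1,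 T0, T3, T2, T1], [T1, T0, T2, T1, T0, T3, T2, T1, T0, T3, T2, T3], [T1, T0, T2, T1, T0, T3, T2, T1, T3, T2, T3, T2], [T1, T0, T2, T1, T3, T2, T3, T2, T1, T0, T1, T0], [T1, T0, T2, T1, T3, T2, T3, T2, T1, T0, T1, T2], [T1, T2, T3, T2, T1, T0, T1, T0, T2, T3, T2, T1], [T1, T2, T3, T2, T1, T0, T1, T2, T3, T2, T1, T3], [T1, T0, T1, T0, T2, T1, T3, T2, T1, T0, T1, T0, T3], [T1, T0, T1, T0, T2, T1, T3, T2, T1, T0, T1, T3, T2], [T1, T0, T2, T1, T0, T1, T3, T2, T1, T0, T3, T2, T1], [T1, T0, T2, T1, T0, T3, T2, T1, T0, T3, T2, T1, T3], [T1, T0, T2, T1, T3, T2, T3, T2, T1, T0, T1, T0, T2], [T1, T2, T3, T2, T1, T0, T1, T0, T2, T3, T2, T1, T0], [T1, T0, T1, T0, T2, T1, T3, T2, T1, T0, T1, T0, T3, T2], [T1, T0, T2, T1, T0, T1,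 T3, T2, T1, T0, T3, T2, T1, T0], [T1, T0, T1, T0, T2, T1, T3, T2, T1, T0, T1, T0, T3, T2, T1], [T1, T0, T2, T1, T0, T1, T3, T2, T1, T0, T3, T2, T1, T0, T1]]
noncomputable def F2 : List (List (Nat → Nat)) := [[], [T0], [T3], [T0, T3], [T3, T2], [T0, T3, T2], [T3, T2, T3], [T0, T3, T2, T3]]
noncomputable def F3 : List (List (Nat → Nat)) := [[], [T2]]
def ts : List (List Nat) := [[], [4], [4, 3, 2, 3, 4], [4, 3, 2, 1, 3, 2, 3, 4]]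
def cw : List (List Nat) := [[], [], [3], [2, 3], [1, 2, 3], [3, 2, 3], [0, 1, 2, 3], [3, 1, 2, 3], [], [1, 0, 1, 2, 3], [3, 0, 1, 2, 3], [2, 3, 1, 2, 3], [1], [0, 1, 0, 1, 2, 3], [3, 1, 0, 1, 2, 3], [2, 3, 0, 1, 2, 3], [0, 1], [3, 2, 3, 1, 2, 3], [2, 1], [3, 0, 1, 0, 1, 2, 3], [2, 3, 1, 0, 1, 2, 3], [1, 0, 1], [1, 2, 3, 0, 1, 2, 3], [3, 2, 3, 0, 1, 2, 3], [2, 0, 1], [], [3, 2, 1], [2, 3, 0, 1, 0, 1, 2, 3], [0, 1, 0, 1], [1, 2, 3, 1, 0, 1, 2, 3], [3, 2, 3, 1, 0, 1, 2, 3], [2, 1, 0, 1], [0, 1, 2, 3, 0, 1, 2, 3], [3, 1, 2, 3, 0, 1, 2, 3], [1, 2, 0, 1], [0], [3, 2, 0, 1], [3], [2, 3, 2, 1], [1, 2, 3, 0, 1, 0, 1, 2, 3], [3, 2, 3, 0, 1, 0, 1, 2, 3], [2, 0, 1, 0, 1], [0, 1, 2, 3, 1, 0, 1, 2, 3], [3, 1, 2, 3, 1, 0, 1,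 2, 3], [1, 2, 1, 0, 1], [0, 1, 2, 3, 2, 1, 0, 1, 0], [3, 2, 1, 0, 1], [1, 0, 1, 2, 3, 0, 1, 2, 3], [3, 0, 1, 2, 3, 0, 1, 2, 3], [0, 1, 2, 0, 1], [1, 0], [3, 1, 2, 0, 1], [3, 0], [2, 3, 2, 0, 1], [2, 3], [1, 2, 3, 2, 1], [3, 1, 2, 3, 0, 1, 0, 1, 2, 3], [1, 2, 0, 1, 0, 1], [1, 2, 3, 2, 1, 0, 1, 0], [3, 2, 0, 1, 0, 1], [3, 0, 1, 2, 3, 1, 0, 1, 2, 3], [0, 1, 2, 1, 0, 1], [1, 0, 1, 2, 3, 2, 1, 0, 1, 0], [3, 1, 2, 1, 0, 1], [3, 0, 1, 2, 3, 2, 1, 0, 1, 0], [2, 3, 2, 1, 0, 1], [3, 1, 0, 1, 2, 3, 0, 1, 2, 3], [1, 0, 1, 2, 0, 1], [0, 1, 0], [3, 0, 1, 2, 0, 1], [3, 1, 0], [2, 3, 1, 2, 0, 1], [2, 3, 0], [1, 2, 3, 2, 0, 1], [1, 2, 3], [3, 2, 3], [0, 1, 2, 3, 2, 1], [2, 3, 1, 2, 3, 0, 1, 0, 1, 2, 3], [2, 3, 2, 1, 0, 1, 0], [3,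 1, 2, 0, 1, 0, 1], [3, 1, 2, 3, 2, 1, 0, 1, 0], [2, 3, 2, 0, 1, 0, 1], [0, 1, 0, 1, 2, 3, 2, 1, 0, 1, 0], [3, 0, 1, 2, 1, 0, 1], [3, 1, 0, 1, 2, 3, 2, 1, 0, 1, 0], [2, 3, 1, 2, 1, 0, 1], [3, 1, 2, 3, 0, 1, 0, 1, 2, 3], [1, 2, 3, 2, 1, 0, 1], [2, 3, 1, 0, 1, 2, 3, 0, 1, 2, 3], [1, 0, 1, 0], [3, 1, 0, 1, 2, 0, 1], [3, 0, 1, 0], [2, 3, 0, 1, 2, 0, 1], [2, 3, 1, 0], [1, 2, 3, 1, 2, 0, 1], [3, 2, 3, 1, 2, 0, 1], [1, 2, 3, 0], [3, 2, 3, 0], [0, 1, 2, 3, 2, 0, 1], [0, 1, 2, 3], [3, 1, 2, 3], [1, 0, 1, 2, 3, 2, 1], [3, 2, 3, 1, 2, 3, 0, 1, 0, 1, 2, 3], [3, 2, 1, 0, 1, 0], [3, 2, 3, 2, 1, 0, 1, 0], [2, 3, 1, 2, 0, 1, 0, 1], [2, 3, 1, 2, 3, 2, 1, 0, 1, 0], [1, 2, 3, 2, 0, 1, 0, 1], [3, 0, 1, 0, 1, 2, 3, 2, 1, 0, 1, 0], [2,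 3, 0, 1, 2, 1, 0, 1], [3, 1, 2, 3, 2, 1, 0, 1, 2, 3], [1, 2, 3, 1, 2, 1, 0, 1], [3, 2, 3, 1, 2, 1, 0, 1], [3, 2, 3, 0, 1, 0, 1, 2, 3], [1, 2, 3, 0, 1, 0, 1, 2, 3], [0, 1, 2, 3, 2, 1, 0, 1], [3, 2, 3, 1, 0, 1, 2, 3, 0, 1, 2, 3], [2, 1, 0, 1, 0], [3, 1, 0, 1, 0], [2, 3, 1, 0, 1, 2, 0, 1], [2, 3, 0, 1, 0], [1, 2, 3, 0, 1, 2, 0, 1], [3, 2, 3, 0, 1, 2, 0, 1], [1, 2, 3, 1, 0], [3, 2, 3, 1, 0], [0, 1, 2, 3, 1, 2, 0, 1], [3, 1, 2, 3, 1, 2, 0, 1], [2, 3, 2, 3, 1, 2, 0, 1], [3, 1, 0, 1, 2, 3, 1, 2, 0, 1], [0, 1, 2, 3, 0], [3, 1, 2, 3, 0], [1, 0, 1, 2, 3, 2, 0, 1], [1, 0, 1, 2, 3], [3, 0, 1, 2, 3], [2, 3, 1, 2, 3], [0, 1, 0, 1, 2, 3, 2, 1], [2, 1, 0, 1, 2, 3, 2, 1], [3, 2, 3, 1, 0, 1, 0], [1, 2, 3, 1, 2, 0, 1, 0, 1], [3, 2,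 3, 1, 2, 0, 1, 0, 1], [2, 3, 1, 2, 3, 1, 0, 1, 0], [1, 2, 3, 0, 1, 0, 1, 2, 3, 0], [0, 1, 2, 3, 2, 0, 1, 0, 1], [1, 0, 1, 2, 3, 2, 1, 0, 1, 2, 3], [1, 2, 3, 0, 1, 2, 1, 0, 1], [3, 2, 3, 2, 1, 0, 1, 2, 3], [1, 2, 3, 2, 1, 0, 1, 2, 3], [0, 1, 2, 3, 1, 2, 1, 0, 1], [3, 1, 2, 3, 1, 2, 1, 0, 1], [0, 1, 2, 3, 2, 3, 1, 2, 0, 1], [3, 2, 3, 1, 0, 1, 2, 3], [2, 3, 0, 1, 0, 1, 2, 3], [1, 0, 1, 2, 3, 2, 1, 0, 1], [2, 3, 1, 0, 1, 0], [1, 2, 3, 1, 0, 1, 2, 0, 1], [3, 2, 3, 1, 0, 1, 2, 0, 1], [1, 2, 3, 0, 1, 0], [3, 2, 3, 0, 1, 0], [0, 1, 2, 3, 0, 1, 2, 0, 1], [3, 1, 2, 3, 0, 1, 2, 0, 1], [3, 0, 1, 0, 1, 2, 3, 1, 2, 0, 1], [0, 1, 2, 3, 1, 0], [1, 0, 1, 2, 3, 1, 2, 0, 1], [3, 0, 1, 2, 3, 1, 2, 0, 1], [1, 2, 3, 2, 3, 1, 2, 0, 1],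 [1, 0, 1, 2, 3, 0], [3, 0, 1, 2, 3, 0], [2, 3, 1, 2, 3, 0], [0, 1, 0, 1, 2, 3, 2, 0, 1], [2, 1, 0, 1, 2, 3, 2, 0, 1], [0, 1, 0, 1, 2, 3], [2, 1, 0, 1, 2, 3], [3, 1, 0, 1, 2, 3], [2, 3, 0, 1, 2, 3], [3, 2, 3, 1, 2, 3], [2, 0, 1, 0, 1, 2, 3, 2, 1], [3, 2, 1, 0, 1, 2, 3, 2, 1], [3, 1, 2, 3, 1, 0, 1, 0], [0, 1, 2, 3, 1, 2, 0, 1, 0, 1], [3, 1, 2, 3, 1, 2, 0, 1, 0, 1], [3, 2, 3, 1, 0, 1, 2, 3, 0], [2, 3, 0, 1, 0, 1, 2, 3, 0], [1, 0, 1, 2, 3, 2, 0, 1, 0, 1], [0, 1, 2, 3, 2, 1, 0, 1, 2, 3], [0, 1, 2, 3, 0, 1, 2, 1, 0, 1], [2, 3, 2, 3, 1, 0, 1, 2, 3], [2, 3, 2, 1, 0, 1, 2, 3], [1, 0, 1, 2, 3, 1, 2, 1, 0, 1], [3, 0, 1, 2, 3, 1, 2, 1, 0, 1], [2, 3, 1, 2, 3, 1, 2, 1, 0, 1], [1, 0, 1, 2, 3, 2, 3, 1, 2, 0, 1], [3, 1, 2, 3, 1,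 0, 1, 2, 3], [2, 3, 1, 0, 1, 2, 3], [3, 0, 1, 0, 1, 2, 3], [0, 1, 0, 1, 2, 3, 2, 1, 0, 1], [1, 2, 3, 1, 0, 1, 0], [0, 1, 2, 3, 1, 0, 1, 2, 0, 1], [3, 1, 2, 3, 1, 0, 1, 2, 0, 1], [0, 1, 2, 3, 0, 1, 0], [3, 1, 2, 3, 0, 1, 0], [0, 1, 0, 1, 2, 3, 1, 2, 0, 1], [1, 0, 1, 2, 3, 0, 1, 2, 0, 1], [3, 0, 1, 2, 3, 0, 1, 2, 0, 1], [2, 3, 1, 2, 3, 0, 1, 2, 0, 1], [3, 2, 1, 0, 1, 2, 3, 2, 0, 1], [0, 1, 0, 1, 2, 3, 0], [3, 1, 0, 1, 2, 3, 0], [2, 3, 0, 1, 2, 3, 0], [2, 0, 1, 0, 1, 2, 3], [3, 2, 1, 0, 1, 2, 3], [1, 2, 3, 0, 1, 2, 3], [3, 2, 3, 0, 1, 2, 3], [3, 2, 0, 1, 0, 1, 2, 3, 2, 1], [2, 3, 2, 1, 0, 1, 2, 3, 2, 1], [3, 0, 1, 0, 1, 2, 3, 1, 2, 0, 1, 0, 1], [3, 0, 1, 2, 3, 1, 0, 1, 0], [1, 0, 1, 2, 3, 1, 2, 0, 1, 0, 1], [3, 0,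 1, 2, 3, 1, 2, 0, 1, 0, 1], [2, 3, 1, 2, 3, 1, 2, 0, 1, 0, 1], [3, 1, 2, 3, 1, 0, 1, 2, 3, 0], [2, 3, 1, 0, 1, 2, 3, 0], [3, 0, 1, 0, 1, 2, 3, 0], [0, 1, 0, 1, 2, 3, 2, 0, 1, 0, 1], [2, 1, 0, 1, 2, 3, 2, 0, 1, 0, 1], [1, 0, 1, 2, 3, 0, 1, 2, 1, 0, 1], [1, 2, 3, 2, 3, 1, 0, 1, 2, 3], [2, 3, 2, 0, 1, 0, 1, 2, 3], [3, 1, 0, 1, 2, 3, 1, 2, 1, 0, 1], [2, 3, 0, 1, 2, 3, 1, 2, 1, 0, 1], [0, 1, 0, 1, 2, 3, 2, 3, 1, 2, 0, 1], [3, 2, 3, 1, 2, 3, 1, 2, 1, 0, 1], [2, 1, 0, 1, 2, 3, 2, 3, 1, 2, 0, 1], [3, 0, 1, 2, 3, 1, 0, 1, 2, 3], [1, 2, 3, 1, 0, 1, 2, 3], [0, 1, 2, 3, 1, 0, 1, 0], [3, 0, 1, 2, 3, 1, 0, 1, 2, 0, 1], [2, 3, 1, 2, 3, 1, 0, 1, 2, 0, 1], [1, 0, 1, 2, 3, 0, 1, 0], [3, 1, 0, 1, 2, 3, 0, 1, 2, 0, 1], [2, 3, 0, 1,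 2, 3, 0, 1, 2, 0, 1], [3, 2, 3, 1, 2, 3, 0, 1, 2, 0, 1], [2, 3, 2, 1, 0, 1, 2, 3, 2, 0, 1], [1, 2, 3, 0, 1, 2, 3, 0], [3, 2, 0, 1, 0, 1, 2, 3], [0, 1, 0, 1, 2, 3, 1, 2, 0, 1, 0, 1], [0, 1, 2, 3, 0, 1, 2, 3], [3, 1, 2, 3, 0, 1, 2, 3], [2, 3, 2, 0, 1, 0, 1, 2, 3, 2, 1], [3, 1, 0, 1, 2, 3, 1, 2, 0, 1, 0, 1], [1, 2, 3, 2, 1, 0, 1, 2, 3, 2, 1], [3, 2, 3, 2, 1, 0, 1, 2, 3, 2, 1], [2, 3, 0, 1, 0, 1, 2, 3, 1, 2, 0, 1, 0, 1], [2, 1, 0, 1, 2, 3, 1, 2, 0, 1, 0, 1], [3, 0, 1, 2, 3, 1, 0, 1, 2, 3, 0], [1, 2, 3, 2, 0, 1, 0, 1, 2, 3], [1, 2, 3, 1, 0, 1, 2, 3, 0], [3, 2, 1, 0, 1, 2, 3, 2, 0, 1, 0, 1], [2, 0, 1, 0, 1, 2, 3, 2, 3, 1, 2, 0, 1], [2, 3, 0, 1, 2, 3, 1, 0, 1, 2, 0, 1], [1, 2, 3, 2, 0, 1, 0, 1, 2, 3, 2, 1], [0, 1, 2, 3,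 1, 0, 1, 2, 3], [3, 2, 3, 1, 2, 3, 1, 0, 1, 2, 0, 1], [1, 2, 3, 0, 1, 2, 3, 0, 1, 2, 0, 1], [3, 2, 3, 0, 1, 2, 3, 0, 1, 2, 0, 1], [2, 3, 2, 3, 1, 2, 3, 0, 1, 2, 0, 1], [1, 2, 3, 0, 1, 2, 3, 1, 0, 1, 2, 0, 1], [0, 1, 2, 3, 0, 1, 2, 3, 0], [1, 0, 1, 2, 3, 0, 1, 2, 3], [3, 0, 1, 2, 3, 0, 1, 2, 3], [2, 3, 1, 0, 1, 2, 3, 1, 2, 0, 1, 0, 1], [3, 1, 2, 3, 2, 1, 0, 1, 2, 3, 2, 1], [1, 2, 3, 0, 1, 0, 1, 2, 3, 1, 2, 0, 1, 0, 1], [0, 1, 2, 3, 0, 1, 2, 3, 1, 0, 1, 2, 0, 1], [0, 1, 2, 3, 1, 0, 1, 2, 3, 0], [0, 1, 2, 3, 2, 0, 1, 0, 1, 2, 3, 2, 1], [3, 1, 2, 3, 0, 1, 2, 3, 0, 1, 2, 0, 1], [1, 0, 1, 2, 3, 0, 1, 2, 3, 0], [3, 1, 0, 1, 2, 3, 0, 1, 2, 3], [1, 0, 1, 2, 3, 0, 1, 2, 3, 1, 0, 1, 2, 0, 1], [2, 3, 1, 0, 1, 2, 3, 0, 1, 2,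 3]]

theorem F1_eq : F1 = V1.map (·.map T) := rfl
theorem F2_eq : F2 = V2.map (·.map T) := rfl
theorem F3_eq : F3 = V3.map (·.map T) := rfl

/-- the point `x0` is fixed by the `n`-th power; then continue. -/
noncomputable def pw (fs : List (Nat → Nat)) (x0 : Nat) (k : Bool) (n : Nat) : Nat → Bool :=
  @Nat.rec (fun _ => Nat → Bool) (fun x => @Bool.rec (fun _ => Bool) false k (Nat.beq x x0))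
    (fun _ ih x => trT fs ih x) n

noncomputable def tstn (fs : List (Nat → Nat)) (n : Nat) : Bool :=
  pw fs (nat_lit 0) (pw fs (nat_lit 8) (pw fs (nat_lit 4) (pw fs (nat_lit 2) true n (nat_lit 2)) n (nat_lit 4)) n (nat_lit 8)) n (nat_lit 0)

noncomputable def lor (a b : Bool) : Bool := @Bool.rec (fun _ => Bool) b true a

noncomputable def tst (fs : List (Nat → Nat)) : Bool :=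
  lor (tstn fs (nat_lit 10)) (lor (tstn fs (nat_lit 12)) (lor (tstn fs (nat_lit 7)) (lor (tstn fs (nat_lit 8)) (tstn fs (nat_lit 15)))))

noncomputable def allL {α : Type} (p : α → Bool) (l : List α) : Bool :=
  @List.rec α (fun _ => Bool) true (fun a _ ih => @Bool.rec (fun _ => Bool) false ih (p a)) l

noncomputable def app {α : Type} (a b : List α) : List α :=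
  @List.rec α (fun _ => List α) b (fun x _ ih => x :: ih) a

noncomputable def allT (F1 : List (List (Nat → Nat))) (t : List (Nat → Nat)) : Bool :=
  allL (fun v1 => allL (fun v2 => allL (fun v3 => tst (app v3 (app v2 (app v1 t)))) F3) F2) F1

end Cfsg.Agent.H8.J2s
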