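import Cfsg.Agent.H8.CosetPres

set_option autoImplicit false
set_option linter.all false
set_option maxRecDepth 100000

namespace Cfsg.Agent.H8.J2t
noncomputable def E0c0 : Nat := nat_lit 0x4111600e1000db5c0e010d0d590f180af90c0d60c0d50410c000d2840d8080d10030a580fa15107140cb5c6cc540c754d02046c5000c304104000bf0cd01280da080be080bd58f00046ba60efe5cafc58ebb000b6480ce046b5002fd28ee6046b384ef4000b10ccf80c8f7080b00c0ae002f5086f3048ab080a748cdd000a55c0ee14eef0469f580a9180a254aed0009c040eb0009a002ea0009844eac04697002e808ce5088e404694580df040e2000910009050692002de040dc0008c040d90008a002d7086d4048880c6d308086440c1040d00008458ac900083088cf04682002cd540950467e18cc80007b18080040ca000791407c002c62469b002c424899002c2040c00007154ca4040bc0006f500b7002b9002b81006e0006b1c072002b444e8b002b240889040af00065088ad04664002aa002a8040a60006018ca010e70040a30005e1469d002a11405f0029e1005d2087720a7620875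20674000571c68d002961007f002931088f190550c0540028e18056448693ca683c8673c66600287040850004a000491c04b002811507a0027d10878150470c0461ca5a1ca591c858002731886a1806d0c66c1803f0803e140411404040a4f38a4e3884d000371c6610026300262180361405c0c65b080330803218a4318a4214851146501905308c5204c2c0462b1002e1002d3ca3934a380024c1884814026140250864508c4404c220462114a2f1063b10c3a0403d0403c0001d0c01f0c01e38a2714835146341001a100190403104030000160cc290c6280022a08015080141062410c230c0120c0110022008c1c0881b0460e0cc180c6170800c0800b040130000908c100880f046070020d14c080400a0000410e050020610e030c60208c0104400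
noncomputable def E0c1 : Nat := nat_lit 0x2c9178cf1628b1528b1448b1310103046ff8410970b0f5cb0e100fb046f624b0b000f28511010f05140f04cb0610108046e910712540ec0c0e7580e3
noncomputable def E0 : Nat → Nat := (fun h => @Nat.rec (fun _ => Nat → Nat)
 (fun i => Nat.land (Nat.shiftRight E0c0 (Nat.mul (nat_lit 20) (Nat.land i (nat_lit 255)))) (nat_lit 0xfffff))
 (fun _ _ => (fun i => Nat.land (Nat.shiftRight E0c1 (Nat.mul (nat_lit 20) (Nat.land i (nat_lit 255)))) (nat_lit 0xfffff))) (Nat.land h (nat_lit 256)) h)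
noncomputable def E1c0 : Nat := nat_lit 0x46dc680e21c0e8140df0410f0410e000d57d0d97cf03046d30030b308f46c0d7000cf180e7180e600306046ca000c644aec698d45d6d0046c01ccfd188f1186f05c100486e4046bc694fe000b9000b814afc180c234ac1040ff000b444ada7c0f8000b26d0f32c8d6002f9680eb040f6000ad2c6d15c0ea002f2046a61c0aa080a0140bd040ee0009e548a90469d002ed0469b612af0009918cde340dd040e9000960809514acb040e30009304692002e1002e00008f0008e0468d002db0468b002d800089286b0600c4246ae002d20468528aab1cccd540c81808724aa7040ce000810007f580805487d50a7c088cc0467a002c9040c700078040c500077002c30007304672002bf088be04670002bb040ba0006e0006d002b7002b6040b50006a040b300069002b124a8818ca820a86040ac000630006204661002a558ea3002a40465f540a2500a10005d0409f0005c0029c0029a0c05b24a7524674002980409700056040940005500291002903866c000510028c0028a0c05028867204660004c0464b002840028304082000480407e000470027b002790c676080450804420a5800041002710026f0c0403c85334a520026b0c6680803b0803a2464d00265040640003600035002600025e0c0340865a088590483104630002570c6540802e0802d3883d30a3c0864f0884e0482904628000260024a002490c64608024080230404304042000200863f0883e0481f0461e3462a04039040380001b002371c825086330883204818046170022f0402c0402b0001418c1c002271861a1881904022040210000f080100021d14c1314a121461108815002160460a14c0d0800810a0b0400e000060880c04605002090400700003002040c6020880104400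
noncomputable def E1c1 : Nat := nat_lit 0x30b17081100470c0010a04707507122010408716048fb046fa6c10804115000f5003141c1026db0d04113000ef48705207117c0f71c9094c9015cce5
noncomputable def E1 : Nat → Nat := (fun h => @Nat.rec (fun _ => Nat → Nat)
 (fun i => Nat.land (Nat.shiftRight E1c0 (Nat.mul (nat_lit 20) (Nat.land i (nat_lit 255)))) (nat_lit 0xfffff))
 (fun _ _ => (fun i => Nat.land (Nat.shiftRight E1c1 (Nat.mul (nat_lit 20) (Nat.land i (nat_lit 255)))) (nat_lit 0xfffff))) (Nat.land h (nat_lit 256)) h)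
noncomputable def E2c0 : Nat := nat_lit 0x4c6f2000db500e1000d8048d6612ee2c6f90410d000d4286f64c104840e0440e24c0ff048cc00308000ca600fa58acd000c558102140c6480d24cebf048be280d904101000bc4c6e344af3506fd862f4000b6540bb000b5480ce002fe000b328ee6002fc140b4040fb000b0002f724cae486e9420ba000aa000a6488dc580ed040f10009f002ef5dea8240a24dca514aea002ec1009e1009c500980009744cac4c0e8040e700094002e455ade400d11409644ab83c6b7002df002dd14ad7002da1008e1008c002d500087240d300085440c000084002d0000835c0c900082002cf4c0c76988020e7e248c81408114095002cb10ac420c7c106c340c9b0c07900076508c2002c114ab9148a0002bd1007324c9210071406900006c10ab230072106b14108b0c06b0006800065002af00064002ad002ab002a9002a714aa1680a40005f200a3100622009d10060114700c69a0005b0005a00299048593cc7410a9330c8d106911007a0c05700054000530028f0c68a000500004f002890484e39466002880028624a6310a7d212611067b0027f0c0490004600045002780027704075000420c66f000400003f0026e0026d2003e0003b0026a00269040670003820a4c1cc4b2064a0c65e00034000330025d0025c20a443c643002580002e002560025520852100311cc2b002512c63a1c6390024d1c637000250002400248002471c6321083d1ca303862f0024130a2d0c0221c03c0c0200481c28628186270001a0023600235180190c82c186210ca2a048152ca1e08016040290001300226188230481014c110861d0401f0000e0021b0480c14017040180000a002142c00904012000070020f2cc0d108080020b14a060d0051060400002002030880104400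
noncomputable def E2c1 : Nat := nat_lit 0x1158a916003175410b4c713801105010a827123070f71706048f82cb0c5471450b1178103000f010d057010e101074caf579709588eb048e55a500
noncomputable def E2 : Nat → Nat := (fun h => @Nat.rec (fun _ => Nat → Nat)
 (fun i => Nat.land (Nat.shiftRight E2c0 (Nat.mul (nat_lit 20) (Nat.land i (nat_lit 255)))) (nat_lit 0xfffff))
 (fun _ _ => (fun i => Nat.land (Nat.shiftRight E2c1 (Nat.mul (nat_lit 20) (Nat.land i (nat_lit 255)))) (nat_lit 0xfffff))) (Nat.land h (nat_lit 256)) h)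
noncomputable def E3c0 : Nat := nat_lit 0xdb580e1003116c0e500310000d50030e700d8592f1000d20030c1c0d6000d0548f2580f7000cb00307000c958ac600305000c4500d7000bf0030400303000bd6defc280da000bb000b959cfe700be0030030ac2480cd000b4002ff28ce4000b271af850cea1c6f4002fa000af000ad002f6000ab002f3518cf000a5488dd546a9002f00009e002ee0c0a00009c580ed0009a002eb480b1300de44caa00096002e970ae0002e600093002e300091002e2616954c08f2c0980008c002dc0008a002d9488c300088002d400086002d300084002d1440c1540cc2ca8754aa700081002ce180900007d0c0805407b0c6c800079002ca00078002c700077002c5450892c8b600071002c0600b80006f002bc0006e002ba188a44d4b728a730006a002b500069002b344099002b02c0a8002ae00063002ac2806500060002a60c6a21526d0005e002a30005d54ea10005c0029f0029d0029b0005940667000582808e00056002970005500294002921407f00052240570028d0028b0004e400750004d288830004a002852504c0004800282000470027e0027c0027a000440004300276002742486b00272002700003e0003d0026c20e410003a0003900268002662406200036002641c037002610025f00032000310025b0025a0002f200510002d0002c00254002530002a00029002500024f000271c8490024b18e260002300022002460024500020002420001f002400023f0001d0023c0023b0001b00238180350001900018002340023300016002300022e000140022b2061c002280001200225002240000f002211c6150021e0000d0021a0000b186100021700009002131460c00211000060020e10608000040020a000030020700205000010020204400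
noncomputable def E3c1 : Nat := nat_lit 0x667170010f0010b625140010600101000fd000fb00316000f976309000f5003155e10a7410d5cd02000ef00313000ec000e8000e75c10800312000df
noncomputable def E3 : Nat → Nat := (fun h => @Nat.rec (fun _ => Nat → Nat)
 (fun i => Nat.land (Nat.shiftRight E3c0 (Nat.mul (nat_lit 20) (Nat.land i (nat_lit 255)))) (nat_lit 0xfffff))
 (fun _ _ => (fun i => Nat.land (Nat.shiftRight E3c1 (Nat.mul (nat_lit 20) (Nat.land i (nat_lit 255)))) (nat_lit 0xfffff))) (Nat.land h (nat_lit 256)) h)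
noncomputable def E4c0 : Nat := nat_lit 0x306e9180df180de6c8e2000d5740ef0030f000d40030d60ef63410a000d1708d8300d2000cb00309750fa7c0ca140c9500da546d9100c4300ff180c2000bd00302000bc003015c1006c0fc140bb800ba18afe18cfd2c0c12c0c0140b650aec540eb700f3100b2000b0002fb002f8546d3308f2002f41c0af2caad2c6ac180a80009f002f17ceee148ed0009d500a91009e4c6b310cea0c09a18ce82cadd2c6dc1409800094002e7002e5148e1810e010093540920c090148db286971008e4c0c510cd70c08a002d61cad058eae2c0cf2c0ce180881808750ac718ccd2408628085140835067f6ce7e0007c1007d0007a002cc10cc6002c80c0794808b0c8c308077148bf280b51007300070002be10cb954cb80c06f0c8b70806d10cb4240720c06b4869b0c8b10806918aab18caa24aa7286a614065148a520664100620005f500a46c0a310ca1002a20c05e002a00c89c0805c08a990465a000583c06610c962468d0c057002950c8910805508a8f046530c88c0805108a890464f0004d3ce7414884200821004c10c811c04b0c049002800c87b0804708a78046450407600042002750c8710804108a6e0463f0406c0003c08a6a0463b04068000380026710c631c6610c0370c8600803508a5d046330405b000300002f0025908a560462e040540002b0002a002520405000028000270024e0c84a0802608a48046240404600021000200024400243040400001e0001d0023e0023d0001b0023a0023908a360461a0403400017000160023200231000140022d0022c000130022904025000110000f00223002220000e0021f0021c0000b002190000a00218002151cc0d00007002120021018809000050020c14c0600208108040ca03086020000000201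
noncomputable def E4c1 : Nat := nat_lit 0x6cf178cf1364f153810b8c116541053410489107000f975106000f76070c3891434cf5000f058103881107410e547123471158d08000e6000e45c6e3
noncomputable def E4 : Nat → Nat := (fun h => @Nat.rec (fun _ => Nat → Nat)
 (fun i => Nat.land (Nat.shiftRight E4c0 (Nat.mul (nat_lit 20) (Nat.land i (nat_lit 255)))) (nat_lit 0xfffff))
 (fun _ _ => (fun i => Nat.land (Nat.shiftRight E4c1 (Nat.mul (nat_lit 20) (Nat.land i (nat_lit 255)))) (nat_lit 0xfffff))) (Nat.land h (nat_lit 256)) h)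
noncomputable def Dc0 : Nat := nat_lit 0x6d8db626d81b026a91aa36a85a846a09a436901a24680d9e16591963650992363058a2620d8605f8d7e05e917a35e117825d8d7235c857015b096c05a896835a05662590d641588160458095e3568d5a1558d54253094a352813e44f893c34f053a44e0d3804d0d3404c853004b892c34b052844a092634985223488120047851c1460d180450d140448510343890c342890834209080418906041090234084fe13e8cf843d80f443c8cf203c0cf013b8cee13b08e61388ce203810de33780dc33704da13608d60350cd41348cd213408ca23280c82318cc613104c033000be42f88bc32f00ba32e84b832e04b622d08b232c10b032b80ac32b04aa32a84a822988a432884a0227889c326909a326049432500920240c901238c8e123088a2220c863211084220848021f887c31e8c7841d887431c8c7041c086e01b0c6c11a846821988643188c60417905e317085a3160c5641510543148c50413904e313044a21208463110c424101040310043e30f103a40e8c3a00d903630d843420c8c3030b902c40b0c2c00a102830a04264098824308901e4078c1e107101c2068c164058c144050812304800e403880c303040a4020c080018c06101080230010000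
noncomputable def Dc1 : Nat := nat_lit 0x8a8a1e3858e141830e0237e8df637c91f237b91ea37a85e407811e02778dde1760dd03738dcc47211be3
noncomputable def D : Nat → Nat := (fun h => @Nat.rec (fun _ => Nat → Nat)
 (fun i => Nat.land (Nat.shiftRight Dc0 (Nat.mul (nat_lit 14) (Nat.land i (nat_lit 255)))) (nat_lit 0x3fff))
 (fun _ _ => (fun i => Nat.land (Nat.shiftRight Dc1 (Nat.mul (nat_lit 14) (Nat.land i (nat_lit 255)))) (nat_lit 0x3fff))) (Nat.land h (nat_lit 256)) h)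
noncomputable def T0 : Nat → Nat := fun i => Nat.land (E0 i) (nat_lit 511)
noncomputable def T1 : Nat → Nat := fun i => Nat.land (E1 i) (nat_lit 511)
noncomputable def T2 : Nat → Nat := fun i => Nat.land (E2 i) (nat_lit 511)
noncomputable def T3 : Nat → Nat := fun i => Nat.land (E3 i) (nat_lit 511)
noncomputable def T4 : Nat → Nat := fun i => Nat.land (E4 i) (nat_lit 511)
noncomputable def E : Nat → Nat → Nat := fun l => (@Nat.rec (fun _ => Nat → Nat) E0 (fun l _ => (@Nat.rec (fun _ => Nat → Nat) E1 (fun l _ => (@Nat.rec (fun _ => Nat → Nat) E2 (fun l _ => (@Nat.rec (fun _ => Nat → Nat) E3 (fun l _ => E4) l)) l)) l)) l)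
noncomputable def T : Nat → Nat → Nat := fun l => (@Nat.rec (fun _ => Nat → Nat) T0 (fun l _ => (@Nat.rec (fun _ => Nat → Nat) T1 (fun l _ => (@Nat.rec (fun _ => Nat → Nat) T2 (fun l _ => (@Nat.rec (fun _ => Nat → Nat) T3 (fun l _ => T4) l)) l)) l)) l)
noncomputable def inv : Nat → Nat := fun l => l
def rels2 : List (List Nat × Nat) := [([0, 1], 5), ([0, 2], 2), ([0, 3], 2), ([0, 4], 2), ([1, 2], 3), ([1, 3], 2), ([1, 4], 2), ([2, 3], 8), ([2, 4], 2), ([3, 4], 3), ([0, 2, 3, 2, 3, 2, 3, 2, 3], 1), ([1, 2, 3, 2, 3, 1, 2, 3, 2, 3, 1, 2, 3, 2, 3, 1, 2, 3, 2, 3, 1, 2, 3, 2, 3, 4], 3)]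
def rels : List (List Nat) := rels2.map (fun p => wpow p.1 p.2)
def relsP : List (List Nat × Nat) := [([0, 1], 5), ([0, 2], 2), ([0, 3], 2), ([0, 4], 2), ([1, 2], 3), ([1, 3], 2), ([1, 4], 2), ([2, 3], 8), ([2, 4], 2), ([3, 4], 3), ([0, 2, 3, 2, 3, 2, 3, 2, 3], 1), ([1, 2, 3, 2, 3, 1, 2, 3, 2, 3, 1, 2, 3, 2, 3, 1, 2, 3, 2, 3, 1, 2, 3, 2, 3, 4], 3)]
def subw : List (List Nat) := [[0], [1], [2], [3]]
def RW0 : List (List Nat) := [[3, 0, 3], [2, 0, 2], [1, 0, 1, 0, 1, 0, 1, 0, 1], [4, 0, 4], [2, 3, 2, 3, 2, 3, 2, 3], [3, 2, 3, 2, 3, 2, 3, 2]]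
noncomputable def RF0 : List (List (Nat → Nat)) := [[E3, E0, E3], [E2, E0, E2], [E1, E0, E1, E0, E1, E0, E1, E0, E1], [E4, E0, E4], [E2, E3, E2, E3, E2, E3, E2, E3], [E3, E2, E3, E2, E3, E2, E3, E2]]
def RC0 : List Nat := [1024, 512, 0, 1536, 5120, 5121]
def RW1 : List (List Nat) := [[3, 1, 3], [4, 1, 4], [2, 1, 2, 1, 2], [0, 1, 0, 1, 0, 1, 0, 1, 0], [4, 3, 2, 3, 2, 1, 3, 2, 3, 2, 1, 3, 2, 3, 2, 1, 3, 2, 3, 2, 1, 3, 2, 3, 2, 1, 4, 3, 2, 3, 2, 1, 3, 2, 3, 2, 1, 3, 2, 3, 2, 1, 3, 2, 3, 2, 1, 3, 2, 3, 2, 1, 4, 3, 2, 3, 2, 1, 3, 2, 3, 2, 1, 3, 2, 3, 2, 1, 3, 2, 3, 2, 1, 3, 2, 3, 2], [2, 3, 2, 3, 4, 1, 2, 3, 2, 3, 1, 2, 3, 2, 3, 1, 2, 3, 2, 3, 1, 2, 3, 2, 3, 1, 2, 3, 2, 3, 4, 1, 2, 3, 2, 3, 1, 2, 3, 2, 3, 1, 2, 3, 2, 3, 1, 2, 3, 2, 3, 1, 2, 3, 2, 3, 4, 1, 2, 3, 2, 3, 1, 2, 3, 2, 3, 1, 2, 3, 2, 3, 1, 2, 3, 2, 3], [3, 2, 3, 2, 1, 3, 2, 3, 2, 1, 3, 2, 3, 2, 1, 4, 3, 2, 3, 2, 1, 3,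 2, 3, 2, 1, 3, 2, 3, 2, 1, 3, 2, 3, 2, 1, 3, 2, 3, 2, 1, 4, 3, 2, 3, 2, 1, 3, 2, 3, 2, 1, 3, 2, 3, 2, 1, 3, 2, 3, 2, 1, 3, 2, 3, 2, 1, 4, 3, 2, 3, 2, 1, 3, 2, 3, 2], [2, 3, 2, 3, 1, 2, 3, 2, 3, 4, 1, 2, 3, 2, 3, 1, 2, 3, 2, 3, 1, 2, 3, 2, 3, 1, 2, 3, 2, 3, 1, 2, 3, 2, 3, 4, 1, 2, 3, 2, 3, 1, 2, 3, 2, 3, 1, 2, 3, 2, 3, 1, 2, 3, 2, 3, 1, 2, 3, 2, 3, 4, 1, 2, 3, 2, 3, 1, 2, 3, 2, 3, 1, 2, 3, 2, 3], [3, 2, 3, 2, 1, 3, 2, 3, 2, 1, 4, 3, 2, 3, 2, 1, 3, 2, 3, 2, 1, 3, 2, 3, 2, 1, 3, 2, 3, 2, 1, 3, 2, 3, 2, 1, 4, 3, 2, 3, 2, 1, 3, 2, 3, 2, 1, 3, 2, 3, 2, 1, 3, 2, 3, 2, 1, 3, 2, 3, 2, 1, 4, 3, 2, 3, 2, 1, 3, 2, 3, 2, 1, 3, 2, 3, 2], [2, 3, 2, 3, 1, 2, 3, 2, 3, 1, 2, 3, 2, 3, 1, 2, 3, 2, 3, 4, 1, 2, 3, 2, 3, 1, 2, 3, 2, 3, 1, 2, 3, 2, 3, 1, 2, 3, 2, 3, 1, 2, 3, 2, 3, 4, 1, 2, 3, 2, 3, 1, 2, 3, 2, 3, 1, 2, 3, 2, 3, 1, 2, 3, 2, 3, 1, 2, 3, 2, 3, 4, 1, 2, 3, 2, 3], [2, 3, 2, 3, 1, 2, 3,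 2, 3, 1, 2, 3, 2, 3, 1, 2, 3, 2, 3, 1, 2, 3, 2, 3, 4, 1, 2, 3, 2, 3, 1, 2, 3, 2, 3, 1, 2, 3, 2, 3, 1, 2, 3, 2, 3, 1, 2, 3, 2, 3, 4, 1, 2, 3, 2, 3, 1, 2, 3, 2, 3, 1, 2, 3, 2, 3, 1, 2, 3, 2, 3, 1, 2, 3, 2, 3, 4]]
noncomputable def RF1 : List (List (Nat → Nat)) := [[E3, E1, E3], [E4, E1, E4], [E2, E1, E2, E1, E2], [E0, E1, E0, E1, E0, E1, E0, E1, E0], [E4, E3, E2, E3, E2, E1, E3, E2, E3, E2, E1, E3, E2, E3, E2, E1, E3, E2, E3, E2, E1, E3, E2, E3, E2, E1, E4, E3, E2, E3, E2, E1, E3, E2, E3, E2, E1, E3, E2, E3, E2, E1, E3, E2, E3, E2, E1, E3, E2, E3, E2, E1, E4, E3, E2, E3, E2, E1, E3, E2, E3, E2, E1, E3, E2, E3, E2, E1, E3, E2, E3, E2, E1, E3, E2, E3, E2], [E2, E3, E2, E3, E4, E1, E2, E3, E2, E3, E1, E2, E3, E2, E3, E1, E2, E3, E2, E3, E1, E2, E3, E2, E3, E1, E2, E3, E2, E3, E4, E1, E2, E3, E2, E3, E1, E2, E3, E2, E3, E1, E2, E3, E2, E3, E1, E2, E3, E2, E3, E1, E2, E3, E2, E3,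 E4, E1, E2, E3, E2, E3, E1, E2, E3, E2, E3, E1, E2, E3, E2, E3, E1, E2, E3, E2, E3], [E3, E2, E3, E2, E1, E3, E2, E3, E2, E1, E3, E2, E3, E2, E1, E4, E3, E2, E3, E2, E1, E3, E2, E3, E2, E1, E3, E2, E3, E2, E1, E3, E2, E3, E2, E1, E3, E2, E3, E2, E1, E4, E3, E2, E3, E2, E1, E3, E2, E3, E2, E1, E3, E2, E3, E2, E1, E3, E2, E3, E2, E1, E3, E2, E3, E2, E1, E4, E3, E2, E3, E2, E1, E3, E2, E3, E2], [E2, E3, E2, E3, E1, E2, E3, E2, E3, E4, E1, E2, E3, E2, E3, E1, E2, E3, E2, E3, E1, E2, E3, E2, E3, E1, E2, E3, E2, E3, E1, E2, E3, E2, E3, E4, E1, E2, E3, E2, E3, E1, E2, E3, E2, E3, E1, E2, E3, E2, E3, E1, E2, E3, E2, E3, E1, E2, E3, E2, E3, E4, E1, E2, E3, E2, E3, E1, E2, E3, E2, E3, E1, E2, E3, E2, E3], [E3, E2, E3, E2, E1, E3, E2, E3, E2, E1, E4, E3, E2, E3, E2, E1, E3, E2, E3, E2, E1, E3, E2, E3, E2, E1, E3, E2, E3, E2, E1, E3, E2, E3, E2, E1, E4, E3, E2, E3, E2, E1, E3, E2, E3,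 E2, E1, E3, E2, E3, E2, E1, E3, E2, E3, E2, E1, E3, E2, E3, E2, E1, E4, E3, E2, E3, E2, E1, E3, E2, E3, E2, E1, E3, E2, E3, E2], [E2, E3, E2, E3, E1, E2, E3, E2, E3, E1, E2, E3, E2, E3, E1, E2, E3, E2, E3, E4, E1, E2, E3, E2, E3, E1, E2, E3, E2, E3, E1, E2, E3, E2, E3, E1, E2, E3, E2, E3, E1, E2, E3, E2, E3, E4, E1, E2, E3, E2, E3, E1, E2, E3, E2, E3, E1, E2, E3, E2, E3, E1, E2, E3, E2, E3, E1, E2, E3, E2, E3, E4, E1, E2, E3, E2, E3], [E2, E3, E2, E3, E1, E2, E3, E2, E3, E1, E2, E3, E2, E3, E1, E2, E3, E2, E3, E1, E2, E3, E2, E3, E4, E1, E2, E3, E2, E3, E1, E2, E3, E2, E3, E1, E2, E3, E2, E3, E1, E2, E3, E2, E3, E1, E2, E3, E2, E3, E4, E1, E2, E3, E2, E3, E1, E2, E3, E2, E3, E1, E2, E3, E2, E3, E1, E2, E3, E2, E3, E1, E2, E3, E2, E3, E4]]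
def RC1 : List Nat := [2560, 3072, 2048, 2, 5633, 5672, 5663, 5662, 5653, 5642, 5632]
def RW2 : List (List Nat) := [[1, 2, 1, 2, 1], [4, 2, 4], [0, 2, 0], [3, 2, 3, 0, 2, 3, 2, 3], [3, 0, 2, 3, 2, 3, 2, 3], [3, 2, 3, 2, 0, 3, 2, 3], [3, 2, 3, 2, 3, 2, 3, 0], [3, 2, 0, 3, 2, 3, 2, 3], [3, 2, 1, 3, 2, 3, 2, 1, 4, 3, 2, 3, 2, 1, 3, 2, 3, 2, 1, 3, 2, 3, 2, 1, 3, 2, 3, 2, 1, 3, 2, 3, 2, 1, 4, 3, 2, 3, 2, 1, 3, 2, 3, 2, 1, 3, 2, 3, 2, 1, 3, 2, 3, 2, 1, 3, 2, 3, 2, 1, 4, 3, 2, 3, 2, 1, 3, 2, 3, 2, 1, 3, 2, 3, 2, 1, 3], [3, 1, 2, 3, 2, 3, 1, 2, 3, 2, 3, 1, 2, 3, 2, 3, 1, 2, 3, 2, 3, 4, 1, 2, 3, 2, 3, 1, 2, 3, 2, 3, 1, 2, 3, 2, 3, 1, 2, 3, 2, 3, 1, 2, 3, 2, 3, 4, 1, 2, 3, 2, 3, 1, 2, 3, 2, 3, 1, 2, 3, 2, 3, 1, 2, 3, 2, 3, 1, 2, 3, 2, 3, 4, 1, 2, 3], [1, 3, 2, 3, 2, 1, 3, 2, 3, 2, 1, 4, 3, 2, 3, 2, 1, 3, 2, 3, 2, 1, 3, 2, 3, 2, 1, 3, 2, 3, 2, 1, 3, 2, 3, 2, 1, 4, 3, 2, 3, 2, 1, 3, 2,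 3, 2, 1, 3, 2, 3, 2, 1, 3, 2, 3, 2, 1, 3, 2, 3, 2, 1, 4, 3, 2, 3, 2, 1, 3, 2, 3, 2, 1, 3, 2, 3], [3, 2, 3, 2, 3, 0, 2, 3], [0, 3, 2, 3, 2, 3, 2, 3], [3, 2, 3, 1, 2, 3, 2, 3, 1, 2, 3, 2, 3, 1, 2, 3, 2, 3, 4, 1, 2, 3, 2, 3, 1, 2, 3, 2, 3, 1, 2, 3, 2, 3, 1, 2, 3, 2, 3, 1, 2, 3, 2, 3, 4, 1, 2, 3, 2, 3, 1, 2, 3, 2, 3, 1, 2, 3, 2, 3, 1, 2, 3, 2, 3, 1, 2, 3, 2, 3, 4, 1, 2, 3, 2, 3, 1], [3, 2, 1, 3, 2, 3, 2, 1, 3, 2, 3, 2, 1, 4, 3, 2, 3, 2, 1, 3, 2, 3, 2, 1, 3, 2, 3, 2, 1, 3, 2, 3, 2, 1, 3, 2, 3, 2, 1, 4, 3, 2, 3, 2, 1, 3, 2, 3, 2, 1, 3, 2, 3, 2, 1, 3, 2, 3, 2, 1, 3, 2, 3, 2, 1, 4, 3, 2, 3, 2, 1, 3, 2, 3, 2, 1, 3], [3, 2, 3, 2, 3, 2, 3, 2, 3, 2, 3, 2, 3, 2, 3], [3, 2, 1, 4, 3, 2, 3, 2, 1, 3, 2, 3, 2, 1, 3, 2, 3, 2, 1, 3, 2, 3, 2, 1, 3, 2, 3, 2, 1, 4, 3, 2, 3, 2, 1, 3, 2, 3, 2, 1, 3, 2, 3, 2, 1, 3, 2, 3, 2, 1, 3, 2, 3, 2, 1, 4, 3, 2, 3, 2, 1, 3, 2, 3, 2, 1, 3, 2, 3, 2, 1, 3, 2, 3,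 2, 1, 3], [1, 3, 2, 3, 2, 1, 3, 2, 3, 2, 1, 3, 2, 3, 2, 1, 4, 3, 2, 3, 2, 1, 3, 2, 3, 2, 1, 3, 2, 3, 2, 1, 3, 2, 3, 2, 1, 3, 2, 3, 2, 1, 4, 3, 2, 3, 2, 1, 3, 2, 3, 2, 1, 3, 2, 3, 2, 1, 3, 2, 3, 2, 1, 3, 2, 3, 2, 1, 4, 3, 2, 3, 2, 1, 3, 2, 3]]
noncomputable def RF2 : List (List (Nat → Nat)) := [[E1, E2, E1, E2, E1], [E4, E2, E4], [E0, E2, E0], [E3, E2, E3, E0, E2, E3, E2, E3], [E3, E0, E2, E3, E2, E3, E2, E3], [E3, E2, E3, E2, E0, E3, E2, E3], [E3, E2, E3, E2, E3, E2, E3, E0], [E3, E2, E0, E3, E2, E3, E2, E3], [E3, E2, E1, E3, E2, E3, E2, E1, E4, E3, E2, E3, E2, E1, E3, E2, E3, E2, E1, E3, E2, E3, E2, E1, E3, E2, E3, E2, E1, E3, E2, E3, E2, E1, E4, E3, E2, E3, E2, E1, E3, E2, E3, E2, E1, E3, E2, E3, E2, E1, E3, E2, E3, E2, E1, E3, E2, E3, E2, E1, E4, E3, E2, E3, E2, E1, E3, E2, E3, E2, E1, E3, E2, E3, E2, E1, E3], [E3, E1, E2, E3, E2, E3, E1, E2, E3, E2, E3, E1, E2, E3, E2,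 E3, E1, E2, E3, E2, E3, E4, E1, E2, E3, E2, E3, E1, E2, E3, E2, E3, E1, E2, E3, E2, E3, E1, E2, E3, E2, E3, E1, E2, E3, E2, E3, E4, E1, E2, E3, E2, E3, E1, E2, E3, E2, E3, E1, E2, E3, E2, E3, E1, E2, E3, E2, E3, E1, E2, E3, E2, E3, E4, E1, E2, E3], [E1, E3, E2, E3, E2, E1, E3, E2, E3, E2, E1, E4, E3, E2, E3, E2, E1, E3, E2, E3, E2, E1, E3, E2, E3, E2, E1, E3, E2, E3, E2, E1, E3, E2, E3, E2, E1, E4, E3, E2, E3, E2, E1, E3, E2, E3, E2, E1, E3, E2, E3, E2, E1, E3, E2, E3, E2, E1, E3, E2, E3, E2, E1, E4, E3, E2, E3, E2, E1, E3, E2, E3, E2, E1, E3, E2, E3], [E3, E2, E3, E2, E3, E0, E2, E3], [E0, E3, E2, E3, E2, E3, E2, E3], [E3, E2, E3, E1, E2, E3, E2, E3, E1, E2, E3, E2, E3, E1, E2, E3, E2, E3, E4, E1, E2, E3, E2, E3, E1, E2, E3, E2, E3, E1, E2, E3, E2, E3, E1, E2, E3, E2, E3, E1, E2, E3, E2, E3, E4, E1, E2, E3, E2, E3, E1, E2, E3, E2, E3, E1, E2, E3, E2, E3, E1, E2, E3, E2, E3,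 E1, E2, E3, E2, E3, E4, E1, E2, E3, E2, E3, E1], [E3, E2, E1, E3, E2, E3, E2, E1, E3, E2, E3, E2, E1, E4, E3, E2, E3, E2, E1, E3, E2, E3, E2, E1, E3, E2, E3, E2, E1, E3, E2, E3, E2, E1, E3, E2, E3, E2, E1, E4, E3, E2, E3, E2, E1, E3, E2, E3, E2, E1, E3, E2, E3, E2, E1, E3, E2, E3, E2, E1, E3, E2, E3, E2, E1, E4, E3, E2, E3, E2, E1, E3, E2, E3, E2, E1, E3], [E3, E2, E3, E2, E3, E2, E3, E2, E3, E2, E3, E2, E3, E2, E3], [E3, E2, E1, E4, E3, E2, E3, E2, E1, E3, E2, E3, E2, E1, E3, E2, E3, E2, E1, E3, E2, E3, E2, E1, E3, E2, E3, E2, E1, E4, E3, E2, E3, E2, E1, E3, E2, E3, E2, E1, E3, E2, E3, E2, E1, E3, E2, E3, E2, E1, E3, E2, E3, E2, E1, E4, E3, E2, E3, E2, E1, E3, E2, E3, E2, E1, E3, E2, E3, E2, E1, E3, E2, E3, E2, E1, E3], [E1, E3, E2, E3, E2, E1, E3, E2, E3, E2, E1, E3, E2, E3, E2, E1, E4, E3, E2, E3, E2, E1, E3, E2, E3, E2, E1, E3, E2, E3, E2, E1, E3, E2, E3, E2, E1, E3, E2,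 E3, E2, E1, E4, E3, E2, E3, E2, E1, E3, E2, E3, E2, E1, E3, E2, E3, E2, E1, E3, E2, E3, E2, E1, E3, E2, E3, E2, E1, E4, E3, E2, E3, E2, E1, E3, E2, E3]]
def RC2 : List Nat := [2050, 4096, 514, 5130, 5134, 5131, 5122, 5127, 5649, 5638, 5655, 5126, 5123, 5644, 5659, 3584, 5639, 5665]
def RW3 : List (List Nat) := [[4, 3, 4, 3, 4], [1, 3, 1], [0, 3, 0], [2, 3, 2, 3, 2, 3, 0, 2], [2, 3, 0, 2, 3, 2, 3, 2], [2, 3, 2, 3, 2, 3, 2, 0], [2, 3, 2, 3, 0, 2, 3, 2], [2, 3, 2, 1, 4, 3, 2, 3, 2, 1, 3, 2, 3, 2, 1, 3, 2, 3, 2, 1, 3, 2, 3, 2, 1, 3, 2, 3, 2, 1, 4, 3, 2, 3, 2, 1, 3, 2, 3, 2, 1, 3, 2, 3, 2, 1, 3, 2, 3, 2, 1, 3, 2, 3, 2, 1, 4, 3, 2, 3, 2, 1, 3, 2, 3, 2, 1, 3, 2, 3, 2, 1, 3, 2, 3, 2, 1], [4, 1, 2, 3, 2, 3, 1, 2, 3, 2, 3, 1, 2, 3, 2, 3, 1, 2, 3, 2, 3, 1, 2, 3, 2, 3, 4, 1, 2, 3, 2, 3, 1, 2, 3, 2, 3, 1, 2, 3, 2, 3, 1, 2, 3, 2, 3, 1, 2, 3, 2, 3, 4, 1, 2, 3, 2, 3, 1, 2, 3, 2, 3, 1, 2,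 3, 2, 3, 1, 2, 3, 2, 3, 1, 2, 3, 2], [2, 3, 1, 2, 3, 2, 3, 1, 2, 3, 2, 3, 4, 1, 2, 3, 2, 3, 1, 2, 3, 2, 3, 1, 2, 3, 2, 3, 1, 2, 3, 2, 3, 1, 2, 3, 2, 3, 4, 1, 2, 3, 2, 3, 1, 2, 3, 2, 3, 1, 2, 3, 2, 3, 1, 2, 3, 2, 3, 1, 2, 3, 2, 3, 4, 1, 2, 3, 2, 3, 1, 2, 3, 2, 3, 1, 2], [2, 3, 1, 2, 3, 2, 3, 4, 1, 2, 3, 2, 3, 1, 2, 3, 2, 3, 1, 2, 3, 2, 3, 1, 2, 3, 2, 3, 1, 2, 3, 2, 3, 4, 1, 2, 3, 2, 3, 1, 2, 3, 2, 3, 1, 2, 3, 2, 3, 1, 2, 3, 2, 3, 1, 2, 3, 2, 3, 4, 1, 2, 3, 2, 3, 1, 2, 3, 2, 3, 1, 2, 3, 2, 3, 1, 2], [2, 3, 2, 0, 3, 2, 3, 2], [2, 3, 4, 1, 2, 3, 2, 3, 1, 2, 3, 2, 3, 1, 2, 3, 2, 3, 1, 2, 3, 2, 3, 1, 2, 3, 2, 3, 4, 1, 2, 3, 2, 3, 1, 2, 3, 2, 3, 1, 2, 3, 2, 3, 1, 2, 3, 2, 3, 1, 2, 3, 2, 3, 4, 1, 2, 3, 2, 3, 1, 2, 3, 2, 3, 1, 2, 3, 2, 3, 1, 2, 3, 2, 3, 1, 2], [2, 3, 2, 3, 2, 3, 2, 3, 2, 3, 2, 3, 2, 3, 2], [2, 3, 2, 1, 3, 2, 3, 2, 1, 4, 3, 2, 3, 2, 1, 3, 2, 3, 2, 1, 3, 2, 3, 2, 1,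 3, 2, 3, 2, 1, 3, 2, 3, 2, 1, 4, 3, 2, 3, 2, 1, 3, 2, 3, 2, 1, 3, 2, 3, 2, 1, 3, 2, 3, 2, 1, 3, 2, 3, 2, 1, 4, 3, 2, 3, 2, 1, 3, 2, 3, 2, 1, 3, 2, 3, 2, 1], [2, 3, 1, 2, 3, 2, 3, 1, 2, 3, 2, 3, 1, 2, 3, 2, 3, 1, 2, 3, 2, 3, 4, 1, 2, 3, 2, 3, 1, 2, 3, 2, 3, 1, 2, 3, 2, 3, 1, 2, 3, 2, 3, 1, 2, 3, 2, 3, 4, 1, 2, 3, 2, 3, 1, 2, 3, 2, 3, 1, 2, 3, 2, 3, 1, 2, 3, 2, 3, 1, 2, 3, 2, 3, 4, 1, 2], [2, 3, 2, 1, 3, 2, 3, 2, 1, 3, 2, 3, 2, 1, 3, 2, 3, 2, 1, 4, 3, 2, 3, 2, 1, 3, 2, 3, 2, 1, 3, 2, 3, 2, 1, 3, 2, 3, 2, 1, 3, 2, 3, 2, 1, 4, 3, 2, 3, 2, 1, 3, 2, 3, 2, 1, 3, 2, 3, 2, 1, 3, 2, 3, 2, 1, 3, 2, 3, 2, 1, 4, 3, 2, 3, 2, 1]]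
noncomputable def RF3 : List (List (Nat → Nat)) := [[E4, E3, E4, E3, E4], [E1, E3, E1], [E0, E3, E0], [E2, E3, E2, E3, E2, E3, E0, E2], [E2, E3, E0, E2, E3, E2, E3, E2], [E2, E3, E2, E3, E2, E3, E2, E0], [E2, E3, E2, E3, E0, E2, E3, E2], [E2, E3, E2, E1, E4, E3, E2, E3, E2, E1, E3, E2, E3, E2, E1, E3, E2, E3, E2, E1, E3, E2, E3, E2, E1, E3, E2, E3, E2, E1, E4, E3, E2, E3, E2, E1, E3, E2, E3, E2, E1, E3, E2, E3, E2, E1, E3, E2, E3, E2, E1, E3, E2, E3, E2, E1, E4, E3, E2, E3, E2, E1, E3, E2, E3, E2, E1, E3, E2, E3, E2, E1, E3, E2, E3, E2, E1], [E4, E1, E2, E3, E2, E3, E1, E2, E3, E2, E3, E1, E2, E3, E2, E3, E1, E2, E3, E2, E3, E1, E2, E3, E2, E3, E4, E1, E2, E3, E2, E3, E1, E2, E3, E2, E3, E1, E2, E3, E2, E3, E1, E2, E3, E2, E3, E1, E2, E3, E2, E3, E4, E1, E2, E3, E2, E3, E1, E2, E3, E2, E3, E1, E2, E3, E2, E3, E1, E2, E3, E2, E3, E1, E2, E3, E2], [E2, E3, E1, E2, E3, E2, E3,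 E1, E2, E3, E2, E3, E4, E1, E2, E3, E2, E3, E1, E2, E3, E2, E3, E1, E2, E3, E2, E3, E1, E2, E3, E2, E3, E1, E2, E3, E2, E3, E4, E1, E2, E3, E2, E3, E1, E2, E3, E2, E3, E1, E2, E3, E2, E3, E1, E2, E3, E2, E3, E1, E2, E3, E2, E3, E4, E1, E2, E3, E2, E3, E1, E2, E3, E2, E3, E1, E2], [E2, E3, E1, E2, E3, E2, E3, E4, E1, E2, E3, E2, E3, E1, E2, E3, E2, E3, E1, E2, E3, E2, E3, E1, E2, E3, E2, E3, E1, E2, E3, E2, E3, E4, E1, E2, E3, E2, E3, E1, E2, E3, E2, E3, E1, E2, E3, E2, E3, E1, E2, E3, E2, E3, E1, E2, E3, E2, E3, E4, E1, E2, E3, E2, E3, E1, E2, E3, E2, E3, E1, E2, E3, E2, E3, E1, E2], [E2, E3, E2, E0, E3, E2, E3, E2], [E2, E3, E4, E1, E2, E3, E2, E3, E1, E2, E3, E2, E3, E1, E2, E3, E2, E3, E1, E2, E3, E2, E3, E1, E2, E3, E2, E3, E4, E1, E2, E3, E2, E3, E1, E2, E3, E2, E3, E1, E2, E3, E2, E3, E1, E2, E3, E2, E3, E1, E2, E3, E2, E3, E4, E1, E2, E3, E2, E3, E1, E2, E3, E2, E3,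 E1, E2, E3, E2, E3, E1, E2, E3, E2, E3, E1, E2], [E2, E3, E2, E3, E2, E3, E2, E3, E2, E3, E2, E3, E2, E3, E2], [E2, E3, E2, E1, E3, E2, E3, E2, E1, E4, E3, E2, E3, E2, E1, E3, E2, E3, E2, E1, E3, E2, E3, E2, E1, E3, E2, E3, E2, E1, E3, E2, E3, E2, E1, E4, E3, E2, E3, E2, E1, E3, E2, E3, E2, E1, E3, E2, E3, E2, E1, E3, E2, E3, E2, E1, E3, E2, E3, E2, E1, E4, E3, E2, E3, E2, E1, E3, E2, E3, E2, E1, E3, E2, E3, E2, E1], [E2, E3, E1, E2, E3, E2, E3, E1, E2, E3, E2, E3, E1, E2, E3, E2, E3, E1, E2, E3, E2, E3, E4, E1, E2, E3, E2, E3, E1, E2, E3, E2, E3, E1, E2, E3, E2, E3, E1, E2, E3, E2, E3, E1, E2, E3, E2, E3, E4, E1, E2, E3, E2, E3, E1, E2, E3, E2, E3, E1, E2, E3, E2, E3, E1, E2, E3, E2, E3, E1, E2, E3, E2, E3, E4, E1, E2], [E2, E3, E2, E1, E3, E2, E3, E2, E1, E3, E2, E3, E2, E1, E3, E2, E3, E2, E1, E4, E3, E2, E3, E2, E1, E3, E2, E3, E2, E1, E3, E2, E3, E2, E1, E3, E2, E3, E2,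 E1, E3, E2, E3, E2, E1, E4, E3, E2, E3, E2, E1, E3, E2, E3, E2, E1, E3, E2, E3, E2, E1, E3, E2, E3, E2, E1, E3, E2, E3, E2, E1, E4, E3, E2, E3, E2, E1]]
def RC3 : List Nat := [4608, 2562, 1026, 5124, 5132, 5137, 5128, 5641, 5680, 5656, 5666, 5129, 5676, 3586, 5651, 5636, 5671]
def RW4 : List (List Nat) := [[3, 4, 3, 4, 3], [1, 4, 1], [2, 4, 2], [0, 4, 0], [1, 2, 3, 2, 3, 1, 2, 3, 2, 3, 1, 2, 3, 2, 3, 1, 2, 3, 2, 3, 1, 2, 3, 2, 3, 4, 1, 2, 3, 2, 3, 1, 2, 3, 2, 3, 1, 2, 3, 2, 3, 1, 2, 3, 2, 3, 1, 2, 3, 2, 3, 4, 1, 2, 3, 2, 3, 1, 2, 3, 2, 3, 1, 2, 3, 2, 3, 1, 2, 3, 2, 3, 1, 2, 3, 2, 3], [3, 2, 3, 2, 1, 3, 2, 3, 2, 1, 3, 2, 3, 2, 1, 3, 2, 3, 2, 1, 3, 2, 3, 2, 1, 4, 3, 2, 3, 2, 1, 3, 2, 3, 2, 1, 3, 2, 3, 2, 1, 3, 2, 3, 2, 1, 3, 2, 3, 2, 1, 4, 3, 2, 3, 2, 1, 3, 2, 3, 2, 1, 3, 2, 3, 2, 1, 3, 2, 3, 2, 1, 3, 2, 3, 2, 1]]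
noncomputable def RF4 : List (List (Nat → Nat)) := [[E3, E4, E3, E4, E3], [E1, E4, E1], [E2, E4, E2], [E0, E4, E0], [E1, E2, E3, E2, E3, E1, E2, E3, E2, E3, E1, E2, E3, E2, E3, E1, E2, E3, E2, E3, E1, E2, E3, E2, E3, E4, E1, E2, E3, E2, E3, E1, E2, E3, E2, E3, E1, E2, E3, E2, E3, E1, E2, E3, E2, E3, E1, E2, E3, E2, E3, E4, E1, E2, E3, E2, E3, E1, E2, E3, E2, E3, E1, E2, E3, E2, E3, E1, E2, E3, E2, E3, E1, E2, E3, E2, E3], [E3, E2, E3, E2, E1, E3, E2, E3, E2, E1, E3, E2, E3, E2, E1, E3, E2, E3, E2, E1, E3, E2, E3, E2, E1, E4, E3, E2, E3, E2, E1, E3, E2, E3, E2, E1, E3, E2, E3, E2, E1, E3, E2, E3, E2, E1, E3, E2, E3, E2, E1, E4, E3, E2, E3, E2, E1, E3, E2, E3, E2, E1, E3, E2, E3, E2, E1, E3, E2, E3, E2, E1, E3, E2, E3, E2, E1]]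
def RC4 : List Nat := [4610, 3074, 4098, 1538, 5682, 5683]
def RW : Nat → List (List Nat) := fun l => (@Nat.rec (fun _ => List (List Nat)) RW0 (fun l _ => (@Nat.rec (fun _ => List (List Nat)) RW1 (fun l _ => (@Nat.rec (fun _ => List (List Nat)) RW2 (fun l _ => (@Nat.rec (fun _ => List (List Nat)) RW3 (fun l _ => RW4) l)) l)) l)) l)
def sp : List Nat := [0, 1, 2, 3, 3265]
theorem ck0 : allR (ckE (nat_lit 280) (nat_lit 511) (nat_lit 9) (nat_lit 31) (nat_lit 14) (nat_lit 0) D E0 E0 RF0 sp) (nat_lit 0) (nat_lit 280) = true := by decide +kernel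
theorem rf0 : RF0 = (RW0).map (·.map E) := rfl
theorem rc0 : ckRels 5 inv rels 0 RW0 RC0 = true := by decide +kernel
theorem ck1 : allR (ckE (nat_lit 280) (nat_lit 511) (nat_lit 9) (nat_lit 31) (nat_lit 14) (nat_lit 1) D E1 E1 RF1 sp) (nat_lit 0) (nat_lit 280) = true := by decide +kernel
theorem rf1 : RF1 = (RW1).map (·.map E) := rfl
theorem rc1 : ckRels 5 inv rels 1 RW1 RC1 = true := by decide +kernel
theorem ck2 : allR (ckE (nat_lit 280) (nat_lit 511) (nat_lit 9) (nat_lit 31) (nat_lit 14) (nat_lit 2) D E2 E2 RF2 sp) (nat_lit 0) (nat_lit 280) = true := by decide +kernel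
theorem rf2 : RF2 = (RW2).map (·.map E) := rfl
theorem rc2 : ckRels 5 inv rels 2 RW2 RC2 = true := by decide +kernel
theorem ck3 : allR (ckE (nat_lit 280) (nat_lit 511) (nat_lit 9) (nat_lit 31) (nat_lit 14) (nat_lit 3) D E3 E3 RF3 sp) (nat_lit 0) (nat_lit 280) = true := by decide +kernel
theorem rf3 : RF3 = (RW3).map (·.map E) := rfl
theorem rc3 : ckRels 5 inv rels 3 RW3 RC3 = true := by decide +kernel
theorem ck4 : allR (ckE (nat_lit 280) (nat_lit 511) (nat_lit 9) (nat_lit 31) (nat_lit 14) (nat_lit 4) D E4 E4 RF4 sp) (nat_lit 0) (nat_lit 280) = true := by decide +kernel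
theorem rf4 : RF4 = (RW4).map (·.map E) := rfl
theorem rc4 : ckRels 5 inv rels 4 RW4 RC4 = true := by decide +kernel

theorem edgeOK : ∀ l < 5, ∀ i < 280, EdgeOK E 511 280 14 9 31 inv D RW sp l i := by
  intro l hl i hi
  interval_cases l

  · exact ckE_sound 280 511 9 31 14 0 inv D E RW sp i (by
      have := allR_zero _ _ ck0 i hi
      rw [rf0] at this
      exact this)
  · exact ckE_sound 280 511 9 31 14 1 inv D E RW sp i (by
      have := allR_zero _ _ ck1 i hi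
      rw [rf1] at this
      exact this)
  · exact ckE_sound 280 511 9 31 14 2 inv D E RW sp i (by
      have := allR_zero _ _ ck2 i hi
      rw [rf2] at this
      exact this)
  · exact ckE_sound 280 511 9 31 14 3 inv D E RW sp i (by
      have := allR_zero _ _ ck3 i hi
      rw [rf3] at this
      exact this)
  · exact ckE_sound 280 511 9 31 14 4 inv D E RW sp i (by
      have := allR_zero _ _ ck4 i hi
      rw [rf4] at this
      exact this)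
def RB : List (List Nat) := [[1, 3, 1, 3], [2, 1, 2, 1, 2, 1], [3, 1, 3, 1], [1, 2, 1, 2, 1, 2], [3, 0, 3, 0], [2, 3, 2, 3, 2, 3, 2, 3, 0], [0, 3, 0, 3], [4, 0, 4, 0], [0, 2, 0, 2], [2, 0, 2, 0], [4, 2, 4, 2], [4, 1, 4, 1], [2, 4, 2, 4], [4, 3, 4, 3, 4, 3], [0, 4, 0, 4], [3, 4, 3, 4, 3, 4], [1, 4, 1, 4], [31, 0, 0], [0, 2, 3, 2, 3, 2, 3, 2, 3], [2, 3, 0, 2, 3, 2, 3, 2, 3], [3, 2, 1, 3, 2, 3, 2, 1, 3, 2, 3, 2, 1, 3, 2, 3, 2, 1, 3, 2, 3, 2, 1, 4, 3, 2, 3, 2, 1, 3, 2, 3, 2, 1, 3, 2, 3, 2, 1, 3, 2, 3, 2, 1, 3, 2, 3, 2, 1, 4, 3, 2, 3, 2, 1, 3, 2, 3, 2, 1, 3, 2, 3, 2, 1, 3, 2, 3, 2, 1, 3, 2, 3, 2, 1, 4, 3, 2], [31, 1, 0, 1, 0, 1, 0, 1, 0, 1, 0], [31, 1, 1], [31, 3, 3], [31, 4, 4], [1, 1]]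
def RBC : List Nat := [10240, 8200, 10248, 8192, 4104, 20488, 4096, 6152, 2048, 2056, 16392, 12296, 16384, 18440, 6144, 18432, 12288, 6, 20480, 20536, 22705, 10, 6, 6, 6, 4]
theorem rbc : ckRB 5 inv rels RB RBC = true := by decide +kernel
theorem sp0k : ckSub (nat_lit 511) (nat_lit 14) E0 [] [] (nat_lit 0) = true := by decide +kernel
theorem sp0 {G : Type*} [Group G] (H : Subgroup G) (s : Nat → G) (hinv : ∀ l, s l = (s l)⁻¹) (h31 : s 31 = 1)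
    (hrels : ∀ W ∈ rels, (W.map s).prod = 1) (hsub : ∀ w ∈ subw, (w.map s).prod ∈ H)
    (htgt : ∀ l < 5, ∀ i < 280, Nat.land (E l i) 511 < 280)
    (hlow : ∀ l' < 5, ∀ i' < 280, E l' i' < Nat.shiftLeft (Nat.shiftRight (E 0 0) 14) 14 →
      EdgeP H s (repOf s D) E 511 l' i') : EdgeP H s (repOf s D) E 511 0 0 := by
  have h1 := ckSub_sound E 511 14 0 0 [] [] sp0k
  exact special_sub H s (repOf s D) E 511 280 5 _ htgt hlow (repOf_zero s D) [] [] 0 0 (by decide) (by decide)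
    (by decide) (by decide) (hsub _ (by decide)) h1.1 h1.2
theorem sp1k : ckSub (nat_lit 511) (nat_lit 14) E1 [] [] (nat_lit 0) = true := by decide +kernel
theorem sp1 {G : Type*} [Group G] (H : Subgroup G) (s : Nat → G) (hinv : ∀ l, s l = (s l)⁻¹) (h31 : s 31 = 1)
    (hrels : ∀ W ∈ rels, (W.map s).prod = 1) (hsub : ∀ w ∈ subw, (w.map s).prod ∈ H)
    (htgt : ∀ l < 5, ∀ i < 280, Nat.land (E l i) 511 < 280)
    (hlow : ∀ l' < 5, ∀ i' < 280, E l' i' < Nat.shiftLeft (Nat.shiftRight (E 1 0) 14) 14 →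
      EdgeP H s (repOf s D) E 511 l' i') : EdgeP H s (repOf s D) E 511 1 0 := by
  have h1 := ckSub_sound E 511 14 1 0 [] [] sp1k
  exact special_sub H s (repOf s D) E 511 280 5 _ htgt hlow (repOf_zero s D) [] [] 1 0 (by decide) (by decide)
    (by decide) (by decide) (hsub _ (by decide)) h1.1 h1.2
theorem sp2k : ckSub (nat_lit 511) (nat_lit 14) E2 [] [] (nat_lit 0) = true := by decide +kernel
theorem sp2 {G : Type*} [Group G] (H : Subgroup G) (s : Nat → G) (hinv : ∀ l, s l = (s l)⁻¹) (h31 : s 31 = 1)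
    (hrels : ∀ W ∈ rels, (W.map s).prod = 1) (hsub : ∀ w ∈ subw, (w.map s).prod ∈ H)
    (htgt : ∀ l < 5, ∀ i < 280, Nat.land (E l i) 511 < 280)
    (hlow : ∀ l' < 5, ∀ i' < 280, E l' i' < Nat.shiftLeft (Nat.shiftRight (E 2 0) 14) 14 →
      EdgeP H s (repOf s D) E 511 l' i') : EdgeP H s (repOf s D) E 511 2 0 := by
  have h1 := ckSub_sound E 511 14 2 0 [] [] sp2k
  exact special_sub H s (repOf s D) E 511 280 5 _ htgt hlow (repOf_zero s D) [] [] 2 0 (by decide) (by decide)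
    (by decide) (by decide) (hsub _ (by decide)) h1.1 h1.2
theorem sp3k : ckSub (nat_lit 511) (nat_lit 14) E3 [] [] (nat_lit 0) = true := by decide +kernel
theorem sp3 {G : Type*} [Group G] (H : Subgroup G) (s : Nat → G) (hinv : ∀ l, s l = (s l)⁻¹) (h31 : s 31 = 1)
    (hrels : ∀ W ∈ rels, (W.map s).prod = 1) (hsub : ∀ w ∈ subw, (w.map s).prod ∈ H)
    (htgt : ∀ l < 5, ∀ i < 280, Nat.land (E l i) 511 < 280)
    (hlow : ∀ l' < 5, ∀ i' < 280, E l' i' < Nat.shiftLeft (Nat.shiftRight (E 3 0) 14) 14 →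
      EdgeP H s (repOf s D) E 511 l' i') : EdgeP H s (repOf s D) E 511 3 0 := by
  have h1 := ckSub_sound E 511 14 3 0 [] [] sp3k
  exact special_sub H s (repOf s D) E 511 280 5 _ htgt hlow (repOf_zero s D) [] [] 3 0 (by decide) (by decide)
    (by decide) (by decide) (hsub _ (by decide)) h1.1 h1.2
noncomputable def sp3265F : Nat → Nat := fun g => Nat.land (Nat.shiftRight (nat_lit 0x80033000337c00198004a7e002720026ff0013c0013af800a48009dfc00538004ffe002a0002a2000156001561000a3000ab0400558005444002a2002a8300152001551000aa800a98400508005506002a8002a6100153001411000a90009f8000538005446002a20029e0001500013f0000a7800a68c005340053820029c0029210014b0014d1000a68009f08004e40052c4000cc0029840014b0014c1800a6000a50c005240052c000296002724001480014a0000a50002680004f0005248002920028e000067001481800a4000a3800051c004d400028c0028c300144001460800a3000a288005080051460028a00286000144001441000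17800a204005100050c40028600262300141001420000a10009980004bc00504400282002800001400012d18009f0009f84004fc004ec2002700027c40013e0013d08009e800950c004e4004f02002740027840013c0013518009c0009d80004e8004ec8002760026c4001340013a18009d0009b9000198004e42002720026e200138001372000950009c00004e0004dc80026e0025230012c0013600009b0009a0c0019c004d420026a00268300134001281800978009984004cc004c86002640024610002a001311800988009808004b8004c0200260000781001230012f100097800968400484004b860025c0025a10012d0011f2000958009600004b0004a000024e0025630012b0012a0000948009508004a8004a42000cc002523001290012708003380094100049c004a04002500024c200125001270800938002690004940049820024c0024410012000125180092800920800490004902002480023c2001230011d200090000910800488000e840003c002423001210011f100014000900c00480004784002360023e00011f0011e10008f0008d040046c0047460023a0023810011c0011918008c8008d800046c004682002340023430011a001181000068008c8000464004602002300023020011800009)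 (Nat.mul (nat_lit 45) g)) (nat_lit 0x1fffffffffff)
noncomputable def sp3265T : Nat → Nat := fun g => Nat.land (Nat.shiftRight (nat_lit 0xa8840054c4002a630014108009f880053c60027e00014d0000a484004f8400294300139000026800051c80028e3001350000a2840050c600286100131100099800050040025a00013b08009e90004a820026a40013620009b8c004dc20026e00012920009a00004d02002503001320800918c004c060007810012d1000968c0047c20025000012a180094880049c60024c20004d080091040049060023c10011d10001d080047c60023c30011e00008d080047060023210011a00008c0c004600000122) (Nat.mul (nat_lit 25) g)) (nat_lit 0x1ffffff)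
noncomputable def sp3265L : List Nat := [nat_lit 0x0, nat_lit 0x1000000000000000205004, nat_lit 0x0, nat_lit 0x200060300a, nat_lit 0x0, nat_lit 0x90003000a03001, nat_lit 0x0, nat_lit 0x5000a000e03005, nat_lit 0x0, nat_lit 0x0, nat_lit 0x100012001403001, nat_lit 0x0, nat_lit 0x0, nat_lit 0xd0018001a0300a, nat_lit 0x0, nat_lit 0x2000a0018001e08006, nat_lit 0x0, nat_lit 0x7000f001b002208006, nat_lit 0x0, nat_lit 0x20000000260300b, nat_lit 0x0, nat_lit 0x0, nat_lit 0x2b0017000b0018002c05002, nat_lit 0x0, nat_lit 0x1d002c003003001, nat_lit 0x0, nat_lit 0x32002700340300c, nat_lit 0x0, nat_lit 0x32002000000000003805002, nat_lit 0x0, nat_lit 0x3a0035003c0300b, nat_lit 0x260034003c05004, nat_lit 0x0, nat_lit 0x38004203001, nat_lit 0x0, nat_lit 0x41003a002f002d003000390042004608013, nat_lit 0x0, nat_lit 0x420047004a03007, nat_lit 0x0, nat_lit 0x4c003d004e03008, nat_lit 0x0, nat_lit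 0x0, nat_lit 0x210052005403001, nat_lit 0x0, nat_lit 0x290016001b0052005805004, nat_lit 0x0, nat_lit 0x56002400000000005c05002, nat_lit 0x0, nat_lit 0x5c006003001, nat_lit 0x0, nat_lit 0x0, nat_lit 0x5a0064006603003, nat_lit 0x0, nat_lit 0x0, nat_lit 0x3f006a006c03003, nat_lit 0x0, nat_lit 0x4d006a007003005, nat_lit 0x0, nat_lit 0x0, nat_lit 0x480074007603008, nat_lit 0x78004500740300d, nat_lit 0x0, nat_lit 0x430074007c0300c, nat_lit 0x0, nat_lit 0x69003e0042007400800500e, nat_lit 0x0, nat_lit 0x82007000840300f, nat_lit 0x78004a004f0071008405010, nat_lit 0x0, nat_lit 0x82006c008a03011, nat_lit 0x7e00000000006d008a05010, nat_lit 0x0, nat_lit 0x0, nat_lit 0x780090009203011, nat_lit 0x0, nat_lit 0x940087009603003, nat_lit 0x0, nat_lit 0x0, nat_lit 0x57009a009c03009, nat_lit 0x0, nat_lit 0x9e006700a003005, nat_lit 0x0, nat_lit 0x0, nat_lit 0x6100a400a605002, nat_lit 0xa8000000a703009,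 nat_lit 0x0, nat_lit 0x9f006800570054005d006000a400ac08006, nat_lit 0x0, nat_lit 0xa500ac00b003003, nat_lit 0xb200aa00b103007, nat_lit 0x0, nat_lit 0x0, nat_lit 0x6d00b600b803007, nat_lit 0x0, nat_lit 0x8900b600bc0300f, nat_lit 0x0, nat_lit 0xba000000c003008, nat_lit 0x0, nat_lit 0xbe008e00c403005, nat_lit 0x0, nat_lit 0xc600bb00b800c100c80500e, nat_lit 0xc000c808014, nat_lit 0x7e00cb00ca0300d, nat_lit 0x0, nat_lit 0xce007b007a009300d005004, nat_lit 0x0, nat_lit 0xd200c600d403003, nat_lit 0x0, nat_lit 0x0, nat_lit 0x0, nat_lit 0xd600d800dc03007, nat_lit 0x0, nat_lit 0x0, nat_lit 0x0, nat_lit 0xa200e200e403001, nat_lit 0x0, nat_lit 0xdf00980091008f00450041003a002f002b0017000900010000000000000000000000000000000000000000000000000000000000000000000000000000000000000000000000000000000000000000000000000000000000000000000000000000000000000000000000000000000000000000000000000000000000000000000000000000000000000000006100a400ac00ae00a200e200e84d015,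 nat_lit 0xde00d600cf009700e000e900e700e408006, nat_lit 0x0, nat_lit 0xaf00ae00e500ec00ee05002, nat_lit 0xf000b400ef03009, nat_lit 0xd900950086008b00bd00d400dd00ee00f100ed0a016, nat_lit 0xdd00f400d903012, nat_lit 0xd400f5009503017, nat_lit 0xbd00f7008603012, nat_lit 0x8d00f9007f03018, nat_lit 0x7d00fb007303019, nat_lit 0x4300fe0201a]
theorem sp3265k : ckBlock (nat_lit 280) (nat_lit 511) (nat_lit 0x20000) E inv sp3265T sp3265F RB sp3265L (nat_lit 0) = true := by decide +kernel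
theorem sp3265r : Nat.shiftLeft (Nat.shiftRight (E 1 102) 14) 14 = 131072 := by decide +kernel
theorem sp3265t : Nat.land (E 1 102) 511 = 102 := by decide +kernel
theorem sp3265l : 127 < sp3265L.length ∧ sp3265F 127 = 102 + 2 ^ 20 * 102 + 2 ^ 40 * 1 := by decide +kernel
theorem sp3265 {G : Type*} [Group G] (H : Subgroup G) (s : Nat → G) (hinv : ∀ l, s l = (s l)⁻¹) (h31 : s 31 = 1)
    (hrels : ∀ W ∈ rels, (W.map s).prod = 1) (hsub : ∀ w ∈ subw, (w.map s).prod ∈ H)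
    (htgt : ∀ l < 5, ∀ i < 280, Nat.land (E l i) 511 < 280)
    (hlow : ∀ l' < 5, ∀ i' < 280, E l' i' < Nat.shiftLeft (Nat.shiftRight (E 1 102) 14) 14 →
      EdgeP H s (repOf s D) E 511 l' i') : EdgeP H s (repOf s D) E 511 1 102 := by
  rw [sp3265r] at hlow
  exact special_block H s 280 5 511 131072 E inv D sp3265T sp3265F RB hinv h31 htgt hlow
    (ckRB_sound s 5 inv rels hrels hinv h31 RB RBC rbc) sp3265L sp3265k 1 102 102 (by decide) (by decide) sp3265t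
    ⟨_, sp3265l⟩ (by decide)

theorem htgt : ∀ l < 5, ∀ i < 280, Nat.land (E l i) 511 < 280 := fun l hl i hi => (edgeOK l hl i hi).1

theorem edges {G : Type*} [Group G] (H : Subgroup G) (s : Nat → G) (hinv : ∀ l, s l = (s l)⁻¹) (h31 : s 31 = 1)
    (hrels : ∀ W ∈ rels, (W.map s).prod = 1) (hsub : ∀ w ∈ subw, (w.map s).prod ∈ H) :
    ∀ l < 5, ∀ i < 280, EdgeP H s (repOf s D) E 511 l i := by
  refine edges_correct H s E 511 280 5 14 9 31 inv D RW sp (by decide) (fun l hl => hl) (fun l _ => hinv l)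
    ?_ ?_ ?_ edgeOK
  · intro l hl w hw
    interval_cases l
    · exact (ckRels_sound 5 inv rels 0 RW0 RC0 rc0 w hw).1
    · exact (ckRels_sound 5 inv rels 1 RW1 RC1 rc1 w hw).1
    · exact (ckRels_sound 5 inv rels 2 RW2 RC2 rc2 w hw).1
    · exact (ckRels_sound 5 inv rels 3 RW3 RC3 rc3 w hw).1
    · exact (ckRels_sound 5 inv rels 4 RW4 RC4 rc4 w hw).1
  · intro l hl w hw
    interval_cases l
    · obtain ⟨_, c, hc⟩ := ckRels_sound 5 inv rels 0 RW0 RC0 rc0 w hw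
      exact ckRel_sound s inv rels hrels 0 w c (fun l' _ => hinv l') hc
    · obtain ⟨_, c, hc⟩ := ckRels_sound 5 inv rels 1 RW1 RC1 rc1 w hw
      exact ckRel_sound s inv rels hrels 1 w c (fun l' _ => hinv l') hc
    · obtain ⟨_, c, hc⟩ := ckRels_sound 5 inv rels 2 RW2 RC2 rc2 w hw
      exact ckRel_sound s inv rels hrels 2 w c (fun l' _ => hinv l') hc
    · obtain ⟨_, c, hc⟩ := ckRels_sound 5 inv rels 3 RW3 RC3 rc3 w hw
      exact ckRel_sound s inv rels hrels 3 w c (fun l' _ => hinv l') hc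
    · obtain ⟨_, c, hc⟩ := ckRels_sound 5 inv rels 4 RW4 RC4 rc4 w hw
      exact ckRel_sound s inv rels hrels 4 w c (fun l' _ => hinv l') hc
  · refine hsp_of H s (repOf s D) E 511 280 5 14 sp (by decide) ?_
    refine List.forall_mem_cons.2 ⟨fun _ _ h => sp0 H s hinv h31 hrels hsub htgt h, ?_⟩
    refine List.forall_mem_cons.2 ⟨fun _ _ h => sp1 H s hinv h31 hrels hsub htgt h, ?_⟩
    refine List.forall_mem_cons.2 ⟨fun _ _ h => sp2 H s hinv h31 hrels hsub htgt h, ?_⟩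
    refine List.forall_mem_cons.2 ⟨fun _ _ h => sp3 H s hinv h31 hrels hsub htgt h, ?_⟩
    refine List.forall_mem_cons.2 ⟨fun _ _ h => sp3265 H s hinv h31 hrels hsub htgt h, ?_⟩
    intro c hc
    exact absurd hc List.not_mem_nil

theorem covers {G : Type*} [Group G] (s : Nat → G) (hinv : ∀ l, s l = (s l)⁻¹) (h31 : s 31 = 1)
    (hrels2 : ∀ p ∈ rels2, ((p.1.map s).prod) ^ p.2 = 1) (H : Subgroup G) (hsub : ∀ w ∈ subw, (w.map s).prod ∈ H) :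
    ∀ g ∈ letterGroup s 5, ∀ i < 280, ∃ j < 280, repOf s D i * g * (repOf s D j)⁻¹ ∈ H :=
  cover H s (repOf s D) E 511 280 5 inv (fun l hl => hl) (fun l _ => hinv l) htgt
    (edges H s hinv h31 (hrels_of s rels2 hrels2) hsub)

theorem upper {G : Type*} [Group G] (s : Nat → G) (hinv : ∀ l, s l = (s l)⁻¹) (h31 : s 31 = 1)
    (hrels2 : ∀ p ∈ rels2, ((p.1.map s).prod) ^ p.2 = 1) (H : Subgroup G) (hsub : ∀ w ∈ subw, (w.map s).prod ∈ H)
    (hH : Finite H) : Finite (letterGroup s 5) ∧ Nat.card (letterGroup s 5) ≤ 280 * Nat.card H :=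
  card_le_of_cover H (repOf s D) 280 (by decide) (repOf_zero s D) _
    (covers s hinv h31 hrels2 H hsub) hH

theorem upperIndex {G : Type*} [Group G] (s : Nat → G) (hinv : ∀ l, s l = (s l)⁻¹) (h31 : s 31 = 1)
    (hrels2 : ∀ p ∈ rels2, ((p.1.map s).prod) ^ p.2 = 1) (H : Subgroup G) (hsub : ∀ w ∈ subw, (w.map s).prod ∈ H)
    (htop : letterGroup s 5 = ⊤) : H.FiniteIndex ∧ H.index ≤ 280 :=
  index_le_of_cover H (repOf s D) 280 (by decide) (repOf_zero s D)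
    (fun g => covers s hinv h31 hrels2 H hsub g (by rw [htop]; exact Subgroup.mem_top g))


end Cfsg.Agent.H8.J2t
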