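import Cfsg.Agent.H8.T.McLOa

set_option Elab.async false
set_option autoImplicit false
set_option linter.all false
set_option maxRecDepth 100000
set_option maxHeartbeats 400000

namespace Cfsg.Agent.H8.McLO
open Cfsg.Agent.H8.LtM (T0 T1 T2)

theorem wk3_0 : allR (OT.ckEqW [X5, X5, X2, X5, X2, X4, X2, X2, X4, X4] [X6]) (nat_lit 0) (nat_lit 25) = true := by decide +kernel
theorem wk3_1 : allR (OT.ckEqW [X5, X5, X2, X5, X2, X4, X2, X2, X4, X4] [X6]) (nat_lit 25) (nat_lit 25) = true := by decide +kernel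
theorem wk3_2 : allR (OT.ckEqW [X5, X5, X2, X5, X2, X4, X2, X2, X4, X4] [X6]) (nat_lit 50) (nat_lit 25) = true := by decide +kernel
theorem wk3_3 : allR (OT.ckEqW [X5, X5, X2, X5, X2, X4, X2, X2, X4, X4] [X6]) (nat_lit 75) (nat_lit 25) = true := by decide +kernel
theorem wk3_4 : allR (OT.ckEqW [X5, X5, X2, X5, X2, X4, X2, X2, X4, X4] [X6]) (nat_lit 100) (nat_lit 25) = true := by decide +kernel
theorem wk3_5 : allR (OT.ckEqW [X5, X5, X2, X5, X2, X4, X2, X2, X4, X4] [X6]) (nat_lit 125) (nat_lit 25) = true := by decide +kernel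
theorem wk3_6 : allR (OT.ckEqW [X5, X5, X2, X5, X2, X4, X2, X2, X4, X4] [X6]) (nat_lit 150) (nat_lit 25) = true := by decide +kernel
theorem wk3_7 : allR (OT.ckEqW [X5, X5, X2, X5, X2, X4, X2, X2, X4, X4] [X6]) (nat_lit 175) (nat_lit 25) = true := by decide +kernel
theorem wk3_8 : allR (OT.ckEqW [X5, X5, X2, X5, X2, X4, X2, X2, X4, X4] [X6]) (nat_lit 200) (nat_lit 25) = true := by decide +kernel
theorem wk3_9 : allR (OT.ckEqW [X5, X5, X2, X5, X2, X4, X2, X2, X4, X4] [X6]) (nat_lit 225) (nat_lit 25) = true := by decide +kernel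
theorem wk3_10 : allR (OT.ckEqW [X5, X5, X2, X5, X2, X4, X2, X2, X4, X4] [X6]) (nat_lit 250) (nat_lit 25) = true := by decide +kernel
theorem wk8_0 : allR (OT.ckEqW [X14, X11, X12, X10] [X16]) (nat_lit 0) (nat_lit 55) = true := by decide +kernel
theorem wk8_1 : allR (OT.ckEqW [X14, X11, X12, X10] [X16]) (nat_lit 55) (nat_lit 55) = true := by decide +kernel
theorem wk8_2 : allR (OT.ckEqW [X14, X11, X12, X10] [X16]) (nat_lit 110) (nat_lit 55) = true := by decide +kernel
theorem wk8_3 : allR (OT.ckEqW [X14, X11, X12, X10] [X16]) (nat_lit 165) (nat_lit 55) = true := by decide +kernel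
theorem wk8_4 : allR (OT.ckEqW [X14, X11, X12, X10] [X16]) (nat_lit 220) (nat_lit 55) = true := by decide +kernel
theorem wk13_0 : allR (OT.ckEqW [X20, X0, X21, X19] [X26]) (nat_lit 0) (nat_lit 55) = true := by decide +kernel
theorem wk13_1 : allR (OT.ckEqW [X20, X0, X21, X19] [X26]) (nat_lit 55) (nat_lit 55) = true := by decide +kernel
theorem wk13_2 : allR (OT.ckEqW [X20, X0, X21, X19] [X26]) (nat_lit 110) (nat_lit 55) = true := by decide +kernel
theorem wk13_3 : allR (OT.ckEqW [X20, X0, X21, X19] [X26]) (nat_lit 165) (nat_lit 55) = true := by decide +kernel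
theorem wk13_4 : allR (OT.ckEqW [X20, X0, X21, X19] [X26]) (nat_lit 220) (nat_lit 55) = true := by decide +kernel
theorem wk18_0 : allR (OT.ckEqW [X28, X31, X31, X29] [X36]) (nat_lit 0) (nat_lit 55) = true := by decide +kernel
theorem wk18_1 : allR (OT.ckEqW [X28, X31, X31, X29] [X36]) (nat_lit 55) (nat_lit 55) = true := by decide +kernel
theorem wk18_2 : allR (OT.ckEqW [X28, X31, X31, X29] [X36]) (nat_lit 110) (nat_lit 55) = true := by decide +kernel
theorem wk18_3 : allR (OT.ckEqW [X28, X31, X31, X29] [X36]) (nat_lit 165) (nat_lit 55) = true := by decide +kernel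
theorem wk18_4 : allR (OT.ckEqW [X28, X31, X31, X29] [X36]) (nat_lit 220) (nat_lit 55) = true := by decide +kernel
theorem wk19_0 : allR (OT.ckEqW [X36, X34, X33, X35] [X38]) (nat_lit 0) (nat_lit 55) = true := by decide +kernel
theorem wk19_1 : allR (OT.ckEqW [X36, X34, X33, X35] [X38]) (nat_lit 55) (nat_lit 55) = true := by decide +kernel
theorem wk19_2 : allR (OT.ckEqW [X36, X34, X33, X35] [X38]) (nat_lit 110) (nat_lit 55) = true := by decide +kernel
theorem wk19_3 : allR (OT.ckEqW [X36, X34, X33, X35] [X38]) (nat_lit 165) (nat_lit 55) = true := by decide +kernel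
theorem wk19_4 : allR (OT.ckEqW [X36, X34, X33, X35] [X38]) (nat_lit 220) (nat_lit 55) = true := by decide +kernel
theorem wk22_0 : allR (OT.ckEqW [X42, X42, X40, X42] [X44]) (nat_lit 0) (nat_lit 55) = true := by decide +kernel
theorem wk22_1 : allR (OT.ckEqW [X42, X42, X40, X42] [X44]) (nat_lit 55) (nat_lit 55) = true := by decide +kernel
theorem wk22_2 : allR (OT.ckEqW [X42, X42, X40, X42] [X44]) (nat_lit 110) (nat_lit 55) = true := by decide +kernel
theorem wk22_3 : allR (OT.ckEqW [X42, X42, X40, X42] [X44]) (nat_lit 165) (nat_lit 55) = true := by decide +kernel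
theorem wk22_4 : allR (OT.ckEqW [X42, X42, X40, X42] [X44]) (nat_lit 220) (nat_lit 55) = true := by decide +kernel
theorem wk23_0 : allR (OT.ckEqW [X41, X41, X42, X41] [X46]) (nat_lit 0) (nat_lit 55) = true := by decide +kernel
theorem wk23_1 : allR (OT.ckEqW [X41, X41, X42, X41] [X46]) (nat_lit 55) (nat_lit 55) = true := by decide +kernel
theorem wk23_2 : allR (OT.ckEqW [X41, X41, X42, X41] [X46]) (nat_lit 110) (nat_lit 55) = true := by decide +kernel
theorem wk23_3 : allR (OT.ckEqW [X41, X41, X42, X41] [X46]) (nat_lit 165) (nat_lit 55) = true := by decide +kernel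
theorem wk23_4 : allR (OT.ckEqW [X41, X41, X42, X41] [X46]) (nat_lit 220) (nat_lit 55) = true := by decide +kernel
theorem pk0_0 : allR (ckPerm (nat_lit 275) X0 X1) (nat_lit 0) (nat_lit 137) = true := by decide +kernel
theorem pk0_1 : allR (ckPerm (nat_lit 275) X0 X1) (nat_lit 137) (nat_lit 137) = true := by decide +kernel
theorem pk1_0 : allR (ckPerm (nat_lit 275) X1 X0) (nat_lit 0) (nat_lit 137) = true := by decide +kernel
theorem pk1_1 : allR (ckPerm (nat_lit 275) X1 X0) (nat_lit 137) (nat_lit 137) = true := by decide +kernel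
theorem pk2_0 : allR (ckPerm (nat_lit 275) X2 X3) (nat_lit 0) (nat_lit 137) = true := by decide +kernel
theorem pk2_1 : allR (ckPerm (nat_lit 275) X2 X3) (nat_lit 137) (nat_lit 137) = true := by decide +kernel
theorem pk3_0 : allR (ckPerm (nat_lit 275) X3 X2) (nat_lit 0) (nat_lit 137) = true := by decide +kernel
theorem pk3_1 : allR (ckPerm (nat_lit 275) X3 X2) (nat_lit 137) (nat_lit 137) = true := by decide +kernel
theorem pk4_0 : allR (ckPerm (nat_lit 275) X4 X5) (nat_lit 0) (nat_lit 137) = true := by decide +kernel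
theorem pk4_1 : allR (ckPerm (nat_lit 275) X4 X5) (nat_lit 137) (nat_lit 137) = true := by decide +kernel
theorem pk5_0 : allR (ckPerm (nat_lit 275) X5 X4) (nat_lit 0) (nat_lit 137) = true := by decide +kernel
theorem pk5_1 : allR (ckPerm (nat_lit 275) X5 X4) (nat_lit 137) (nat_lit 137) = true := by decide +kernel
theorem pk6_0 : allR (ckPerm (nat_lit 275) X6 X7) (nat_lit 0) (nat_lit 137) = true := by decide +kernel
theorem pk6_1 : allR (ckPerm (nat_lit 275) X6 X7) (nat_lit 137) (nat_lit 137) = true := by decide +kernel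
theorem pk7_0 : allR (ckPerm (nat_lit 275) X7 X6) (nat_lit 0) (nat_lit 137) = true := by decide +kernel
theorem pk7_1 : allR (ckPerm (nat_lit 275) X7 X6) (nat_lit 137) (nat_lit 137) = true := by decide +kernel
theorem pk8_0 : allR (ckPerm (nat_lit 275) X8 X9) (nat_lit 0) (nat_lit 137) = true := by decide +kernel
theorem pk8_1 : allR (ckPerm (nat_lit 275) X8 X9) (nat_lit 137) (nat_lit 137) = true := by decide +kernel
theorem pk9_0 : allR (ckPerm (nat_lit 275) X9 X8) (nat_lit 0) (nat_lit 137) = true := by decide +kernel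
theorem pk9_1 : allR (ckPerm (nat_lit 275) X9 X8) (nat_lit 137) (nat_lit 137) = true := by decide +kernel
theorem pk10_0 : allR (ckPerm (nat_lit 275) X10 X11) (nat_lit 0) (nat_lit 137) = true := by decide +kernel
theorem pk10_1 : allR (ckPerm (nat_lit 275) X10 X11) (nat_lit 137) (nat_lit 137) = true := by decide +kernel
theorem pk11_0 : allR (ckPerm (nat_lit 275) X11 X10) (nat_lit 0) (nat_lit 137) = true := by decide +kernel
theorem pk11_1 : allR (ckPerm (nat_lit 275) X11 X10) (nat_lit 137) (nat_lit 137) = true := by decide +kernel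
theorem pk12_0 : allR (ckPerm (nat_lit 275) X12 X13) (nat_lit 0) (nat_lit 137) = true := by decide +kernel
theorem pk12_1 : allR (ckPerm (nat_lit 275) X12 X13) (nat_lit 137) (nat_lit 137) = true := by decide +kernel
theorem pk13_0 : allR (ckPerm (nat_lit 275) X13 X12) (nat_lit 0) (nat_lit 137) = true := by decide +kernel
theorem pk13_1 : allR (ckPerm (nat_lit 275) X13 X12) (nat_lit 137) (nat_lit 137) = true := by decide +kernel
theorem pk14_0 : allR (ckPerm (nat_lit 275) X14 X15) (nat_lit 0) (nat_lit 137) = true := by decide +kernel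
theorem pk14_1 : allR (ckPerm (nat_lit 275) X14 X15) (nat_lit 137) (nat_lit 137) = true := by decide +kernel
theorem pk15_0 : allR (ckPerm (nat_lit 275) X15 X14) (nat_lit 0) (nat_lit 137) = true := by decide +kernel
theorem pk15_1 : allR (ckPerm (nat_lit 275) X15 X14) (nat_lit 137) (nat_lit 137) = true := by decide +kernel
theorem pk16_0 : allR (ckPerm (nat_lit 275) X16 X17) (nat_lit 0) (nat_lit 137) = true := by decide +kernel
theorem pk16_1 : allR (ckPerm (nat_lit 275) X16 X17) (nat_lit 137) (nat_lit 137) = true := by decide +kernel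
theorem pk17_0 : allR (ckPerm (nat_lit 275) X17 X16) (nat_lit 0) (nat_lit 137) = true := by decide +kernel
theorem pk17_1 : allR (ckPerm (nat_lit 275) X17 X16) (nat_lit 137) (nat_lit 137) = true := by decide +kernel
theorem pk18_0 : allR (ckPerm (nat_lit 275) X18 X19) (nat_lit 0) (nat_lit 137) = true := by decide +kernel
theorem pk18_1 : allR (ckPerm (nat_lit 275) X18 X19) (nat_lit 137) (nat_lit 137) = true := by decide +kernel
theorem pk19_0 : allR (ckPerm (nat_lit 275) X19 X18) (nat_lit 0) (nat_lit 137) = true := by decide +kernel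
theorem pk19_1 : allR (ckPerm (nat_lit 275) X19 X18) (nat_lit 137) (nat_lit 137) = true := by decide +kernel
theorem pk20_0 : allR (ckPerm (nat_lit 275) X20 X21) (nat_lit 0) (nat_lit 137) = true := by decide +kernel
theorem pk20_1 : allR (ckPerm (nat_lit 275) X20 X21) (nat_lit 137) (nat_lit 137) = true := by decide +kernel
theorem pk21_0 : allR (ckPerm (nat_lit 275) X21 X20) (nat_lit 0) (nat_lit 137) = true := by decide +kernel
theorem pk21_1 : allR (ckPerm (nat_lit 275) X21 X20) (nat_lit 137) (nat_lit 137) = true := by decide +kernel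
theorem pk22_0 : allR (ckPerm (nat_lit 275) X22 X23) (nat_lit 0) (nat_lit 137) = true := by decide +kernel
theorem pk22_1 : allR (ckPerm (nat_lit 275) X22 X23) (nat_lit 137) (nat_lit 137) = true := by decide +kernel
theorem pk23_0 : allR (ckPerm (nat_lit 275) X23 X22) (nat_lit 0) (nat_lit 137) = true := by decide +kernel
theorem pk23_1 : allR (ckPerm (nat_lit 275) X23 X22) (nat_lit 137) (nat_lit 137) = true := by decide +kernel
theorem pk24_0 : allR (ckPerm (nat_lit 275) X24 X25) (nat_lit 0) (nat_lit 137) = true := by decide +kernel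
theorem pk24_1 : allR (ckPerm (nat_lit 275) X24 X25) (nat_lit 137) (nat_lit 137) = true := by decide +kernel
theorem pk25_0 : allR (ckPerm (nat_lit 275) X25 X24) (nat_lit 0) (nat_lit 137) = true := by decide +kernel
theorem pk25_1 : allR (ckPerm (nat_lit 275) X25 X24) (nat_lit 137) (nat_lit 137) = true := by decide +kernel
theorem pk26_0 : allR (ckPerm (nat_lit 275) X26 X27) (nat_lit 0) (nat_lit 137) = true := by decide +kernel
theorem pk26_1 : allR (ckPerm (nat_lit 275) X26 X27) (nat_lit 137) (nat_lit 137) = true := by decide +kernel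
theorem pk27_0 : allR (ckPerm (nat_lit 275) X27 X26) (nat_lit 0) (nat_lit 137) = true := by decide +kernel
theorem pk27_1 : allR (ckPerm (nat_lit 275) X27 X26) (nat_lit 137) (nat_lit 137) = true := by decide +kernel
theorem pk28_0 : allR (ckPerm (nat_lit 275) X28 X29) (nat_lit 0) (nat_lit 137) = true := by decide +kernel
theorem pk28_1 : allR (ckPerm (nat_lit 275) X28 X29) (nat_lit 137) (nat_lit 137) = true := by decide +kernel
theorem pk29_0 : allR (ckPerm (nat_lit 275) X29 X28) (nat_lit 0) (nat_lit 137) = true := by decide +kernel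
theorem pk29_1 : allR (ckPerm (nat_lit 275) X29 X28) (nat_lit 137) (nat_lit 137) = true := by decide +kernel
theorem pk30_0 : allR (ckPerm (nat_lit 275) X30 X31) (nat_lit 0) (nat_lit 137) = true := by decide +kernel
theorem pk30_1 : allR (ckPerm (nat_lit 275) X30 X31) (nat_lit 137) (nat_lit 137) = true := by decide +kernel
theorem pk31_0 : allR (ckPerm (nat_lit 275) X31 X30) (nat_lit 0) (nat_lit 137) = true := by decide +kernel
theorem pk31_1 : allR (ckPerm (nat_lit 275) X31 X30) (nat_lit 137) (nat_lit 137) = true := by decide +kernel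
theorem pk32_0 : allR (ckPerm (nat_lit 275) X32 X33) (nat_lit 0) (nat_lit 137) = true := by decide +kernel
theorem pk32_1 : allR (ckPerm (nat_lit 275) X32 X33) (nat_lit 137) (nat_lit 137) = true := by decide +kernel
theorem pk33_0 : allR (ckPerm (nat_lit 275) X33 X32) (nat_lit 0) (nat_lit 137) = true := by decide +kernel
theorem pk33_1 : allR (ckPerm (nat_lit 275) X33 X32) (nat_lit 137) (nat_lit 137) = true := by decide +kernel
theorem pk34_0 : allR (ckPerm (nat_lit 275) X34 X35) (nat_lit 0) (nat_lit 137) = true := by decide +kernel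
theorem pk34_1 : allR (ckPerm (nat_lit 275) X34 X35) (nat_lit 137) (nat_lit 137) = true := by decide +kernel
theorem pk35_0 : allR (ckPerm (nat_lit 275) X35 X34) (nat_lit 0) (nat_lit 137) = true := by decide +kernel
theorem pk35_1 : allR (ckPerm (nat_lit 275) X35 X34) (nat_lit 137) (nat_lit 137) = true := by decide +kernel
theorem pk36_0 : allR (ckPerm (nat_lit 275) X36 X37) (nat_lit 0) (nat_lit 137) = true := by decide +kernel
theorem pk36_1 : allR (ckPerm (nat_lit 275) X36 X37) (nat_lit 137) (nat_lit 137) = true := by decide +kernel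
theorem pk37_0 : allR (ckPerm (nat_lit 275) X37 X36) (nat_lit 0) (nat_lit 137) = true := by decide +kernel
theorem pk37_1 : allR (ckPerm (nat_lit 275) X37 X36) (nat_lit 137) (nat_lit 137) = true := by decide +kernel
theorem pk38_0 : allR (ckPerm (nat_lit 275) X38 X39) (nat_lit 0) (nat_lit 137) = true := by decide +kernel
theorem pk38_1 : allR (ckPerm (nat_lit 275) X38 X39) (nat_lit 137) (nat_lit 137) = true := by decide +kernel
theorem pk39_0 : allR (ckPerm (nat_lit 275) X39 X38) (nat_lit 0) (nat_lit 137) = true := by decide +kernel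
theorem pk39_1 : allR (ckPerm (nat_lit 275) X39 X38) (nat_lit 137) (nat_lit 137) = true := by decide +kernel
theorem pk40_0 : allR (ckPerm (nat_lit 275) X40 X41) (nat_lit 0) (nat_lit 137) = true := by decide +kernel
theorem pk40_1 : allR (ckPerm (nat_lit 275) X40 X41) (nat_lit 137) (nat_lit 137) = true := by decide +kernel
theorem pk41_0 : allR (ckPerm (nat_lit 275) X41 X40) (nat_lit 0) (nat_lit 137) = true := by decide +kernel
theorem pk41_1 : allR (ckPerm (nat_lit 275) X41 X40) (nat_lit 137) (nat_lit 137) = true := by decide +kernel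
theorem pk42_0 : allR (ckPerm (nat_lit 275) X42 X43) (nat_lit 0) (nat_lit 137) = true := by decide +kernel
theorem pk42_1 : allR (ckPerm (nat_lit 275) X42 X43) (nat_lit 137) (nat_lit 137) = true := by decide +kernel
theorem pk43_0 : allR (ckPerm (nat_lit 275) X43 X42) (nat_lit 0) (nat_lit 137) = true := by decide +kernel
theorem pk43_1 : allR (ckPerm (nat_lit 275) X43 X42) (nat_lit 137) (nat_lit 137) = true := by decide +kernel
theorem pk44_0 : allR (ckPerm (nat_lit 275) X44 X45) (nat_lit 0) (nat_lit 137) = true := by decide +kernel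
theorem pk44_1 : allR (ckPerm (nat_lit 275) X44 X45) (nat_lit 137) (nat_lit 137) = true := by decide +kernel
theorem pk45_0 : allR (ckPerm (nat_lit 275) X45 X44) (nat_lit 0) (nat_lit 137) = true := by decide +kernel
theorem pk45_1 : allR (ckPerm (nat_lit 275) X45 X44) (nat_lit 137) (nat_lit 137) = true := by decide +kernel
theorem pk46_0 : allR (ckPerm (nat_lit 275) X46 X47) (nat_lit 0) (nat_lit 137) = true := by decide +kernel
theorem pk46_1 : allR (ckPerm (nat_lit 275) X46 X47) (nat_lit 137) (nat_lit 137) = true := by decide +kernel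
theorem pk47_0 : allR (ckPerm (nat_lit 275) X47 X46) (nat_lit 0) (nat_lit 137) = true := by decide +kernel
theorem pk47_1 : allR (ckPerm (nat_lit 275) X47 X46) (nat_lit 137) (nat_lit 137) = true := by decide +kernel
theorem pk48_0 : allR (ckPerm (nat_lit 275) X48 X49) (nat_lit 0) (nat_lit 137) = true := by decide +kernel
theorem pk48_1 : allR (ckPerm (nat_lit 275) X48 X49) (nat_lit 137) (nat_lit 137) = true := by decide +kernel
theorem pk49_0 : allR (ckPerm (nat_lit 275) X49 X48) (nat_lit 0) (nat_lit 137) = true := by decide +kernel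
theorem pk49_1 : allR (ckPerm (nat_lit 275) X49 X48) (nat_lit 137) (nat_lit 137) = true := by decide +kernel
theorem pk50_0 : allR (ckPerm (nat_lit 275) X50 X51) (nat_lit 0) (nat_lit 137) = true := by decide +kernel
theorem pk50_1 : allR (ckPerm (nat_lit 275) X50 X51) (nat_lit 137) (nat_lit 137) = true := by decide +kernel
theorem pk51_0 : allR (ckPerm (nat_lit 275) X51 X50) (nat_lit 0) (nat_lit 137) = true := by decide +kernel
theorem pk51_1 : allR (ckPerm (nat_lit 275) X51 X50) (nat_lit 137) (nat_lit 137) = true := by decide +kernel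
theorem pk52_0 : allR (ckPerm (nat_lit 275) X52 X53) (nat_lit 0) (nat_lit 137) = true := by decide +kernel
theorem pk52_1 : allR (ckPerm (nat_lit 275) X52 X53) (nat_lit 137) (nat_lit 137) = true := by decide +kernel
theorem pk53_0 : allR (ckPerm (nat_lit 275) X53 X52) (nat_lit 0) (nat_lit 137) = true := by decide +kernel
theorem pk53_1 : allR (ckPerm (nat_lit 275) X53 X52) (nat_lit 137) (nat_lit 137) = true := by decide +kernel
theorem pk54_0 : allR (ckPerm (nat_lit 275) X54 X55) (nat_lit 0) (nat_lit 137) = true := by decide +kernel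
theorem pk54_1 : allR (ckPerm (nat_lit 275) X54 X55) (nat_lit 137) (nat_lit 137) = true := by decide +kernel
theorem pk55_0 : allR (ckPerm (nat_lit 275) X55 X54) (nat_lit 0) (nat_lit 137) = true := by decide +kernel
theorem pk55_1 : allR (ckPerm (nat_lit 275) X55 X54) (nat_lit 137) (nat_lit 137) = true := by decide +kernel
theorem wk11_0 : allR (OT.ckEqW [X18] [X22]) (nat_lit 0) (nat_lit 137) = true := by decide +kernel
theorem wk11_1 : allR (OT.ckEqW [X18] [X22]) (nat_lit 137) (nat_lit 137) = true := by decide +kernel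
theorem wk1_0 : allR (OT.ckEqW [T2, X0] [X2]) (nat_lit 0) (nat_lit 91) = true := by decide +kernel
theorem wk1_1 : allR (OT.ckEqW [T2, X0] [X2]) (nat_lit 91) (nat_lit 91) = true := by decide +kernel
theorem wk1_2 : allR (OT.ckEqW [T2, X0] [X2]) (nat_lit 182) (nat_lit 91) = true := by decide +kernel
theorem wk4_0 : allR (OT.ckEqW [X3, X5] [X8]) (nat_lit 0) (nat_lit 91) = true := by decide +kernel
theorem wk4_1 : allR (OT.ckEqW [X3, X5] [X8]) (nat_lit 91) (nat_lit 91) = true := by decide +kernel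
theorem wk4_2 : allR (OT.ckEqW [X3, X5] [X8]) (nat_lit 182) (nat_lit 91) = true := by decide +kernel
theorem wk9_0 : allR (OT.ckEqW [X16, X11, X14, X10, X6, X8, X7, X8, X2, X2, X4, X4, X3, X5, X0, X0, T0, T1, T0, T2] [X18]) (nat_lit 0) (nat_lit 13) = true := by decide +kernel
theorem wk9_1 : allR (OT.ckEqW [X16, X11, X14, X10, X6, X8, X7, X8, X2, X2, X4, X4, X3, X5, X0, X0, T0, T1, T0, T2] [X18]) (nat_lit 13) (nat_lit 13) = true := by decide +kernel
theorem wk9_2 : allR (OT.ckEqW [X16, X11, X14, X10, X6, X8, X7, X8, X2, X2, X4, X4, X3, X5, X0, X0, T0, T1, T0, T2] [X18]) (nat_lit 26) (nat_lit 13) = true := by decide +kernel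
theorem wk9_3 : allR (OT.ckEqW [X16, X11, X14, X10, X6, X8, X7, X8, X2, X2, X4, X4, X3, X5, X0, X0, T0, T1, T0, T2] [X18]) (nat_lit 39) (nat_lit 13) = true := by decide +kernel
theorem wk9_4 : allR (OT.ckEqW [X16, X11, X14, X10, X6, X8, X7, X8, X2, X2, X4, X4, X3, X5, X0, X0, T0, T1, T0, T2] [X18]) (nat_lit 52) (nat_lit 13) = true := by decide +kernel
theorem wk9_5 : allR (OT.ckEqW [X16, X11, X14, X10, X6, X8, X7, X8, X2, X2, X4, X4, X3, X5, X0, X0, T0, T1, T0, T2] [X18]) (nat_lit 65) (nat_lit 13) = true := by decide +kernel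
theorem wk9_6 : allR (OT.ckEqW [X16, X11, X14, X10, X6, X8, X7, X8, X2, X2, X4, X4, X3, X5, X0, X0, T0, T1, T0, T2] [X18]) (nat_lit 78) (nat_lit 13) = true := by decide +kernel
theorem wk9_7 : allR (OT.ckEqW [X16, X11, X14, X10, X6, X8, X7, X8, X2, X2, X4, X4, X3, X5, X0, X0, T0, T1, T0, T2] [X18]) (nat_lit 91) (nat_lit 13) = true := by decide +kernel
theorem wk9_8 : allR (OT.ckEqW [X16, X11, X14, X10, X6, X8, X7, X8, X2, X2, X4, X4, X3, X5, X0, X0, T0, T1, T0, T2] [X18]) (nat_lit 104) (nat_lit 13) = true := by decide +kernel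
theorem wk9_9 : allR (OT.ckEqW [X16, X11, X14, X10, X6, X8, X7, X8, X2, X2, X4, X4, X3, X5, X0, X0, T0, T1, T0, T2] [X18]) (nat_lit 117) (nat_lit 13) = true := by decide +kernel
theorem wk9_10 : allR (OT.ckEqW [X16, X11, X14, X10, X6, X8, X7, X8, X2, X2, X4, X4, X3, X5, X0, X0, T0, T1, T0, T2] [X18]) (nat_lit 130) (nat_lit 13) = true := by decide +kernel
theorem wk9_11 : allR (OT.ckEqW [X16, X11, X14, X10, X6, X8, X7, X8, X2, X2, X4, X4, X3, X5, X0, X0, T0, T1, T0, T2] [X18]) (nat_lit 143) (nat_lit 13) = true := by decide +kernel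
theorem wk9_12 : allR (OT.ckEqW [X16, X11, X14, X10, X6, X8, X7, X8, X2, X2, X4, X4, X3, X5, X0, X0, T0, T1, T0, T2] [X18]) (nat_lit 156) (nat_lit 13) = true := by decide +kernel
theorem wk9_13 : allR (OT.ckEqW [X16, X11, X14, X10, X6, X8, X7, X8, X2, X2, X4, X4, X3, X5, X0, X0, T0, T1, T0, T2] [X18]) (nat_lit 169) (nat_lit 13) = true := by decide +kernel
theorem wk9_14 : allR (OT.ckEqW [X16, X11, X14, X10, X6, X8, X7, X8, X2, X2, X4, X4, X3, X5, X0, X0, T0, T1, T0, T2] [X18]) (nat_lit 182) (nat_lit 13) = true := by decide +kernel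
theorem wk9_15 : allR (OT.ckEqW [X16, X11, X14, X10, X6, X8, X7, X8, X2, X2, X4, X4, X3, X5, X0, X0, T0, T1, T0, T2] [X18]) (nat_lit 195) (nat_lit 13) = true := by decide +kernel
theorem wk9_16 : allR (OT.ckEqW [X16, X11, X14, X10, X6, X8, X7, X8, X2, X2, X4, X4, X3, X5, X0, X0, T0, T1, T0, T2] [X18]) (nat_lit 208) (nat_lit 13) = true := by decide +kernel
theorem wk9_17 : allR (OT.ckEqW [X16, X11, X14, X10, X6, X8, X7, X8, X2, X2, X4, X4, X3, X5, X0, X0, T0, T1, T0, T2] [X18]) (nat_lit 221) (nat_lit 13) = true := by decide +kernel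
theorem wk9_18 : allR (OT.ckEqW [X16, X11, X14, X10, X6, X8, X7, X8, X2, X2, X4, X4, X3, X5, X0, X0, T0, T1, T0, T2] [X18]) (nat_lit 234) (nat_lit 13) = true := by decide +kernel
theorem wk9_19 : allR (OT.ckEqW [X16, X11, X14, X10, X6, X8, X7, X8, X2, X2, X4, X4, X3, X5, X0, X0, T0, T1, T0, T2] [X18]) (nat_lit 247) (nat_lit 13) = true := by decide +kernel
theorem wk9_20 : allR (OT.ckEqW [X16, X11, X14, X10, X6, X8, X7, X8, X2, X2, X4, X4, X3, X5, X0, X0, T0, T1, T0, T2] [X18]) (nat_lit 260) (nat_lit 13) = true := by decide +kernel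
theorem wk15_0 : allR (OT.ckEqW [X26, X25, X27, X24, X26, X25] [X30]) (nat_lit 0) (nat_lit 39) = true := by decide +kernel
theorem wk15_1 : allR (OT.ckEqW [X26, X25, X27, X24, X26, X25] [X30]) (nat_lit 39) (nat_lit 39) = true := by decide +kernel
theorem wk15_2 : allR (OT.ckEqW [X26, X25, X27, X24, X26, X25] [X30]) (nat_lit 78) (nat_lit 39) = true := by decide +kernel
theorem wk15_3 : allR (OT.ckEqW [X26, X25, X27, X24, X26, X25] [X30]) (nat_lit 117) (nat_lit 39) = true := by decide +kernel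
theorem wk15_4 : allR (OT.ckEqW [X26, X25, X27, X24, X26, X25] [X30]) (nat_lit 156) (nat_lit 39) = true := by decide +kernel
theorem wk15_5 : allR (OT.ckEqW [X26, X25, X27, X24, X26, X25] [X30]) (nat_lit 195) (nat_lit 39) = true := by decide +kernel
theorem wk15_6 : allR (OT.ckEqW [X26, X25, X27, X24, X26, X25] [X30]) (nat_lit 234) (nat_lit 39) = true := by decide +kernel
theorem wk24_0 : allR (OT.ckEqW [X46, X44, X47, X45, X45, X47] [X48]) (nat_lit 0) (nat_lit 39) = true := by decide +kernel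
theorem wk24_1 : allR (OT.ckEqW [X46, X44, X47, X45, X45, X47] [X48]) (nat_lit 39) (nat_lit 39) = true := by decide +kernel
theorem wk24_2 : allR (OT.ckEqW [X46, X44, X47, X45, X45, X47] [X48]) (nat_lit 78) (nat_lit 39) = true := by decide +kernel
theorem wk24_3 : allR (OT.ckEqW [X46, X44, X47, X45, X45, X47] [X48]) (nat_lit 117) (nat_lit 39) = true := by decide +kernel
theorem wk24_4 : allR (OT.ckEqW [X46, X44, X47, X45, X45, X47] [X48]) (nat_lit 156) (nat_lit 39) = true := by decide +kernel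
theorem wk24_5 : allR (OT.ckEqW [X46, X44, X47, X45, X45, X47] [X48]) (nat_lit 195) (nat_lit 39) = true := by decide +kernel
theorem wk24_6 : allR (OT.ckEqW [X46, X44, X47, X45, X45, X47] [X48]) (nat_lit 234) (nat_lit 39) = true := by decide +kernel
theorem wk0_0 : allR (OT.ckEqW [T0, T2, T1] [X0]) (nat_lit 0) (nat_lit 68) = true := by decide +kernel
theorem wk0_1 : allR (OT.ckEqW [T0, T2, T1] [X0]) (nat_lit 68) (nat_lit 68) = true := by decide +kernel
theorem wk0_2 : allR (OT.ckEqW [T0, T2, T1] [X0]) (nat_lit 136) (nat_lit 68) = true := by decide +kernel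
theorem wk0_3 : allR (OT.ckEqW [T0, T2, T1] [X0]) (nat_lit 204) (nat_lit 68) = true := by decide +kernel
theorem wk17_0 : allR (OT.ckEqW [X30, X29, X30, X30, X30, X28, X28] [X34]) (nat_lit 0) (nat_lit 34) = true := by decide +kernel
theorem wk17_1 : allR (OT.ckEqW [X30, X29, X30, X30, X30, X28, X28] [X34]) (nat_lit 34) (nat_lit 34) = true := by decide +kernel
theorem wk17_2 : allR (OT.ckEqW [X30, X29, X30, X30, X30, X28, X28] [X34]) (nat_lit 68) (nat_lit 34) = true := by decide +kernel
theorem wk17_3 : allR (OT.ckEqW [X30, X29, X30, X30, X30, X28, X28] [X34]) (nat_lit 102) (nat_lit 34) = true := by decide +kernel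
theorem wk17_4 : allR (OT.ckEqW [X30, X29, X30, X30, X30, X28, X28] [X34]) (nat_lit 136) (nat_lit 34) = true := by decide +kernel
theorem wk17_5 : allR (OT.ckEqW [X30, X29, X30, X30, X30, X28, X28] [X34]) (nat_lit 170) (nat_lit 34) = true := by decide +kernel
theorem wk17_6 : allR (OT.ckEqW [X30, X29, X30, X30, X30, X28, X28] [X34]) (nat_lit 204) (nat_lit 34) = true := by decide +kernel
theorem wk17_7 : allR (OT.ckEqW [X30, X29, X30, X30, X30, X28, X28] [X34]) (nat_lit 238) (nat_lit 34) = true := by decide +kernel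
theorem wk25_0 : allR (OT.ckEqW [X45, X47, X44, X47, X44, X46, X45] [X50]) (nat_lit 0) (nat_lit 34) = true := by decide +kernel
theorem wk25_1 : allR (OT.ckEqW [X45, X47, X44, X47, X44, X46, X45] [X50]) (nat_lit 34) (nat_lit 34) = true := by decide +kernel
theorem wk25_2 : allR (OT.ckEqW [X45, X47, X44, X47, X44, X46, X45] [X50]) (nat_lit 68) (nat_lit 34) = true := by decide +kernel
theorem wk25_3 : allR (OT.ckEqW [X45, X47, X44, X47, X44, X46, X45] [X50]) (nat_lit 102) (nat_lit 34) = true := by decide +kernel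
theorem wk25_4 : allR (OT.ckEqW [X45, X47, X44, X47, X44, X46, X45] [X50]) (nat_lit 136) (nat_lit 34) = true := by decide +kernel
theorem wk25_5 : allR (OT.ckEqW [X45, X47, X44, X47, X44, X46, X45] [X50]) (nat_lit 170) (nat_lit 34) = true := by decide +kernel
theorem wk25_6 : allR (OT.ckEqW [X45, X47, X44, X47, X44, X46, X45] [X50]) (nat_lit 204) (nat_lit 34) = true := by decide +kernel
theorem wk25_7 : allR (OT.ckEqW [X45, X47, X44, X47, X44, X46, X45] [X50]) (nat_lit 238) (nat_lit 34) = true := by decide +kernel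
theorem wk27_0 : allR (OT.ckEqW [X51, X49, X51, X49, X50, X48, X48] [X54]) (nat_lit 0) (nat_lit 34) = true := by decide +kernel
theorem wk27_1 : allR (OT.ckEqW [X51, X49, X51, X49, X50, X48, X48] [X54]) (nat_lit 34) (nat_lit 34) = true := by decide +kernel
theorem wk27_2 : allR (OT.ckEqW [X51, X49, X51, X49, X50, X48, X48] [X54]) (nat_lit 68) (nat_lit 34) = true := by decide +kernel
theorem wk27_3 : allR (OT.ckEqW [X51, X49, X51, X49, X50, X48, X48] [X54]) (nat_lit 102) (nat_lit 34) = true := by decide +kernel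
theorem wk27_4 : allR (OT.ckEqW [X51, X49, X51, X49, X50, X48, X48] [X54]) (nat_lit 136) (nat_lit 34) = true := by decide +kernel
theorem wk27_5 : allR (OT.ckEqW [X51, X49, X51, X49, X50, X48, X48] [X54]) (nat_lit 170) (nat_lit 34) = true := by decide +kernel
theorem wk27_6 : allR (OT.ckEqW [X51, X49, X51, X49, X50, X48, X48] [X54]) (nat_lit 204) (nat_lit 34) = true := by decide +kernel
theorem wk27_7 : allR (OT.ckEqW [X51, X49, X51, X49, X50, X48, X48] [X54]) (nat_lit 238) (nat_lit 34) = true := by decide +kernel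
theorem wk2_0 : allR (OT.ckEqW [T2, T1, T2, X1, T0, T1, T2, X1] [X4]) (nat_lit 0) (nat_lit 30) = true := by decide +kernel
theorem wk2_1 : allR (OT.ckEqW [T2, T1, T2, X1, T0, T1, T2, X1] [X4]) (nat_lit 30) (nat_lit 30) = true := by decide +kernel
theorem wk2_2 : allR (OT.ckEqW [T2, T1, T2, X1, T0, T1, T2, X1] [X4]) (nat_lit 60) (nat_lit 30) = true := by decide +kernel
theorem wk2_3 : allR (OT.ckEqW [T2, T1, T2, X1, T0, T1, T2, X1] [X4]) (nat_lit 90) (nat_lit 30) = true := by decide +kernel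
theorem wk2_4 : allR (OT.ckEqW [T2, T1, T2, X1, T0, T1, T2, X1] [X4]) (nat_lit 120) (nat_lit 30) = true := by decide +kernel
theorem wk2_5 : allR (OT.ckEqW [T2, T1, T2, X1, T0, T1, T2, X1] [X4]) (nat_lit 150) (nat_lit 30) = true := by decide +kernel
theorem wk2_6 : allR (OT.ckEqW [T2, T1, T2, X1, T0, T1, T2, X1] [X4]) (nat_lit 180) (nat_lit 30) = true := by decide +kernel
theorem wk2_7 : allR (OT.ckEqW [T2, T1, T2, X1, T0, T1, T2, X1] [X4]) (nat_lit 210) (nat_lit 30) = true := by decide +kernel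
theorem wk2_8 : allR (OT.ckEqW [T2, T1, T2, X1, T0, T1, T2, X1] [X4]) (nat_lit 240) (nat_lit 30) = true := by decide +kernel
theorem wk6_0 : allR (OT.ckEqW [X7, X7, X8, X7, X9, X9, X6, X8, X7] [X12]) (nat_lit 0) (nat_lit 27) = true := by decide +kernel
theorem wk6_1 : allR (OT.ckEqW [X7, X7, X8, X7, X9, X9, X6, X8, X7] [X12]) (nat_lit 27) (nat_lit 27) = true := by decide +kernel
theorem wk6_2 : allR (OT.ckEqW [X7, X7, X8, X7, X9, X9, X6, X8, X7] [X12]) (nat_lit 54) (nat_lit 27) = true := by decide +kernel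
theorem wk6_3 : allR (OT.ckEqW [X7, X7, X8, X7, X9, X9, X6, X8, X7] [X12]) (nat_lit 81) (nat_lit 27) = true := by decide +kernel
theorem wk6_4 : allR (OT.ckEqW [X7, X7, X8, X7, X9, X9, X6, X8, X7] [X12]) (nat_lit 108) (nat_lit 27) = true := by decide +kernel
theorem wk6_5 : allR (OT.ckEqW [X7, X7, X8, X7, X9, X9, X6, X8, X7] [X12]) (nat_lit 135) (nat_lit 27) = true := by decide +kernel
theorem wk6_6 : allR (OT.ckEqW [X7, X7, X8, X7, X9, X9, X6, X8, X7] [X12]) (nat_lit 162) (nat_lit 27) = true := by decide +kernel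
theorem wk6_7 : allR (OT.ckEqW [X7, X7, X8, X7, X9, X9, X6, X8, X7] [X12]) (nat_lit 189) (nat_lit 27) = true := by decide +kernel
theorem wk6_8 : allR (OT.ckEqW [X7, X7, X8, X7, X9, X9, X6, X8, X7] [X12]) (nat_lit 216) (nat_lit 27) = true := by decide +kernel
theorem wk6_9 : allR (OT.ckEqW [X7, X7, X8, X7, X9, X9, X6, X8, X7] [X12]) (nat_lit 243) (nat_lit 27) = true := by decide +kernel
theorem wk7_0 : allR (OT.ckEqW [X9, X7, X7, X8, X8, X6, X9, X6] [X14]) (nat_lit 0) (nat_lit 30) = true := by decide +kernel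
theorem wk7_1 : allR (OT.ckEqW [X9, X7, X7, X8, X8, X6, X9, X6] [X14]) (nat_lit 30) (nat_lit 30) = true := by decide +kernel
theorem wk7_2 : allR (OT.ckEqW [X9, X7, X7, X8, X8, X6, X9, X6] [X14]) (nat_lit 60) (nat_lit 30) = true := by decide +kernel
theorem wk7_3 : allR (OT.ckEqW [X9, X7, X7, X8, X8, X6, X9, X6] [X14]) (nat_lit 90) (nat_lit 30) = true := by decide +kernel
theorem wk7_4 : allR (OT.ckEqW [X9, X7, X7, X8, X8, X6, X9, X6] [X14]) (nat_lit 120) (nat_lit 30) = true := by decide +kernel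
theorem wk7_5 : allR (OT.ckEqW [X9, X7, X7, X8, X8, X6, X9, X6] [X14]) (nat_lit 150) (nat_lit 30) = true := by decide +kernel
theorem wk7_6 : allR (OT.ckEqW [X9, X7, X7, X8, X8, X6, X9, X6] [X14]) (nat_lit 180) (nat_lit 30) = true := by decide +kernel
theorem wk7_7 : allR (OT.ckEqW [X9, X7, X7, X8, X8, X6, X9, X6] [X14]) (nat_lit 210) (nat_lit 30) = true := by decide +kernel
theorem wk7_8 : allR (OT.ckEqW [X9, X7, X7, X8, X8, X6, X9, X6] [X14]) (nat_lit 240) (nat_lit 30) = true := by decide +kernel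
theorem wk12_0 : allR (OT.ckEqW [X20, X0, X0, X0, X20, X18, X1, X21, X1] [X24]) (nat_lit 0) (nat_lit 27) = true := by decide +kernel
theorem wk12_1 : allR (OT.ckEqW [X20, X0, X0, X0, X20, X18, X1, X21, X1] [X24]) (nat_lit 27) (nat_lit 27) = true := by decide +kernel
theorem wk12_2 : allR (OT.ckEqW [X20, X0, X0, X0, X20, X18, X1, X21, X1] [X24]) (nat_lit 54) (nat_lit 27) = true := by decide +kernel
theorem wk12_3 : allR (OT.ckEqW [X20, X0, X0, X0, X20, X18, X1, X21, X1] [X24]) (nat_lit 81) (nat_lit 27) = true := by decide +kernel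
theorem wk12_4 : allR (OT.ckEqW [X20, X0, X0, X0, X20, X18, X1, X21, X1] [X24]) (nat_lit 108) (nat_lit 27) = true := by decide +kernel
theorem wk12_5 : allR (OT.ckEqW [X20, X0, X0, X0, X20, X18, X1, X21, X1] [X24]) (nat_lit 135) (nat_lit 27) = true := by decide +kernel
theorem wk12_6 : allR (OT.ckEqW [X20, X0, X0, X0, X20, X18, X1, X21, X1] [X24]) (nat_lit 162) (nat_lit 27) = true := by decide +kernel
theorem wk12_7 : allR (OT.ckEqW [X20, X0, X0, X0, X20, X18, X1, X21, X1] [X24]) (nat_lit 189) (nat_lit 27) = true := by decide +kernel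
theorem wk12_8 : allR (OT.ckEqW [X20, X0, X0, X0, X20, X18, X1, X21, X1] [X24]) (nat_lit 216) (nat_lit 27) = true := by decide +kernel
theorem wk12_9 : allR (OT.ckEqW [X20, X0, X0, X0, X20, X18, X1, X21, X1] [X24]) (nat_lit 243) (nat_lit 27) = true := by decide +kernel
theorem wk14_0 : allR (OT.ckEqW [X25, X26, X25, X27, X24, X27, X25, X26, X24] [X28]) (nat_lit 0) (nat_lit 27) = true := by decide +kernel
theorem wk14_1 : allR (OT.ckEqW [X25, X26, X25, X27, X24, X27, X25, X26, X24] [X28]) (nat_lit 27) (nat_lit 27) = true := by decide +kernel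
theorem wk14_2 : allR (OT.ckEqW [X25, X26, X25, X27, X24, X27, X25, X26, X24] [X28]) (nat_lit 54) (nat_lit 27) = true := by decide +kernel
theorem wk14_3 : allR (OT.ckEqW [X25, X26, X25, X27, X24, X27, X25, X26, X24] [X28]) (nat_lit 81) (nat_lit 27) = true := by decide +kernel
theorem wk14_4 : allR (OT.ckEqW [X25, X26, X25, X27, X24, X27, X25, X26, X24] [X28]) (nat_lit 108) (nat_lit 27) = true := by decide +kernel
theorem wk14_5 : allR (OT.ckEqW [X25, X26, X25, X27, X24, X27, X25, X26, X24] [X28]) (nat_lit 135) (nat_lit 27) = true := by decide +kernel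
theorem wk14_6 : allR (OT.ckEqW [X25, X26, X25, X27, X24, X27, X25, X26, X24] [X28]) (nat_lit 162) (nat_lit 27) = true := by decide +kernel
theorem wk14_7 : allR (OT.ckEqW [X25, X26, X25, X27, X24, X27, X25, X26, X24] [X28]) (nat_lit 189) (nat_lit 27) = true := by decide +kernel
theorem wk14_8 : allR (OT.ckEqW [X25, X26, X25, X27, X24, X27, X25, X26, X24] [X28]) (nat_lit 216) (nat_lit 27) = true := by decide +kernel
theorem wk14_9 : allR (OT.ckEqW [X25, X26, X25, X27, X24, X27, X25, X26, X24] [X28]) (nat_lit 243) (nat_lit 27) = true := by decide +kernel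
theorem wk20_0 : allR (OT.ckEqW [X19, X19, X1, X21, X19, X0, X19, X19, X1] [X40]) (nat_lit 0) (nat_lit 27) = true := by decide +kernel
theorem wk20_1 : allR (OT.ckEqW [X19, X19, X1, X21, X19, X0, X19, X19, X1] [X40]) (nat_lit 27) (nat_lit 27) = true := by decide +kernel
theorem wk20_2 : allR (OT.ckEqW [X19, X19, X1, X21, X19, X0, X19, X19, X1] [X40]) (nat_lit 54) (nat_lit 27) = true := by decide +kernel
theorem wk20_3 : allR (OT.ckEqW [X19, X19, X1, X21, X19, X0, X19, X19, X1] [X40]) (nat_lit 81) (nat_lit 27) = true := by decide +kernel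
theorem wk20_4 : allR (OT.ckEqW [X19, X19, X1, X21, X19, X0, X19, X19, X1] [X40]) (nat_lit 108) (nat_lit 27) = true := by decide +kernel
theorem wk20_5 : allR (OT.ckEqW [X19, X19, X1, X21, X19, X0, X19, X19, X1] [X40]) (nat_lit 135) (nat_lit 27) = true := by decide +kernel
theorem wk20_6 : allR (OT.ckEqW [X19, X19, X1, X21, X19, X0, X19, X19, X1] [X40]) (nat_lit 162) (nat_lit 27) = true := by decide +kernel
theorem wk20_7 : allR (OT.ckEqW [X19, X19, X1, X21, X19, X0, X19, X19, X1] [X40]) (nat_lit 189) (nat_lit 27) = true := by decide +kernel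
theorem wk20_8 : allR (OT.ckEqW [X19, X19, X1, X21, X19, X0, X19, X19, X1] [X40]) (nat_lit 216) (nat_lit 27) = true := by decide +kernel
theorem wk20_9 : allR (OT.ckEqW [X19, X19, X1, X21, X19, X0, X19, X19, X1] [X40]) (nat_lit 243) (nat_lit 27) = true := by decide +kernel
theorem wk21_0 : allR (OT.ckEqW [X0, X19, X1, X18, X0, X21, X0, X21] [X42]) (nat_lit 0) (nat_lit 30) = true := by decide +kernel
theorem wk21_1 : allR (OT.ckEqW [X0, X19, X1, X18, X0, X21, X0, X21] [X42]) (nat_lit 30) (nat_lit 30) = true := by decide +kernel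
theorem wk21_2 : allR (OT.ckEqW [X0, X19, X1, X18, X0, X21, X0, X21] [X42]) (nat_lit 60) (nat_lit 30) = true := by decide +kernel
theorem wk21_3 : allR (OT.ckEqW [X0, X19, X1, X18, X0, X21, X0, X21] [X42]) (nat_lit 90) (nat_lit 30) = true := by decide +kernel
theorem wk21_4 : allR (OT.ckEqW [X0, X19, X1, X18, X0, X21, X0, X21] [X42]) (nat_lit 120) (nat_lit 30) = true := by decide +kernel
theorem wk21_5 : allR (OT.ckEqW [X0, X19, X1, X18, X0, X21, X0, X21] [X42]) (nat_lit 150) (nat_lit 30) = true := by decide +kernel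
theorem wk21_6 : allR (OT.ckEqW [X0, X19, X1, X18, X0, X21, X0, X21] [X42]) (nat_lit 180) (nat_lit 30) = true := by decide +kernel
theorem wk21_7 : allR (OT.ckEqW [X0, X19, X1, X18, X0, X21, X0, X21] [X42]) (nat_lit 210) (nat_lit 30) = true := by decide +kernel
theorem wk21_8 : allR (OT.ckEqW [X0, X19, X1, X18, X0, X21, X0, X21] [X42]) (nat_lit 240) (nat_lit 30) = true := by decide +kernel
theorem wk26_0 : allR (OT.ckEqW [X51, X51, X48, X51, X49] [X52]) (nat_lit 0) (nat_lit 45) = true := by decide +kernel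
theorem wk26_1 : allR (OT.ckEqW [X51, X51, X48, X51, X49] [X52]) (nat_lit 45) (nat_lit 45) = true := by decide +kernel
theorem wk26_2 : allR (OT.ckEqW [X51, X51, X48, X51, X49] [X52]) (nat_lit 90) (nat_lit 45) = true := by decide +kernel
theorem wk26_3 : allR (OT.ckEqW [X51, X51, X48, X51, X49] [X52]) (nat_lit 135) (nat_lit 45) = true := by decide +kernel
theorem wk26_4 : allR (OT.ckEqW [X51, X51, X48, X51, X49] [X52]) (nat_lit 180) (nat_lit 45) = true := by decide +kernel
theorem wk26_5 : allR (OT.ckEqW [X51, X51, X48, X51, X49] [X52]) (nat_lit 225) (nat_lit 45) = true := by decide +kernel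
theorem wk16_0 : allR (OT.ckEqW [X30, X30, X28, X30, X30, X30, X30, X28, X30, X29, X30, X29, X30] [X32]) (nat_lit 0) (nat_lit 19) = true := by decide +kernel
theorem wk16_1 : allR (OT.ckEqW [X30, X30, X28, X30, X30, X30, X30, X28, X30, X29, X30, X29, X30] [X32]) (nat_lit 19) (nat_lit 19) = true := by decide +kernel
theorem wk16_2 : allR (OT.ckEqW [X30, X30, X28, X30, X30, X30, X30, X28, X30, X29, X30, X29, X30] [X32]) (nat_lit 38) (nat_lit 19) = true := by decide +kernel
theorem wk16_3 : allR (OT.ckEqW [X30, X30, X28, X30, X30, X30, X30, X28, X30, X29, X30, X29, X30] [X32]) (nat_lit 57) (nat_lit 19) = true := by decide +kernel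
theorem wk16_4 : allR (OT.ckEqW [X30, X30, X28, X30, X30, X30, X30, X28, X30, X29, X30, X29, X30] [X32]) (nat_lit 76) (nat_lit 19) = true := by decide +kernel
theorem wk16_5 : allR (OT.ckEqW [X30, X30, X28, X30, X30, X30, X30, X28, X30, X29, X30, X29, X30] [X32]) (nat_lit 95) (nat_lit 19) = true := by decide +kernel
theorem wk16_6 : allR (OT.ckEqW [X30, X30, X28, X30, X30, X30, X30, X28, X30, X29, X30, X29, X30] [X32]) (nat_lit 114) (nat_lit 19) = true := by decide +kernel
theorem wk16_7 : allR (OT.ckEqW [X30, X30, X28, X30, X30, X30, X30, X28, X30, X29, X30, X29, X30] [X32]) (nat_lit 133) (nat_lit 19) = true := by decide +kernel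
theorem wk16_8 : allR (OT.ckEqW [X30, X30, X28, X30, X30, X30, X30, X28, X30, X29, X30, X29, X30] [X32]) (nat_lit 152) (nat_lit 19) = true := by decide +kernel
theorem wk16_9 : allR (OT.ckEqW [X30, X30, X28, X30, X30, X30, X30, X28, X30, X29, X30, X29, X30] [X32]) (nat_lit 171) (nat_lit 19) = true := by decide +kernel
theorem wk16_10 : allR (OT.ckEqW [X30, X30, X28, X30, X30, X30, X30, X28, X30, X29, X30, X29, X30] [X32]) (nat_lit 190) (nat_lit 19) = true := by decide +kernel
theorem wk16_11 : allR (OT.ckEqW [X30, X30, X28, X30, X30, X30, X30, X28, X30, X29, X30, X29, X30] [X32]) (nat_lit 209) (nat_lit 19) = true := by decide +kernel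
theorem wk16_12 : allR (OT.ckEqW [X30, X30, X28, X30, X30, X30, X30, X28, X30, X29, X30, X29, X30] [X32]) (nat_lit 228) (nat_lit 19) = true := by decide +kernel
theorem wk16_13 : allR (OT.ckEqW [X30, X30, X28, X30, X30, X30, X30, X28, X30, X29, X30, X29, X30] [X32]) (nat_lit 247) (nat_lit 19) = true := by decide +kernel
theorem wk5_0 : allR (OT.ckEqW [X6, X9, X9, X6, X6, X9, X7, X9, X6, X9, X7] [X10]) (nat_lit 0) (nat_lit 22) = true := by decide +kernel
theorem wk5_1 : allR (OT.ckEqW [X6, X9, X9, X6, X6, X9, X7, X9, X6, X9, X7] [X10]) (nat_lit 22) (nat_lit 22) = true := by decide +kernel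
theorem wk5_2 : allR (OT.ckEqW [X6, X9, X9, X6, X6, X9, X7, X9, X6, X9, X7] [X10]) (nat_lit 44) (nat_lit 22) = true := by decide +kernel
theorem wk5_3 : allR (OT.ckEqW [X6, X9, X9, X6, X6, X9, X7, X9, X6, X9, X7] [X10]) (nat_lit 66) (nat_lit 22) = true := by decide +kernel
theorem wk5_4 : allR (OT.ckEqW [X6, X9, X9, X6, X6, X9, X7, X9, X6, X9, X7] [X10]) (nat_lit 88) (nat_lit 22) = true := by decide +kernel
theorem wk5_5 : allR (OT.ckEqW [X6, X9, X9, X6, X6, X9, X7, X9, X6, X9, X7] [X10]) (nat_lit 110) (nat_lit 22) = true := by decide +kernel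
theorem wk5_6 : allR (OT.ckEqW [X6, X9, X9, X6, X6, X9, X7, X9, X6, X9, X7] [X10]) (nat_lit 132) (nat_lit 22) = true := by decide +kernel
theorem wk5_7 : allR (OT.ckEqW [X6, X9, X9, X6, X6, X9, X7, X9, X6, X9, X7] [X10]) (nat_lit 154) (nat_lit 22) = true := by decide +kernel
theorem wk5_8 : allR (OT.ckEqW [X6, X9, X9, X6, X6, X9, X7, X9, X6, X9, X7] [X10]) (nat_lit 176) (nat_lit 22) = true := by decide +kernel
theorem wk5_9 : allR (OT.ckEqW [X6, X9, X9, X6, X6, X9, X7, X9, X6, X9, X7] [X10]) (nat_lit 198) (nat_lit 22) = true := by decide +kernel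
theorem wk5_10 : allR (OT.ckEqW [X6, X9, X9, X6, X6, X9, X7, X9, X6, X9, X7] [X10]) (nat_lit 220) (nat_lit 22) = true := by decide +kernel
theorem wk5_11 : allR (OT.ckEqW [X6, X9, X9, X6, X6, X9, X7, X9, X6, X9, X7] [X10]) (nat_lit 242) (nat_lit 22) = true := by decide +kernel
theorem wk10_0 : allR (OT.ckEqW [X16, X15, X12, X7, X9, X7, X7, X9, X2, X2, X5, X5, X2, X4, X4, T2, X1, T1, X0, X0, T2, X1] [X20]) (nat_lit 0) (nat_lit 11) = true := by decide +kernel
theorem wk10_1 : allR (OT.ckEqW [X16, X15, X12, X7, X9, X7, X7, X9, X2, X2, X5, X5, X2, X4, X4, T2, X1, T1, X0, X0, T2, X1] [X20]) (nat_lit 11) (nat_lit 11) = true := by decide +kernel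
theorem wk10_2 : allR (OT.ckEqW [X16, X15, X12, X7, X9, X7, X7, X9, X2, X2, X5, X5, X2, X4, X4, T2, X1, T1, X0, X0, T2, X1] [X20]) (nat_lit 22) (nat_lit 11) = true := by decide +kernel
theorem wk10_3 : allR (OT.ckEqW [X16, X15, X12, X7, X9, X7, X7, X9, X2, X2, X5, X5, X2, X4, X4, T2, X1, T1, X0, X0, T2, X1] [X20]) (nat_lit 33) (nat_lit 11) = true := by decide +kernel
theorem wk10_4 : allR (OT.ckEqW [X16, X15, X12, X7, X9, X7, X7, X9, X2, X2, X5, X5, X2, X4, X4, T2, X1, T1, X0, X0, T2, X1] [X20]) (nat_lit 44) (nat_lit 11) = true := by decide +kernel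
theorem wk10_5 : allR (OT.ckEqW [X16, X15, X12, X7, X9, X7, X7, X9, X2, X2, X5, X5, X2, X4, X4, T2, X1, T1, X0, X0, T2, X1] [X20]) (nat_lit 55) (nat_lit 11) = true := by decide +kernel
theorem wk10_6 : allR (OT.ckEqW [X16, X15, X12, X7, X9, X7, X7, X9, X2, X2, X5, X5, X2, X4, X4, T2, X1, T1, X0, X0, T2, X1] [X20]) (nat_lit 66) (nat_lit 11) = true := by decide +kernel
theorem wk10_7 : allR (OT.ckEqW [X16, X15, X12, X7, X9, X7, X7, X9, X2, X2, X5, X5, X2, X4, X4, T2, X1, T1, X0, X0, T2, X1] [X20]) (nat_lit 77) (nat_lit 11) = true := by decide +kernel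
theorem wk10_8 : allR (OT.ckEqW [X16, X15, X12, X7, X9, X7, X7, X9, X2, X2, X5, X5, X2, X4, X4, T2, X1, T1, X0, X0, T2, X1] [X20]) (nat_lit 88) (nat_lit 11) = true := by decide +kernel
theorem wk10_9 : allR (OT.ckEqW [X16, X15, X12, X7, X9, X7, X7, X9, X2, X2, X5, X5, X2, X4, X4, T2, X1, T1, X0, X0, T2, X1] [X20]) (nat_lit 99) (nat_lit 11) = true := by decide +kernel
theorem wk10_10 : allR (OT.ckEqW [X16, X15, X12, X7, X9, X7, X7, X9, X2, X2, X5, X5, X2, X4, X4, T2, X1, T1, X0, X0, T2, X1] [X20]) (nat_lit 110) (nat_lit 11) = true := by decide +kernel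
theorem wk10_11 : allR (OT.ckEqW [X16, X15, X12, X7, X9, X7, X7, X9, X2, X2, X5, X5, X2, X4, X4, T2, X1, T1, X0, X0, T2, X1] [X20]) (nat_lit 121) (nat_lit 11) = true := by decide +kernel
theorem wk10_12 : allR (OT.ckEqW [X16, X15, X12, X7, X9, X7, X7, X9, X2, X2, X5, X5, X2, X4, X4, T2, X1, T1, X0, X0, T2, X1] [X20]) (nat_lit 132) (nat_lit 11) = true := by decide +kernel
theorem wk10_13 : allR (OT.ckEqW [X16, X15, X12, X7, X9, X7, X7, X9, X2, X2, X5, X5, X2, X4, X4, T2, X1, T1, X0, X0, T2, X1] [X20]) (nat_lit 143) (nat_lit 11) = true := by decide +kernel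
theorem wk10_14 : allR (OT.ckEqW [X16, X15, X12, X7, X9, X7, X7, X9, X2, X2, X5, X5, X2, X4, X4, T2, X1, T1, X0, X0, T2, X1] [X20]) (nat_lit 154) (nat_lit 11) = true := by decide +kernel
theorem wk10_15 : allR (OT.ckEqW [X16, X15, X12, X7, X9, X7, X7, X9, X2, X2, X5, X5, X2, X4, X4, T2, X1, T1, X0, X0, T2, X1] [X20]) (nat_lit 165) (nat_lit 11) = true := by decide +kernel
theorem wk10_16 : allR (OT.ckEqW [X16, X15, X12, X7, X9, X7, X7, X9, X2, X2, X5, X5, X2, X4, X4, T2, X1, T1, X0, X0, T2, X1] [X20]) (nat_lit 176) (nat_lit 11) = true := by decide +kernel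
theorem wk10_17 : allR (OT.ckEqW [X16, X15, X12, X7, X9, X7, X7, X9, X2, X2, X5, X5, X2, X4, X4, T2, X1, T1, X0, X0, T2, X1] [X20]) (nat_lit 187) (nat_lit 11) = true := by decide +kernel
theorem wk10_18 : allR (OT.ckEqW [X16, X15, X12, X7, X9, X7, X7, X9, X2, X2, X5, X5, X2, X4, X4, T2, X1, T1, X0, X0, T2, X1] [X20]) (nat_lit 198) (nat_lit 11) = true := by decide +kernel
theorem wk10_19 : allR (OT.ckEqW [X16, X15, X12, X7, X9, X7, X7, X9, X2, X2, X5, X5, X2, X4, X4, T2, X1, T1, X0, X0, T2, X1] [X20]) (nat_lit 209) (nat_lit 11) = true := by decide +kernel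
theorem wk10_20 : allR (OT.ckEqW [X16, X15, X12, X7, X9, X7, X7, X9, X2, X2, X5, X5, X2, X4, X4, T2, X1, T1, X0, X0, T2, X1] [X20]) (nat_lit 220) (nat_lit 11) = true := by decide +kernel
theorem wk10_21 : allR (OT.ckEqW [X16, X15, X12, X7, X9, X7, X7, X9, X2, X2, X5, X5, X2, X4, X4, T2, X1, T1, X0, X0, T2, X1] [X20]) (nat_lit 231) (nat_lit 11) = true := by decide +kernel
theorem wk10_22 : allR (OT.ckEqW [X16, X15, X12, X7, X9, X7, X7, X9, X2, X2, X5, X5, X2, X4, X4, T2, X1, T1, X0, X0, T2, X1] [X20]) (nat_lit 242) (nat_lit 11) = true := by decide +kernel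
theorem wk10_23 : allR (OT.ckEqW [X16, X15, X12, X7, X9, X7, X7, X9, X2, X2, X5, X5, X2, X4, X4, T2, X1, T1, X0, X0, T2, X1] [X20]) (nat_lit 253) (nat_lit 11) = true := by decide +kernel
theorem wk10_24 : allR (OT.ckEqW [X16, X15, X12, X7, X9, X7, X7, X9, X2, X2, X5, X5, X2, X4, X4, T2, X1, T1, X0, X0, T2, X1] [X20]) (nat_lit 264) (nat_lit 11) = true := by decide +kernel
theorem wk5_12 : allR (OT.ckEqW [X6, X9, X9, X6, X6, X9, X7, X9, X6, X9, X7] [X10]) (nat_lit 264) (nat_lit 11) = true := by decide +kernel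
theorem wk16_14 : allR (OT.ckEqW [X30, X30, X28, X30, X30, X30, X30, X28, X30, X29, X30, X29, X30] [X32]) (nat_lit 266) (nat_lit 9) = true := by decide +kernel
theorem wk6_10 : allR (OT.ckEqW [X7, X7, X8, X7, X9, X9, X6, X8, X7] [X12]) (nat_lit 270) (nat_lit 5) = true := by decide +kernel
theorem wk12_10 : allR (OT.ckEqW [X20, X0, X0, X0, X20, X18, X1, X21, X1] [X24]) (nat_lit 270) (nat_lit 5) = true := by decide +kernel
theorem wk14_10 : allR (OT.ckEqW [X25, X26, X25, X27, X24, X27, X25, X26, X24] [X28]) (nat_lit 270) (nat_lit 5) = true := by decide +kernel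
theorem wk20_10 : allR (OT.ckEqW [X19, X19, X1, X21, X19, X0, X19, X19, X1] [X40]) (nat_lit 270) (nat_lit 5) = true := by decide +kernel
theorem wk2_9 : allR (OT.ckEqW [T2, T1, T2, X1, T0, T1, T2, X1] [X4]) (nat_lit 270) (nat_lit 5) = true := by decide +kernel
theorem wk7_9 : allR (OT.ckEqW [X9, X7, X7, X8, X8, X6, X9, X6] [X14]) (nat_lit 270) (nat_lit 5) = true := by decide +kernel
theorem wk21_9 : allR (OT.ckEqW [X0, X19, X1, X18, X0, X21, X0, X21] [X42]) (nat_lit 270) (nat_lit 5) = true := by decide +kernel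
theorem wk9_21 : allR (OT.ckEqW [X16, X11, X14, X10, X6, X8, X7, X8, X2, X2, X4, X4, X3, X5, X0, X0, T0, T1, T0, T2] [X18]) (nat_lit 273) (nat_lit 2) = true := by decide +kernel
theorem wk26_6 : allR (OT.ckEqW [X51, X51, X48, X51, X49] [X52]) (nat_lit 270) (nat_lit 5) = true := by decide +kernel
theorem wk17_8 : allR (OT.ckEqW [X30, X29, X30, X30, X30, X28, X28] [X34]) (nat_lit 272) (nat_lit 3) = true := by decide +kernel
theorem wk25_8 : allR (OT.ckEqW [X45, X47, X44, X47, X44, X46, X45] [X50]) (nat_lit 272) (nat_lit 3) = true := by decide +kernel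
theorem wk27_8 : allR (OT.ckEqW [X51, X49, X51, X49, X50, X48, X48] [X54]) (nat_lit 272) (nat_lit 3) = true := by decide +kernel
theorem wk15_7 : allR (OT.ckEqW [X26, X25, X27, X24, X26, X25] [X30]) (nat_lit 273) (nat_lit 2) = true := by decide +kernel
theorem wk24_7 : allR (OT.ckEqW [X46, X44, X47, X45, X45, X47] [X48]) (nat_lit 273) (nat_lit 2) = true := by decide +kernel
theorem wk0_4 : allR (OT.ckEqW [T0, T2, T1] [X0]) (nat_lit 272) (nat_lit 3) = true := by decide +kernel
theorem wk1_3 : allR (OT.ckEqW [T2, X0] [X2]) (nat_lit 273) (nat_lit 2) = true := by decide +kernel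
theorem wk4_3 : allR (OT.ckEqW [X3, X5] [X8]) (nat_lit 273) (nat_lit 2) = true := by decide +kernel
theorem pk0_2 : allR (ckPerm (nat_lit 275) X0 X1) (nat_lit 274) (nat_lit 1) = true := by decide +kernel
theorem pk1_2 : allR (ckPerm (nat_lit 275) X1 X0) (nat_lit 274) (nat_lit 1) = true := by decide +kernel
theorem pk2_2 : allR (ckPerm (nat_lit 275) X2 X3) (nat_lit 274) (nat_lit 1) = true := by decide +kernel
theorem pk3_2 : allR (ckPerm (nat_lit 275) X3 X2) (nat_lit 274) (nat_lit 1) = true := by decide +kernel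
theorem pk4_2 : allR (ckPerm (nat_lit 275) X4 X5) (nat_lit 274) (nat_lit 1) = true := by decide +kernel
theorem pk5_2 : allR (ckPerm (nat_lit 275) X5 X4) (nat_lit 274) (nat_lit 1) = true := by decide +kernel
theorem pk6_2 : allR (ckPerm (nat_lit 275) X6 X7) (nat_lit 274) (nat_lit 1) = true := by decide +kernel
theorem pk7_2 : allR (ckPerm (nat_lit 275) X7 X6) (nat_lit 274) (nat_lit 1) = true := by decide +kernel
theorem pk8_2 : allR (ckPerm (nat_lit 275) X8 X9) (nat_lit 274) (nat_lit 1) = true := by decide +kernel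
theorem pk9_2 : allR (ckPerm (nat_lit 275) X9 X8) (nat_lit 274) (nat_lit 1) = true := by decide +kernel
theorem pk10_2 : allR (ckPerm (nat_lit 275) X10 X11) (nat_lit 274) (nat_lit 1) = true := by decide +kernel
theorem pk11_2 : allR (ckPerm (nat_lit 275) X11 X10) (nat_lit 274) (nat_lit 1) = true := by decide +kernel
theorem pk12_2 : allR (ckPerm (nat_lit 275) X12 X13) (nat_lit 274) (nat_lit 1) = true := by decide +kernel
theorem pk13_2 : allR (ckPerm (nat_lit 275) X13 X12) (nat_lit 274) (nat_lit 1) = true := by decide +kernel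
theorem pk14_2 : allR (ckPerm (nat_lit 275) X14 X15) (nat_lit 274) (nat_lit 1) = true := by decide +kernel
theorem pk15_2 : allR (ckPerm (nat_lit 275) X15 X14) (nat_lit 274) (nat_lit 1) = true := by decide +kernel
theorem pk16_2 : allR (ckPerm (nat_lit 275) X16 X17) (nat_lit 274) (nat_lit 1) = true := by decide +kernel
theorem pk17_2 : allR (ckPerm (nat_lit 275) X17 X16) (nat_lit 274) (nat_lit 1) = true := by decide +kernel
theorem pk18_2 : allR (ckPerm (nat_lit 275) X18 X19) (nat_lit 274) (nat_lit 1) = true := by decide +kernel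
theorem pk19_2 : allR (ckPerm (nat_lit 275) X19 X18) (nat_lit 274) (nat_lit 1) = true := by decide +kernel
theorem pk20_2 : allR (ckPerm (nat_lit 275) X20 X21) (nat_lit 274) (nat_lit 1) = true := by decide +kernel
theorem pk21_2 : allR (ckPerm (nat_lit 275) X21 X20) (nat_lit 274) (nat_lit 1) = true := by decide +kernel
theorem pk22_2 : allR (ckPerm (nat_lit 275) X22 X23) (nat_lit 274) (nat_lit 1) = true := by decide +kernel
theorem pk23_2 : allR (ckPerm (nat_lit 275) X23 X22) (nat_lit 274) (nat_lit 1) = true := by decide +kernel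
theorem pk24_2 : allR (ckPerm (nat_lit 275) X24 X25) (nat_lit 274) (nat_lit 1) = true := by decide +kernel
theorem pk25_2 : allR (ckPerm (nat_lit 275) X25 X24) (nat_lit 274) (nat_lit 1) = true := by decide +kernel
theorem pk26_2 : allR (ckPerm (nat_lit 275) X26 X27) (nat_lit 274) (nat_lit 1) = true := by decide +kernel
theorem pk27_2 : allR (ckPerm (nat_lit 275) X27 X26) (nat_lit 274) (nat_lit 1) = true := by decide +kernel
theorem pk28_2 : allR (ckPerm (nat_lit 275) X28 X29) (nat_lit 274) (nat_lit 1) = true := by decide +kernel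
theorem pk29_2 : allR (ckPerm (nat_lit 275) X29 X28) (nat_lit 274) (nat_lit 1) = true := by decide +kernel
theorem pk30_2 : allR (ckPerm (nat_lit 275) X30 X31) (nat_lit 274) (nat_lit 1) = true := by decide +kernel
theorem pk31_2 : allR (ckPerm (nat_lit 275) X31 X30) (nat_lit 274) (nat_lit 1) = true := by decide +kernel
theorem pk32_2 : allR (ckPerm (nat_lit 275) X32 X33) (nat_lit 274) (nat_lit 1) = true := by decide +kernel
theorem pk33_2 : allR (ckPerm (nat_lit 275) X33 X32) (nat_lit 274) (nat_lit 1) = true := by decide +kernel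
theorem pk34_2 : allR (ckPerm (nat_lit 275) X34 X35) (nat_lit 274) (nat_lit 1) = true := by decide +kernel
theorem pk35_2 : allR (ckPerm (nat_lit 275) X35 X34) (nat_lit 274) (nat_lit 1) = true := by decide +kernel
theorem pk36_2 : allR (ckPerm (nat_lit 275) X36 X37) (nat_lit 274) (nat_lit 1) = true := by decide +kernel
theorem pk37_2 : allR (ckPerm (nat_lit 275) X37 X36) (nat_lit 274) (nat_lit 1) = true := by decide +kernel
theorem pk38_2 : allR (ckPerm (nat_lit 275) X38 X39) (nat_lit 274) (nat_lit 1) = true := by decide +kernel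
theorem pk39_2 : allR (ckPerm (nat_lit 275) X39 X38) (nat_lit 274) (nat_lit 1) = true := by decide +kernel
theorem pk40_2 : allR (ckPerm (nat_lit 275) X40 X41) (nat_lit 274) (nat_lit 1) = true := by decide +kernel
theorem pk41_2 : allR (ckPerm (nat_lit 275) X41 X40) (nat_lit 274) (nat_lit 1) = true := by decide +kernel
theorem pk42_2 : allR (ckPerm (nat_lit 275) X42 X43) (nat_lit 274) (nat_lit 1) = true := by decide +kernel
theorem pk43_2 : allR (ckPerm (nat_lit 275) X43 X42) (nat_lit 274) (nat_lit 1) = true := by decide +kernel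
theorem pk44_2 : allR (ckPerm (nat_lit 275) X44 X45) (nat_lit 274) (nat_lit 1) = true := by decide +kernel
theorem pk45_2 : allR (ckPerm (nat_lit 275) X45 X44) (nat_lit 274) (nat_lit 1) = true := by decide +kernel
theorem pk46_2 : allR (ckPerm (nat_lit 275) X46 X47) (nat_lit 274) (nat_lit 1) = true := by decide +kernel
theorem pk47_2 : allR (ckPerm (nat_lit 275) X47 X46) (nat_lit 274) (nat_lit 1) = true := by decide +kernel
theorem pk48_2 : allR (ckPerm (nat_lit 275) X48 X49) (nat_lit 274) (nat_lit 1) = true := by decide +kernel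
theorem pk49_2 : allR (ckPerm (nat_lit 275) X49 X48) (nat_lit 274) (nat_lit 1) = true := by decide +kernel
theorem pk50_2 : allR (ckPerm (nat_lit 275) X50 X51) (nat_lit 274) (nat_lit 1) = true := by decide +kernel
theorem pk51_2 : allR (ckPerm (nat_lit 275) X51 X50) (nat_lit 274) (nat_lit 1) = true := by decide +kernel
theorem pk52_2 : allR (ckPerm (nat_lit 275) X52 X53) (nat_lit 274) (nat_lit 1) = true := by decide +kernel
theorem pk53_2 : allR (ckPerm (nat_lit 275) X53 X52) (nat_lit 274) (nat_lit 1) = true := by decide +kernel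
theorem pk54_2 : allR (ckPerm (nat_lit 275) X54 X55) (nat_lit 274) (nat_lit 1) = true := by decide +kernel
theorem pk55_2 : allR (ckPerm (nat_lit 275) X55 X54) (nat_lit 274) (nat_lit 1) = true := by decide +kernel
theorem wk11_2 : allR (OT.ckEqW [X18] [X22]) (nat_lit 274) (nat_lit 1) = true := by decide +kernel

end Cfsg.Agent.H8.McLO
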