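import Cfsg.Agent.H8.T.McLOa

set_option Elab.async false
set_option autoImplicit false
set_option linter.all false
set_option maxRecDepth 100000
set_option maxHeartbeats 400000

namespace Cfsg.Agent.H8.McLO
open Cfsg.Agent.H8.LtM (T0 T1 T2)

noncomputable def xQ0c0 : Nat := nat_lit 0xa3528546b12ac0a98a034a1829d5a112a55a992155ab02a45658eac1a5562d1a302ac1a3498c4a7030518346141a5422d5a106835c956255a941a55678b06189920c4a345841ab15941a3422408902230ab4e8508756841a7520c066d31b3a1562d0830e853c546ad18102a34a916141898a8e586c612183920c2ab4d95481420d08b492538a96ae16956130a7428406b4aad181529548b522c4a9022c0a1458d1a952ab5cb572448ad61448b518d4a14d84485521d2c3130c58909010a9121d361968d1a1168d18ac6854ab02a51ab96a55a30ead4aa8a1d0834f0c3ab0aa54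
noncomputable def xQ0c1 : Nat := nat_lit 0x1530d4c352261c783050cb0e25487511d1
noncomputable def xQ0 : Nat → Nat := (fun h => @Nat.rec (fun _ => Nat → Nat)
 (fun i => Nat.land (Nat.shiftRight xQ0c0 (Nat.mul (nat_lit 7) (Nat.land i (nat_lit 255)))) (nat_lit 127))
 (fun _ _ => (fun i => Nat.land (Nat.shiftRight xQ0c1 (Nat.mul (nat_lit 7) (Nat.land i (nat_lit 255)))) (nat_lit 127))) (Nat.land h (nat_lit 256)) h)
theorem xr0 : allR (ckReach xQ0 [[X0], [X1], [X18], [X19], [X20], [X21], [X40], [X41], [X42], [X43], [X44], [X45], [X46], [X47], [X48], [X49], [X50], [X51], [X52], [X53], [X54], [X55]] (nat_lit 40)) (nat_lit 0) (nat_lit 275) = true := by decide +kernel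
theorem xc0 : cntT xQ0 (nat_lit 275) (nat_lit 275) (nat_lit 0) = true := by decide +kernel
def xG0 : List (List Nat) := [[3], [4], [21], [22], [23], [24], [43], [44], [45], [46], [47], [48], [49], [50], [51], [52], [53], [54], [55], [56], [57], [58]]
noncomputable def xQ1c0 : Nat := nat_lit 0xa00003000000410184000c003000000288000000400000000c200000010c000a4031e1018f060a746800a18d1800100000610b0e0a400000c603142a4ce9d3c78a800e146942c00000001029620182880e74a8c1434b180c200000a002900814e1e001cf1c0c403000c3ce980018608000000000003190000000062030d0a3430a0c2c4000c000000e400000e00006000c8062c00298001cb062878f000c58e900e3c9100a20000001858d30000072a003941a38e0b0018e8d1c50e0008748052e3ca8d0e307143e586170010e9520002100c34f100a14f1e2018b18082cd972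
noncomputable def xQ1c1 : Nat := nat_lit 0x184073c5440000002800858e9f3
noncomputable def xQ1 : Nat → Nat := (fun h => @Nat.rec (fun _ => Nat → Nat)
 (fun i => Nat.land (Nat.shiftRight xQ1c0 (Nat.mul (nat_lit 7) (Nat.land i (nat_lit 255)))) (nat_lit 127))
 (fun _ _ => (fun i => Nat.land (Nat.shiftRight xQ1c1 (Nat.mul (nat_lit 7) (Nat.land i (nat_lit 255)))) (nat_lit 127))) (Nat.land h (nat_lit 256)) h)
theorem xr1 : allR (ckReach xQ1 [[X40], [X41], [X42], [X43], [X44], [X45], [X46], [X47], [X48], [X49], [X50], [X51], [X52], [X53], [X54], [X55]] (nat_lit 120)) (nat_lit 0) (nat_lit 275) = true := by decide +kernel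
theorem xc1 : cntT xQ1 (nat_lit 162) (nat_lit 275) (nat_lit 0) = true := by decide +kernel
def xG1 : List (List Nat) := [[43], [44], [45], [46], [47], [48], [49], [50], [51], [52], [53], [54], [55], [56], [57], [58]]
noncomputable def xQ2c0 : Nat := nat_lit 0xc7900014e80000031800000032c000000800000000c29b3000000060031e2018400000000000000000000005200020b2000000000030000000000000000000000000000000014c050a400000000000000000000000033000004101880520000000000000000000420000040a400032010f160c040000c000000000000000000000000000010a0000102800000000000000000000021000000000000520000000000005201000524000000c10000000000000000000000000000000000000000000000000000000000000820000000880230000000000000082000000000000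
noncomputable def xQ2c1 : Nat := nat_lit 0x1c4000a601800000004300000000000000
noncomputable def xQ2 : Nat → Nat := (fun h => @Nat.rec (fun _ => Nat → Nat)
 (fun i => Nat.land (Nat.shiftRight xQ2c0 (Nat.mul (nat_lit 7) (Nat.land i (nat_lit 255)))) (nat_lit 127))
 (fun _ _ => (fun i => Nat.land (Nat.shiftRight xQ2c1 (Nat.mul (nat_lit 7) (Nat.land i (nat_lit 255)))) (nat_lit 127))) (Nat.land h (nat_lit 256)) h)
theorem xr2 : allR (ckReach xQ2 [[X44], [X45], [X46], [X47], [X48], [X49], [X50], [X51], [X52], [X53], [X54], [X55]] (nat_lit 122)) (nat_lit 0) (nat_lit 275) = true := by decide +kernel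
theorem xc2 : cntT xQ2 (nat_lit 56) (nat_lit 275) (nat_lit 0) = true := by decide +kernel
def xG2 : List (List Nat) := [[47], [48], [49], [50], [51], [52], [53], [54], [55], [56], [57], [58]]
noncomputable def xQ3c0 : Nat := nat_lit 0x86000000000000018c00000c003200818800000000000313300000000000000840000000000530000000a20000000000000000022000000000000000000000000000000019000000000620005000000000000000000210000000000000000200000001480000000000000000082000000000000014e100000000000000000000043000000000000520002000a6021000000000620000000000000000000000000000000000000000000308000000000000000860000000000000002800000000000000000000000000000084000000000023000000000000210000000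
noncomputable def xQ3c1 : Nat := nat_lit 0x3300000000000000614c0000000000
noncomputable def xQ3 : Nat → Nat := (fun h => @Nat.rec (fun _ => Nat → Nat)
 (fun i => Nat.land (Nat.shiftRight xQ3c0 (Nat.mul (nat_lit 7) (Nat.land i (nat_lit 255)))) (nat_lit 127))
 (fun _ _ => (fun i => Nat.land (Nat.shiftRight xQ3c1 (Nat.mul (nat_lit 7) (Nat.land i (nat_lit 255)))) (nat_lit 127))) (Nat.land h (nat_lit 256)) h)
theorem xr3 : allR (ckReach xQ3 [[X48], [X49], [X50], [X51], [X52], [X53], [X54], [X55]] (nat_lit 143)) (nat_lit 0) (nat_lit 275) = true := by decide +kernel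
theorem xc3 : cntT xQ3 (nat_lit 36) (nat_lit 275) (nat_lit 0) = true := by decide +kernel
def xG3 : List (List Nat) := [[51], [52], [53], [54], [55], [56], [57], [58]]
noncomputable def xQ4c0 : Nat := nat_lit 0x62000000000000008400000c8000000000000000000000000000000000000000000000000000000000000000000000000060000000000000000000000000000000000000000000000000000000000000000000000000000000000000000000000000000000000000000000000000003200000000000000000000000000000000000000000000000000000000000000000000000000000000001000021000080000000000000000000000000000000000000000000000000210000000000000000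
noncomputable def xQ4c1 : Nat := nat_lit 0x4400000
noncomputable def xQ4 : Nat → Nat := (fun h => @Nat.rec (fun _ => Nat → Nat)
 (fun i => Nat.land (Nat.shiftRight xQ4c0 (Nat.mul (nat_lit 7) (Nat.land i (nat_lit 255)))) (nat_lit 127))
 (fun _ _ => (fun i => Nat.land (Nat.shiftRight xQ4c1 (Nat.mul (nat_lit 7) (Nat.land i (nat_lit 255)))) (nat_lit 127))) (Nat.land h (nat_lit 256)) h)
theorem xr4 : allR (ckReach xQ4 [[X52], [X53], [X54], [X55]] (nat_lit 44)) (nat_lit 0) (nat_lit 275) = true := by decide +kernel
theorem xc4 : cntT xQ4 (nat_lit 10) (nat_lit 275) (nat_lit 0) = true := by decide +kernel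
def xG4 : List (List Nat) := [[55], [56], [57], [58]]
noncomputable def xQ5c0 : Nat := nat_lit 0x200000000000000000000000000000000000000000000000000000000000000000000000000000
noncomputable def xQ5c1 : Nat := nat_lit 0x0
noncomputable def xQ5 : Nat → Nat := (fun h => @Nat.rec (fun _ => Nat → Nat)
 (fun i => Nat.land (Nat.shiftRight xQ5c0 (Nat.mul (nat_lit 5) (Nat.land i (nat_lit 255)))) (nat_lit 31))
 (fun _ _ => (fun i => Nat.land (Nat.shiftRight xQ5c1 (Nat.mul (nat_lit 5) (Nat.land i (nat_lit 255)))) (nat_lit 31))) (Nat.land h (nat_lit 256)) h)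
theorem xr5 : allR (ckReach xQ5 ([] : List (List (Nat → Nat))) (nat_lit 61)) (nat_lit 0) (nat_lit 275) = true := by decide +kernel
theorem xc5 : cntT xQ5 (nat_lit 1) (nat_lit 275) (nat_lit 0) = true := by decide +kernel
def xG5 : List (List Nat) := []
noncomputable def xK5 : List Nat → Bool := levF xQ5 ([] : List (List (Nat → Nat))) (nat_lit 61) (fun _ => false) (nat_lit 8)
noncomputable def xK4 : List Nat → Bool := levF xQ4 [[X52], [X53], [X54], [X55]] (nat_lit 44) xK5 (nat_lit 8)
noncomputable def xK3 : List Nat → Bool := levF xQ3 [[X48], [X49], [X50], [X51], [X52], [X53], [X54], [X55]] (nat_lit 143) xK4 (nat_lit 8)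
noncomputable def xK2 : List Nat → Bool := levF xQ2 [[X44], [X45], [X46], [X47], [X48], [X49], [X50], [X51], [X52], [X53], [X54], [X55]] (nat_lit 122) xK3 (nat_lit 8)
noncomputable def xK1 : List Nat → Bool := levF xQ1 [[X40], [X41], [X42], [X43], [X44], [X45], [X46], [X47], [X48], [X49], [X50], [X51], [X52], [X53], [X54], [X55]] (nat_lit 120) xK2 (nat_lit 8)
noncomputable def xK0 : List Nat → Bool := levF xQ0 [[X0], [X1], [X18], [X19], [X20], [X21], [X40], [X41], [X42], [X43], [X44], [X45], [X46], [X47], [X48], [X49], [X50], [X51], [X52], [X53], [X54], [X55]] (nat_lit 40) xK1 (nat_lit 8)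
theorem xS : allR (OT.ckCand [X0] (nat_lit 6) xK0 [40]) (nat_lit 0) (nat_lit 275) = true := by decide +kernel

end Cfsg.Agent.H8.McLO
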