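import Cfsg.Agent.H8.T.Fi22btP
import Cfsg.Agent.H8.Z3Vec

set_option autoImplicit false
set_option linter.all false
set_option maxRecDepth 100000

namespace Cfsg.Agent.H8.O7v
open Cfsg.Agent.H8.Fi22bt

noncomputable def voc0 : Nat := nat_lit 0x6943eb0000000000000000000000002c76e75a117850251920d52047835a43b7e330119800000000000000025b4cb2621ba7fe1231363510ae0000000000002823e16b218676e1ef0000000007024b05d60000003186c00007b30005cd000000
noncomputable def voc1 : Nat := nat_lit 0x5440bb23281a19386e4485ef0000000000000000000000000000000000000000000b77ae55c29b5fb70f5b01fc86a7754d227d6d634819f10077e3460000000000000000000000000000005ac4924b72148387f941884385f4367c052e73573c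
noncomputable def voc2 : Nat := nat_lit 0xa58414de4a223b0550821d569d3075f528f0f157422f11b63c00000000000000000000000000000000000000000000000000000028b66d30a0677cf2b67ab3d9
noncomputable def voc3 : Nat := nat_lit 0x82c24719c0a948a39763a65b5143700000000000000000000000000000000000000000000000000000000000000000000000000000000000000000000000000002f81d243958c6dc5e925662e8717423a04db2f56df2c5340751000000000000
noncomputable def voc4 : Nat := nat_lit 0xb23e87d25ec2fb4e10df07045a00000000000000000000000000000000000000000000000000000000000000000000000000000000000000000000000000000000000000000000000000000000000000068b74e52c34f0e85f21484217186e2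
noncomputable def voc5 : Nat := nat_lit 0x7d535818466478a3d605e16367354d8225f833715d
noncomputable def voc6 : Nat := nat_lit 0x6017fc7000001ff56e11810371e0004a880b72f64e3dc0791f937914e7722fe5fe57d72d82030d00032e3b5625000000000000000000000000000000
noncomputable def voc7 : Nat := nat_lit 0x2173a96433ee64c7b1000859367000000000000000000000000000000000000000000000000000000000000000000000000000000000000000000000000000000000000000000000000000000000000000000000000000000000000000000000
noncomputable def voc8 : Nat := nat_lit 0x21a28000059241b4842b00008867c34603be76600064526711e0004414156376e480e4b4496133796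
noncomputable def voc9 : Nat := nat_lit 0x1ab26523568559b000000000000000000000000000000000000000000000000000000000000000000000000000000000000000000000000000000000000000000000000000000000000000000000000000000000000000000000000000000000
noncomputable def voc10 : Nat := nat_lit 0x4d800075d00024a1c66d95050006b567c0004295250004ef2764ff6d300024c4c87245500001502cb6af87c0d64d544e84d880427304
noncomputable def voc11 : Nat := nat_lit 0x0
noncomputable def voc12 : Nat := nat_lit 0x16b0006ba6102ac7f27bd0004687a120a4660003f08101e18470002403872aa3940001086192d179238b1695381392955233c7000000000000000000000000000000000000000000000000000000000000000000000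
noncomputable def voc13 : Nat := nat_lit 0x0
noncomputable def voc14 : Nat := nat_lit 0x940fd000000000000000000000000000000000000000000000000000000000000000000000000000000000000000000000000000000000000000000000000000000000000000000000000000000000000000000000000000000000000000000
noncomputable def voc15 : Nat := nat_lit 0x31b7a413e56a0000006600002257265526276fa4710c95680005883247ed09d0002910d24750cd1f2
noncomputable def voc16 : Nat := nat_lit 0x0
noncomputable def voc17 : Nat := nat_lit 0xc44f85e227100067808b2a63901b749e5d917e786000000000000000000000000000000000000000000000000000000000000000000000000000000000000000000000000000000000000000000000000000000000000000000000000000000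
noncomputable def voc18 : Nat := nat_lit 0xed22800000040571174a3691b30000000e4
noncomputable def voc19 : Nat := nat_lit 0x0
noncomputable def voc20 : Nat := nat_lit 0x2c166f00037e1ce8557b60005d07620db3ba6075643826696c33f3000000000000000000000000000000000000000000000000000000000000000000000000000000000000000000000000000000000000000000000000000000000000000000
noncomputable def voc21 : Nat := nat_lit 0x0
noncomputable def voc22 : Nat := nat_lit 0x0
noncomputable def voc23 : Nat := nat_lit 0x3128046570c083d61e000000000000000000000000000000000000000000000000000000000000000000000000000000000000000000000000000000000000000000000000000000000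
noncomputable def voc24 : Nat := nat_lit 0x0
noncomputable def voc25 : Nat := nat_lit 0x0
noncomputable def voc26 : Nat := nat_lit 0x0
noncomputable def voc27 : Nat := nat_lit 0x0
noncomputable def voc28 : Nat := nat_lit 0x0
noncomputable def voc29 : Nat := nat_lit 0x0
noncomputable def voc30 : Nat := nat_lit 0x0
noncomputable def voc31 : Nat := nat_lit 0x0
noncomputable def voc32 : Nat := nat_lit 0x0
noncomputable def voc33 : Nat := nat_lit 0x0
noncomputable def voc34 : Nat := nat_lit 0x0
noncomputable def voc35 : Nat := nat_lit 0x0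
noncomputable def voc36 : Nat := nat_lit 0x0
noncomputable def voc37 : Nat := nat_lit 0x0
noncomputable def voc38 : Nat := nat_lit 0x0
noncomputable def voc39 : Nat := nat_lit 0x0
noncomputable def voc40 : Nat := nat_lit 0x0
noncomputable def voc41 : Nat := nat_lit 0x0
noncomputable def voc42 : Nat := nat_lit 0x0
noncomputable def voc43 : Nat := nat_lit 0x0
noncomputable def voc44 : Nat := nat_lit 0x0
noncomputable def voc45 : Nat := nat_lit 0x0
noncomputable def voc46 : Nat := nat_lit 0x0
noncomputable def voc47 : Nat := nat_lit 0x0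
noncomputable def voc48 : Nat := nat_lit 0x0
noncomputable def voc49 : Nat := nat_lit 0x0
noncomputable def voc50 : Nat := nat_lit 0x0
noncomputable def voc51 : Nat := nat_lit 0x0
noncomputable def voc52 : Nat := nat_lit 0x0
noncomputable def voc53 : Nat := nat_lit 0x0
noncomputable def voc54 : Nat := nat_lit 0x0
noncomputable def vo : Nat → Nat := (fun h => @Nat.rec (fun _ => Nat → Nat)
 (fun h => @Nat.rec (fun _ => Nat → Nat)
 (fun h => @Nat.rec (fun _ => Nat → Nat)
 (fun h => @Nat.rec (fun _ => Nat → Nat)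
 (fun h => @Nat.rec (fun _ => Nat → Nat)
 (fun h => @Nat.rec (fun _ => Nat → Nat)
 (fun i => Nat.land (Nat.shiftRight voc0 (Nat.mul (nat_lit 12) (Nat.land i (nat_lit 63)))) (nat_lit 0xfff))
 (fun _ _ => (fun i => Nat.land (Nat.shiftRight voc1 (Nat.mul (nat_lit 12) (Nat.land i (nat_lit 63)))) (nat_lit 0xfff))) (Nat.land h (nat_lit 64)) h)
 (fun _ _ => (fun h => @Nat.rec (fun _ => Nat → Nat)
 (fun i => Nat.land (Nat.shiftRight voc2 (Nat.mul (nat_lit 12) (Nat.land i (nat_lit 63)))) (nat_lit 0xfff))
 (fun _ _ => (fun i => Nat.land (Nat.shiftRight voc3 (Nat.mul (nat_lit 12) (Nat.land i (nat_lit 63)))) (nat_lit 0xfff))) (Nat.land h (nat_lit 64)) h)) (Nat.land h (nat_lit 128)) h)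
 (fun _ _ => (fun h => @Nat.rec (fun _ => Nat → Nat)
 (fun h => @Nat.rec (fun _ => Nat → Nat)
 (fun i => Nat.land (Nat.shiftRight voc4 (Nat.mul (nat_lit 12) (Nat.land i (nat_lit 63)))) (nat_lit 0xfff))
 (fun _ _ => (fun i => Nat.land (Nat.shiftRight voc5 (Nat.mul (nat_lit 12) (Nat.land i (nat_lit 63)))) (nat_lit 0xfff))) (Nat.land h (nat_lit 64)) h)
 (fun _ _ => (fun h => @Nat.rec (fun _ => Nat → Nat)
 (fun i => Nat.land (Nat.shiftRight voc6 (Nat.mul (nat_lit 12) (Nat.land i (nat_lit 63)))) (nat_lit 0xfff))
 (fun _ _ => (fun i => Nat.land (Nat.shiftRight voc7 (Nat.mul (nat_lit 12) (Nat.land i (nat_lit 63)))) (nat_lit 0xfff))) (Nat.land h (nat_lit 64)) h)) (Nat.land h (nat_lit 128)) h)) (Nat.land h (nat_lit 256)) h)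
 (fun _ _ => (fun h => @Nat.rec (fun _ => Nat → Nat)
 (fun h => @Nat.rec (fun _ => Nat → Nat)
 (fun h => @Nat.rec (fun _ => Nat → Nat)
 (fun i => Nat.land (Nat.shiftRight voc8 (Nat.mul (nat_lit 12) (Nat.land i (nat_lit 63)))) (nat_lit 0xfff))
 (fun _ _ => (fun i => Nat.land (Nat.shiftRight voc9 (Nat.mul (nat_lit 12) (Nat.land i (nat_lit 63)))) (nat_lit 0xfff))) (Nat.land h (nat_lit 64)) h)
 (fun _ _ => (fun h => @Nat.rec (fun _ => Nat → Nat)
 (fun i => Nat.land (Nat.shiftRight voc10 (Nat.mul (nat_lit 12) (Nat.land i (nat_lit 63)))) (nat_lit 0xfff))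
 (fun _ _ => (fun i => Nat.land (Nat.shiftRight voc11 (Nat.mul (nat_lit 12) (Nat.land i (nat_lit 63)))) (nat_lit 0xfff))) (Nat.land h (nat_lit 64)) h)) (Nat.land h (nat_lit 128)) h)
 (fun _ _ => (fun h => @Nat.rec (fun _ => Nat → Nat)
 (fun h => @Nat.rec (fun _ => Nat → Nat)
 (fun i => Nat.land (Nat.shiftRight voc12 (Nat.mul (nat_lit 12) (Nat.land i (nat_lit 63)))) (nat_lit 0xfff))
 (fun _ _ => (fun i => Nat.land (Nat.shiftRight voc13 (Nat.mul (nat_lit 12) (Nat.land i (nat_lit 63)))) (nat_lit 0xfff))) (Nat.land h (nat_lit 64)) h)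
 (fun _ _ => (fun h => @Nat.rec (fun _ => Nat → Nat)
 (fun i => Nat.land (Nat.shiftRight voc14 (Nat.mul (nat_lit 12) (Nat.land i (nat_lit 63)))) (nat_lit 0xfff))
 (fun _ _ => (fun i => Nat.land (Nat.shiftRight voc15 (Nat.mul (nat_lit 12) (Nat.land i (nat_lit 63)))) (nat_lit 0xfff))) (Nat.land h (nat_lit 64)) h)) (Nat.land h (nat_lit 128)) h)) (Nat.land h (nat_lit 256)) h)) (Nat.land h (nat_lit 512)) h)
 (fun _ _ => (fun h => @Nat.rec (fun _ => Nat → Nat)
 (fun h => @Nat.rec (fun _ => Nat → Nat)
 (fun h => @Nat.rec (fun _ => Nat → Nat)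
 (fun h => @Nat.rec (fun _ => Nat → Nat)
 (fun i => Nat.land (Nat.shiftRight voc16 (Nat.mul (nat_lit 12) (Nat.land i (nat_lit 63)))) (nat_lit 0xfff))
 (fun _ _ => (fun i => Nat.land (Nat.shiftRight voc17 (Nat.mul (nat_lit 12) (Nat.land i (nat_lit 63)))) (nat_lit 0xfff))) (Nat.land h (nat_lit 64)) h)
 (fun _ _ => (fun h => @Nat.rec (fun _ => Nat → Nat)
 (fun i => Nat.land (Nat.shiftRight voc18 (Nat.mul (nat_lit 12) (Nat.land i (nat_lit 63)))) (nat_lit 0xfff))
 (fun _ _ => (fun i => Nat.land (Nat.shiftRight voc19 (Nat.mul (nat_lit 12) (Nat.land i (nat_lit 63)))) (nat_lit 0xfff))) (Nat.land h (nat_lit 64)) h)) (Nat.land h (nat_lit 128)) h)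
 (fun _ _ => (fun h => @Nat.rec (fun _ => Nat → Nat)
 (fun h => @Nat.rec (fun _ => Nat → Nat)
 (fun i => Nat.land (Nat.shiftRight voc20 (Nat.mul (nat_lit 12) (Nat.land i (nat_lit 63)))) (nat_lit 0xfff))
 (fun _ _ => (fun i => Nat.land (Nat.shiftRight voc21 (Nat.mul (nat_lit 12) (Nat.land i (nat_lit 63)))) (nat_lit 0xfff))) (Nat.land h (nat_lit 64)) h)
 (fun _ _ => (fun h => @Nat.rec (fun _ => Nat → Nat)
 (fun i => Nat.land (Nat.shiftRight voc22 (Nat.mul (nat_lit 12) (Nat.land i (nat_lit 63)))) (nat_lit 0xfff))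
 (fun _ _ => (fun i => Nat.land (Nat.shiftRight voc23 (Nat.mul (nat_lit 12) (Nat.land i (nat_lit 63)))) (nat_lit 0xfff))) (Nat.land h (nat_lit 64)) h)) (Nat.land h (nat_lit 128)) h)) (Nat.land h (nat_lit 256)) h)
 (fun _ _ => (fun h => @Nat.rec (fun _ => Nat → Nat)
 (fun h => @Nat.rec (fun _ => Nat → Nat)
 (fun h => @Nat.rec (fun _ => Nat → Nat)
 (fun i => Nat.land (Nat.shiftRight voc24 (Nat.mul (nat_lit 12) (Nat.land i (nat_lit 63)))) (nat_lit 0xfff))
 (fun _ _ => (fun i => Nat.land (Nat.shiftRight voc25 (Nat.mul (nat_lit 12) (Nat.land i (nat_lit 63)))) (nat_lit 0xfff))) (Nat.land h (nat_lit 64)) h)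
 (fun _ _ => (fun h => @Nat.rec (fun _ => Nat → Nat)
 (fun i => Nat.land (Nat.shiftRight voc26 (Nat.mul (nat_lit 12) (Nat.land i (nat_lit 63)))) (nat_lit 0xfff))
 (fun _ _ => (fun i => Nat.land (Nat.shiftRight voc27 (Nat.mul (nat_lit 12) (Nat.land i (nat_lit 63)))) (nat_lit 0xfff))) (Nat.land h (nat_lit 64)) h)) (Nat.land h (nat_lit 128)) h)
 (fun _ _ => (fun h => @Nat.rec (fun _ => Nat → Nat)
 (fun h => @Nat.rec (fun _ => Nat → Nat)
 (fun i => Nat.land (Nat.shiftRight voc28 (Nat.mul (nat_lit 12) (Nat.land i (nat_lit 63)))) (nat_lit 0xfff))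
 (fun _ _ => (fun i => Nat.land (Nat.shiftRight voc29 (Nat.mul (nat_lit 12) (Nat.land i (nat_lit 63)))) (nat_lit 0xfff))) (Nat.land h (nat_lit 64)) h)
 (fun _ _ => (fun h => @Nat.rec (fun _ => Nat → Nat)
 (fun i => Nat.land (Nat.shiftRight voc30 (Nat.mul (nat_lit 12) (Nat.land i (nat_lit 63)))) (nat_lit 0xfff))
 (fun _ _ => (fun i => Nat.land (Nat.shiftRight voc31 (Nat.mul (nat_lit 12) (Nat.land i (nat_lit 63)))) (nat_lit 0xfff))) (Nat.land h (nat_lit 64)) h)) (Nat.land h (nat_lit 128)) h)) (Nat.land h (nat_lit 256)) h)) (Nat.land h (nat_lit 512)) h)) (Nat.land h (nat_lit 0x400)) h)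
 (fun _ _ => (fun h => @Nat.rec (fun _ => Nat → Nat)
 (fun h => @Nat.rec (fun _ => Nat → Nat)
 (fun h => @Nat.rec (fun _ => Nat → Nat)
 (fun h => @Nat.rec (fun _ => Nat → Nat)
 (fun h => @Nat.rec (fun _ => Nat → Nat)
 (fun i => Nat.land (Nat.shiftRight voc32 (Nat.mul (nat_lit 12) (Nat.land i (nat_lit 63)))) (nat_lit 0xfff))
 (fun _ _ => (fun i => Nat.land (Nat.shiftRight voc33 (Nat.mul (nat_lit 12) (Nat.land i (nat_lit 63)))) (nat_lit 0xfff))) (Nat.land h (nat_lit 64)) h)
 (fun _ _ => (fun h => @Nat.rec (fun _ => Nat → Nat)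
 (fun i => Nat.land (Nat.shiftRight voc34 (Nat.mul (nat_lit 12) (Nat.land i (nat_lit 63)))) (nat_lit 0xfff))
 (fun _ _ => (fun i => Nat.land (Nat.shiftRight voc35 (Nat.mul (nat_lit 12) (Nat.land i (nat_lit 63)))) (nat_lit 0xfff))) (Nat.land h (nat_lit 64)) h)) (Nat.land h (nat_lit 128)) h)
 (fun _ _ => (fun h => @Nat.rec (fun _ => Nat → Nat)
 (fun h => @Nat.rec (fun _ => Nat → Nat)
 (fun i => Nat.land (Nat.shiftRight voc36 (Nat.mul (nat_lit 12) (Nat.land i (nat_lit 63)))) (nat_lit 0xfff))
 (fun _ _ => (fun i => Nat.land (Nat.shiftRight voc37 (Nat.mul (nat_lit 12) (Nat.land i (nat_lit 63)))) (nat_lit 0xfff))) (Nat.land h (nat_lit 64)) h)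
 (fun _ _ => (fun h => @Nat.rec (fun _ => Nat → Nat)
 (fun i => Nat.land (Nat.shiftRight voc38 (Nat.mul (nat_lit 12) (Nat.land i (nat_lit 63)))) (nat_lit 0xfff))
 (fun _ _ => (fun i => Nat.land (Nat.shiftRight voc39 (Nat.mul (nat_lit 12) (Nat.land i (nat_lit 63)))) (nat_lit 0xfff))) (Nat.land h (nat_lit 64)) h)) (Nat.land h (nat_lit 128)) h)) (Nat.land h (nat_lit 256)) h)
 (fun _ _ => (fun h => @Nat.rec (fun _ => Nat → Nat)
 (fun h => @Nat.rec (fun _ => Nat → Nat)
 (fun h => @Nat.rec (fun _ => Nat → Nat)
 (fun i => Nat.land (Nat.shiftRight voc40 (Nat.mul (nat_lit 12) (Nat.land i (nat_lit 63)))) (nat_lit 0xfff))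
 (fun _ _ => (fun i => Nat.land (Nat.shiftRight voc41 (Nat.mul (nat_lit 12) (Nat.land i (nat_lit 63)))) (nat_lit 0xfff))) (Nat.land h (nat_lit 64)) h)
 (fun _ _ => (fun h => @Nat.rec (fun _ => Nat → Nat)
 (fun i => Nat.land (Nat.shiftRight voc42 (Nat.mul (nat_lit 12) (Nat.land i (nat_lit 63)))) (nat_lit 0xfff))
 (fun _ _ => (fun i => Nat.land (Nat.shiftRight voc43 (Nat.mul (nat_lit 12) (Nat.land i (nat_lit 63)))) (nat_lit 0xfff))) (Nat.land h (nat_lit 64)) h)) (Nat.land h (nat_lit 128)) h)
 (fun _ _ => (fun h => @Nat.rec (fun _ => Nat → Nat)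
 (fun h => @Nat.rec (fun _ => Nat → Nat)
 (fun i => Nat.land (Nat.shiftRight voc44 (Nat.mul (nat_lit 12) (Nat.land i (nat_lit 63)))) (nat_lit 0xfff))
 (fun _ _ => (fun i => Nat.land (Nat.shiftRight voc45 (Nat.mul (nat_lit 12) (Nat.land i (nat_lit 63)))) (nat_lit 0xfff))) (Nat.land h (nat_lit 64)) h)
 (fun _ _ => (fun h => @Nat.rec (fun _ => Nat → Nat)
 (fun i => Nat.land (Nat.shiftRight voc46 (Nat.mul (nat_lit 12) (Nat.land i (nat_lit 63)))) (nat_lit 0xfff))
 (fun _ _ => (fun i => Nat.land (Nat.shiftRight voc47 (Nat.mul (nat_lit 12) (Nat.land i (nat_lit 63)))) (nat_lit 0xfff))) (Nat.land h (nat_lit 64)) h)) (Nat.land h (nat_lit 128)) h)) (Nat.land h (nat_lit 256)) h)) (Nat.land h (nat_lit 512)) h)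
 (fun _ _ => (fun h => @Nat.rec (fun _ => Nat → Nat)
 (fun h => @Nat.rec (fun _ => Nat → Nat)
 (fun h => @Nat.rec (fun _ => Nat → Nat)
 (fun i => Nat.land (Nat.shiftRight voc48 (Nat.mul (nat_lit 12) (Nat.land i (nat_lit 63)))) (nat_lit 0xfff))
 (fun _ _ => (fun i => Nat.land (Nat.shiftRight voc49 (Nat.mul (nat_lit 12) (Nat.land i (nat_lit 63)))) (nat_lit 0xfff))) (Nat.land h (nat_lit 64)) h)
 (fun _ _ => (fun h => @Nat.rec (fun _ => Nat → Nat)
 (fun i => Nat.land (Nat.shiftRight voc50 (Nat.mul (nat_lit 12) (Nat.land i (nat_lit 63)))) (nat_lit 0xfff))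
 (fun _ _ => (fun i => Nat.land (Nat.shiftRight voc51 (Nat.mul (nat_lit 12) (Nat.land i (nat_lit 63)))) (nat_lit 0xfff))) (Nat.land h (nat_lit 64)) h)) (Nat.land h (nat_lit 128)) h)
 (fun _ _ => (fun h => @Nat.rec (fun _ => Nat → Nat)
 (fun h => @Nat.rec (fun _ => Nat → Nat)
 (fun i => Nat.land (Nat.shiftRight voc52 (Nat.mul (nat_lit 12) (Nat.land i (nat_lit 63)))) (nat_lit 0xfff))
 (fun _ _ => (fun i => Nat.land (Nat.shiftRight voc53 (Nat.mul (nat_lit 12) (Nat.land i (nat_lit 63)))) (nat_lit 0xfff))) (Nat.land h (nat_lit 64)) h)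
 (fun _ _ => (fun i => Nat.land (Nat.shiftRight voc54 (Nat.mul (nat_lit 12) (Nat.land i (nat_lit 63)))) (nat_lit 0xfff))) (Nat.land h (nat_lit 128)) h)) (Nat.land h (nat_lit 256)) h)) (Nat.land h (nat_lit 0x400)) h)) (Nat.land h (nat_lit 0x800)) h)
noncomputable def ioc0 : Nat := nat_lit 0x0
noncomputable def ioc1 : Nat := nat_lit 0x48b09e19800000000000000000053513913800000000000000000001a13f08400000000000000000006907e1470000000000000000000aa0fc0a5000000000000000000000000000000000000000000000000000000000000000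
noncomputable def ioc2 : Nat := nat_lit 0x14707e00000000006900000000008413f00000000001a0000000000a50fc0000000000aa0000000000000003cc3c13c60000000000000000003c32863bf0000000000000000005ed47f4790000000000000000004801050a4000000
noncomputable def ioc3 : Nat := nat_lit 0x1973be00000000000000000000000000000019809e00000000048b0000000000a41050000000004800000000001381390000000005350000000003bf2860000000003c30000000003c63c10000000003cc00000000047947f0000000005ed
noncomputable def ioc4 : Nat := nat_lit 0x3d800000032e1ff31a00021a01c00004a20100000000000000000000000000000000000048a00000001d0000003d207d20a00027d09b00009c1a10000000000000000000000000000000000003c00000003210000000100621a00001a305a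
noncomputable def ioc5 : Nat := nat_lit 0x32447300000000000028903200000000000000000003500000000000000033831f31c00000000053f0c61460000000000003191400000000000000000003c400000000000000028a06619500000000008709f10300000000000000000002f000
noncomputable def ioc6 : Nat := nat_lit 0x1500000000021901f00047c4760000000004830000000000000000000fe27f00000000032600000028f00000000029f05b0000a60fd00000000002800000000021407b00000000000000000033400000000000000001208214b000000000478
noncomputable def ioc7 : Nat := nat_lit 0x1a30001a00620003be1970000000003210000003c000000001000000000000000000000000000000000000002032900000000002200000020b00000000027e0a30000ce0d300000000053b00000000000000000005e29e000000000293000000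
noncomputable def ioc8 : Nat := nat_lit 0x280fd0a600000000000009b27d00020a07d0001a109c00000000001d00000048a0000003d200000000000000000000000000001c21a00031a1ff00020104a0000000003d800000002f00000032e00000000000000000000000000005a
noncomputable def ioc9 : Nat := nat_lit 0x29e05e00000000000000000029300000048347647c00000000000000000000000000020b0a327e00032902000000000000000000002200000053b0d30ce00000000000000000000000000028f05b29f00027f0fe000000000000000000326
noncomputable def ioc10 : Nat := nat_lit 0x1200000000014b08200000000000007b21400000000033447332400000000047800000000000000028a0000000001950660000000000001403190000000003c410309f00000000008700000000000000000000000001501f219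
noncomputable def ioc11 : Nat := nat_lit 0x6519300013c13b0000780d40000cf0c800000000000000000000000000000000000000000000000000000000000000000000000000000000000000000033800000000031c31f0000000000000322890000000000351460c600000000053f000
noncomputable def ioc12 : Nat := nat_lit 0x5300861410000000000000000005ee0f818c0000000000000000004740000003c800000000a00000047d0000003da0000000070000005370000005f00000000020a018e0001420850001040a10001922800001a7029000
noncomputable def ioc13 : Nat := nat_lit 0x53c00000000029919600000000000000000047a27c0f60000000000000000004841451f700000000000000000053e00000000000000002c03f14c00000000000000000001b0a210600000000000000000005c1090580000000003d414a0c5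
noncomputable def ioc14 : Nat := nat_lit 0x20620f00000000053400000000018a18b0000000005eb00000020c0000000001fd1fe00000000019a0000000001fb0ca00000000009a0000000000f90fa00033532300000000047700000000032031d000000000325000000000533531000000
noncomputable def ioc15 : Nat := nat_lit 0x2a00000052e00000032b13d1fc00014d03e00008313e0000000003d900000001400000032f0681990001fa0800000811480000000000000000000000000000000000000000cd3170000000003cf000000000
noncomputable def ioc16 : Nat := nat_lit 0x2b0cc0d20003280440000000000000000000460000000000000002972832810000000005ec0a9102000000000000043216000211047000332207000000000000000000000000000000000000539000000487000000004000000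
noncomputable def ioc17 : Nat := nat_lit 0x1e0000000001a602d0003c73c20000000003cd00000000000000000000000033004532d00000000006107a2100000000000001f813700000000000000000053a000000287282284000000000000212079000000000000000000208000
noncomputable def ioc18 : Nat := nat_lit 0x32a00000000020404b00007c20300000000000b00000000000000000019c19d0000000005ef0ff0a700000000047500000000000000000004920200000000004c00000014300000000018f0fb000000000000048215000000000333
noncomputable def ioc19 : Nat := nat_lit 0x29200000000052f00000047e0000000060000000340000002940000002050000000000000000000000000000c713a0001000a80000d00c90000132a300029a28500028805f00000000033600000002100000028e000000000000000000000000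
noncomputable def ioc20 : Nat := nat_lit 0x47200000031e20031b0000000000000000000000000000420591070000000000000000002960c43180002a102e0000000000000000000300000004851080f700000000000000000000000000000000000000005d29c00029d031000291
noncomputable def ioc21 : Nat := nat_lit 0x19019100000000000c0000000001a509d0000000000000641a20000000003d73ce3cb0000000005320000000000000000111940670000000000000000000000000003d006028c00020e14400000000000000000053614907f000000000000
noncomputable def ioc22 : Nat := nat_lit 0x19f06300000000004d0000000000000003d100000000028d03300000000000010127b0000000004860000000000402170000000000410cb0d10000000003c900000000000000019b000000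
noncomputable def ioc23 : Nat := nat_lit 0x28019200019306500008514200018e0a00000a11040000d407800013b13c0000c80cf0000000003da00000047d0000000070000003c800000047400000000a0000005f0000000537000000002000000000000000000000000000000000000000
noncomputable def ioc24 : Nat := nat_lit 0x9a0fa0f900020f2060000000000000000005343170cd0000000000000000003cf18b18a0000000000000000005eb00000032531d32000000000000000000047732333500000000000000000053c5315330000000000000291a7000
noncomputable def ioc25 : Nat := nat_lit 0x19629900000000047a0000000001f714500000000053e1410860000000005300000000000c514a0000000003d400000000018c0f80000000005ee00000000000000000000000019a0ca1fb00000000000000000020c1fe1fd000000000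
noncomputable def ioc26 : Nat := nat_lit 0x2100000033600000028e28529a0002a301300005f28800000000000000000000000000000000000001b0000000001060a200000000002c00000000014c03f00000000005c0000000000581090000000000000f627c000000000484000
noncomputable def ioc27 : Nat := nat_lit 0x5323cb3ce0000000000000000000000000000000000000000000002940000000340000002050a810000013a0c70000c90d000003129d00029c05d00029229100000000000000000000000000000000000047e00000052f000000006
noncomputable def ioc28 : Nat := nat_lit 0x21704000000000000000000004100000000000000019b1911900000000000000000003d103328d00000000004d06319f00000000000027b1010000000000000000004861a20640000000000000000003d700000000000000000c09d1a5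
noncomputable def ioc29 : Nat := nat_lit 0x1070590000000003d000000000028c06000006719400000000001100000000000000000014420e00000000053600000000002e2a10000000000300000002960000000003180c40000f71080000000004850000000000000003c90d10cb000000
noncomputable def ioc30 : Nat := nat_lit 0x2073320000000004870000005390000000040801fa0001990680001480810000000000140000003d900000032f00000000000000000000000000031b20000000000031e00000000000000000007f149000000000472000000042000000000
noncomputable def ioc31 : Nat := nat_lit 0x1e02d1a60002150480000000000000000003330000003cd3c23c700000000000000000052e00000002a00000032b00000000000000000000000000003e14d0001fc13d00013e083000000000000000000000000000000047211000216043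
noncomputable def ioc32 : Nat := nat_lit 0x5ec00000000020204900000000000000000004c0000004750a70ff0000000000000000000000000001430fb18f00000000000b20307c00000000000000000000000000032a04b20400019d19c0000000000000000005ef000000000000
noncomputable def ioc33 : Nat := nat_lit 0x28700000000000000002b0000000000d20cc00021007a00000000006100000000000000033000000000032d0450000000000001371f800000000053a0000002970000000002812830000000000000443280000000000461020a9000
noncomputable def ioc34 : Nat := nat_lit 0x79212000000000208284282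
noncomputable def io : Nat → Nat := (fun h => @Nat.rec (fun _ => Nat → Nat)
 (fun h => @Nat.rec (fun _ => Nat → Nat)
 (fun h => @Nat.rec (fun _ => Nat → Nat)
 (fun h => @Nat.rec (fun _ => Nat → Nat)
 (fun h => @Nat.rec (fun _ => Nat → Nat)
 (fun h => @Nat.rec (fun _ => Nat → Nat)
 (fun i => Nat.land (Nat.shiftRight ioc0 (Nat.mul (nat_lit 12) (Nat.land i (nat_lit 63)))) (nat_lit 0xfff))
 (fun _ _ => (fun i => Nat.land (Nat.shiftRight ioc1 (Nat.mul (nat_lit 12) (Nat.land i (nat_lit 63)))) (nat_lit 0xfff))) (Nat.land h (nat_lit 64)) h)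
 (fun _ _ => (fun h => @Nat.rec (fun _ => Nat → Nat)
 (fun i => Nat.land (Nat.shiftRight ioc2 (Nat.mul (nat_lit 12) (Nat.land i (nat_lit 63)))) (nat_lit 0xfff))
 (fun _ _ => (fun i => Nat.land (Nat.shiftRight ioc3 (Nat.mul (nat_lit 12) (Nat.land i (nat_lit 63)))) (nat_lit 0xfff))) (Nat.land h (nat_lit 64)) h)) (Nat.land h (nat_lit 128)) h)
 (fun _ _ => (fun h => @Nat.rec (fun _ => Nat → Nat)
 (fun h => @Nat.rec (fun _ => Nat → Nat)
 (fun i => Nat.land (Nat.shiftRight ioc4 (Nat.mul (nat_lit 12) (Nat.land i (nat_lit 63)))) (nat_lit 0xfff))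
 (fun _ _ => (fun i => Nat.land (Nat.shiftRight ioc5 (Nat.mul (nat_lit 12) (Nat.land i (nat_lit 63)))) (nat_lit 0xfff))) (Nat.land h (nat_lit 64)) h)
 (fun _ _ => (fun h => @Nat.rec (fun _ => Nat → Nat)
 (fun i => Nat.land (Nat.shiftRight ioc6 (Nat.mul (nat_lit 12) (Nat.land i (nat_lit 63)))) (nat_lit 0xfff))
 (fun _ _ => (fun i => Nat.land (Nat.shiftRight ioc7 (Nat.mul (nat_lit 12) (Nat.land i (nat_lit 63)))) (nat_lit 0xfff))) (Nat.land h (nat_lit 64)) h)) (Nat.land h (nat_lit 128)) h)) (Nat.land h (nat_lit 256)) h)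
 (fun _ _ => (fun h => @Nat.rec (fun _ => Nat → Nat)
 (fun h => @Nat.rec (fun _ => Nat → Nat)
 (fun h => @Nat.rec (fun _ => Nat → Nat)
 (fun i => Nat.land (Nat.shiftRight ioc8 (Nat.mul (nat_lit 12) (Nat.land i (nat_lit 63)))) (nat_lit 0xfff))
 (fun _ _ => (fun i => Nat.land (Nat.shiftRight ioc9 (Nat.mul (nat_lit 12) (Nat.land i (nat_lit 63)))) (nat_lit 0xfff))) (Nat.land h (nat_lit 64)) h)
 (fun _ _ => (fun h => @Nat.rec (fun _ => Nat → Nat)
 (fun i => Nat.land (Nat.shiftRight ioc10 (Nat.mul (nat_lit 12) (Nat.land i (nat_lit 63)))) (nat_lit 0xfff))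
 (fun _ _ => (fun i => Nat.land (Nat.shiftRight ioc11 (Nat.mul (nat_lit 12) (Nat.land i (nat_lit 63)))) (nat_lit 0xfff))) (Nat.land h (nat_lit 64)) h)) (Nat.land h (nat_lit 128)) h)
 (fun _ _ => (fun h => @Nat.rec (fun _ => Nat → Nat)
 (fun h => @Nat.rec (fun _ => Nat → Nat)
 (fun i => Nat.land (Nat.shiftRight ioc12 (Nat.mul (nat_lit 12) (Nat.land i (nat_lit 63)))) (nat_lit 0xfff))
 (fun _ _ => (fun i => Nat.land (Nat.shiftRight ioc13 (Nat.mul (nat_lit 12) (Nat.land i (nat_lit 63)))) (nat_lit 0xfff))) (Nat.land h (nat_lit 64)) h)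
 (fun _ _ => (fun h => @Nat.rec (fun _ => Nat → Nat)
 (fun i => Nat.land (Nat.shiftRight ioc14 (Nat.mul (nat_lit 12) (Nat.land i (nat_lit 63)))) (nat_lit 0xfff))
 (fun _ _ => (fun i => Nat.land (Nat.shiftRight ioc15 (Nat.mul (nat_lit 12) (Nat.land i (nat_lit 63)))) (nat_lit 0xfff))) (Nat.land h (nat_lit 64)) h)) (Nat.land h (nat_lit 128)) h)) (Nat.land h (nat_lit 256)) h)) (Nat.land h (nat_lit 512)) h)
 (fun _ _ => (fun h => @Nat.rec (fun _ => Nat → Nat)
 (fun h => @Nat.rec (fun _ => Nat → Nat)
 (fun h => @Nat.rec (fun _ => Nat → Nat)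
 (fun h => @Nat.rec (fun _ => Nat → Nat)
 (fun i => Nat.land (Nat.shiftRight ioc16 (Nat.mul (nat_lit 12) (Nat.land i (nat_lit 63)))) (nat_lit 0xfff))
 (fun _ _ => (fun i => Nat.land (Nat.shiftRight ioc17 (Nat.mul (nat_lit 12) (Nat.land i (nat_lit 63)))) (nat_lit 0xfff))) (Nat.land h (nat_lit 64)) h)
 (fun _ _ => (fun h => @Nat.rec (fun _ => Nat → Nat)
 (fun i => Nat.land (Nat.shiftRight ioc18 (Nat.mul (nat_lit 12) (Nat.land i (nat_lit 63)))) (nat_lit 0xfff))
 (fun _ _ => (fun i => Nat.land (Nat.shiftRight ioc19 (Nat.mul (nat_lit 12) (Nat.land i (nat_lit 63)))) (nat_lit 0xfff))) (Nat.land h (nat_lit 64)) h)) (Nat.land h (nat_lit 128)) h)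
 (fun _ _ => (fun h => @Nat.rec (fun _ => Nat → Nat)
 (fun h => @Nat.rec (fun _ => Nat → Nat)
 (fun i => Nat.land (Nat.shiftRight ioc20 (Nat.mul (nat_lit 12) (Nat.land i (nat_lit 63)))) (nat_lit 0xfff))
 (fun _ _ => (fun i => Nat.land (Nat.shiftRight ioc21 (Nat.mul (nat_lit 12) (Nat.land i (nat_lit 63)))) (nat_lit 0xfff))) (Nat.land h (nat_lit 64)) h)
 (fun _ _ => (fun h => @Nat.rec (fun _ => Nat → Nat)
 (fun i => Nat.land (Nat.shiftRight ioc22 (Nat.mul (nat_lit 12) (Nat.land i (nat_lit 63)))) (nat_lit 0xfff))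
 (fun _ _ => (fun i => Nat.land (Nat.shiftRight ioc23 (Nat.mul (nat_lit 12) (Nat.land i (nat_lit 63)))) (nat_lit 0xfff))) (Nat.land h (nat_lit 64)) h)) (Nat.land h (nat_lit 128)) h)) (Nat.land h (nat_lit 256)) h)
 (fun _ _ => (fun h => @Nat.rec (fun _ => Nat → Nat)
 (fun h => @Nat.rec (fun _ => Nat → Nat)
 (fun h => @Nat.rec (fun _ => Nat → Nat)
 (fun i => Nat.land (Nat.shiftRight ioc24 (Nat.mul (nat_lit 12) (Nat.land i (nat_lit 63)))) (nat_lit 0xfff))
 (fun _ _ => (fun i => Nat.land (Nat.shiftRight ioc25 (Nat.mul (nat_lit 12) (Nat.land i (nat_lit 63)))) (nat_lit 0xfff))) (Nat.land h (nat_lit 64)) h)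
 (fun _ _ => (fun h => @Nat.rec (fun _ => Nat → Nat)
 (fun i => Nat.land (Nat.shiftRight ioc26 (Nat.mul (nat_lit 12) (Nat.land i (nat_lit 63)))) (nat_lit 0xfff))
 (fun _ _ => (fun i => Nat.land (Nat.shiftRight ioc27 (Nat.mul (nat_lit 12) (Nat.land i (nat_lit 63)))) (nat_lit 0xfff))) (Nat.land h (nat_lit 64)) h)) (Nat.land h (nat_lit 128)) h)
 (fun _ _ => (fun h => @Nat.rec (fun _ => Nat → Nat)
 (fun h => @Nat.rec (fun _ => Nat → Nat)
 (fun i => Nat.land (Nat.shiftRight ioc28 (Nat.mul (nat_lit 12) (Nat.land i (nat_lit 63)))) (nat_lit 0xfff))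
 (fun _ _ => (fun i => Nat.land (Nat.shiftRight ioc29 (Nat.mul (nat_lit 12) (Nat.land i (nat_lit 63)))) (nat_lit 0xfff))) (Nat.land h (nat_lit 64)) h)
 (fun _ _ => (fun h => @Nat.rec (fun _ => Nat → Nat)
 (fun i => Nat.land (Nat.shiftRight ioc30 (Nat.mul (nat_lit 12) (Nat.land i (nat_lit 63)))) (nat_lit 0xfff))
 (fun _ _ => (fun i => Nat.land (Nat.shiftRight ioc31 (Nat.mul (nat_lit 12) (Nat.land i (nat_lit 63)))) (nat_lit 0xfff))) (Nat.land h (nat_lit 64)) h)) (Nat.land h (nat_lit 128)) h)) (Nat.land h (nat_lit 256)) h)) (Nat.land h (nat_lit 512)) h)) (Nat.land h (nat_lit 0x400)) h)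
 (fun _ _ => (fun h => @Nat.rec (fun _ => Nat → Nat)
 (fun h => @Nat.rec (fun _ => Nat → Nat)
 (fun i => Nat.land (Nat.shiftRight ioc32 (Nat.mul (nat_lit 12) (Nat.land i (nat_lit 63)))) (nat_lit 0xfff))
 (fun _ _ => (fun i => Nat.land (Nat.shiftRight ioc33 (Nat.mul (nat_lit 12) (Nat.land i (nat_lit 63)))) (nat_lit 0xfff))) (Nat.land h (nat_lit 64)) h)
 (fun _ _ => (fun i => Nat.land (Nat.shiftRight ioc34 (Nat.mul (nat_lit 12) (Nat.land i (nat_lit 63)))) (nat_lit 0xfff))) (Nat.land h (nat_lit 128)) h)) (Nat.land h (nat_lit 0x800)) h)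

theorem ck1 : allR (fun i => @Bool.rec (fun _ => Bool) (trT [T1] (fun j => @Bool.rec (fun _ => Bool) (ckRefl 0 0 0 1 0 0 2 (vo i) (vo j)) false (Nat.beq (vo j) 0)) i) true (Nat.beq (vo i) 0)) (nat_lit 0) (nat_lit 3510) = true := by decide +kernel
theorem ck2 : allR (fun i => @Bool.rec (fun _ => Bool) (trT [T2] (fun j => @Bool.rec (fun _ => Bool) (ckRefl 0 0 0 1 0 1 2 (vo i) (vo j)) false (Nat.beq (vo j) 0)) i) true (Nat.beq (vo i) 0)) (nat_lit 0) (nat_lit 3510) = true := by decide +kernel
theorem ck3 : allR (fun i => @Bool.rec (fun _ => Bool) (trT [T3] (fun j => @Bool.rec (fun _ => Bool) (ckRefl 0 0 1 0 0 2 0 (vo i) (vo j)) false (Nat.beq (vo j) 0)) i) true (Nat.beq (vo i) 0)) (nat_lit 0) (nat_lit 3510) = true := by decide +kernel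
theorem ck4 : allR (fun i => @Bool.rec (fun _ => Bool) (trT [T4] (fun j => @Bool.rec (fun _ => Bool) (ckRefl 0 1 0 0 2 1 0 (vo i) (vo j)) false (Nat.beq (vo j) 0)) i) true (Nat.beq (vo i) 0)) (nat_lit 0) (nat_lit 3510) = true := by decide +kernel
theorem ck5 : allR (fun i => @Bool.rec (fun _ => Bool) (trT [T5] (fun j => @Bool.rec (fun _ => Bool) (ckRefl 1 0 0 1 1 0 1 (vo i) (vo j)) false (Nat.beq (vo j) 0)) i) true (Nat.beq (vo i) 0)) (nat_lit 0) (nat_lit 3510) = true := by decide +kernel
theorem ck6 : allR (fun i => @Bool.rec (fun _ => Bool) (trT [T6] (fun j => @Bool.rec (fun _ => Bool) (ckRefl 0 2 0 1 2 0 1 (vo i) (vo j)) false (Nat.beq (vo j) 0)) i) true (Nat.beq (vo i) 0)) (nat_lit 0) (nat_lit 3510) = true := by decide +kernel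
theorem ck7 : allR (fun i => @Bool.rec (fun _ => Bool) (trT [T7] (fun j => @Bool.rec (fun _ => Bool) (ckRefl 0 1 0 1 1 1 1 (vo i) (vo j)) false (Nat.beq (vo j) 0)) i) true (Nat.beq (vo i) 0)) (nat_lit 0) (nat_lit 3510) = true := by decide +kernel
theorem ck8 : allR (fun i => @Bool.rec (fun _ => Bool) (trT [T8] (fun j => @Bool.rec (fun _ => Bool) (ckRefl 0 1 0 1 1 0 1 (vo i) (vo j)) false (Nat.beq (vo j) 0)) i) true (Nat.beq (vo i) 0)) (nat_lit 0) (nat_lit 3510) = true := by decide +kernel
theorem ckIo : allR (fun i => @Bool.rec (fun _ => Bool) (ckIo3 io (vo i) i) true (Nat.beq (vo i) 0)) (nat_lit 0) (nat_lit 3510) = true := by decide +kernel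
theorem ckZ1 : allR (fun i => @Bool.rec (fun _ => Bool) true (@Bool.rec (fun _ => Bool) true
   (@Bool.rec (fun _ => Bool) true (@Bool.rec (fun _ => Bool) true (@Bool.rec (fun _ => Bool) true
   (@Bool.rec (fun _ => Bool) true (@Bool.rec (fun _ => Bool) true (Nat.beq i 0) (Nat.beq (T8 i) i)) (Nat.beq (T7 i) i)) (Nat.beq (T6 i) i)) (Nat.beq (T5 i) i)) (Nat.beq (T4 i) i))
   (Nat.beq (T3 i) i)) (Nat.beq (T2 i) i)) (nat_lit 0) (nat_lit 3510) = true := by decide +kernel

end Cfsg.Agent.H8.O7v
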