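import Cfsg.Agent.H8.T.ONOa

set_option Elab.async false
set_option autoImplicit false
set_option linter.all false
set_option maxRecDepth 100000
set_option maxHeartbeats 400000

namespace Cfsg.Agent.H8.ONO
open Cfsg.Agent.H8.ONt (T0 T1 T2 T3 T4 T5 T6 T7)

theorem pk0_0 : allR (ckPerm (nat_lit 122760) X0 X1) (nat_lit 0) (nat_lit 61380) = true := by decide +kernel
theorem pk3_0 : allR (ckPerm (nat_lit 122760) X3 X2) (nat_lit 0) (nat_lit 61380) = true := by decide +kernel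
theorem pk6_0 : allR (ckPerm (nat_lit 122760) X6 X7) (nat_lit 0) (nat_lit 61380) = true := by decide +kernel
theorem pk9_0 : allR (ckPerm (nat_lit 122760) X9 X8) (nat_lit 0) (nat_lit 61380) = true := by decide +kernel
theorem wk0_0 : allR (OT.ckEqW [T1, T2, T3, T4, T6] [X0]) (nat_lit 0) (nat_lit 20460) = true := by decide +kernel
theorem wk1_0 : allR (OT.ckEqW [T2, T3, T2, T3] [X2]) (nat_lit 0) (nat_lit 24552) = true := by decide +kernel
theorem wk4_2 : allR (OT.ckEqW [T0, T1, T0, T3, T2, T3, T4, T5, T4, T3, T2, T1, T0] [X8]) (nat_lit 17536) (nat_lit 8768) = true := by decide +kernel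
theorem wk4_8 : allR (OT.ckEqW [T0, T1, T0, T3, T2, T3, T4, T5, T4, T3, T2, T1, T0] [X8]) (nat_lit 70144) (nat_lit 8768) = true := by decide +kernel
theorem wk5_0 : allR (OT.ckEqW [T4, T5, T4, T3, T2, T1, T0, T3, T2, T1, T4, T3, T2] [X10]) (nat_lit 0) (nat_lit 8768) = true := by decide +kernel
theorem wk5_6 : allR (OT.ckEqW [T4, T5, T4, T3, T2, T1, T0, T3, T2, T1, T4, T3, T2] [X10]) (nat_lit 52608) (nat_lit 8768) = true := by decide +kernel
theorem wk5_12 : allR (OT.ckEqW [T4, T5, T4, T3, T2, T1, T0, T3, T2, T1, T4, T3, T2] [X10]) (nat_lit 105216) (nat_lit 8768) = true := by decide +kernel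
theorem wk2_7 : allR (OT.ckEqW [T1, T2, T3, T2, T1, T0, T3, T2, T3, T4, T3, T2, T1, T0, T3, T2, T3, T4, T3, T2, T1, T3, T2, T3, T2, T1] [X4]) (nat_lit 31822) (nat_lit 4546) = true := by decide +kernel
theorem wk2_13 : allR (OT.ckEqW [T1, T2, T3, T2, T1, T0, T3, T2, T3, T4, T3, T2, T1, T0, T3, T2, T3, T4, T3, T2, T1, T3, T2, T3, T2, T1] [X4]) (nat_lit 59098) (nat_lit 4546) = true := by decide +kernel
theorem wk2_19 : allR (OT.ckEqW [T1, T2, T3, T2, T1, T0, T3, T2, T3, T4, T3, T2, T1, T0, T3, T2, T3, T4, T3, T2, T1, T3, T2, T3, T2, T1] [X4]) (nat_lit 86374) (nat_lit 4546) = true := by decide +kernel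
theorem wk2_25 : allR (OT.ckEqW [T1, T2, T3, T2, T1, T0, T3, T2, T3, T4, T3, T2, T1, T0, T3, T2, T3, T4, T3, T2, T1, T3, T2, T3, T2, T1] [X4]) (nat_lit 113650) (nat_lit 4546) = true := by decide +kernel
theorem wk3_4 : allR (OT.ckEqW [T5, X4, X3, X4, T1, T3, T4, T3, T2, T1, T3, T2, T3, T4, T3, T2, T1, T5, T4, T3, T2, T1, T3, T2, T4, T6, T4, T3, T2, T1, T3, T4, T6, T2, T3, T2, T1, T0] [X6]) (nat_lit 12588) (nat_lit 3147) = true := by decide +kernel
theorem wk3_10 : allR (OT.ckEqW [T5, X4, X3, X4, T1, T3, T4, T3, T2, T1, T3, T2, T3, T4, T3, T2, T1, T5, T4, T3, T2, T1, T3, T2, T4, T6, T4, T3, T2, T1, T3, T4, T6, T2, T3, T2, T1, T0] [X6]) (nat_lit 31470) (nat_lit 3147) = true := by decide +kernel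
theorem wk3_16 : allR (OT.ckEqW [T5, X4, X3, X4, T1, T3, T4, T3, T2, T1, T3, T2, T3, T4, T3, T2, T1, T5, T4, T3, T2, T1, T3, T2, T4, T6, T4, T3, T2, T1, T3, T4, T6, T2, T3, T2, T1, T0] [X6]) (nat_lit 50352) (nat_lit 3147) = true := by decide +kernel
theorem wk3_22 : allR (OT.ckEqW [T5, X4, X3, X4, T1, T3, T4, T3, T2, T1, T3, T2, T3, T4, T3, T2, T1, T5, T4, T3, T2, T1, T3, T2, T4, T6, T4, T3, T2, T1, T3, T4, T6, T2, T3, T2, T1, T0] [X6]) (nat_lit 69234) (nat_lit 3147) = true := by decide +kernel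
theorem wk3_28 : allR (OT.ckEqW [T5, X4, X3, X4, T1, T3, T4, T3, T2, T1, T3, T2, T3, T4, T3, T2, T1, T5, T4, T3, T2, T1, T3, T2, T4, T6, T4, T3, T2, T1, T3, T4, T6, T2, T3, T2, T1, T0] [X6]) (nat_lit 88116) (nat_lit 3147) = true := by decide +kernel
theorem wk3_34 : allR (OT.ckEqW [T5, X4, X3, X4, T1, T3, T4, T3, T2, T1, T3, T2, T3, T4, T3, T2, T1, T5, T4, T3, T2, T1, T3, T2, T4, T6, T4, T3, T2, T1, T3, T4, T6, T2, T3, T2, T1, T0] [X6]) (nat_lit 106998) (nat_lit 3147) = true := by decide +kernel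
theorem wk2_27 : allR (OT.ckEqW [T1, T2, T3, T2, T1, T0, T3, T2, T3, T4, T3, T2, T1, T0, T3, T2, T3, T4, T3, T2, T1, T3, T2, T3, T2, T1] [X4]) (nat_lit 122742) (nat_lit 18) = true := by decide +kernel

end Cfsg.Agent.H8.ONO
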