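import Cfsg.Agent.H8.T.ONtTab
import Cfsg.Agent.H8.CosetPres

set_option autoImplicit false
set_option linter.all false
set_option maxRecDepth 100000

namespace Cfsg.Agent.H8.ONt
theorem pk0_0 : allR (ckPerm (nat_lit 0x1df88) T0 T0) (nat_lit 0) (nat_lit 16384) = true := by decide +kernel
theorem pk0_1 : allR (ckPerm (nat_lit 0x1df88) T0 T0) (nat_lit 16384) (nat_lit 16384) = true := by decide +kernel
theorem pk0_2 : allR (ckPerm (nat_lit 0x1df88) T0 T0) (nat_lit 32768) (nat_lit 16384) = true := by decide +kernel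
theorem pk0_3 : allR (ckPerm (nat_lit 0x1df88) T0 T0) (nat_lit 49152) (nat_lit 16384) = true := by decide +kernel
theorem pk0_4 : allR (ckPerm (nat_lit 0x1df88) T0 T0) (nat_lit 65536) (nat_lit 16384) = true := by decide +kernel
theorem pk0_5 : allR (ckPerm (nat_lit 0x1df88) T0 T0) (nat_lit 81920) (nat_lit 16384) = true := by decide +kernel
theorem pk0_6 : allR (ckPerm (nat_lit 0x1df88) T0 T0) (nat_lit 98304) (nat_lit 16384) = true := by decide +kernel
theorem pk0_7 : allR (ckPerm (nat_lit 0x1df88) T0 T0) (nat_lit 114688) (nat_lit 8072) = true := by decide +kernel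
theorem pk0 : allR (ckPerm (nat_lit 0x1df88) T0 T0) (nat_lit 0) (nat_lit 122760) = true := by
  apply allR_of_forall
  intro i hi
  have hi : i < 122760 := hi
  rcases Nat.lt_or_ge i 16384 with h0 | h0
  · exact allR_spec _ (0 : ℕ) (16384 : ℕ) pk0_0 i (by omega) (by omega)
  rcases Nat.lt_or_ge i 32768 with h1 | h1
  · exact allR_spec _ (16384 : ℕ) (16384 : ℕ) pk0_1 i (by omega) (by omega)
  rcases Nat.lt_or_ge i 49152 with h2 | h2
  · exact allR_spec _ (32768 : ℕ) (16384 : ℕ) pk0_2 i (by omega) (by omega)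
  rcases Nat.lt_or_ge i 65536 with h3 | h3
  · exact allR_spec _ (49152 : ℕ) (16384 : ℕ) pk0_3 i (by omega) (by omega)
  rcases Nat.lt_or_ge i 81920 with h4 | h4
  · exact allR_spec _ (65536 : ℕ) (16384 : ℕ) pk0_4 i (by omega) (by omega)
  rcases Nat.lt_or_ge i 98304 with h5 | h5
  · exact allR_spec _ (81920 : ℕ) (16384 : ℕ) pk0_5 i (by omega) (by omega)
  rcases Nat.lt_or_ge i 114688 with h6 | h6
  · exact allR_spec _ (98304 : ℕ) (16384 : ℕ) pk0_6 i (by omega) (by omega)
  exact allR_spec _ (114688 : ℕ) (8072 : ℕ) pk0_7 i (by omega) (by omega)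
theorem pk1_0 : allR (ckPerm (nat_lit 0x1df88) T1 T1) (nat_lit 0) (nat_lit 16384) = true := by decide +kernel
theorem pk1_1 : allR (ckPerm (nat_lit 0x1df88) T1 T1) (nat_lit 16384) (nat_lit 16384) = true := by decide +kernel
theorem pk1_2 : allR (ckPerm (nat_lit 0x1df88) T1 T1) (nat_lit 32768) (nat_lit 16384) = true := by decide +kernel
theorem pk1_3 : allR (ckPerm (nat_lit 0x1df88) T1 T1) (nat_lit 49152) (nat_lit 16384) = true := by decide +kernel
theorem pk1_4 : allR (ckPerm (nat_lit 0x1df88) T1 T1) (nat_lit 65536) (nat_lit 16384) = true := by decide +kernel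
theorem pk1_5 : allR (ckPerm (nat_lit 0x1df88) T1 T1) (nat_lit 81920) (nat_lit 16384) = true := by decide +kernel
theorem pk1_6 : allR (ckPerm (nat_lit 0x1df88) T1 T1) (nat_lit 98304) (nat_lit 16384) = true := by decide +kernel
theorem pk1_7 : allR (ckPerm (nat_lit 0x1df88) T1 T1) (nat_lit 114688) (nat_lit 8072) = true := by decide +kernel
theorem pk1 : allR (ckPerm (nat_lit 0x1df88) T1 T1) (nat_lit 0) (nat_lit 122760) = true := by
  apply allR_of_forall
  intro i hi
  have hi : i < 122760 := hi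
  rcases Nat.lt_or_ge i 16384 with h0 | h0
  · exact allR_spec _ (0 : ℕ) (16384 : ℕ) pk1_0 i (by omega) (by omega)
  rcases Nat.lt_or_ge i 32768 with h1 | h1
  · exact allR_spec _ (16384 : ℕ) (16384 : ℕ) pk1_1 i (by omega) (by omega)
  rcases Nat.lt_or_ge i 49152 with h2 | h2
  · exact allR_spec _ (32768 : ℕ) (16384 : ℕ) pk1_2 i (by omega) (by omega)
  rcases Nat.lt_or_ge i 65536 with h3 | h3
  · exact allR_spec _ (49152 : ℕ) (16384 : ℕ) pk1_3 i (by omega) (by omega)
  rcases Nat.lt_or_ge i 81920 with h4 | h4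
  · exact allR_spec _ (65536 : ℕ) (16384 : ℕ) pk1_4 i (by omega) (by omega)
  rcases Nat.lt_or_ge i 98304 with h5 | h5
  · exact allR_spec _ (81920 : ℕ) (16384 : ℕ) pk1_5 i (by omega) (by omega)
  rcases Nat.lt_or_ge i 114688 with h6 | h6
  · exact allR_spec _ (98304 : ℕ) (16384 : ℕ) pk1_6 i (by omega) (by omega)
  exact allR_spec _ (114688 : ℕ) (8072 : ℕ) pk1_7 i (by omega) (by omega)
theorem pk2_0 : allR (ckPerm (nat_lit 0x1df88) T2 T2) (nat_lit 0) (nat_lit 16384) = true := by decide +kernel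
theorem pk2_1 : allR (ckPerm (nat_lit 0x1df88) T2 T2) (nat_lit 16384) (nat_lit 16384) = true := by decide +kernel
theorem pk2_2 : allR (ckPerm (nat_lit 0x1df88) T2 T2) (nat_lit 32768) (nat_lit 16384) = true := by decide +kernel
theorem pk2_3 : allR (ckPerm (nat_lit 0x1df88) T2 T2) (nat_lit 49152) (nat_lit 16384) = true := by decide +kernel
theorem pk2_4 : allR (ckPerm (nat_lit 0x1df88) T2 T2) (nat_lit 65536) (nat_lit 16384) = true := by decide +kernel
theorem pk2_5 : allR (ckPerm (nat_lit 0x1df88) T2 T2) (nat_lit 81920) (nat_lit 16384) = true := by decide +kernel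
theorem pk2_6 : allR (ckPerm (nat_lit 0x1df88) T2 T2) (nat_lit 98304) (nat_lit 16384) = true := by decide +kernel
theorem pk2_7 : allR (ckPerm (nat_lit 0x1df88) T2 T2) (nat_lit 114688) (nat_lit 8072) = true := by decide +kernel
theorem pk2 : allR (ckPerm (nat_lit 0x1df88) T2 T2) (nat_lit 0) (nat_lit 122760) = true := by
  apply allR_of_forall
  intro i hi
  have hi : i < 122760 := hi
  rcases Nat.lt_or_ge i 16384 with h0 | h0
  · exact allR_spec _ (0 : ℕ) (16384 : ℕ) pk2_0 i (by omega) (by omega)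
  rcases Nat.lt_or_ge i 32768 with h1 | h1
  · exact allR_spec _ (16384 : ℕ) (16384 : ℕ) pk2_1 i (by omega) (by omega)
  rcases Nat.lt_or_ge i 49152 with h2 | h2
  · exact allR_spec _ (32768 : ℕ) (16384 : ℕ) pk2_2 i (by omega) (by omega)
  rcases Nat.lt_or_ge i 65536 with h3 | h3
  · exact allR_spec _ (49152 : ℕ) (16384 : ℕ) pk2_3 i (by omega) (by omega)
  rcases Nat.lt_or_ge i 81920 with h4 | h4
  · exact allR_spec _ (65536 : ℕ) (16384 : ℕ) pk2_4 i (by omega) (by omega)
  rcases Nat.lt_or_ge i 98304 with h5 | h5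
  · exact allR_spec _ (81920 : ℕ) (16384 : ℕ) pk2_5 i (by omega) (by omega)
  rcases Nat.lt_or_ge i 114688 with h6 | h6
  · exact allR_spec _ (98304 : ℕ) (16384 : ℕ) pk2_6 i (by omega) (by omega)
  exact allR_spec _ (114688 : ℕ) (8072 : ℕ) pk2_7 i (by omega) (by omega)
theorem pk3_0 : allR (ckPerm (nat_lit 0x1df88) T3 T3) (nat_lit 0) (nat_lit 16384) = true := by decide +kernel
theorem pk3_1 : allR (ckPerm (nat_lit 0x1df88) T3 T3) (nat_lit 16384) (nat_lit 16384) = true := by decide +kernel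
theorem pk3_2 : allR (ckPerm (nat_lit 0x1df88) T3 T3) (nat_lit 32768) (nat_lit 16384) = true := by decide +kernel
theorem pk3_3 : allR (ckPerm (nat_lit 0x1df88) T3 T3) (nat_lit 49152) (nat_lit 16384) = true := by decide +kernel
theorem pk3_4 : allR (ckPerm (nat_lit 0x1df88) T3 T3) (nat_lit 65536) (nat_lit 16384) = true := by decide +kernel
theorem pk3_5 : allR (ckPerm (nat_lit 0x1df88) T3 T3) (nat_lit 81920) (nat_lit 16384) = true := by decide +kernel
theorem pk3_6 : allR (ckPerm (nat_lit 0x1df88) T3 T3) (nat_lit 98304) (nat_lit 16384) = true := by decide +kernel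
theorem pk3_7 : allR (ckPerm (nat_lit 0x1df88) T3 T3) (nat_lit 114688) (nat_lit 8072) = true := by decide +kernel
theorem pk3 : allR (ckPerm (nat_lit 0x1df88) T3 T3) (nat_lit 0) (nat_lit 122760) = true := by
  apply allR_of_forall
  intro i hi
  have hi : i < 122760 := hi
  rcases Nat.lt_or_ge i 16384 with h0 | h0
  · exact allR_spec _ (0 : ℕ) (16384 : ℕ) pk3_0 i (by omega) (by omega)
  rcases Nat.lt_or_ge i 32768 with h1 | h1
  · exact allR_spec _ (16384 : ℕ) (16384 : ℕ) pk3_1 i (by omega) (by omega)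
  rcases Nat.lt_or_ge i 49152 with h2 | h2
  · exact allR_spec _ (32768 : ℕ) (16384 : ℕ) pk3_2 i (by omega) (by omega)
  rcases Nat.lt_or_ge i 65536 with h3 | h3
  · exact allR_spec _ (49152 : ℕ) (16384 : ℕ) pk3_3 i (by omega) (by omega)
  rcases Nat.lt_or_ge i 81920 with h4 | h4
  · exact allR_spec _ (65536 : ℕ) (16384 : ℕ) pk3_4 i (by omega) (by omega)
  rcases Nat.lt_or_ge i 98304 with h5 | h5
  · exact allR_spec _ (81920 : ℕ) (16384 : ℕ) pk3_5 i (by omega) (by omega)
  rcases Nat.lt_or_ge i 114688 with h6 | h6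
  · exact allR_spec _ (98304 : ℕ) (16384 : ℕ) pk3_6 i (by omega) (by omega)
  exact allR_spec _ (114688 : ℕ) (8072 : ℕ) pk3_7 i (by omega) (by omega)
theorem pk4_0 : allR (ckPerm (nat_lit 0x1df88) T4 T4) (nat_lit 0) (nat_lit 16384) = true := by decide +kernel
theorem pk4_1 : allR (ckPerm (nat_lit 0x1df88) T4 T4) (nat_lit 16384) (nat_lit 16384) = true := by decide +kernel
theorem pk4_2 : allR (ckPerm (nat_lit 0x1df88) T4 T4) (nat_lit 32768) (nat_lit 16384) = true := by decide +kernel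
theorem pk4_3 : allR (ckPerm (nat_lit 0x1df88) T4 T4) (nat_lit 49152) (nat_lit 16384) = true := by decide +kernel
theorem pk4_4 : allR (ckPerm (nat_lit 0x1df88) T4 T4) (nat_lit 65536) (nat_lit 16384) = true := by decide +kernel
theorem pk4_5 : allR (ckPerm (nat_lit 0x1df88) T4 T4) (nat_lit 81920) (nat_lit 16384) = true := by decide +kernel
theorem pk4_6 : allR (ckPerm (nat_lit 0x1df88) T4 T4) (nat_lit 98304) (nat_lit 16384) = true := by decide +kernel
theorem pk4_7 : allR (ckPerm (nat_lit 0x1df88) T4 T4) (nat_lit 114688) (nat_lit 8072) = true := by decide +kernel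
theorem pk4 : allR (ckPerm (nat_lit 0x1df88) T4 T4) (nat_lit 0) (nat_lit 122760) = true := by
  apply allR_of_forall
  intro i hi
  have hi : i < 122760 := hi
  rcases Nat.lt_or_ge i 16384 with h0 | h0
  · exact allR_spec _ (0 : ℕ) (16384 : ℕ) pk4_0 i (by omega) (by omega)
  rcases Nat.lt_or_ge i 32768 with h1 | h1
  · exact allR_spec _ (16384 : ℕ) (16384 : ℕ) pk4_1 i (by omega) (by omega)
  rcases Nat.lt_or_ge i 49152 with h2 | h2
  · exact allR_spec _ (32768 : ℕ) (16384 : ℕ) pk4_2 i (by omega) (by omega)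
  rcases Nat.lt_or_ge i 65536 with h3 | h3
  · exact allR_spec _ (49152 : ℕ) (16384 : ℕ) pk4_3 i (by omega) (by omega)
  rcases Nat.lt_or_ge i 81920 with h4 | h4
  · exact allR_spec _ (65536 : ℕ) (16384 : ℕ) pk4_4 i (by omega) (by omega)
  rcases Nat.lt_or_ge i 98304 with h5 | h5
  · exact allR_spec _ (81920 : ℕ) (16384 : ℕ) pk4_5 i (by omega) (by omega)
  rcases Nat.lt_or_ge i 114688 with h6 | h6
  · exact allR_spec _ (98304 : ℕ) (16384 : ℕ) pk4_6 i (by omega) (by omega)
  exact allR_spec _ (114688 : ℕ) (8072 : ℕ) pk4_7 i (by omega) (by omega)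
theorem pk5_0 : allR (ckPerm (nat_lit 0x1df88) T5 T5) (nat_lit 0) (nat_lit 16384) = true := by decide +kernel
theorem pk5_1 : allR (ckPerm (nat_lit 0x1df88) T5 T5) (nat_lit 16384) (nat_lit 16384) = true := by decide +kernel
theorem pk5_2 : allR (ckPerm (nat_lit 0x1df88) T5 T5) (nat_lit 32768) (nat_lit 16384) = true := by decide +kernel
theorem pk5_3 : allR (ckPerm (nat_lit 0x1df88) T5 T5) (nat_lit 49152) (nat_lit 16384) = true := by decide +kernel
theorem pk5_4 : allR (ckPerm (nat_lit 0x1df88) T5 T5) (nat_lit 65536) (nat_lit 16384) = true := by decide +kernel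
theorem pk5_5 : allR (ckPerm (nat_lit 0x1df88) T5 T5) (nat_lit 81920) (nat_lit 16384) = true := by decide +kernel
theorem pk5_6 : allR (ckPerm (nat_lit 0x1df88) T5 T5) (nat_lit 98304) (nat_lit 16384) = true := by decide +kernel
theorem pk5_7 : allR (ckPerm (nat_lit 0x1df88) T5 T5) (nat_lit 114688) (nat_lit 8072) = true := by decide +kernel
theorem pk5 : allR (ckPerm (nat_lit 0x1df88) T5 T5) (nat_lit 0) (nat_lit 122760) = true := by
  apply allR_of_forall
  intro i hi
  have hi : i < 122760 := hi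
  rcases Nat.lt_or_ge i 16384 with h0 | h0
  · exact allR_spec _ (0 : ℕ) (16384 : ℕ) pk5_0 i (by omega) (by omega)
  rcases Nat.lt_or_ge i 32768 with h1 | h1
  · exact allR_spec _ (16384 : ℕ) (16384 : ℕ) pk5_1 i (by omega) (by omega)
  rcases Nat.lt_or_ge i 49152 with h2 | h2
  · exact allR_spec _ (32768 : ℕ) (16384 : ℕ) pk5_2 i (by omega) (by omega)
  rcases Nat.lt_or_ge i 65536 with h3 | h3
  · exact allR_spec _ (49152 : ℕ) (16384 : ℕ) pk5_3 i (by omega) (by omega)
  rcases Nat.lt_or_ge i 81920 with h4 | h4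
  · exact allR_spec _ (65536 : ℕ) (16384 : ℕ) pk5_4 i (by omega) (by omega)
  rcases Nat.lt_or_ge i 98304 with h5 | h5
  · exact allR_spec _ (81920 : ℕ) (16384 : ℕ) pk5_5 i (by omega) (by omega)
  rcases Nat.lt_or_ge i 114688 with h6 | h6
  · exact allR_spec _ (98304 : ℕ) (16384 : ℕ) pk5_6 i (by omega) (by omega)
  exact allR_spec _ (114688 : ℕ) (8072 : ℕ) pk5_7 i (by omega) (by omega)
theorem pk6_0 : allR (ckPerm (nat_lit 0x1df88) T6 T7) (nat_lit 0) (nat_lit 16384) = true := by decide +kernel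
theorem pk6_1 : allR (ckPerm (nat_lit 0x1df88) T6 T7) (nat_lit 16384) (nat_lit 16384) = true := by decide +kernel
theorem pk6_2 : allR (ckPerm (nat_lit 0x1df88) T6 T7) (nat_lit 32768) (nat_lit 16384) = true := by decide +kernel
theorem pk6_3 : allR (ckPerm (nat_lit 0x1df88) T6 T7) (nat_lit 49152) (nat_lit 16384) = true := by decide +kernel
theorem pk6_4 : allR (ckPerm (nat_lit 0x1df88) T6 T7) (nat_lit 65536) (nat_lit 16384) = true := by decide +kernel
theorem pk6_5 : allR (ckPerm (nat_lit 0x1df88) T6 T7) (nat_lit 81920) (nat_lit 16384) = true := by decide +kernel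
theorem pk6_6 : allR (ckPerm (nat_lit 0x1df88) T6 T7) (nat_lit 98304) (nat_lit 16384) = true := by decide +kernel
theorem pk6_7 : allR (ckPerm (nat_lit 0x1df88) T6 T7) (nat_lit 114688) (nat_lit 8072) = true := by decide +kernel
theorem pk6 : allR (ckPerm (nat_lit 0x1df88) T6 T7) (nat_lit 0) (nat_lit 122760) = true := by
  apply allR_of_forall
  intro i hi
  have hi : i < 122760 := hi
  rcases Nat.lt_or_ge i 16384 with h0 | h0
  · exact allR_spec _ (0 : ℕ) (16384 : ℕ) pk6_0 i (by omega) (by omega)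
  rcases Nat.lt_or_ge i 32768 with h1 | h1
  · exact allR_spec _ (16384 : ℕ) (16384 : ℕ) pk6_1 i (by omega) (by omega)
  rcases Nat.lt_or_ge i 49152 with h2 | h2
  · exact allR_spec _ (32768 : ℕ) (16384 : ℕ) pk6_2 i (by omega) (by omega)
  rcases Nat.lt_or_ge i 65536 with h3 | h3
  · exact allR_spec _ (49152 : ℕ) (16384 : ℕ) pk6_3 i (by omega) (by omega)
  rcases Nat.lt_or_ge i 81920 with h4 | h4
  · exact allR_spec _ (65536 : ℕ) (16384 : ℕ) pk6_4 i (by omega) (by omega)
  rcases Nat.lt_or_ge i 98304 with h5 | h5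
  · exact allR_spec _ (81920 : ℕ) (16384 : ℕ) pk6_5 i (by omega) (by omega)
  rcases Nat.lt_or_ge i 114688 with h6 | h6
  · exact allR_spec _ (98304 : ℕ) (16384 : ℕ) pk6_6 i (by omega) (by omega)
  exact allR_spec _ (114688 : ℕ) (8072 : ℕ) pk6_7 i (by omega) (by omega)
theorem pk7_0 : allR (ckPerm (nat_lit 0x1df88) T7 T6) (nat_lit 0) (nat_lit 16384) = true := by decide +kernel
theorem pk7_1 : allR (ckPerm (nat_lit 0x1df88) T7 T6) (nat_lit 16384) (nat_lit 16384) = true := by decide +kernel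
theorem pk7_2 : allR (ckPerm (nat_lit 0x1df88) T7 T6) (nat_lit 32768) (nat_lit 16384) = true := by decide +kernel
theorem pk7_3 : allR (ckPerm (nat_lit 0x1df88) T7 T6) (nat_lit 49152) (nat_lit 16384) = true := by decide +kernel
theorem pk7_4 : allR (ckPerm (nat_lit 0x1df88) T7 T6) (nat_lit 65536) (nat_lit 16384) = true := by decide +kernel
theorem pk7_5 : allR (ckPerm (nat_lit 0x1df88) T7 T6) (nat_lit 81920) (nat_lit 16384) = true := by decide +kernel
theorem pk7_6 : allR (ckPerm (nat_lit 0x1df88) T7 T6) (nat_lit 98304) (nat_lit 16384) = true := by decide +kernel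
theorem pk7_7 : allR (ckPerm (nat_lit 0x1df88) T7 T6) (nat_lit 114688) (nat_lit 8072) = true := by decide +kernel
theorem pk7 : allR (ckPerm (nat_lit 0x1df88) T7 T6) (nat_lit 0) (nat_lit 122760) = true := by
  apply allR_of_forall
  intro i hi
  have hi : i < 122760 := hi
  rcases Nat.lt_or_ge i 16384 with h0 | h0
  · exact allR_spec _ (0 : ℕ) (16384 : ℕ) pk7_0 i (by omega) (by omega)
  rcases Nat.lt_or_ge i 32768 with h1 | h1
  · exact allR_spec _ (16384 : ℕ) (16384 : ℕ) pk7_1 i (by omega) (by omega)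
  rcases Nat.lt_or_ge i 49152 with h2 | h2
  · exact allR_spec _ (32768 : ℕ) (16384 : ℕ) pk7_2 i (by omega) (by omega)
  rcases Nat.lt_or_ge i 65536 with h3 | h3
  · exact allR_spec _ (49152 : ℕ) (16384 : ℕ) pk7_3 i (by omega) (by omega)
  rcases Nat.lt_or_ge i 81920 with h4 | h4
  · exact allR_spec _ (65536 : ℕ) (16384 : ℕ) pk7_4 i (by omega) (by omega)
  rcases Nat.lt_or_ge i 98304 with h5 | h5
  · exact allR_spec _ (81920 : ℕ) (16384 : ℕ) pk7_5 i (by omega) (by omega)
  rcases Nat.lt_or_ge i 114688 with h6 | h6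
  · exact allR_spec _ (98304 : ℕ) (16384 : ℕ) pk7_6 i (by omega) (by omega)
  exact allR_spec _ (114688 : ℕ) (8072 : ℕ) pk7_7 i (by omega) (by omega)
theorem dk_0 : allR (ckD 8 T D) (nat_lit 0) (nat_lit 16384) = true := by decide +kernel
theorem dk_1 : allR (ckD 8 T D) (nat_lit 16384) (nat_lit 16384) = true := by decide +kernel
theorem dk_2 : allR (ckD 8 T D) (nat_lit 32768) (nat_lit 16384) = true := by decide +kernel
theorem dk_3 : allR (ckD 8 T D) (nat_lit 49152) (nat_lit 16384) = true := by decide +kernel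
theorem dk_4 : allR (ckD 8 T D) (nat_lit 65536) (nat_lit 16384) = true := by decide +kernel
theorem dk_5 : allR (ckD 8 T D) (nat_lit 81920) (nat_lit 16384) = true := by decide +kernel
theorem dk_6 : allR (ckD 8 T D) (nat_lit 98304) (nat_lit 16384) = true := by decide +kernel
theorem dk_7 : allR (ckD 8 T D) (nat_lit 114688) (nat_lit 8072) = true := by decide +kernel
theorem dk : allR (ckD 8 T D) (nat_lit 0) (nat_lit 122760) = true := by
  apply allR_of_forall
  intro i hi
  have hi : i < 122760 := hi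
  rcases Nat.lt_or_ge i 16384 with h0 | h0
  · exact allR_spec _ (0 : ℕ) (16384 : ℕ) dk_0 i (by omega) (by omega)
  rcases Nat.lt_or_ge i 32768 with h1 | h1
  · exact allR_spec _ (16384 : ℕ) (16384 : ℕ) dk_1 i (by omega) (by omega)
  rcases Nat.lt_or_ge i 49152 with h2 | h2
  · exact allR_spec _ (32768 : ℕ) (16384 : ℕ) dk_2 i (by omega) (by omega)
  rcases Nat.lt_or_ge i 65536 with h3 | h3
  · exact allR_spec _ (49152 : ℕ) (16384 : ℕ) dk_3 i (by omega) (by omega)
  rcases Nat.lt_or_ge i 81920 with h4 | h4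
  · exact allR_spec _ (65536 : ℕ) (16384 : ℕ) dk_4 i (by omega) (by omega)
  rcases Nat.lt_or_ge i 98304 with h5 | h5
  · exact allR_spec _ (81920 : ℕ) (16384 : ℕ) dk_5 i (by omega) (by omega)
  rcases Nat.lt_or_ge i 114688 with h6 | h6
  · exact allR_spec _ (98304 : ℕ) (16384 : ℕ) dk_6 i (by omega) (by omega)
  exact allR_spec _ (114688 : ℕ) (8072 : ℕ) dk_7 i (by omega) (by omega)

theorem tok : TableOK 122760 8 T inv where
  lt := by
    intro l hl i hi
    interval_cases l
    · exact (ckPerm_sound _ _ _ _ (allR_zero _ _ pk0 i hi)).1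
    · exact (ckPerm_sound _ _ _ _ (allR_zero _ _ pk1 i hi)).1
    · exact (ckPerm_sound _ _ _ _ (allR_zero _ _ pk2 i hi)).1
    · exact (ckPerm_sound _ _ _ _ (allR_zero _ _ pk3 i hi)).1
    · exact (ckPerm_sound _ _ _ _ (allR_zero _ _ pk4 i hi)).1
    · exact (ckPerm_sound _ _ _ _ (allR_zero _ _ pk5 i hi)).1
    · exact (ckPerm_sound _ _ _ _ (allR_zero _ _ pk6 i hi)).1
    · exact (ckPerm_sound _ _ _ _ (allR_zero _ _ pk7 i hi)).1
  inv_lt := by
    intro l hl
    interval_cases l <;> decide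
  inv_inv := by
    intro l hl
    interval_cases l <;> decide
  inv_apply := by
    intro l hl i hi
    interval_cases l
    · exact (ckPerm_sound _ _ _ _ (allR_zero _ _ pk0 i hi)).2
    · exact (ckPerm_sound _ _ _ _ (allR_zero _ _ pk1 i hi)).2
    · exact (ckPerm_sound _ _ _ _ (allR_zero _ _ pk2 i hi)).2
    · exact (ckPerm_sound _ _ _ _ (allR_zero _ _ pk3 i hi)).2
    · exact (ckPerm_sound _ _ _ _ (allR_zero _ _ pk4 i hi)).2
    · exact (ckPerm_sound _ _ _ _ (allR_zero _ _ pk5 i hi)).2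
    · exact (ckPerm_sound _ _ _ _ (allR_zero _ _ pk6 i hi)).2
    · exact (ckPerm_sound _ _ _ _ (allR_zero _ _ pk7 i hi)).2

theorem dOK : ∀ t, 0 < t → t < 122760 → D t / 32 < t ∧ D t % 32 < 8 ∧ T (D t % 32) (D t / 32) = t :=
  fun t h0 h1 => ckD_sound (L := 8) (T := T) D t h0 (allR_zero _ _ dk t h1)


end Cfsg.Agent.H8.ONt
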