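import Cfsg.Agent.H8.CosetPres

set_option autoImplicit false
set_option linter.all false
set_option maxRecDepth 100000

namespace Cfsg.Agent.H8.Q222t
noncomputable def E0c0 : Nat := nat_lit 0x28008358c00ab60055a002afa0355811aa00814e400aa00152c00a8c00549046a10003bc00ab281cec00279220534001d4800f0002a20013b5119d280ce8406739e3398f19ca78ce4386719c3388d19c2881534006d84053d101b0000d640a6f801528f29aa894dd14a69801370f01b2000d21406b8013504399e000ce1006880134000a9000545002a1827501002820913e04c9f8254f400a740053b0029c8014e012a6e0a1360029aa262f90397a79cbc002989c72e8142600052f3ce59a232d86016078cb43c05b8002b8e196231cb534e560012c800156680af002569e32a8e195268ca83465398329800148004a5000501c42784213a004a30004e1c0288401420049f0004c0602582212a0049b0004a066268201320049738c47a06248d0116680893804980021cf311a7988c34c4896621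0d312011882002471c6218e310a5808a0003f840220d310269880002419861f8b30fa7907c3883d9c41e8d20f2690783083b8601cc000e20006f0ca3b1881b4008ea714700023a1a51b8c00e46a06c34a359881a8c40d2614682d033968198a40ca6106330032000184008c40005f00230020140000980004e00021820128100845903b0461d0000e400070000350401b8200cc000640945e34a27801170c289a0045d30a25825168b28925144830a23965118b288a514440022d827164c388259c402ce1f9470f8a387a49c3c2c02c02015c008ac00455046298000d0008a80043604c29001144b206251030248179440b89205a4902c208158440a00004e1002a002149430989184a00021206118c607c008480001e180110010809183a40c1c2060d8e30687183230c1818e0a8000506002e0041614a088000405002600412108068000304001e0040e0d00506002c6401211c06000020400205380a00407108018650082300208800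
noncomputable def E0c1 : Nat := nat_lit 0x481002277f912bfab8dfc506fdac37e951bf2a0df8546fba637da253eab01f358efa3c37c953be0a81f1000f70017be263db12dec854f5c2f7a9f4bd2f0de885cf3ae379951bcaa8de4546f1aa378961bc2a0de0586efa8377951bba98ddc546edaa376931bb2a8dd84c6ebaa375921baaa95d2540e82a07500039ca95d354ae600174400396a81cf002e68837200038e201ca002e486071432b8ca15c3500e208070442b84195be000de86070000b7eb15b908adba606d560378001b3080ddaa56d932b74995b1002dc2856c930368995b058ed69806a96035e001a8000d39876b8b3b48005ac002d5a8769932b4a581a948ed1a4568913b42895a040ecf80067092b360059e240cea4566912b328959840acba05658f2b2aa9192000c8aa065000b260018d088c592462800b2000189080c792063800b18a1186000c2a8062000b0e00182448c08016111030689180408bfa245f9022fa9917a000bca605f000af6981774c8bc0e45d4702ec00173002ba2645c0202dc98172500b60445c5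322d4a116f4c8b42605b4002ce9816b002b48004993225ca0d231007f28349532a440012d0007d8004b00023e0011b0007e8003f0001e2001210008e2003e88225480cf744a7012346113226080f908a6f0233e1131dc081140007b000368001e8000cd000860003d400198000eb000658203cd03192080ca040638203201018c111340006200031400186000c2040608203000017e1013c000990014cc00176080b90005c26059400ac00055e4c895900555222528912840893801599402c49211e500b226058400ab090117002aea404900022a00557002ae2434682421e481524909020843400a3a0a14c440a8a0444901a22001090808c8004210022c005473c6859c841800a200050e000829c042800a0e791043c8819c4408e1a02000ff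
noncomputable def E0c2 : Nat := nat_lit 0x1136d864d6bc73b5982daafa6d45c969800b42095a2006d27c767c2ab3961d9ab0ecc54765800b2400d94112c600162840b2000d8e1a2c30c162328b0994582c22c05d15fb28af99457ac16bc6115dae8ae80056cb22b82115a001ae400566402b70035a944ac00055e502b200358847a6c0050c20e8540742000a04005060027a0013d8209fc104f0082790013e8009dc004ec082750413a0009cda2d3b2b29c08157307a6973d32b9e9858f4bb45a5972d2ab169420b48800a40805260069260f47b07a3973d1ab1e8c54f458e7a200050e3828a00344801ab440558802ab00354b05a0800d54c168004b532a59f800d46a167c00353801aa01254809aa500351001a84135400a29f0034f2e49c9924e2c12708a337c6b9b9924dab126c58935ac49a9724d2b926854933ac4999524caa126418930800980604c6006628db2fae6975704bd2265c5c12b32396a184b2b82526072bae696d5349ea8e5460729ae496160496b0e505412a8009242348ea0e4c58d28aa691400c9c28244081268009095049429a4810d200019180047e2024300320ae68f96247a6923a0c11c1a08f00046e19a3b0031cae68d94246aa1a344cd19a648c922462c0e3064717aa08a961c5ac02285c1132a68b950446c1a2c54d10ae68ac2343eb1a2454914a808715044e0021a08112aa68794343aa1a2228d0b00188133432a1a1850d0b94086d2342a91a1448d09a268491342281a1058707aa383800414a0e0c28b040018340040e5020b00304ae381943c06b0e0450102aa78055040491dff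
noncomputable def E0 : Nat → Nat := (fun h => @Nat.rec (fun _ => Nat → Nat)
 (fun h => @Nat.rec (fun _ => Nat → Nat)
 (fun i => Nat.land (Nat.shiftRight E0c0 (Nat.mul (nat_lit 21) (Nat.land i (nat_lit 255)))) (nat_lit 0x1fffff))
 (fun _ _ => (fun i => Nat.land (Nat.shiftRight E0c1 (Nat.mul (nat_lit 21) (Nat.land i (nat_lit 255)))) (nat_lit 0x1fffff))) (Nat.land h (nat_lit 256)) h)
 (fun _ _ => (fun i => Nat.land (Nat.shiftRight E0c2 (Nat.mul (nat_lit 21) (Nat.land i (nat_lit 255)))) (nat_lit 0x1fffff))) (Nat.land h (nat_lit 512)) h)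
noncomputable def E1c0 : Nat := nat_lit 0x34e7f8003c9119ba914f00866f80036400146000ed0005b9c528843942318b50004f8013f8301de900fc0cc78a063b0009f0800ee000750013ac001b8080d714a6880035000136000d00ca4d0872640012e880db0807d800361101fa004e9446701e3354009f4004de04674203358f01b4004e63c6699c3348501ce004e43cc679c633800166000a00005f0202c0e213c2109d08a492032f4001380008d0003e0002f0100f60807a0003c80132d0018c004c20005d0012ec100f0000770027ba052c8601e8000af00266a002d84315a098ca0025a1e62b840162718ac34c55845244000c81906208c528001802014e618a40027c9c03d8401ea004cc002799c032440190004c50027286038c401c471098002709a4258d212a6109440a4984031c2015479490380461e5238009887148f388459c5228d010c71488340429a3224d390e5948134a41980200b01086148228a3f1401fcb28fa004c3046608273000097e09cb90025c1e31d8e18ea71c740c0381a71c8c38dc19c7334e361801c4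000d46806f346358011b4c38d260c682ce33967198a38ca004a9348318602a0c20c2004a62c82f9c3178d18ba68c5c34c2d983168c30b2610580002a164158300a40045700028865154008a610c4f080280001340089c5804b2c6261231249009450c4830623963118b188a50c440002094610000886500422cc1f9460f8a307a4983c000188000d8800602142a000148010e800068004350401400009c0087641039248179440b89205a4902c208158800e00086e094330021910509000044400260ca10001094928421802320a0f8e50787182e000130000b0430485381e0000e1c00e80106c8182a398140020e0400687182230c101400c8010606201a2900c1d0058000240081432008150038000140080c00003002020630082280208800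
noncomputable def E1c1 : Nat := nat_lit 0xff0017fd11bfa081bc000dd000650003de9919350ebe0005ed803e6fa5f460cfaac67c1d4be2b01f2002fca867b8003a4081d0548c3000614002ee08175000b98206bc0035c00190000e8a8063c1039e5018e54ab90437180039a0018c000b7800710002e2a156b106e12865b4002d2fb5d4858e98017b400bc608dec046f0a8373800bbaa8dcc506e58007003427810dbf0009984077931b8a005da506e188075d21b82005ca080e40006f400b7c08dfc586dd8017ed51b72a8db81c0db0e36dd21b6a98db4186d90c06cc00360005b104cf30017956335aa99ac506d5a866a933352319a64ccd28c06a13034e001a3002d22436891334288da040ccfa6367921b3a90d9a000cca4067000b3688d98406cba03658f1b2a005fa4c0fc28464912322005e4508f11447814231a005dc4c8c5a6462922312fad888d4c3aa07ac00bd491184488c1a44600002fe90182002c0a245f9022faa01f7002fb2645e9222f2f1d78002f4baa5d8133d0fa574002f3aa077c00bb299170002eda445b9403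ac9116c500ec2645a800baa99168448b3ac8585322ca0015c000ac80055d602cc91160480a9a44579242a2005640c0a786053400ac64a14c002b1000529122aa00148486af80051d202ba001450c6ad80051032ab4481580c0a08015583028000554002a90e74f800aa00054e490a18004e832a96199494509f8e05191427a181c94109d80150904272821383d09b9e84d8e426a00132002e38014d0f426272130350978004ad12252491280029700049d1025a4812c002952a049133a40a9d264c68ea8047880232981250008b28648930246901174808aa2744083a4241d0e48e8e00147d23a3611d0f40e86a04448002148811a0808a100461002260010814e8380144503a120050c140859e7418e3a0a791043c8819c440833a0018101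
noncomputable def E1c2 : Nat := nat_lit 0xc96d864b6bb03b5981daab92d45c969c12b48005a0006d104163000b14b3d6411aca00158840b3153592f46c886163827b3c00d9cd1ec400161001b0da1d82d9ac060d5fb23af9a257a51eb95495d800adca057841eb50035d2a3ad880570a1eb44cf59960b3400d96a92b050957b26ab98255a002a800153b68aa954548006ac00355ac8a998454aa82a955151aa8a8954542a22a05114fa68a7991d3ad8e9c0014d001a6d93532c8e9860d4bb23a580052640e920034a900a5141d2298e9060747b24a394251a0028a1cd44801a307051699a8848d438009c832c7678e3c0011cb64a09a0500d0e812073f1009fc004f80067d0011d0008e14246eb96360011a0008d4104660823200118801a19824e2b927068937b249b9824dab126c60735b049a971cd2b92685c933ac4998004c631262003328c0991224c28926064b2ec06979904be002567df2db0095572ca503a585c72880197182cb42964e5c126ae0965704ae0024a54b278a095172ca63164658b2580194142c920024354b238c093152c8a1964100324265908304880023f003203838f9d2c7a782840c1428019ec00d060067a5013cae09e000cec0067704b3a8279d000ce6b962e60b162e08c000452c022f5cb15a858a800c5ab162858b13ae089152c4ab8e2654b11a858895043ca16205010eaa588542c3e116184cb0da8585d32c321021c5010d00084d22c2a916140030b22584912c22816103870680082ce041e10e09003072a382820418a0e084c703ac08156340ca9a024c701aa08112240299a00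
noncomputable def E1 : Nat → Nat := (fun h => @Nat.rec (fun _ => Nat → Nat)
 (fun h => @Nat.rec (fun _ => Nat → Nat)
 (fun i => Nat.land (Nat.shiftRight E1c0 (Nat.mul (nat_lit 21) (Nat.land i (nat_lit 255)))) (nat_lit 0x1fffff))
 (fun _ _ => (fun i => Nat.land (Nat.shiftRight E1c1 (Nat.mul (nat_lit 21) (Nat.land i (nat_lit 255)))) (nat_lit 0x1fffff))) (Nat.land h (nat_lit 256)) h)
 (fun _ _ => (fun i => Nat.land (Nat.shiftRight E1c2 (Nat.mul (nat_lit 21) (Nat.land i (nat_lit 255)))) (nat_lit 0x1fffff))) (Nat.land h (nat_lit 512)) h)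
noncomputable def E2c0 : Nat := nat_lit 0x34c7fbc33f800b0409d8b002c88c0605119f20058900296a033d9019ea3812a3c6798015d800b0a910f0188ba8015b1121da890ec480b52043aa149d23818004ebf0015fd019ca0057d3c6719e3388e19c2005794086fa03378001ae095743c86da03368541a82a0d30026e8015cc001a4280d91406c001355021a2790d03c8679c43390199a78cc7480b41e332800188000c33c06600159cd1982004c9002640204d0d018a70cc03465fa042f8f217a000ba002990012f0d197260cb83c8590604a40015e00527000571e02dc10208610ac0025a8012cce215a600b0348559e32a8e1952000a6002810012a0d214a610a43ca49800240000ec0008f08a2f020224230e60005004047000220000ea000870402e847208100e20004c3c05180023000114004a20025002526cd390c0049230e420012441393c0049a0024c1a0234d310a6008b34a41840258d4102610803063f8001f4008fc00070310279861ac0008e080680002280128400932794740804e9a51c81312a0047c386379861b8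c18da000693003d04619c008d80987808035166198a30ca0005c2d02704515c00074080540001a84027c1292e0046434a2d985168c28b2000550803104514c008b0094600802b165148a28a20049c3003d96018cc409a004942c82596312800090004490023c968118008ee5204430621963108b007e0003e2ce20801100a207a4903c2801c0011840006e51c3b0021c9680d8008be52034286199230c81004c0001d0000d800094100463981c0000d0000907282e080210000a8270c40085c0042a04e169270881385041c2020e0f8e7078008603802c002178010ac8183238c181c0149040580084e39014210098e8048740223201000005865020230140000600207840034530121800e14a038010304200a20c040000100100c2380208800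
noncomputable def E2c1 : Nat := nat_lit 0x1c100a247f9143fab8dfc506fdaa37dde1bf2001f6540fd0017e000cdcb11f4548f9ae37c9523de001ee540f88017c151bdab0dec000f48e37a000bd6381ea446f3b0379941bcab0ddf89ef180076e373c2001d9580f208099c00cd8a8dd6002f100199800bc0a8dd8003322a077121baaaa1d1000e7800739503a8aa1cc002e98017495439aa81d04d0e58a098911b9200660406e3ac67195338aa91c4448e18007002437c005c2410df840704f437ab21b881add8006d000366b01bc818db8018f534362005ba002dca486c93036a8a1b05c0d60006a400350b95af04b1c96469000b5c005ad0031ba6469800c6a581aa488d18a08c91234200631408cfa686792433a9219c450cd8006610432c0059a410cba00664f432a00164040af82048c001f6a9562000ad0005600024a1154e0407e106484001f000161040ac820488001e20815b000ab0003f4619f4398e80007302039c001c80015c48aa9a4646c001c0081240008f0003c8601de080dc0006b00055c102989191c4c8a6800450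00288000ee000a1a443ac22a7a91ccb0006348b598002ba005947d0b1aa064000b108955404ac994554800aca0057c04ac200163c12b0e0058e002b900160c0029288160480bd94057922aa29155044aa7840631302de0997144aa5a2552800aaa8954844aa3a2551902a7e0056d002b5a055091027681540400a28004e4202d20013844aa09c54dc00a7c0053c3809d1e54d8e2a6a08cc2040988002ec12a667153034a97a4047c001ee001180008d0e33d03396c119110005a42a49800b1a0997804cc90266188031499920486970015dd2323a90170480bd0014ad232320052c48c8ba064410322a0056e4468980042c202508011644c879004290021280d0c002891064390321a699063cc839a0420e320a090b10408080029c1320671900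
noncomputable def E2c2 : Nat := nat_lit 0xc9ed864f6bb08b59845aa002d100166304b4800da8b12d058767aa3b3971d9a006d358765ac4b2952592002b924b49820ad800522e16c46c761b26b0590584b9ac058d5fb06af993574fa2bc0015c320af400d90006bb54d5b826b194356aa1ab44cd59800a981054649a7f0013eb65ab912d56b96ac44156b22aa962d52b96a55cb53801ac970550002a104b58aa5a8800d48a16a050b4fa65a798453ad229c6874d9c4a61625327029a5494b800a523952a0069624163aa8a4800d8a9a2905c947b07a3000516c028e00346a84a29325129928848943a03a1161d0a8028654741800a01a2d0200682241582889f800d5e9a27c5873dac09e0004ecb1e7a5073b8019e531cea98e744873980083c10460002060412f8007d573ca6001dd001070009516041811e5010cef00076871c98001d7001240a572810488001c804f37b04979624bab0e5c0012ac3196981cb2b1e517c92baa793c00cb60066a5c13680092d604b0102685412b2e693963c9a38265003292c4929634920066350f238c090d2248a09e6118f2306790113c821824240f1f8478900036c0020d001129808281035611e1f000d3aa48740034a002190410a8a66880034009e7164717aa48b951c5a002277a115ac48a943c44a9e21003163a389800c761023e0010e2808a550450a1e200811c2678795046c006234cf0da6786800c6891e185010a24785813c66a1e1744f08a278491042681e10003390019ac00c78b2269551059888e944412a22084d1038019c14240ab0e0450901800800723fe00602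
noncomputable def E2 : Nat → Nat := (fun h => @Nat.rec (fun _ => Nat → Nat)
 (fun h => @Nat.rec (fun _ => Nat → Nat)
 (fun i => Nat.land (Nat.shiftRight E2c0 (Nat.mul (nat_lit 21) (Nat.land i (nat_lit 255)))) (nat_lit 0x1fffff))
 (fun _ _ => (fun i => Nat.land (Nat.shiftRight E2c1 (Nat.mul (nat_lit 21) (Nat.land i (nat_lit 255)))) (nat_lit 0x1fffff))) (Nat.land h (nat_lit 256)) h)
 (fun _ _ => (fun i => Nat.land (Nat.shiftRight E2c2 (Nat.mul (nat_lit 21) (Nat.land i (nat_lit 255)))) (nat_lit 0x1fffff))) (Nat.land h (nat_lit 512)) h)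
noncomputable def E3c0 : Nat := nat_lit 0x3507fa663f5301fc980f90c07d0663ed331f8318f53cc7b1e03dc601f0000f30027a245374221bc000a30006c0003305294279ca014c64000274731d0380e918072a04398631ce298e23cc718a0390e31c2000da0006c8403c5201e4300d73886a801380009be004ef1886e0a434ce01b6790d41406b1c434800136194990ce4c000254f3192004ee0cc63800314f019a280eb0c065a2030c00994798c444c631c6300e3182700c234c5f847248000f868c7a08c5c8001e020176618b8000510002a85193e080a93464f1c5244001500009c0003200022c100c408063000308012d813168004b10005300129c100c00005f002780012dc501da780ec1405a9a02cc009d4004b0002689c3268301a0180cf3464b9a32580099c60c9444a498402f8e01646808a40e479e5238e191a79c8c002571a7240c21081948338e43987204d390a600890c0440001fcc010c59c7e00241160200b38fa004bd3463d9a02f0c18f2004ba2c63ba051d8e28ea794743c8399a51c8d20e27107038c379841b8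c30da60c6c000341631a8300cc0046b000328671a4008ce004af048560252b400956094a500252080170228b42145e30a2c040174000ac6005b34a2b801164c28aa614542ca29965148a28a21804e000268661400089e0004a28824801130a0096510482882314011c00088004450401d8000e4000624803024e170000b01005a0002b04c219840e8008845983828c1b9640d8b206a5103428c199260c80088248c40246179200fc1387a0043e0021e1430a89185248c28206139270949004c4002224e119070903383e41c200c0108e7078800384181d18c0c9040686003639818000098a503c220220000d0020b8e40482002a310101400b0c30380082828c0c1d0058c80285401200007002040200100000609806002028640082380208800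
noncomputable def E3c1 : Nat := nat_lit 0x40c08005fd123fb0a1fc541033ee7e9533ee00604540fca867d9723da081d4000e90007ac00310a0d8650abe0005e9703ea991ec002f92437a9233d2001e7002f4000790c33c0005e65c8f1aa6789603ba601e558cefa84779633c2999dc54cec2a675d333b2a81db540ed00075400bac091f4548e98017cd523a2911d0548e6a847395039e001cb002e624472913392891c840ce3a647192238aa11c2000e0a8071000b86891c0408dfa046f8f237b129bc0cadc001815e6b72181bb000d98c46c812406991b4002db8c06d932362891b0000c81606395031aa1565040cf000628002bc0012e000ce0a74ad223345192c000940006603422411197000818256ad2233a005a7448cda4069502332005a2080d000065400b2cfb194501013cb64800c02005af506c79636b951b5a90d8c506c58016a911b12005f1486c3a807c111b0afa58400300405608133ff02580002ff2235f901afaa01ef4c6bd8017b911af2a0d78446bb9005d0002e641576002baa635c921ae298d70000b5a235b93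1ad298d68002b780059d302da9816c002b52a559140358a8166500adaa0575402b890d604c0ab0016a552ac4a156150ab1a6054032a9e5155248aa8a6657d11aaa8814b480a5140561202ae9995a0c0ac8e05192028a2014744aaa24554c22a848954110aa60e553922a9a3153e10a9f840525102900013a100a18c05112027280d3c40a9d80150122a7a795363ca9b9e04e0e2a6a78d343c6999c34c832a601813134a978016a111a5a501a4140d32034a901a52005a33c69380048d4423e9811d0029326046c00230001165009280045532a48001134c8912484683021c005210c08680148000a3c1810c0028e060685142228a1100008406546433a2e1991441085a08429042120050f3d0839e8418e420a00102002cf801410f420272100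
noncomputable def E3c2 : Nat := nat_lit 0xc9ed864f6bb04b59825aab8ed45c769865b202359e002c608168aa6b39b359a002cb00366020ac40055e182d258763801b4141d8ae16c46cd61b43b080057c002bd5d15d801b0400d80d22bc5c15fb28ae974572c22b85915baa8ad95456aa22b44d159b43ac812d94d8eb000364800ab400d5cb96ac60b55845a9962d52b16a85cb53840aa990544b16a454b51b25a9552d3ea16a054150a65a798253ad129c041430009c863cd46926b00133be4a58205281129520949100a4c0052000691001348009a161ccc082650013200098c104c40826100130026a6d6350ab9a8454d41ae4a08004fe4127e00340900a01424fa9927c58d3daa69e9534f2c027760d3c2869d1334eaa027648d39801a6971ce2b0e7064737b039b9e84daebe6c3414c0c0a6400d1e0068e0034bac0a34135180068b00345025a2413d100068760f2e2e796c004acc025f5c12f30796943cb2b1e585c12980197563caaa9e545c92bae79496049ab024c54f27a8793963ca2b1e5008f23aa791933c9299e4808125aa09280048491e4448f2180191513c8289e4040f1fa838f931c7ab0e3c5471daa38e941c72a0e384c71b8008d131c640063648719a608d511c62b1e2d8d5178008a560460f8e2c5c113aa788c00c5cf0e285cf15aa788432c403821e541152878895044c182250010d0e789143c2ea1e1c4cf0d80187c0042891e185010ea4785833c240061944f098608540042000611349071a083ce0416a120c38906844821324121020a48903aa47ec00374001f8040daa8364c0032200183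
noncomputable def E3 : Nat → Nat := (fun h => @Nat.rec (fun _ => Nat → Nat)
 (fun h => @Nat.rec (fun _ => Nat → Nat)
 (fun i => Nat.land (Nat.shiftRight E3c0 (Nat.mul (nat_lit 21) (Nat.land i (nat_lit 255)))) (nat_lit 0x1fffff))
 (fun _ _ => (fun i => Nat.land (Nat.shiftRight E3c1 (Nat.mul (nat_lit 21) (Nat.land i (nat_lit 255)))) (nat_lit 0x1fffff))) (Nat.land h (nat_lit 256)) h)
 (fun _ _ => (fun i => Nat.land (Nat.shiftRight E3c2 (Nat.mul (nat_lit 21) (Nat.land i (nat_lit 255)))) (nat_lit 0x1fffff))) (Nat.land h (nat_lit 512)) h)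
noncomputable def E4c0 : Nat := nat_lit 0x52280499201f40052500291a473f5139ec3812104e8fa203e4001e6005180027a80149000a44881204468f22347000a32005170028a02343d119d2300e6406738c73a0439c678ce410072800384009c48811b4408ea20369101b280cdc0028aa25379129ba814d514a6a1e3359001b0280d70006900134cf19a270cd0386679a333800a2681cc94066584043100198280c53c0622433185399079cc738e609e3308e0186000bf002601e32f8e197a70cbc3465d9832e800170004b90028b0014687021c09d113c08682644000a1600508002850014241320e0950600282a272a90395279ca8002809c729813200004ff4005120428c3213e7909e0c0509e0280001380049d0c04d06426c3312e1a0960c04c8602600012800495350481c0235031226809338044840220e4124620863d0459e6228e411e1208e09041180230001007208438c4184021cd4102004853503f9881f8b40fa6907b3403e0001e4008f4000770023c000178100ba0805b04028000164000980004f0002182012cb38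84610412c6238001000007e000450401f0200f40007879864388319c6188d20c2698603082f8011d8130ea7185c04c3a1a6168008e46985834c2b986158c30aa618542cc29966148a30a209473002381a5138c289a0047104a37185128b2892514482c035800110008d000446002379601b4c00d80046a0023482319c140cc0046530e1d9850e8b387259c3828e1b9650d8b286a5143428e199270c8b206251030248179040b48005c0002b002161440a89205249028208139430987004648c241d0128c808081842300220000f00107c9183a31c1a2060d8c007000030004192060b8e30587182a30c1414a090a004c00020004111080708003c000180040d000040200180000a0040b18c038270280081229c04108018650082400208800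
noncomputable def E4c1 : Nat := nat_lit 0x816ffc2a7f912bfac01fb60efe2e77e161bf2b81fa000fb0017dd81beab8df4546f9ae37c961be2a8df0546f7a437b953bd8a81ed58ef52c07ad33bd0981e944ef3b0379941bcab9de258ef0ae0791603c6581dc580ed86076962bba59de058eef86777953baca9dd858aebaa076553baab15d3580ea2807415039ea15d254ae8aa573152b9aa81ce50ae5a6572923b92895c840ee380071142b86005c6500e2aa570942b82915c040adfa256f8f2b7ab95ba586ddae06f14036aa81b4546dba436d942b72a95b850ad88006c140366005b25c6d7a636b961b5aa8dac4c6d5a436a921b52a0da8486d3a2369931b4a88da4406d18836800033e201a2002d0940674a2b3c4959b240ce24066522b3419596000ca86066000b2eb1193580ca00064400b24b018f588c8124630223164818e080c680062400b14a9187540c400061400b0ca0183508c2264605303040017f002c02245f9022fa9917b4c0be0005e400af400176488ba8015e1202ee89174408b9a845bc002da0016c500b92645a8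00ae200570488b5a605b9422d2991684c8b3aa658d402c0a815f540b32a0569402b2a196554cb2126555132a8919534c0ab2a6589432c24194e48ca6a6756c902bc8815d480ae140525202909014b480a5100561202ae0014448ca824653ca32a4919510cca0046509132820054c446a18405191028a181474009d8c04e931a7a8913c40c9f8c64f8f326e80d383c09c8004d400a6c811343c8999c44c8e1a620012f002982604b53225c4112a108949004b04025600127002942833f8001f8000f20007d8003c4719f088cf00407ba203bd131be880ee44a700002d8001da000f4000760002dc001b6000eb0006684441010168080b2040750e62d4f416611cca000588002bc0015c000b0040568202b000156101120008100140c0014e080a5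
noncomputable def E4c2 : Nat := nat_lit 0xca2d882b6bb05b5a14daab92d476969ae3b4961da2a8ed000167001b3c00596e0ecc00366b63b29c1d9219ac70c164000b1400d8c002ae0414d800a6981d3038e990014b800a3c0051c0029504146820a30935260028b00145000a44105120828800143944ac4a0564002af00358001b118355ab9aac5cd55b66aa963552b1aa858d53920a8d9354ab1aa424d53106a8163542402a20014f001a7e24d3ad969c04f61801b0870580c02c10035fb25a5800d78c96942415cac5a4800d6ca16900035f001af41257609eba0035c001adc1356a0a2b400359ae7a1963d0ab1e8454f41ae5a09a2d02b968020b3e8009f0804fe0067e54f3daa79e953cf2c1e781cf3aaa79d8704ee002730033a2c49ca19ce30927068937b249b9844dab926c5c9348a49a1704d62826a0013300199d844cab926455131a84989344c2912606472fb0397981cbab02595c12c30095d644b8ba25b6112d2e0949704a2222505d129ae495972caa20254581258a09296449aba24c591278a89395448aa224855123ac891950492922444d121aa890914482922404111fa848f93247aa923c5491da848e942472a12384c91bac48d94246a312331811a0008c400c650a23065116c528b99045ec022960715c918a984458b02235c1112c389941c4a98e24589142e589d504385821b4c70f84886151c3aaa2212d1101488585042a1021e0010994086854432222110030b80084040428006125470798083141c1a6160e28b04a63828a0416002070030441081a47c0b0960481d01c0d809e640300e00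
noncomputable def E4 : Nat → Nat := (fun h => @Nat.rec (fun _ => Nat → Nat)
 (fun h => @Nat.rec (fun _ => Nat → Nat)
 (fun i => Nat.land (Nat.shiftRight E4c0 (Nat.mul (nat_lit 21) (Nat.land i (nat_lit 255)))) (nat_lit 0x1fffff))
 (fun _ _ => (fun i => Nat.land (Nat.shiftRight E4c1 (Nat.mul (nat_lit 21) (Nat.land i (nat_lit 255)))) (nat_lit 0x1fffff))) (Nat.land h (nat_lit 256)) h)
 (fun _ _ => (fun i => Nat.land (Nat.shiftRight E4c2 (Nat.mul (nat_lit 21) (Nat.land i (nat_lit 255)))) (nat_lit 0x1fffff))) (Nat.land h (nat_lit 512)) h)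
noncomputable def E5c0 : Nat := nat_lit 0x34c7fa853f0001f2a00fe0007b9e53d8009fa910f80027d9e03e9129ea810f43ca79a603c0001dc990f2408760013c5121da800ef44875a043a8629ce000e5180748a538c009d0810e4140731e5388e29c2810cd0405b8203310194629cd10005980032400144000a00004d80033cc193c21c9a10c4c000258501b8790d00026b1c4339001c0094de408659e4328009b480cc83ca63800308e198a794c43ca600013180017e780c3002609e42f8f2178780bd3885d9a42e8d2972614b80486fa042d8f216a780b10026d9e42c8f2168710b0388569c42b8e015e000ab002561e52a8e2950700a9388539a5298d214a610a44006e80136501942004d83864f980354f193a68c9c0026b880350e1932200d33464b801348d192a60c9438c471c3248e192200088000439c024ce191a680853464598020cb41040049000247800200d31180007f30e45160224240fc0048600242040204c40fa7007a0003c9c61f0008f660c782c63b8461d0400e410076000378861d4c30da6986c002398001a8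c00e268070300348011b8c30d6198662cc338601a0a30ca68c62000309a0190008c660c602c62f80016c300b261c580022f000158320ba6005c1802a801168638ae19c522ce29860150a38a200043040208200ec0006208042000200000e4100600002f0001f9260b82207a0002d002280241301209e0044b002239440f82008a4903c04a270a50e0008942803a28a1b8670a822866000280801a9250c80089a08c49002241201180088848c2c206158600d8918520043420613968098a404a520242501192808894042420202100f8e807800036314190020e800060600380041a1880b0c005c0002800415000078200381001a0000c0020982704813022004101ce058c60285301231c0814e038a40184200a214040c6018000040080408800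
noncomputable def E5c1 : Nat := nat_lit 0x488ffa247f8002fa001fa50afc0017f1623f2a01fb54afba857d8003e4001f1548f80017d400be8a81f3548f7a847b962bd6001ea580f68017b142bd2995e844af3c0579800c1f0bde458aefbe5788003b65820e580f180076552bb00060c002f0aa575800bbca81dd000eaaa076800bae00188506c3a6361943ae400185000b78005c143ad6a116c000b408572440394001c7002e40205c4002dc0016d040b50635a4002ce0013c040998204d00026400194000d624364d31b24a1d65040d40006980032200160000970a64ad22a5a001297dcd79a083606b5a005bb080d480182822356091b72c8d20016d800346581a7002d2884684403440019f002d0020578002aa0012c040952234a00024e001120408182041000204005bc480dd2606e400b6b03190796c780182df531a09e097cec582682000c0e005d4500e9a6074800ba098d84486c1a4360911b0288d80406bfbe95f800bfa98d7c4c6bda635e911af2a8d784c6bba835d921aea88d74406b9a807441338c005ce002e7801714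00b88a01cc500e682470c30384005cb002e0ac758940370a815d540ad2c0598002ae005b444eaa02767953ac891d5108ea82a758d23a9aa1958002b0a2052c00b3a8815f000a4246549202b81015b000a2a64539202b29994c44eab227505122920055344ca3a4551800a9e9114444ea1a05509102948114040e9fa234f800270005c040e9d9e34e903a6c0053d0009aa004e400a6e095be04edf8016f4f3a6271d3034e978016cd203620059c140d902566c00b608819a002ccaa04955324ca012008c8fa4647133242a112408091a4045d2022c9012200089a26469232328991848c8f2464750321a919140028d801661002168191044c87a064390022a8190c40c889e641cf3212799083c08500041400a0c0919604ccb801654f320271900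
noncomputable def E5c2 : Nat := nat_lit 0xca2d86516b800b50005a6006d60036aae4b49725a2b12d058b67aa5b3972d9ab92cc58b65ac4b2952592b0ec854763aa3b1941d8ac9ac460d61ae6b099057f0cac064d60b06aede8d7a11aba6015f040af0a056ea9ab828d5c866ad14356a182b64cd59ac3ac951d62a8eb050757b04ab971d5ae16ac44154b44a9513d56d8ea858f52000a89a0554b02a70cf50001a9953d42182a350f4fa67a78004e20026f5c94dac4a69d4532002970034c3039b41051800265001450e798c22510002615c946be6a397051e0969550945801a4d325121029148943ac3a19d3d0a00283003422c38f9924f0002360013b8e68d022cea0023354b3cb639e9504f6c82810033fa859d8204fa9967448b39aa39c800d3ab8e700034e3039b98052cb0e6c30733ba89a8004cd04268301358019a400d2898e641c14924398800d2088e606492fb24979824bac165c6072d80095182cb2b8e58591282e39596049c0065a0012626394800494b025700124ac79543048c006530c12280194400c9ea22480012106793432496922444d12180191d14482922404111fac0a0941c7a7023974f1d8008dce3c78e16380031d001a0131c6a3827e0033e2438c911c62b923064b17ac48b962c5ab8e2c00112ac48a951c52b0e28581102c087c00c560021d4c71180086c00434b1e275891306085c00c48182160031100188534432002130cd0f0658712442a922140030c2288491442282210000f2965780d3b5c001dc000c70006a8103180818a000c4800811524040060600100aa081400c0699200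
noncomputable def E5 : Nat → Nat := (fun h => @Nat.rec (fun _ => Nat → Nat)
 (fun h => @Nat.rec (fun _ => Nat → Nat)
 (fun i => Nat.land (Nat.shiftRight E5c0 (Nat.mul (nat_lit 21) (Nat.land i (nat_lit 255)))) (nat_lit 0x1fffff))
 (fun _ _ => (fun i => Nat.land (Nat.shiftRight E5c1 (Nat.mul (nat_lit 21) (Nat.land i (nat_lit 255)))) (nat_lit 0x1fffff))) (Nat.land h (nat_lit 256)) h)
 (fun _ _ => (fun i => Nat.land (Nat.shiftRight E5c2 (Nat.mul (nat_lit 21) (Nat.land i (nat_lit 255)))) (nat_lit 0x1fffff))) (Nat.land h (nat_lit 512)) h)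
noncomputable def E6c0 : Nat := nat_lit 0x3507faa33f9219fa000f84467da033e9131ea004fc3cc7a0003cd101f2780f70027b2833c9219e2894ed44677a053ad101e0000ea400770013b1119d280ce8000721e3398531c4004e7000708a0394009c688ce04066fa23379119ba80cdc3c66da03368f19b280cd83c66b9e3358e19aa70cd4386699a3348429a0200d10006700133cf3194798c844c631e0334f018a780cc00061a2032cf3192118c100263a0530820188798c034c5f8002f40097c794bc38a5d9a52e8d3172618b838a5a8452d0e016e100b6380581e02bcf2962714b33ca590452b0e295a100ae34a558002a400954718a838a539a6298d294a614a4400509a427d021467109d34051000270e01400049e0804c84425c22136110950804d00025020130004960003b0201f0100c86005e340398201d4000f60007000031800170000a00005d0003896313c240dc50c4e08e2d0201300009a0004b000250201240009009092002469c41e8c20f2610782c83b80124c1391c60072346479881d00090e0048c31036840214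c00de6806a346359a81b0240ce58c6808034800194008cc09091002459a4188c20c2610602c82f983240009100048a2ce2c84020cb00b6600563062b987160238a658c540802a800144008a4004892c0431402100090209482002400011fc120fc0047d2c623943118a188a48c442802114510ca2880500410001f0010fc000780043d24c1c9630e890076000370021c1430d8a186a48c34000190010cc00060004312c8179040b0000564002e002168670a43005400027002140000741003839c170000d00004c0002a08012040088000400084c0982528c0d80108c93032418181c0121270580084241414002110270801403e0041e20e078e70387401a3100c1ce058c80285401231c0814e038a50184280a218040c8018430080000000401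
noncomputable def E6c1 : Nat := nat_lit 0x48affa257fa01bfa0062f04d16b067e962bf2a19f854cfba867d800cbe0065e04b2eae57c962be2a95f054af7a857b8134b80065958cf5a867a9533d2999e844cf3b20795933ccb99e05c12d2a077000caeb81e4000ec801951604a6a99e254ceb02694000bbe001d5003262a076c00bb0b025b0032c00195800caab025254128a8093c00c9a0064b04723826921333920064444ce388093800c920064a04b228a091800c840064304f2082690000c7eb822c587158018a400c50006270031302089140446982225011080187800c3808e18600d73046bd60354a81a900312ac56b552b58a15a404b0f80068c00c3aa01a8002d302586522b420061544acf82788000c360061a04d0b26085c00c26006140510902584400c20b91944c8c9a6464922322b018e0cec62c4640303141818f000c486863400b16a9188508c3a846193230aa11844c8c1a646091230289180408bf8005f400afca117c4c8bda645e9222f2b1178508bbaa45d9222ea89174408b9a845c5402e49816e500b6a645c1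422de9916a4c8b4a605b1302d600167002b42e3599402bcb0d64586b1aa056141ac290155486afa8759513aa498d5c4c6ad84753931ab2a9d624cea6243559222c088149446a9a205740028e90146486a7840568002889815708ea124352913aa881d40002a8a4754103a7c0054d48e9e84052c00274801480009ca005152028691d3c0ce9b80150400a7e89d380c09da074d8e3a6a8913440e999e44c8f3a6271d3034e97a604b1022549912e108942004b40024e2012b00294ac349884242a8d2448691a634888024a901194008c26347931a3a901144468d868445242408211f090879e843911a2a9211c41086228448302348010a0808b9e0458002108011341085a084403420c0050d3d083860424e420a81104410819e4408f420272100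
noncomputable def E6c2 : Nat := nat_lit 0x2d60016a801b6000daec12d460969ae5b4972da2b16d058d67aa6b397359ab96cc58d65ac5b2952d92b12c854963aa4b194258b026c485f61c8ab09d4582402bf211603e3af984576b0ebc6015e940ae151d72522ba2115aa83ad88056e002b30035a2c4ac952562a92b050957c4aab9e255a282a974755b63aa853d58b1ea470753aa3a9800542b02a850751907a7c00d4a0029e20151001a8181d3ac8e9c7d34dba4a680052ee26980034cb23a5951d2aa0e9450749a63a4931d2290e9085d47ae5a357051c4828b24b460e5a247051400287003443eda1800506f0e8400342ae3a09a1d02b8e805073fa639f931cfa90e7c7073daa69e5504f4002761cd3a0019e0004e6382770033abea9c8004e000671001370019bc004d80066d713358a499dd44d200266141350019a0804c841265189310c098c004c000661000fa8007d0103e6081ed588ea2e378c003d8001d3000f0800748003a2001de586eeac474151b9e081da506e70877180039a001d7000e60007100038a081ca040e58a770810386001c8000e00007041037e081be000de8008f400c7cf0e3c0891cba38e820476002370031c2c08d56246c31232001188c08d000c6600206000fe020814103f6b91bc580dd80080c00374001b9000dc0006dc0035608db6508daa636d141b660819e040d38006c80034a001b1000ce80067010344081b04d0cd02066c0034000198000cc82065c1032c0019589907ba4839f5c1af220c78f05bc5829f1c12eae08791038018c012c5ca9604003152a580932c02a1600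
noncomputable def E6 : Nat → Nat := (fun h => @Nat.rec (fun _ => Nat → Nat)
 (fun h => @Nat.rec (fun _ => Nat → Nat)
 (fun i => Nat.land (Nat.shiftRight E6c0 (Nat.mul (nat_lit 21) (Nat.land i (nat_lit 255)))) (nat_lit 0x1fffff))
 (fun _ _ => (fun i => Nat.land (Nat.shiftRight E6c1 (Nat.mul (nat_lit 21) (Nat.land i (nat_lit 255)))) (nat_lit 0x1fffff))) (Nat.land h (nat_lit 256)) h)
 (fun _ _ => (fun i => Nat.land (Nat.shiftRight E6c2 (Nat.mul (nat_lit 21) (Nat.land i (nat_lit 255)))) (nat_lit 0x1fffff))) (Nat.land h (nat_lit 512)) h)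
noncomputable def Dc0 : Nat := nat_lit 0x29087904f929f063dca6c84a309da12dc27998f321e6327c27780ee294633606660cea01d463a824e8cdc09ca5390c6a049b09a01384c70909709b4336466c04d711ac02cca6494a22940526ca6794d211a4034884b149b199c0338c4a8cb3094012f82628cc41186230cc61149c091a11f025e04bf297e41e425e987c197422e823c0cb820ee12886550caf115e12b845700a8193831906458cab015651846549864094c229863004a400be32800480876111e227004e189c20a022600440875110e225004a1894209821d8c46088a1110521ca43807b30e0618cc2e185030ba61c4c40148020fe51fc03f8c4d30966128c3e884830e021e4a3c904710ee411442f107100de01bca2c904c209e410c835146a08d221a0620103f208a4194632983c20b82184a30803a10be00d442d944c009c010c02b145618aa215021c8038006a0144228983200865134626843128943100a1c9448105e50fca221044185a510421c8c31187c20f8c160c3c305630c421b0437106e60a421a0034085050c8c138430303a206c412882b305640684120827004e605440e982208420068c099815303c0078808181b2826105820c1418201c104c60a0014281a303ca0800102018502c406000c200c20208048405200e3010002840318061008400940030000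
noncomputable def Dc1 : Nat := nat_lit 0x7f82bf8d7d2bf456e82ca05ef0bec27d88bd85f22be257486f58d881bdc27b80bd0dd20bd457a44c285770bce35cc2f20dae0b2017442ed89db2bb22764cec95cd0b1815bc2e205710baa6754aea8d690b10573c4e709ce030a55bcab815cb039635a0ae005c7038e54cc2e2116e2ada57046e009672a7856f40de85322b2856b0ada09b3136606cc6d315912ac054b8ad811b00a5256406d489a81350069c0c50d5e1a5c36706d199a32b4614a06cc0d9f233e540c6ce01552a5856642cc09272a2456548ca8d022ac826440c890fb131a05684ac092513120624cc490f812c226140c290f11304055847e897f0afe43984be98e412b825e40bc90e012ec447847909731ae603584ab896d22d845ac68a094411dc250c4b38d6702ce6318493015d12b815642ab85572a5a03ec096011f023603f407e00f1024204700a5054912901520aa38547328a1514aa20544328843d806d00f4019a043007a80cc01d6032c09d053a327434e4c9c89382a70231006280c3018404d4a9a90bf026414c805d88bb025e42e009584f7123024684938527324e42d04918cfc21e443ec87891181a2c345828a8d150226344ca5b10ed21e843b085b90db21d64334885890a0a1204206840108321012c485790ae2160441408294ab2204340885388a721fe0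
noncomputable def Dc2 : Nat := nat_lit 0x5ac6b54d6a16d32da22b3056802d00d8c3b3896286cb25963ac436482af1d722b141629291155c4b0834d12be1d7a3a5c947928e252a4ae055b86b605164a2894892b305666a1c9530aaf055e49f45568e8605501a9c340828304f409ec15116a1354229f413b8276053c6a7893982712cde5a683390e97352e599c74a0a930cca5a28b4802901cc259a47340e8b151419907318e87050e69807390683350658e43400a7f1c6c59dcb3e127c0c6658e831c067614ec68d031a867334e648c43078a70340c29b8cfa8a6c33ba283852a0a662ccc69988ed0a630bae29205300260339027d4cfa1a561cac195452a15ec33a66784ce919d133bc6930b258a4a2c941924b2481cd33ae6730ce219c534861908b2102421b906700ce09a3f047e16f4d1e99b6141a289451b9637046e669c51a0da5143228c4d1891a0140c67f0d148e290c4e2894b0199ba337266e0cdb99ab343a587050d961a2c3408686d919a533626674cce1a141c26584c90985a033306664d0812101b2a6794b05860a03b85638ad51607040e4624b0215ba1bf03804b0009911b063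
noncomputable def D : Nat → Nat := (fun h => @Nat.rec (fun _ => Nat → Nat)
 (fun h => @Nat.rec (fun _ => Nat → Nat)
 (fun i => Nat.land (Nat.shiftRight Dc0 (Nat.mul (nat_lit 15) (Nat.land i (nat_lit 255)))) (nat_lit 0x7fff))
 (fun _ _ => (fun i => Nat.land (Nat.shiftRight Dc1 (Nat.mul (nat_lit 15) (Nat.land i (nat_lit 255)))) (nat_lit 0x7fff))) (Nat.land h (nat_lit 256)) h)
 (fun _ _ => (fun i => Nat.land (Nat.shiftRight Dc2 (Nat.mul (nat_lit 15) (Nat.land i (nat_lit 255)))) (nat_lit 0x7fff))) (Nat.land h (nat_lit 512)) h)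
noncomputable def T0 : Nat → Nat := fun i => Nat.land (E0 i) (nat_lit 0x3ff)
noncomputable def T1 : Nat → Nat := fun i => Nat.land (E1 i) (nat_lit 0x3ff)
noncomputable def T2 : Nat → Nat := fun i => Nat.land (E2 i) (nat_lit 0x3ff)
noncomputable def T3 : Nat → Nat := fun i => Nat.land (E3 i) (nat_lit 0x3ff)
noncomputable def T4 : Nat → Nat := fun i => Nat.land (E4 i) (nat_lit 0x3ff)
noncomputable def T5 : Nat → Nat := fun i => Nat.land (E5 i) (nat_lit 0x3ff)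
noncomputable def T6 : Nat → Nat := fun i => Nat.land (E6 i) (nat_lit 0x3ff)
noncomputable def E : Nat → Nat → Nat := fun l => (@Nat.rec (fun _ => Nat → Nat) E0 (fun l _ => (@Nat.rec (fun _ => Nat → Nat) E1 (fun l _ => (@Nat.rec (fun _ => Nat → Nat) E2 (fun l _ => (@Nat.rec (fun _ => Nat → Nat) E3 (fun l _ => (@Nat.rec (fun _ => Nat → Nat) E4 (fun l _ => (@Nat.rec (fun _ => Nat → Nat) E5 (fun l _ => E6) l)) l)) l)) l)) l)) l)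
noncomputable def T : Nat → Nat → Nat := fun l => (@Nat.rec (fun _ => Nat → Nat) T0 (fun l _ => (@Nat.rec (fun _ => Nat → Nat) T1 (fun l _ => (@Nat.rec (fun _ => Nat → Nat) T2 (fun l _ => (@Nat.rec (fun _ => Nat → Nat) T3 (fun l _ => (@Nat.rec (fun _ => Nat → Nat) T4 (fun l _ => (@Nat.rec (fun _ => Nat → Nat) T5 (fun l _ => T6) l)) l)) l)) l)) l)) l)
noncomputable def inv : Nat → Nat := fun l => l
def rels2 : List (List Nat × Nat) := [([0, 1], 3), ([0, 2], 2), ([0, 3], 2), ([0, 4], 2), ([0, 5], 2), ([0, 6], 2), ([1, 2], 3), ([1, 3], 2), ([1, 4], 2), ([1, 5], 2), ([1, 6], 2), ([2, 3], 3), ([2, 4], 2), ([2, 5], 3), ([2, 6], 2), ([3, 4], 3), ([3, 5], 2), ([3, 6], 2), ([4, 5], 2), ([4, 6], 2), ([5, 6], 3), ([6, 2, 1, 0, 2, 3, 4, 2, 5, 6, 2, 1, 0, 2, 3, 4, 2, 5, 6, 2, 1, 0, 2, 3, 4, 2, 5, 6, 2, 1, 0, 2,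 3, 4, 2, 5, 6, 2, 1, 0, 2, 3, 4, 2, 5, 6, 2, 1, 0, 2, 3, 4, 2, 5, 6, 2, 1, 0, 2, 3, 4, 2, 5, 6, 2, 1, 0, 2, 3, 4, 2, 5, 6, 2, 1, 0, 2, 3, 4, 2, 5, 6, 2, 1, 0, 2, 3, 4, 2, 5, 6, 5, 2, 4, 3, 2, 0, 1, 2, 6, 5, 2, 4, 3, 2, 0, 1, 2, 6, 5, 2, 4, 3, 2, 0, 1, 2, 6, 5, 2, 4, 3, 2, 0, 1, 2, 6, 5, 2, 4, 3, 2, 0, 1, 2, 6, 5, 2, 4, 3, 2, 0, 1, 2, 6, 5, 2, 4, 3, 2, 0, 1, 2, 6, 5, 2, 4, 3, 2, 0, 1, 2, 6, 5, 2, 4, 3, 2, 0, 1, 2, 6, 5, 2, 4, 3, 2, 0, 1, 2], 1), ([0, 2, 1, 0, 2, 3, 4, 2, 5, 6, 2, 1, 0, 2, 3, 4, 2, 5, 6, 2, 1, 0, 2, 3, 4, 2, 5, 6, 2, 1, 0, 2, 3, 4, 2, 5, 6, 2, 1, 0, 2, 3, 4, 2, 5, 6, 2, 1, 0, 2, 3, 4, 2, 5, 6, 2, 1, 0, 2, 3, 4, 2, 5, 6, 2, 1, 0, 2, 3, 4, 2, 5, 6, 2, 1, 0, 2, 3, 4, 2, 5, 6, 2, 1, 0, 2, 3, 4, 2, 5, 6, 0, 6, 5, 2, 4, 3, 2, 0, 1, 2, 6, 5, 2, 4, 3, 2, 0, 1, 2, 6, 5, 2, 4, 3, 2, 0, 1, 2, 6,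 5, 2, 4, 3, 2, 0, 1, 2, 6, 5, 2, 4, 3, 2, 0, 1, 2, 6, 5, 2, 4, 3, 2, 0, 1, 2, 6, 5, 2, 4, 3, 2, 0, 1, 2, 6, 5, 2, 4, 3, 2, 0, 1, 2, 6, 5, 2, 4, 3, 2, 0, 1, 2, 6, 5, 2, 4, 3, 2, 0, 1, 2], 1)]
def rels : List (List Nat) := rels2.map (fun p => wpow p.1 p.2)
def relsP : List (List Nat × Nat) := [([0, 1], 3), ([0, 2], 2), ([0, 3], 2), ([0, 4], 2), ([0, 5], 2), ([0, 6], 2), ([1, 2], 3), ([1, 3], 2), ([1, 4], 2), ([1, 5], 2), ([1, 6], 2), ([2, 3], 3), ([2, 4], 2), ([2, 5], 3), ([2, 6], 2), ([3, 4], 3), ([3, 5], 2), ([3, 6], 2), ([4, 5], 2), ([4, 6], 2), ([5, 6], 3), ([6, 2, 1, 0, 2, 3, 4, 2, 5, 6, 2, 1, 0, 2, 3, 4, 2, 5, 6, 2, 1, 0, 2, 3, 4, 2, 5, 6, 2, 1, 0, 2, 3, 4, 2, 5, 6, 2, 1, 0, 2, 3, 4, 2, 5, 6, 2, 1, 0, 2, 3, 4, 2, 5, 6, 2, 1, 0, 2, 3, 4, 2, 5, 6, 2, 1, 0, 2, 3, 4, 2, 5, 6, 2, 1, 0, 2, 3, 4, 2, 5,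 6, 2, 1, 0, 2, 3, 4, 2, 5, 6, 5, 2, 4, 3, 2, 0, 1, 2, 6, 5, 2, 4, 3, 2, 0, 1, 2, 6, 5, 2, 4, 3, 2, 0, 1, 2, 6, 5, 2, 4, 3, 2, 0, 1, 2, 6, 5, 2, 4, 3, 2, 0, 1, 2, 6, 5, 2, 4, 3, 2, 0, 1, 2, 6, 5, 2, 4, 3, 2, 0, 1, 2, 6, 5, 2, 4, 3, 2, 0, 1, 2, 6, 5, 2, 4, 3, 2, 0, 1, 2, 6, 5, 2, 4, 3, 2, 0, 1, 2], 1), ([0, 2, 1, 0, 2, 3, 4, 2, 5, 6, 2, 1, 0, 2, 3, 4, 2, 5, 6, 2, 1, 0, 2, 3, 4, 2, 5, 6, 2, 1, 0, 2, 3, 4, 2, 5, 6, 2, 1, 0, 2, 3, 4, 2, 5, 6, 2, 1, 0, 2, 3, 4, 2, 5, 6, 2, 1, 0, 2, 3, 4, 2, 5, 6, 2, 1, 0, 2, 3, 4, 2, 5, 6, 2, 1, 0, 2, 3, 4, 2, 5, 6, 2, 1, 0, 2, 3, 4, 2, 5, 6, 0, 6, 5, 2, 4, 3, 2, 0, 1, 2, 6, 5, 2, 4, 3, 2, 0, 1, 2, 6, 5, 2, 4, 3, 2, 0, 1, 2, 6, 5, 2, 4, 3, 2, 0, 1, 2, 6, 5, 2, 4, 3, 2, 0, 1, 2, 6, 5, 2, 4, 3, 2, 0, 1, 2, 6, 5, 2, 4, 3, 2, 0, 1, 2, 6, 5, 2, 4, 3, 2, 0, 1, 2, 6, 5, 2, 4, 3,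 2, 0, 1, 2, 6, 5, 2, 4, 3, 2, 0, 1, 2], 1)]
def subw : List (List Nat) := [[0], [1], [2], [3], [4], [5]]
def RW0 : List (List Nat) := [[1, 0, 1, 0, 1], [2, 0, 2], [5, 0, 5], [6, 0, 6], [3, 0, 3], [4, 0, 4], [2, 1, 0, 2, 3, 4, 2, 5, 6, 2, 1, 0, 2, 3, 4, 2, 5, 6, 2, 1, 0, 2, 3, 4, 2, 5, 6, 2, 1, 0, 2, 3, 4, 2, 5, 6, 2, 1, 0, 2, 3, 4, 2, 5, 6, 2, 1, 0, 2, 3, 4, 2, 5, 6, 2, 1, 0, 2, 3, 4, 2, 5, 6, 2, 1, 0, 2, 3, 4, 2, 5, 6, 2, 1, 0, 2, 3, 4, 2, 5, 6, 2, 1, 0, 2, 3, 4, 2, 5, 6, 0, 6, 5, 2, 4, 3, 2, 0, 1, 2, 6, 5, 2, 4, 3, 2, 0, 1, 2, 6, 5, 2, 4, 3, 2, 0, 1, 2, 6, 5, 2, 4, 3, 2, 0, 1, 2, 6, 5, 2, 4, 3, 2, 0, 1, 2, 6, 5, 2, 4, 3, 2, 0, 1, 2, 6, 5, 2, 4, 3, 2, 0, 1, 2, 6, 5, 2, 4, 3, 2, 0, 1, 2, 6, 5, 2, 4, 3, 2, 0, 1, 2, 6, 5, 2, 4, 3, 2, 0, 1, 2], [1, 2, 6, 5, 2, 4, 3, 2, 0, 1, 2, 6, 5, 2, 4, 3, 2, 0, 1,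 2, 6, 5, 2, 4, 3, 2, 0, 1, 2, 6, 5, 2, 4, 3, 2, 0, 1, 2, 6, 5, 2, 4, 3, 2, 0, 1, 2, 6, 5, 2, 4, 3, 2, 0, 1, 2, 6, 5, 2, 4, 3, 2, 0, 1, 2, 6, 5, 2, 4, 3, 2, 0, 1, 2, 0, 2, 1, 0, 2, 3, 4, 2, 5, 6, 2, 1, 0, 2, 3, 4, 2, 5, 6, 2, 1, 0, 2, 3, 4, 2, 5, 6, 2, 1, 0, 2, 3, 4, 2, 5, 6, 2, 1, 0, 2, 3, 4, 2, 5, 6, 2, 1, 0, 2, 3, 4, 2, 5, 6, 2, 1, 0, 2, 3, 4, 2, 5, 6, 2, 1, 0, 2, 3, 4, 2, 5, 6, 2, 1, 0, 2, 3, 4, 2, 5, 6, 2, 1, 0, 2, 3, 4, 2, 5, 6, 0, 6, 5, 2, 4, 3, 2, 0, 1, 2, 6, 5, 2, 4, 3, 2], [1, 2, 6, 2, 1, 0, 2, 3, 4, 2, 5, 6, 2, 1, 0, 2, 3, 4, 2, 5, 6, 2, 1, 0, 2, 3, 4, 2, 5, 6, 2, 1, 0, 2, 3, 4, 2, 5, 6, 2, 1, 0, 2, 3, 4, 2, 5, 6, 2, 1, 0, 2, 3, 4, 2, 5, 6, 2, 1, 0, 2, 3, 4, 2, 5, 6, 2, 1, 0, 2, 3, 4, 2, 5, 6, 2, 1, 0, 2, 3, 4, 2, 5, 6, 2, 1, 0, 2, 3, 4, 2, 5, 6, 5, 2, 4, 3, 2, 0, 1, 2, 6, 5, 2, 4, 3, 2, 0,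 1, 2, 6, 5, 2, 4, 3, 2, 0, 1, 2, 6, 5, 2, 4, 3, 2, 0, 1, 2, 6, 5, 2, 4, 3, 2, 0, 1, 2, 6, 5, 2, 4, 3, 2, 0, 1, 2, 6, 5, 2, 4, 3, 2, 0, 1, 2, 6, 5, 2, 4, 3, 2, 0, 1, 2, 6, 5, 2, 4, 3, 2, 0, 1, 2, 6, 5, 2, 4, 3, 2], [1, 2, 6, 5, 2, 4, 3, 2, 0, 1, 2, 6, 5, 2, 4, 3, 2, 0, 1, 2, 6, 5, 2, 4, 3, 2, 0, 1, 2, 6, 5, 2, 4, 3, 2, 0, 1, 2, 6, 5, 2, 4, 3, 2, 0, 1, 2, 6, 5, 2, 4, 3, 2, 0, 1, 2, 6, 2, 1, 0, 2, 3, 4, 2, 5, 6, 2, 1, 0, 2, 3, 4, 2, 5, 6, 2, 1, 0, 2, 3, 4, 2, 5, 6, 2, 1, 0, 2, 3, 4, 2, 5, 6, 2, 1, 0, 2, 3, 4, 2, 5, 6, 2, 1, 0, 2, 3, 4, 2, 5, 6, 2, 1, 0, 2, 3, 4, 2, 5, 6, 2, 1, 0, 2, 3, 4, 2, 5, 6, 2, 1, 0, 2, 3, 4, 2, 5, 6, 2, 1, 0, 2, 3, 4, 2, 5, 6, 5, 2, 4, 3, 2, 0, 1, 2, 6, 5, 2, 4, 3, 2, 0, 1, 2, 6, 5, 2, 4, 3, 2, 0, 1, 2, 6, 5, 2, 4, 3, 2], [1, 2, 6, 5, 2, 4, 3, 2, 0, 1, 2, 6, 5, 2, 4, 3, 2, 0, 1,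 2, 6, 5, 2, 4, 3, 2, 0, 1, 2, 6, 5, 2, 4, 3, 2, 0, 1, 2, 6, 5, 2, 4, 3, 2, 0, 1, 2, 6, 5, 2, 4, 3, 2, 0, 1, 2, 6, 5, 2, 4, 3, 2, 0, 1, 2, 6, 5, 2, 4, 3, 2, 0, 1, 2, 6, 5, 2, 4, 3, 2, 0, 1, 2, 6, 2, 1, 0, 2, 3, 4, 2, 5, 6, 2, 1, 0, 2, 3, 4, 2, 5, 6, 2, 1, 0, 2, 3, 4, 2, 5, 6, 2, 1, 0, 2, 3, 4, 2, 5, 6, 2, 1, 0, 2, 3, 4, 2, 5, 6, 2, 1, 0, 2, 3, 4, 2, 5, 6, 2, 1, 0, 2, 3, 4, 2, 5, 6, 2, 1, 0, 2, 3, 4, 2, 5, 6, 2, 1, 0, 2, 3, 4, 2, 5, 6, 2, 1, 0, 2, 3, 4, 2, 5, 6, 5, 2, 4, 3, 2], [2, 3, 4, 2, 5, 6, 2, 1, 0, 2, 3, 4, 2, 5, 6, 5, 2, 4, 3, 2, 0, 1, 2, 6, 5, 2, 4, 3, 2, 0, 1, 2, 6, 5, 2, 4, 3, 2, 0, 1, 2, 6, 5, 2, 4, 3, 2, 0, 1, 2, 6, 5, 2, 4, 3, 2, 0, 1, 2, 6, 5, 2, 4, 3, 2, 0, 1, 2, 6, 5, 2, 4, 3, 2, 0, 1, 2, 6, 5, 2, 4, 3, 2, 0, 1, 2, 6, 5, 2, 4, 3, 2, 0, 1, 2, 6, 5, 2, 4, 3, 2, 0, 1, 2, 6, 2, 1, 0, 2, 3,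 4, 2, 5, 6, 2, 1, 0, 2, 3, 4, 2, 5, 6, 2, 1, 0, 2, 3, 4, 2, 5, 6, 2, 1, 0, 2, 3, 4, 2, 5, 6, 2, 1, 0, 2, 3, 4, 2, 5, 6, 2, 1, 0, 2, 3, 4, 2, 5, 6, 2, 1, 0, 2, 3, 4, 2, 5, 6, 2, 1, 0, 2, 3, 4, 2, 5, 6, 2, 1], [1, 2, 6, 5, 2, 4, 3, 2, 0, 1, 2, 6, 5, 2, 4, 3, 2, 0, 1, 2, 6, 5, 2, 4, 3, 2, 0, 1, 2, 6, 2, 1, 0, 2, 3, 4, 2, 5, 6, 2, 1, 0, 2, 3, 4, 2, 5, 6, 2, 1, 0, 2, 3, 4, 2, 5, 6, 2, 1, 0, 2, 3, 4, 2, 5, 6, 2, 1, 0, 2, 3, 4, 2, 5, 6, 2, 1, 0, 2, 3, 4, 2, 5, 6, 2, 1, 0, 2, 3, 4, 2, 5, 6, 2, 1, 0, 2, 3, 4, 2, 5, 6, 2, 1, 0, 2, 3, 4, 2, 5, 6, 2, 1, 0, 2, 3, 4, 2, 5, 6, 5, 2, 4, 3, 2, 0, 1, 2, 6, 5, 2, 4, 3, 2, 0, 1, 2, 6, 5, 2, 4, 3, 2, 0, 1, 2, 6, 5, 2, 4, 3, 2, 0, 1, 2, 6, 5, 2, 4, 3, 2, 0, 1, 2, 6, 5, 2, 4, 3, 2, 0, 1, 2, 6, 5, 2, 4, 3, 2], [1, 2, 0, 2, 1, 0, 2, 3, 4, 2, 5, 6, 2, 1, 0, 2, 3, 4, 2, 5, 6,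 2, 1, 0, 2, 3, 4, 2, 5, 6, 2, 1, 0, 2, 3, 4, 2, 5, 6, 2, 1, 0, 2, 3, 4, 2, 5, 6, 2, 1, 0, 2, 3, 4, 2, 5, 6, 2, 1, 0, 2, 3, 4, 2, 5, 6, 2, 1, 0, 2, 3, 4, 2, 5, 6, 2, 1, 0, 2, 3, 4, 2, 5, 6, 2, 1, 0, 2, 3, 4, 2, 5, 6, 0, 6, 5, 2, 4, 3, 2, 0, 1, 2, 6, 5, 2, 4, 3, 2, 0, 1, 2, 6, 5, 2, 4, 3, 2, 0, 1, 2, 6, 5, 2, 4, 3, 2, 0, 1, 2, 6, 5, 2, 4, 3, 2, 0, 1, 2, 6, 5, 2, 4, 3, 2, 0, 1, 2, 6, 5, 2, 4, 3, 2, 0, 1, 2, 6, 5, 2, 4, 3, 2, 0, 1, 2, 6, 5, 2, 4, 3, 2, 0, 1, 2, 6, 5, 2, 4, 3, 2], [1, 2, 6, 5, 2, 4, 3, 2, 0, 1, 2, 6, 5, 2, 4, 3, 2, 0, 1, 2, 6, 5, 2, 4, 3, 2, 0, 1, 2, 6, 5, 2, 4, 3, 2, 0, 1, 2, 6, 2, 1, 0, 2, 3, 4, 2, 5, 6, 2, 1, 0, 2, 3, 4, 2, 5, 6, 2, 1, 0, 2, 3, 4, 2, 5, 6, 2, 1, 0, 2, 3, 4, 2, 5, 6, 2, 1, 0, 2, 3, 4, 2, 5, 6, 2, 1, 0, 2, 3, 4, 2, 5, 6, 2, 1, 0, 2, 3, 4, 2, 5, 6, 2, 1, 0, 2, 3, 4, 2, 5,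 6, 2, 1, 0, 2, 3, 4, 2, 5, 6, 2, 1, 0, 2, 3, 4, 2, 5, 6, 5, 2, 4, 3, 2, 0, 1, 2, 6, 5, 2, 4, 3, 2, 0, 1, 2, 6, 5, 2, 4, 3, 2, 0, 1, 2, 6, 5, 2, 4, 3, 2, 0, 1, 2, 6, 5, 2, 4, 3, 2, 0, 1, 2, 6, 5, 2, 4, 3, 2], [2, 3, 4, 2, 5, 6, 2, 1, 0, 2, 3, 4, 2, 5, 6, 2, 1, 0, 2, 3, 4, 2, 5, 6, 2, 1, 0, 2, 3, 4, 2, 5, 6, 2, 1, 0, 2, 3, 4, 2, 5, 6, 2, 1, 0, 2, 3, 4, 2, 5, 6, 2, 1, 0, 2, 3, 4, 2, 5, 6, 2, 1, 0, 2, 3, 4, 2, 5, 6, 5, 2, 4, 3, 2, 0, 1, 2, 6, 5, 2, 4, 3, 2, 0, 1, 2, 6, 5, 2, 4, 3, 2, 0, 1, 2, 6, 5, 2, 4, 3, 2, 0, 1, 2, 6, 5, 2, 4, 3, 2, 0, 1, 2, 6, 5, 2, 4, 3, 2, 0, 1, 2, 6, 5, 2, 4, 3, 2, 0, 1, 2, 6, 5, 2, 4, 3, 2, 0, 1, 2, 6, 5, 2, 4, 3, 2, 0, 1, 2, 6, 5, 2, 4, 3, 2, 0, 1, 2, 6, 2, 1, 0, 2, 3, 4, 2, 5, 6, 2, 1, 0, 2, 3, 4, 2, 5, 6, 2, 1], [6, 5, 2, 4, 3, 2, 0, 1, 2, 6, 5, 2, 4, 3, 2, 0, 1, 2, 6, 5, 2,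 4, 3, 2, 0, 1, 2, 6, 5, 2, 4, 3, 2, 0, 1, 2, 6, 5, 2, 4, 3, 2, 0, 1, 2, 6, 5, 2, 4, 3, 2, 0, 1, 2, 6, 5, 2, 4, 3, 2, 0, 1, 2, 6, 5, 2, 4, 3, 2, 0, 1, 2, 6, 5, 2, 4, 3, 2, 0, 1, 2, 6, 5, 2, 4, 3, 2, 0, 1, 2, 0, 2, 1, 0, 2, 3, 4, 2, 5, 6, 2, 1, 0, 2, 3, 4, 2, 5, 6, 2, 1, 0, 2, 3, 4, 2, 5, 6, 2, 1, 0, 2, 3, 4, 2, 5, 6, 2, 1, 0, 2, 3, 4, 2, 5, 6, 2, 1, 0, 2, 3, 4, 2, 5, 6, 2, 1, 0, 2, 3, 4, 2, 5, 6, 2, 1, 0, 2, 3, 4, 2, 5, 6, 2, 1, 0, 2, 3, 4, 2, 5, 6, 2, 1, 0, 2, 3, 4, 2, 5, 6]]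
noncomputable def RF0 : List (List (Nat → Nat)) := [[E1, E0, E1, E0, E1], [E2, E0, E2], [E5, E0, E5], [E6, E0, E6], [E3, E0, E3], [E4, E0, E4], [E2, E1, E0, E2, E3, E4, E2, E5, E6, E2, E1, E0, E2, E3, E4, E2, E5, E6, E2, E1, E0, E2, E3, E4, E2, E5, E6, E2, E1, E0, E2, E3, E4, E2, E5, E6, E2, E1, E0, E2, E3, E4, E2, E5, E6, E2, E1, E0, E2, E3, E4, E2, E5, E6, E2, E1, E0, E2, E3, E4, E2, E5, E6, E2, E1, E0, E2, E3, E4, E2, E5, E6, E2, E1, E0, E2, E3, E4, E2, E5, E6, E2, E1, E0, E2, E3, E4, E2, E5, E6, E0, E6, E5, E2, E4, E3, E2, E0, E1, E2, E6, E5, E2, E4, E3, E2, E0, E1, E2, E6, E5, E2, E4, E3, E2, E0, E1, E2, E6, E5, E2, E4, E3, E2, E0, E1, E2, E6, E5, E2, E4, E3, E2, E0, E1, E2, E6, E5, E2, E4, E3, E2, E0, E1, E2, E6, E5, E2, E4, E3, E2, E0, E1, E2, E6, E5, E2, E4, E3, E2, E0, E1, E2, E6, E5, E2, E4,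 E3, E2, E0, E1, E2, E6, E5, E2, E4, E3, E2, E0, E1, E2], [E1, E2, E6, E5, E2, E4, E3, E2, E0, E1, E2, E6, E5, E2, E4, E3, E2, E0, E1, E2, E6, E5, E2, E4, E3, E2, E0, E1, E2, E6, E5, E2, E4, E3, E2, E0, E1, E2, E6, E5, E2, E4, E3, E2, E0, E1, E2, E6, E5, E2, E4, E3, E2, E0, E1, E2, E6, E5, E2, E4, E3, E2, E0, E1, E2, E6, E5, E2, E4, E3, E2, E0, E1, E2, E0, E2, E1, E0, E2, E3, E4, E2, E5, E6, E2, E1, E0, E2, E3, E4, E2, E5, E6, E2, E1, E0, E2, E3, E4, E2, E5, E6, E2, E1, E0, E2, E3, E4, E2, E5, E6, E2, E1, E0, E2, E3, E4, E2, E5, E6, E2, E1, E0, E2, E3, E4, E2, E5, E6, E2, E1, E0, E2, E3, E4, E2, E5, E6, E2, E1, E0, E2, E3, E4, E2, E5, E6, E2, E1, E0, E2, E3, E4, E2, E5, E6, E2, E1, E0, E2, E3, E4, E2, E5, E6, E0, E6, E5, E2, E4, E3, E2, E0, E1, E2, E6, E5, E2, E4, E3, E2], [E1, E2, E6, E2, E1, E0, E2,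 E3, E4, E2, E5, E6, E2, E1, E0, E2, E3, E4, E2, E5, E6, E2, E1, E0, E2, E3, E4, E2, E5, E6, E2, E1, E0, E2, E3, E4, E2, E5, E6, E2, E1, E0, E2, E3, E4, E2, E5, E6, E2, E1, E0, E2, E3, E4, E2, E5, E6, E2, E1, E0, E2, E3, E4, E2, E5, E6, E2, E1, E0, E2, E3, E4, E2, E5, E6, E2, E1, E0, E2, E3, E4, E2, E5, E6, E2, E1, E0, E2, E3, E4, E2, E5, E6, E5, E2, E4, E3, E2, E0, E1, E2, E6, E5, E2, E4, E3, E2, E0, E1, E2, E6, E5, E2, E4, E3, E2, E0, E1, E2, E6, E5, E2, E4, E3, E2, E0, E1, E2, E6, E5, E2, E4, E3, E2, E0, E1, E2, E6, E5, E2, E4, E3, E2, E0, E1, E2, E6, E5, E2, E4, E3, E2, E0, E1, E2, E6, E5, E2, E4, E3, E2, E0, E1, E2, E6, E5, E2, E4, E3, E2, E0, E1, E2, E6, E5, E2, E4, E3, E2], [E1, E2, E6, E5, E2, E4, E3, E2, E0, E1, E2, E6, E5, E2, E4, E3, E2, E0, E1, E2, E6, E5, E2, E4, E3, E2, E0, E1, E2, E6,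 E5, E2, E4, E3, E2, E0, E1, E2, E6, E5, E2, E4, E3, E2, E0, E1, E2, E6, E5, E2, E4, E3, E2, E0, E1, E2, E6, E2, E1, E0, E2, E3, E4, E2, E5, E6, E2, E1, E0, E2, E3, E4, E2, E5, E6, E2, E1, E0, E2, E3, E4, E2, E5, E6, E2, E1, E0, E2, E3, E4, E2, E5, E6, E2, E1, E0, E2, E3, E4, E2, E5, E6, E2, E1, E0, E2, E3, E4, E2, E5, E6, E2, E1, E0, E2, E3, E4, E2, E5, E6, E2, E1, E0, E2, E3, E4, E2, E5, E6, E2, E1, E0, E2, E3, E4, E2, E5, E6, E2, E1, E0, E2, E3, E4, E2, E5, E6, E5, E2, E4, E3, E2, E0, E1, E2, E6, E5, E2, E4, E3, E2, E0, E1, E2, E6, E5, E2, E4, E3, E2, E0, E1, E2, E6, E5, E2, E4, E3, E2], [E1, E2, E6, E5, E2, E4, E3, E2, E0, E1, E2, E6, E5, E2, E4, E3, E2, E0, E1, E2, E6, E5, E2, E4, E3, E2, E0, E1, E2, E6, E5, E2, E4, E3, E2, E0, E1, E2, E6, E5, E2, E4, E3, E2, E0, E1, E2, E6, E5, E2, E4, E3, E2,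 E0, E1, E2, E6, E5, E2, E4, E3, E2, E0, E1, E2, E6, E5, E2, E4, E3, E2, E0, E1, E2, E6, E5, E2, E4, E3, E2, E0, E1, E2, E6, E2, E1, E0, E2, E3, E4, E2, E5, E6, E2, E1, E0, E2, E3, E4, E2, E5, E6, E2, E1, E0, E2, E3, E4, E2, E5, E6, E2, E1, E0, E2, E3, E4, E2, E5, E6, E2, E1, E0, E2, E3, E4, E2, E5, E6, E2, E1, E0, E2, E3, E4, E2, E5, E6, E2, E1, E0, E2, E3, E4, E2, E5, E6, E2, E1, E0, E2, E3, E4, E2, E5, E6, E2, E1, E0, E2, E3, E4, E2, E5, E6, E2, E1, E0, E2, E3, E4, E2, E5, E6, E5, E2, E4, E3, E2], [E2, E3, E4, E2, E5, E6, E2, E1, E0, E2, E3, E4, E2, E5, E6, E5, E2, E4, E3, E2, E0, E1, E2, E6, E5, E2, E4, E3, E2, E0, E1, E2, E6, E5, E2, E4, E3, E2, E0, E1, E2, E6, E5, E2, E4, E3, E2, E0, E1, E2, E6, E5, E2, E4, E3, E2, E0, E1, E2, E6, E5, E2, E4, E3, E2, E0, E1, E2, E6, E5, E2, E4, E3, E2, E0, E1,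 E2, E6, E5, E2, E4, E3, E2, E0, E1, E2, E6, E5, E2, E4, E3, E2, E0, E1, E2, E6, E5, E2, E4, E3, E2, E0, E1, E2, E6, E2, E1, E0, E2, E3, E4, E2, E5, E6, E2, E1, E0, E2, E3, E4, E2, E5, E6, E2, E1, E0, E2, E3, E4, E2, E5, E6, E2, E1, E0, E2, E3, E4, E2, E5, E6, E2, E1, E0, E2, E3, E4, E2, E5, E6, E2, E1, E0, E2, E3, E4, E2, E5, E6, E2, E1, E0, E2, E3, E4, E2, E5, E6, E2, E1, E0, E2, E3, E4, E2, E5, E6, E2, E1], [E1, E2, E6, E5, E2, E4, E3, E2, E0, E1, E2, E6, E5, E2, E4, E3, E2, E0, E1, E2, E6, E5, E2, E4, E3, E2, E0, E1, E2, E6, E2, E1, E0, E2, E3, E4, E2, E5, E6, E2, E1, E0, E2, E3, E4, E2, E5, E6, E2, E1, E0, E2, E3, E4, E2, E5, E6, E2, E1, E0, E2, E3, E4, E2, E5, E6, E2, E1, E0, E2, E3, E4, E2, E5, E6, E2, E1, E0, E2, E3, E4, E2, E5, E6, E2, E1, E0, E2, E3, E4, E2, E5, E6, E2, E1, E0, E2, E3, E4,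 E2, E5, E6, E2, E1, E0, E2, E3, E4, E2, E5, E6, E2, E1, E0, E2, E3, E4, E2, E5, E6, E5, E2, E4, E3, E2, E0, E1, E2, E6, E5, E2, E4, E3, E2, E0, E1, E2, E6, E5, E2, E4, E3, E2, E0, E1, E2, E6, E5, E2, E4, E3, E2, E0, E1, E2, E6, E5, E2, E4, E3, E2, E0, E1, E2, E6, E5, E2, E4, E3, E2, E0, E1, E2, E6, E5, E2, E4, E3, E2], [E1, E2, E0, E2, E1, E0, E2, E3, E4, E2, E5, E6, E2, E1, E0, E2, E3, E4, E2, E5, E6, E2, E1, E0, E2, E3, E4, E2, E5, E6, E2, E1, E0, E2, E3, E4, E2, E5, E6, E2, E1, E0, E2, E3, E4, E2, E5, E6, E2, E1, E0, E2, E3, E4, E2, E5, E6, E2, E1, E0, E2, E3, E4, E2, E5, E6, E2, E1, E0, E2, E3, E4, E2, E5, E6, E2, E1, E0, E2, E3, E4, E2, E5, E6, E2, E1, E0, E2, E3, E4, E2, E5, E6, E0, E6, E5, E2, E4, E3, E2, E0, E1, E2, E6, E5, E2, E4, E3, E2, E0, E1, E2, E6, E5, E2, E4, E3, E2, E0, E1, E2, E6,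 E5, E2, E4, E3, E2, E0, E1, E2, E6, E5, E2, E4, E3, E2, E0, E1, E2, E6, E5, E2, E4, E3, E2, E0, E1, E2, E6, E5, E2, E4, E3, E2, E0, E1, E2, E6, E5, E2, E4, E3, E2, E0, E1, E2, E6, E5, E2, E4, E3, E2, E0, E1, E2, E6, E5, E2, E4, E3, E2], [E1, E2, E6, E5, E2, E4, E3, E2, E0, E1, E2, E6, E5, E2, E4, E3, E2, E0, E1, E2, E6, E5, E2, E4, E3, E2, E0, E1, E2, E6, E5, E2, E4, E3, E2, E0, E1, E2, E6, E2, E1, E0, E2, E3, E4, E2, E5, E6, E2, E1, E0, E2, E3, E4, E2, E5, E6, E2, E1, E0, E2, E3, E4, E2, E5, E6, E2, E1, E0, E2, E3, E4, E2, E5, E6, E2, E1, E0, E2, E3, E4, E2, E5, E6, E2, E1, E0, E2, E3, E4, E2, E5, E6, E2, E1, E0, E2, E3, E4, E2, E5, E6, E2, E1, E0, E2, E3, E4, E2, E5, E6, E2, E1, E0, E2, E3, E4, E2, E5, E6, E2, E1, E0, E2, E3, E4, E2, E5, E6, E5, E2, E4, E3, E2, E0, E1, E2, E6, E5, E2, E4, E3, E2,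 E0, E1, E2, E6, E5, E2, E4, E3, E2, E0, E1, E2, E6, E5, E2, E4, E3, E2, E0, E1, E2, E6, E5, E2, E4, E3, E2, E0, E1, E2, E6, E5, E2, E4, E3, E2], [E2, E3, E4, E2, E5, E6, E2, E1, E0, E2, E3, E4, E2, E5, E6, E2, E1, E0, E2, E3, E4, E2, E5, E6, E2, E1, E0, E2, E3, E4, E2, E5, E6, E2, E1, E0, E2, E3, E4, E2, E5, E6, E2, E1, E0, E2, E3, E4, E2, E5, E6, E2, E1, E0, E2, E3, E4, E2, E5, E6, E2, E1, E0, E2, E3, E4, E2, E5, E6, E5, E2, E4, E3, E2, E0, E1, E2, E6, E5, E2, E4, E3, E2, E0, E1, E2, E6, E5, E2, E4, E3, E2, E0, E1, E2, E6, E5, E2, E4, E3, E2, E0, E1, E2, E6, E5, E2, E4, E3, E2, E0, E1, E2, E6, E5, E2, E4, E3, E2, E0, E1, E2, E6, E5, E2, E4, E3, E2, E0, E1, E2, E6, E5, E2, E4, E3, E2, E0, E1, E2, E6, E5, E2, E4, E3, E2, E0, E1, E2, E6, E5, E2, E4, E3, E2, E0, E1, E2, E6, E2, E1, E0, E2, E3, E4, E2,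 E5, E6, E2, E1, E0, E2, E3, E4, E2, E5, E6, E2, E1], [E6, E5, E2, E4, E3, E2, E0, E1, E2, E6, E5, E2, E4, E3, E2, E0, E1, E2, E6, E5, E2, E4, E3, E2, E0, E1, E2, E6, E5, E2, E4, E3, E2, E0, E1, E2, E6, E5, E2, E4, E3, E2, E0, E1, E2, E6, E5, E2, E4, E3, E2, E0, E1, E2, E6, E5, E2, E4, E3, E2, E0, E1, E2, E6, E5, E2, E4, E3, E2, E0, E1, E2, E6, E5, E2, E4, E3, E2, E0, E1, E2, E6, E5, E2, E4, E3, E2, E0, E1, E2, E0, E2, E1, E0, E2, E3, E4, E2, E5, E6, E2, E1, E0, E2, E3, E4, E2, E5, E6, E2, E1, E0, E2, E3, E4, E2, E5, E6, E2, E1, E0, E2, E3, E4, E2, E5, E6, E2, E1, E0, E2, E3, E4, E2, E5, E6, E2, E1, E0, E2, E3, E4, E2, E5, E6, E2, E1, E0, E2, E3, E4, E2, E5, E6, E2, E1, E0, E2, E3, E4, E2, E5, E6, E2, E1, E0, E2, E3, E4, E2, E5, E6, E2, E1, E0, E2, E3, E4, E2, E5, E6]]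
def RC0 : List Nat := [0, 512, 2048, 2560, 1024, 1536, 11264, 11478, 11106, 10998, 10944, 10902, 11052, 11622, 11034, 10794, 11446]
def RW1 : List (List Nat) := [[5, 1, 5], [2, 1, 2, 1, 2], [6, 1, 6], [3, 1, 3], [4, 1, 4], [0, 1, 0, 1, 0], [2, 6, 5, 2, 4, 3, 2, 0, 1, 2, 6, 5, 2, 4, 3, 2, 0, 1, 2, 6, 5, 2, 4, 3, 2, 0, 1, 2, 0, 2, 1, 0, 2, 3, 4, 2, 5, 6, 2, 1, 0, 2, 3, 4, 2, 5, 6, 2, 1, 0, 2, 3, 4, 2, 5, 6, 2, 1, 0, 2, 3, 4, 2, 5, 6, 2, 1, 0, 2, 3, 4, 2, 5, 6, 2, 1, 0, 2, 3, 4, 2, 5, 6, 2, 1, 0, 2, 3, 4, 2, 5, 6, 2, 1, 0, 2, 3, 4, 2, 5, 6, 2, 1, 0, 2, 3, 4, 2, 5, 6, 2, 1, 0, 2, 3, 4, 2, 5, 6, 0, 6, 5, 2, 4, 3, 2, 0, 1, 2, 6, 5, 2, 4, 3, 2, 0, 1, 2, 6, 5, 2, 4, 3, 2, 0, 1, 2, 6, 5, 2, 4, 3, 2, 0, 1, 2, 6, 5, 2, 4, 3, 2, 0, 1, 2, 6, 5, 2, 4, 3, 2, 0, 1, 2, 6, 5, 2, 4, 3, 2, 0], [2, 6, 5, 2, 4, 3, 2, 0,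 1, 2, 6, 5, 2, 4, 3, 2, 0, 1, 2, 6, 5, 2, 4, 3, 2, 0, 1, 2, 6, 5, 2, 4, 3, 2, 0, 1, 2, 6, 5, 2, 4, 3, 2, 0, 1, 2, 6, 2, 1, 0, 2, 3, 4, 2, 5, 6, 2, 1, 0, 2, 3, 4, 2, 5, 6, 2, 1, 0, 2, 3, 4, 2, 5, 6, 2, 1, 0, 2, 3, 4, 2, 5, 6, 2, 1, 0, 2, 3, 4, 2, 5, 6, 2, 1, 0, 2, 3, 4, 2, 5, 6, 2, 1, 0, 2, 3, 4, 2, 5, 6, 2, 1, 0, 2, 3, 4, 2, 5, 6, 2, 1, 0, 2, 3, 4, 2, 5, 6, 2, 1, 0, 2, 3, 4, 2, 5, 6, 5, 2, 4, 3, 2, 0, 1, 2, 6, 5, 2, 4, 3, 2, 0, 1, 2, 6, 5, 2, 4, 3, 2, 0, 1, 2, 6, 5, 2, 4, 3, 2, 0, 1, 2, 6, 5, 2, 4, 3, 2, 0], [0, 2, 3, 4, 2, 5, 6, 2, 1, 0, 2, 3, 4, 2, 5, 6, 2, 1, 0, 2, 3, 4, 2, 5, 6, 2, 1, 0, 2, 3, 4, 2, 5, 6, 2, 1, 0, 2, 3, 4, 2, 5, 6, 2, 1, 0, 2, 3, 4, 2, 5, 6, 5, 2, 4, 3, 2, 0, 1, 2, 6, 5, 2, 4, 3, 2, 0, 1, 2, 6, 5, 2, 4, 3, 2, 0, 1, 2, 6, 5, 2, 4, 3, 2, 0, 1, 2, 6, 5, 2, 4, 3, 2, 0, 1, 2, 6, 5, 2,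 4, 3, 2, 0, 1, 2, 6, 5, 2, 4, 3, 2, 0, 1, 2, 6, 5, 2, 4, 3, 2, 0, 1, 2, 6, 5, 2, 4, 3, 2, 0, 1, 2, 6, 5, 2, 4, 3, 2, 0, 1, 2, 6, 2, 1, 0, 2, 3, 4, 2, 5, 6, 2, 1, 0, 2, 3, 4, 2, 5, 6, 2, 1, 0, 2, 3, 4, 2, 5, 6, 2, 1, 0, 2, 3, 4, 2, 5, 6, 2], [2, 6, 2, 1, 0, 2, 3, 4, 2, 5, 6, 2, 1, 0, 2, 3, 4, 2, 5, 6, 2, 1, 0, 2, 3, 4, 2, 5, 6, 2, 1, 0, 2, 3, 4, 2, 5, 6, 2, 1, 0, 2, 3, 4, 2, 5, 6, 2, 1, 0, 2, 3, 4, 2, 5, 6, 2, 1, 0, 2, 3, 4, 2, 5, 6, 2, 1, 0, 2, 3, 4, 2, 5, 6, 2, 1, 0, 2, 3, 4, 2, 5, 6, 2, 1, 0, 2, 3, 4, 2, 5, 6, 5, 2, 4, 3, 2, 0, 1, 2, 6, 5, 2, 4, 3, 2, 0, 1, 2, 6, 5, 2, 4, 3, 2, 0, 1, 2, 6, 5, 2, 4, 3, 2, 0, 1, 2, 6, 5, 2, 4, 3, 2, 0, 1, 2, 6, 5, 2, 4, 3, 2, 0, 1, 2, 6, 5, 2, 4, 3, 2, 0, 1, 2, 6, 5, 2, 4, 3, 2, 0, 1, 2, 6, 5, 2, 4, 3, 2, 0, 1, 2, 6, 5, 2, 4, 3, 2, 0], [2, 6, 5, 2, 4, 3, 2, 0, 1, 2,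 6, 2, 1, 0, 2, 3, 4, 2, 5, 6, 2, 1, 0, 2, 3, 4, 2, 5, 6, 2, 1, 0, 2, 3, 4, 2, 5, 6, 2, 1, 0, 2, 3, 4, 2, 5, 6, 2, 1, 0, 2, 3, 4, 2, 5, 6, 2, 1, 0, 2, 3, 4, 2, 5, 6, 2, 1, 0, 2, 3, 4, 2, 5, 6, 2, 1, 0, 2, 3, 4, 2, 5, 6, 2, 1, 0, 2, 3, 4, 2, 5, 6, 2, 1, 0, 2, 3, 4, 2, 5, 6, 5, 2, 4, 3, 2, 0, 1, 2, 6, 5, 2, 4, 3, 2, 0, 1, 2, 6, 5, 2, 4, 3, 2, 0, 1, 2, 6, 5, 2, 4, 3, 2, 0, 1, 2, 6, 5, 2, 4, 3, 2, 0, 1, 2, 6, 5, 2, 4, 3, 2, 0, 1, 2, 6, 5, 2, 4, 3, 2, 0, 1, 2, 6, 5, 2, 4, 3, 2, 0, 1, 2, 6, 5, 2, 4, 3, 2, 0], [0, 2, 3, 4, 2, 5, 6, 5, 2, 4, 3, 2, 0, 1, 2, 6, 5, 2, 4, 3, 2, 0, 1, 2, 6, 5, 2, 4, 3, 2, 0, 1, 2, 6, 5, 2, 4, 3, 2, 0, 1, 2, 6, 5, 2, 4, 3, 2, 0, 1, 2, 6, 5, 2, 4, 3, 2, 0, 1, 2, 6, 5, 2, 4, 3, 2, 0, 1, 2, 6, 5, 2, 4, 3, 2, 0, 1, 2, 6, 5, 2, 4, 3, 2, 0, 1, 2, 6, 5, 2, 4, 3, 2, 0, 1, 2, 6, 2, 1, 0, 2,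 3, 4, 2, 5, 6, 2, 1, 0, 2, 3, 4, 2, 5, 6, 2, 1, 0, 2, 3, 4, 2, 5, 6, 2, 1, 0, 2, 3, 4, 2, 5, 6, 2, 1, 0, 2, 3, 4, 2, 5, 6, 2, 1, 0, 2, 3, 4, 2, 5, 6, 2, 1, 0, 2, 3, 4, 2, 5, 6, 2, 1, 0, 2, 3, 4, 2, 5, 6, 2, 1, 0, 2, 3, 4, 2, 5, 6, 2], [2, 6, 5, 2, 4, 3, 2, 0, 1, 2, 6, 5, 2, 4, 3, 2, 0, 1, 2, 6, 5, 2, 4, 3, 2, 0, 1, 2, 6, 5, 2, 4, 3, 2, 0, 1, 2, 6, 5, 2, 4, 3, 2, 0, 1, 2, 6, 5, 2, 4, 3, 2, 0, 1, 2, 0, 2, 1, 0, 2, 3, 4, 2, 5, 6, 2, 1, 0, 2, 3, 4, 2, 5, 6, 2, 1, 0, 2, 3, 4, 2, 5, 6, 2, 1, 0, 2, 3, 4, 2, 5, 6, 2, 1, 0, 2, 3, 4, 2, 5, 6, 2, 1, 0, 2, 3, 4, 2, 5, 6, 2, 1, 0, 2, 3, 4, 2, 5, 6, 2, 1, 0, 2, 3, 4, 2, 5, 6, 2, 1, 0, 2, 3, 4, 2, 5, 6, 2, 1, 0, 2, 3, 4, 2, 5, 6, 0, 6, 5, 2, 4, 3, 2, 0, 1, 2, 6, 5, 2, 4, 3, 2, 0, 1, 2, 6, 5, 2, 4, 3, 2, 0, 1, 2, 6, 5, 2, 4, 3, 2, 0], [2, 6, 5, 2, 4, 3, 2, 0, 1, 2,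 6, 5, 2, 4, 3, 2, 0, 1, 2, 0, 2, 1, 0, 2, 3, 4, 2, 5, 6, 2, 1, 0, 2, 3, 4, 2, 5, 6, 2, 1, 0, 2, 3, 4, 2, 5, 6, 2, 1, 0, 2, 3, 4, 2, 5, 6, 2, 1, 0, 2, 3, 4, 2, 5, 6, 2, 1, 0, 2, 3, 4, 2, 5, 6, 2, 1, 0, 2, 3, 4, 2, 5, 6, 2, 1, 0, 2, 3, 4, 2, 5, 6, 2, 1, 0, 2, 3, 4, 2, 5, 6, 2, 1, 0, 2, 3, 4, 2, 5, 6, 0, 6, 5, 2, 4, 3, 2, 0, 1, 2, 6, 5, 2, 4, 3, 2, 0, 1, 2, 6, 5, 2, 4, 3, 2, 0, 1, 2, 6, 5, 2, 4, 3, 2, 0, 1, 2, 6, 5, 2, 4, 3, 2, 0, 1, 2, 6, 5, 2, 4, 3, 2, 0, 1, 2, 6, 5, 2, 4, 3, 2, 0, 1, 2, 6, 5, 2, 4, 3, 2, 0], [0, 2, 3, 4, 2, 5, 6, 2, 1, 0, 2, 3, 4, 2, 5, 6, 2, 1, 0, 2, 3, 4, 2, 5, 6, 2, 1, 0, 2, 3, 4, 2, 5, 6, 2, 1, 0, 2, 3, 4, 2, 5, 6, 2, 1, 0, 2, 3, 4, 2, 5, 6, 2, 1, 0, 2, 3, 4, 2, 5, 6, 2, 1, 0, 2, 3, 4, 2, 5, 6, 2, 1, 0, 2, 3, 4, 2, 5, 6, 5, 2, 4, 3, 2, 0, 1, 2, 6, 5, 2, 4, 3, 2, 0, 1, 2, 6, 5, 2,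 4, 3, 2, 0, 1, 2, 6, 5, 2, 4, 3, 2, 0, 1, 2, 6, 5, 2, 4, 3, 2, 0, 1, 2, 6, 5, 2, 4, 3, 2, 0, 1, 2, 6, 5, 2, 4, 3, 2, 0, 1, 2, 6, 5, 2, 4, 3, 2, 0, 1, 2, 6, 5, 2, 4, 3, 2, 0, 1, 2, 6, 5, 2, 4, 3, 2, 0, 1, 2, 6, 2, 1, 0, 2, 3, 4, 2, 5, 6, 2], [2, 6, 5, 2, 4, 3, 2, 0, 1, 2, 6, 5, 2, 4, 3, 2, 0, 1, 2, 6, 5, 2, 4, 3, 2, 0, 1, 2, 6, 5, 2, 4, 3, 2, 0, 1, 2, 6, 5, 2, 4, 3, 2, 0, 1, 2, 6, 5, 2, 4, 3, 2, 0, 1, 2, 6, 5, 2, 4, 3, 2, 0, 1, 2, 6, 5, 2, 4, 3, 2, 0, 1, 2, 6, 5, 2, 4, 3, 2, 0, 1, 2, 6, 2, 1, 0, 2, 3, 4, 2, 5, 6, 2, 1, 0, 2, 3, 4, 2, 5, 6, 2, 1, 0, 2, 3, 4, 2, 5, 6, 2, 1, 0, 2, 3, 4, 2, 5, 6, 2, 1, 0, 2, 3, 4, 2, 5, 6, 2, 1, 0, 2, 3, 4, 2, 5, 6, 2, 1, 0, 2, 3, 4, 2, 5, 6, 2, 1, 0, 2, 3, 4, 2, 5, 6, 2, 1, 0, 2, 3, 4, 2, 5, 6, 2, 1, 0, 2, 3, 4, 2, 5, 6, 5, 2, 4, 3, 2, 0]]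
noncomputable def RF1 : List (List (Nat → Nat)) := [[E5, E1, E5], [E2, E1, E2, E1, E2], [E6, E1, E6], [E3, E1, E3], [E4, E1, E4], [E0, E1, E0, E1, E0], [E2, E6, E5, E2, E4, E3, E2, E0, E1, E2, E6, E5, E2, E4, E3, E2, E0, E1, E2, E6, E5, E2, E4, E3, E2, E0, E1, E2, E0, E2, E1, E0, E2, E3, E4, E2, E5, E6, E2, E1, E0, E2, E3, E4, E2, E5, E6, E2, E1, E0, E2, E3, E4, E2, E5, E6, E2, E1, E0, E2, E3, E4, E2, E5, E6, E2, E1, E0, E2, E3, E4, E2, E5, E6, E2, E1, E0, E2, E3, E4, E2, E5, E6, E2, E1, E0, E2, E3, E4, E2, E5, E6, E2, E1, E0, E2, E3, E4, E2, E5, E6, E2, E1, E0, E2, E3, E4, E2, E5, E6, E2, E1, E0, E2, E3, E4, E2, E5, E6, E0, E6, E5, E2, E4, E3, E2, E0, E1, E2, E6, E5, E2, E4, E3, E2, E0, E1, E2, E6, E5, E2, E4, E3, E2, E0, E1, E2, E6, E5, E2, E4, E3, E2, E0, E1, E2, E6, E5, E2, E4, E3, E2, E0, E1, E2,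 E6, E5, E2, E4, E3, E2, E0, E1, E2, E6, E5, E2, E4, E3, E2, E0], [E2, E6, E5, E2, E4, E3, E2, E0, E1, E2, E6, E5, E2, E4, E3, E2, E0, E1, E2, E6, E5, E2, E4, E3, E2, E0, E1, E2, E6, E5, E2, E4, E3, E2, E0, E1, E2, E6, E5, E2, E4, E3, E2, E0, E1, E2, E6, E2, E1, E0, E2, E3, E4, E2, E5, E6, E2, E1, E0, E2, E3, E4, E2, E5, E6, E2, E1, E0, E2, E3, E4, E2, E5, E6, E2, E1, E0, E2, E3, E4, E2, E5, E6, E2, E1, E0, E2, E3, E4, E2, E5, E6, E2, E1, E0, E2, E3, E4, E2, E5, E6, E2, E1, E0, E2, E3, E4, E2, E5, E6, E2, E1, E0, E2, E3, E4, E2, E5, E6, E2, E1, E0, E2, E3, E4, E2, E5, E6, E2, E1, E0, E2, E3, E4, E2, E5, E6, E5, E2, E4, E3, E2, E0, E1, E2, E6, E5, E2, E4, E3, E2, E0, E1, E2, E6, E5, E2, E4, E3, E2, E0, E1, E2, E6, E5, E2, E4, E3, E2, E0, E1, E2, E6, E5, E2, E4, E3, E2, E0], [E0, E2, E3, E4, E2, E5, E6,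 E2, E1, E0, E2, E3, E4, E2, E5, E6, E2, E1, E0, E2, E3, E4, E2, E5, E6, E2, E1, E0, E2, E3, E4, E2, E5, E6, E2, E1, E0, E2, E3, E4, E2, E5, E6, E2, E1, E0, E2, E3, E4, E2, E5, E6, E5, E2, E4, E3, E2, E0, E1, E2, E6, E5, E2, E4, E3, E2, E0, E1, E2, E6, E5, E2, E4, E3, E2, E0, E1, E2, E6, E5, E2, E4, E3, E2, E0, E1, E2, E6, E5, E2, E4, E3, E2, E0, E1, E2, E6, E5, E2, E4, E3, E2, E0, E1, E2, E6, E5, E2, E4, E3, E2, E0, E1, E2, E6, E5, E2, E4, E3, E2, E0, E1, E2, E6, E5, E2, E4, E3, E2, E0, E1, E2, E6, E5, E2, E4, E3, E2, E0, E1, E2, E6, E2, E1, E0, E2, E3, E4, E2, E5, E6, E2, E1, E0, E2, E3, E4, E2, E5, E6, E2, E1, E0, E2, E3, E4, E2, E5, E6, E2, E1, E0, E2, E3, E4, E2, E5, E6, E2], [E2, E6, E2, E1, E0, E2, E3, E4, E2, E5, E6, E2, E1, E0, E2, E3, E4, E2, E5, E6, E2, E1, E0, E2, E3, E4, E2, E5, E6, E2,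 E1, E0, E2, E3, E4, E2, E5, E6, E2, E1, E0, E2, E3, E4, E2, E5, E6, E2, E1, E0, E2, E3, E4, E2, E5, E6, E2, E1, E0, E2, E3, E4, E2, E5, E6, E2, E1, E0, E2, E3, E4, E2, E5, E6, E2, E1, E0, E2, E3, E4, E2, E5, E6, E2, E1, E0, E2, E3, E4, E2, E5, E6, E5, E2, E4, E3, E2, E0, E1, E2, E6, E5, E2, E4, E3, E2, E0, E1, E2, E6, E5, E2, E4, E3, E2, E0, E1, E2, E6, E5, E2, E4, E3, E2, E0, E1, E2, E6, E5, E2, E4, E3, E2, E0, E1, E2, E6, E5, E2, E4, E3, E2, E0, E1, E2, E6, E5, E2, E4, E3, E2, E0, E1, E2, E6, E5, E2, E4, E3, E2, E0, E1, E2, E6, E5, E2, E4, E3, E2, E0, E1, E2, E6, E5, E2, E4, E3, E2, E0], [E2, E6, E5, E2, E4, E3, E2, E0, E1, E2, E6, E2, E1, E0, E2, E3, E4, E2, E5, E6, E2, E1, E0, E2, E3, E4, E2, E5, E6, E2, E1, E0, E2, E3, E4, E2, E5, E6, E2, E1, E0, E2, E3, E4, E2, E5, E6, E2, E1, E0, E2, E3, E4,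 E2, E5, E6, E2, E1, E0, E2, E3, E4, E2, E5, E6, E2, E1, E0, E2, E3, E4, E2, E5, E6, E2, E1, E0, E2, E3, E4, E2, E5, E6, E2, E1, E0, E2, E3, E4, E2, E5, E6, E2, E1, E0, E2, E3, E4, E2, E5, E6, E5, E2, E4, E3, E2, E0, E1, E2, E6, E5, E2, E4, E3, E2, E0, E1, E2, E6, E5, E2, E4, E3, E2, E0, E1, E2, E6, E5, E2, E4, E3, E2, E0, E1, E2, E6, E5, E2, E4, E3, E2, E0, E1, E2, E6, E5, E2, E4, E3, E2, E0, E1, E2, E6, E5, E2, E4, E3, E2, E0, E1, E2, E6, E5, E2, E4, E3, E2, E0, E1, E2, E6, E5, E2, E4, E3, E2, E0], [E0, E2, E3, E4, E2, E5, E6, E5, E2, E4, E3, E2, E0, E1, E2, E6, E5, E2, E4, E3, E2, E0, E1, E2, E6, E5, E2, E4, E3, E2, E0, E1, E2, E6, E5, E2, E4, E3, E2, E0, E1, E2, E6, E5, E2, E4, E3, E2, E0, E1, E2, E6, E5, E2, E4, E3, E2, E0, E1, E2, E6, E5, E2, E4, E3, E2, E0, E1, E2, E6, E5, E2, E4, E3, E2, E0,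 E1, E2, E6, E5, E2, E4, E3, E2, E0, E1, E2, E6, E5, E2, E4, E3, E2, E0, E1, E2, E6, E2, E1, E0, E2, E3, E4, E2, E5, E6, E2, E1, E0, E2, E3, E4, E2, E5, E6, E2, E1, E0, E2, E3, E4, E2, E5, E6, E2, E1, E0, E2, E3, E4, E2, E5, E6, E2, E1, E0, E2, E3, E4, E2, E5, E6, E2, E1, E0, E2, E3, E4, E2, E5, E6, E2, E1, E0, E2, E3, E4, E2, E5, E6, E2, E1, E0, E2, E3, E4, E2, E5, E6, E2, E1, E0, E2, E3, E4, E2, E5, E6, E2], [E2, E6, E5, E2, E4, E3, E2, E0, E1, E2, E6, E5, E2, E4, E3, E2, E0, E1, E2, E6, E5, E2, E4, E3, E2, E0, E1, E2, E6, E5, E2, E4, E3, E2, E0, E1, E2, E6, E5, E2, E4, E3, E2, E0, E1, E2, E6, E5, E2, E4, E3, E2, E0, E1, E2, E0, E2, E1, E0, E2, E3, E4, E2, E5, E6, E2, E1, E0, E2, E3, E4, E2, E5, E6, E2, E1, E0, E2, E3, E4, E2, E5, E6, E2, E1, E0, E2, E3, E4, E2, E5, E6, E2, E1, E0, E2, E3, E4, E2,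 E5, E6, E2, E1, E0, E2, E3, E4, E2, E5, E6, E2, E1, E0, E2, E3, E4, E2, E5, E6, E2, E1, E0, E2, E3, E4, E2, E5, E6, E2, E1, E0, E2, E3, E4, E2, E5, E6, E2, E1, E0, E2, E3, E4, E2, E5, E6, E0, E6, E5, E2, E4, E3, E2, E0, E1, E2, E6, E5, E2, E4, E3, E2, E0, E1, E2, E6, E5, E2, E4, E3, E2, E0, E1, E2, E6, E5, E2, E4, E3, E2, E0], [E2, E6, E5, E2, E4, E3, E2, E0, E1, E2, E6, E5, E2, E4, E3, E2, E0, E1, E2, E0, E2, E1, E0, E2, E3, E4, E2, E5, E6, E2, E1, E0, E2, E3, E4, E2, E5, E6, E2, E1, E0, E2, E3, E4, E2, E5, E6, E2, E1, E0, E2, E3, E4, E2, E5, E6, E2, E1, E0, E2, E3, E4, E2, E5, E6, E2, E1, E0, E2, E3, E4, E2, E5, E6, E2, E1, E0, E2, E3, E4, E2, E5, E6, E2, E1, E0, E2, E3, E4, E2, E5, E6, E2, E1, E0, E2, E3, E4, E2, E5, E6, E2, E1, E0, E2, E3, E4, E2, E5, E6, E0, E6, E5, E2, E4, E3, E2, E0, E1, E2,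 E6, E5, E2, E4, E3, E2, E0, E1, E2, E6, E5, E2, E4, E3, E2, E0, E1, E2, E6, E5, E2, E4, E3, E2, E0, E1, E2, E6, E5, E2, E4, E3, E2, E0, E1, E2, E6, E5, E2, E4, E3, E2, E0, E1, E2, E6, E5, E2, E4, E3, E2, E0, E1, E2, E6, E5, E2, E4, E3, E2, E0], [E0, E2, E3, E4, E2, E5, E6, E2, E1, E0, E2, E3, E4, E2, E5, E6, E2, E1, E0, E2, E3, E4, E2, E5, E6, E2, E1, E0, E2, E3, E4, E2, E5, E6, E2, E1, E0, E2, E3, E4, E2, E5, E6, E2, E1, E0, E2, E3, E4, E2, E5, E6, E2, E1, E0, E2, E3, E4, E2, E5, E6, E2, E1, E0, E2, E3, E4, E2, E5, E6, E2, E1, E0, E2, E3, E4, E2, E5, E6, E5, E2, E4, E3, E2, E0, E1, E2, E6, E5, E2, E4, E3, E2, E0, E1, E2, E6, E5, E2, E4, E3, E2, E0, E1, E2, E6, E5, E2, E4, E3, E2, E0, E1, E2, E6, E5, E2, E4, E3, E2, E0, E1, E2, E6, E5, E2, E4, E3, E2, E0, E1, E2, E6, E5, E2, E4, E3, E2, E0, E1, E2,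 E6, E5, E2, E4, E3, E2, E0, E1, E2, E6, E5, E2, E4, E3, E2, E0, E1, E2, E6, E5, E2, E4, E3, E2, E0, E1, E2, E6, E2, E1, E0, E2, E3, E4, E2, E5, E6, E2], [E2, E6, E5, E2, E4, E3, E2, E0, E1, E2, E6, E5, E2, E4, E3, E2, E0, E1, E2, E6, E5, E2, E4, E3, E2, E0, E1, E2, E6, E5, E2, E4, E3, E2, E0, E1, E2, E6, E5, E2, E4, E3, E2, E0, E1, E2, E6, E5, E2, E4, E3, E2, E0, E1, E2, E6, E5, E2, E4, E3, E2, E0, E1, E2, E6, E5, E2, E4, E3, E2, E0, E1, E2, E6, E5, E2, E4, E3, E2, E0, E1, E2, E6, E2, E1, E0, E2, E3, E4, E2, E5, E6, E2, E1, E0, E2, E3, E4, E2, E5, E6, E2, E1, E0, E2, E3, E4, E2, E5, E6, E2, E1, E0, E2, E3, E4, E2, E5, E6, E2, E1, E0, E2, E3, E4, E2, E5, E6, E2, E1, E0, E2, E3, E4, E2, E5, E6, E2, E1, E0, E2, E3, E4, E2, E5, E6, E2, E1, E0, E2, E3, E4, E2, E5, E6, E2, E1, E0, E2, E3, E4, E2, E5, E6,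 E2, E1, E0, E2, E3, E4, E2, E5, E6, E5, E2, E4, E3, E2, E0]]
def RC1 : List Nat := [4608, 3072, 5120, 3584, 4096, 2, 11570, 11018, 10828, 11108, 11090, 10918, 11516, 11588, 10774, 10946]
def RW2 : List (List Nat) := [[1, 2, 1, 2, 1], [3, 2, 3, 2, 3], [0, 2, 0], [4, 2, 4], [6, 2, 6], [5, 2, 5, 2, 5], [0, 1, 2, 6, 5, 2, 4, 3, 2, 0, 1, 2, 6, 5, 2, 4, 3, 2, 0, 1, 2, 6, 5, 2, 4, 3, 2, 0, 1, 2, 6, 5, 2, 4, 3, 2, 0, 1, 2, 6, 5, 2, 4, 3, 2, 0, 1, 2, 6, 5, 2, 4, 3, 2, 0, 1, 2, 6, 5, 2, 4, 3, 2, 0, 1, 2, 0, 2, 1, 0, 2, 3, 4, 2, 5, 6, 2, 1, 0, 2, 3, 4, 2, 5, 6, 2, 1, 0, 2, 3, 4, 2, 5, 6, 2, 1, 0, 2, 3, 4, 2, 5, 6, 2, 1, 0, 2, 3, 4, 2, 5, 6, 2, 1, 0, 2, 3, 4, 2, 5, 6, 2, 1, 0, 2, 3, 4, 2, 5, 6, 2, 1, 0, 2, 3, 4, 2, 5, 6, 2, 1, 0, 2, 3, 4, 2, 5, 6, 2, 1, 0, 2, 3, 4, 2, 5, 6, 0, 6, 5, 2, 4, 3, 2, 0, 1, 2, 6, 5, 2,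 4, 3, 2, 0, 1, 2, 6, 5, 2, 4, 3], [6, 5, 2, 4, 3, 2, 0, 1, 2, 6, 5, 2, 4, 3, 2, 0, 1, 2, 6, 5, 2, 4, 3, 2, 0, 1, 2, 6, 5, 2, 4, 3, 2, 0, 1, 2, 6, 5, 2, 4, 3, 2, 0, 1, 2, 6, 5, 2, 4, 3, 2, 0, 1, 2, 6, 5, 2, 4, 3, 2, 0, 1, 2, 6, 5, 2, 4, 3, 2, 0, 1, 2, 6, 5, 2, 4, 3, 2, 0, 1, 2, 6, 2, 1, 0, 2, 3, 4, 2, 5, 6, 2, 1, 0, 2, 3, 4, 2, 5, 6, 2, 1, 0, 2, 3, 4, 2, 5, 6, 2, 1, 0, 2, 3, 4, 2, 5, 6, 2, 1, 0, 2, 3, 4, 2, 5, 6, 2, 1, 0, 2, 3, 4, 2, 5, 6, 2, 1, 0, 2, 3, 4, 2, 5, 6, 2, 1, 0, 2, 3, 4, 2, 5, 6, 2, 1, 0, 2, 3, 4, 2, 5, 6, 2, 1, 0, 2, 3, 4, 2, 5, 6, 5, 2, 4, 3, 2, 0, 1], [3, 4, 2, 5, 6, 5, 2, 4, 3, 2, 0, 1, 2, 6, 5, 2, 4, 3, 2, 0, 1, 2, 6, 5, 2, 4, 3, 2, 0, 1, 2, 6, 5, 2, 4, 3, 2, 0, 1, 2, 6, 5, 2, 4, 3, 2, 0, 1, 2, 6, 5, 2, 4, 3, 2, 0, 1, 2, 6, 5, 2, 4, 3, 2, 0, 1, 2, 6, 5, 2, 4, 3, 2, 0, 1, 2, 6, 5, 2,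 4, 3, 2, 0, 1, 2, 6, 5, 2, 4, 3, 2, 0, 1, 2, 6, 2, 1, 0, 2, 3, 4, 2, 5, 6, 2, 1, 0, 2, 3, 4, 2, 5, 6, 2, 1, 0, 2, 3, 4, 2, 5, 6, 2, 1, 0, 2, 3, 4, 2, 5, 6, 2, 1, 0, 2, 3, 4, 2, 5, 6, 2, 1, 0, 2, 3, 4, 2, 5, 6, 2, 1, 0, 2, 3, 4, 2, 5, 6, 2, 1, 0, 2, 3, 4, 2, 5, 6, 2, 1, 0, 2, 3, 4, 2, 5, 6, 2, 1, 0], [6, 5, 2, 4, 3, 2, 0, 1, 2, 6, 5, 2, 4, 3, 2, 0, 1, 2, 6, 5, 2, 4, 3, 2, 0, 1, 2, 6, 5, 2, 4, 3, 2, 0, 1, 2, 6, 5, 2, 4, 3, 2, 0, 1, 2, 6, 5, 2, 4, 3, 2, 0, 1, 2, 6, 5, 2, 4, 3, 2, 0, 1, 2, 6, 5, 2, 4, 3, 2, 0, 1, 2, 0, 2, 1, 0, 2, 3, 4, 2, 5, 6, 2, 1, 0, 2, 3, 4, 2, 5, 6, 2, 1, 0, 2, 3, 4, 2, 5, 6, 2, 1, 0, 2, 3, 4, 2, 5, 6, 2, 1, 0, 2, 3, 4, 2, 5, 6, 2, 1, 0, 2, 3, 4, 2, 5, 6, 2, 1, 0, 2, 3, 4, 2, 5, 6, 2, 1, 0, 2, 3, 4, 2, 5, 6, 2, 1, 0, 2, 3, 4, 2, 5, 6, 2, 1, 0, 2, 3, 4, 2, 5, 6, 0, 6, 5, 2, 4, 3, 2,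 0, 1, 2, 6, 5, 2, 4, 3, 2, 0, 1], [0, 1, 2, 6, 5, 2, 4, 3, 2, 0, 1, 2, 6, 5, 2, 4, 3, 2, 0, 1, 2, 6, 5, 2, 4, 3, 2, 0, 1, 2, 6, 5, 2, 4, 3, 2, 0, 1, 2, 6, 2, 1, 0, 2, 3, 4, 2, 5, 6, 2, 1, 0, 2, 3, 4, 2, 5, 6, 2, 1, 0, 2, 3, 4, 2, 5, 6, 2, 1, 0, 2, 3, 4, 2, 5, 6, 2, 1, 0, 2, 3, 4, 2, 5, 6, 2, 1, 0, 2, 3, 4, 2, 5, 6, 2, 1, 0, 2, 3, 4, 2, 5, 6, 2, 1, 0, 2, 3, 4, 2, 5, 6, 2, 1, 0, 2, 3, 4, 2, 5, 6, 2, 1, 0, 2, 3, 4, 2, 5, 6, 5, 2, 4, 3, 2, 0, 1, 2, 6, 5, 2, 4, 3, 2, 0, 1, 2, 6, 5, 2, 4, 3, 2, 0, 1, 2, 6, 5, 2, 4, 3, 2, 0, 1, 2, 6, 5, 2, 4, 3, 2, 0, 1, 2, 6, 5, 2, 4, 3], [4, 3, 2, 0, 1, 2, 6, 5, 2, 4, 3, 2, 0, 1, 2, 6, 5, 2, 4, 3, 2, 0, 1, 2, 6, 5, 2, 4, 3, 2, 0, 1, 2, 6, 5, 2, 4, 3, 2, 0, 1, 2, 6, 2, 1, 0, 2, 3, 4, 2, 5, 6, 2, 1, 0, 2, 3, 4, 2, 5, 6, 2, 1, 0, 2, 3, 4, 2, 5, 6, 2, 1, 0, 2, 3, 4, 2, 5, 6,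 2, 1, 0, 2, 3, 4, 2, 5, 6, 2, 1, 0, 2, 3, 4, 2, 5, 6, 2, 1, 0, 2, 3, 4, 2, 5, 6, 2, 1, 0, 2, 3, 4, 2, 5, 6, 2, 1, 0, 2, 3, 4, 2, 5, 6, 2, 1, 0, 2, 3, 4, 2, 5, 6, 5, 2, 4, 3, 2, 0, 1, 2, 6, 5, 2, 4, 3, 2, 0, 1, 2, 6, 5, 2, 4, 3, 2, 0, 1, 2, 6, 5, 2, 4, 3, 2, 0, 1, 2, 6, 5, 2, 4, 3, 2, 0, 1, 2, 6, 5], [5, 6, 2, 1, 0, 2, 3, 4, 2, 5, 6, 2, 1, 0, 2, 3, 4, 2, 5, 6, 2, 1, 0, 2, 3, 4, 2, 5, 6, 2, 1, 0, 2, 3, 4, 2, 5, 6, 2, 1, 0, 2, 3, 4, 2, 5, 6, 2, 1, 0, 2, 3, 4, 2, 5, 6, 2, 1, 0, 2, 3, 4, 2, 5, 6, 2, 1, 0, 2, 3, 4, 2, 5, 6, 2, 1, 0, 2, 3, 4, 2, 5, 6, 5, 2, 4, 3, 2, 0, 1, 2, 6, 5, 2, 4, 3, 2, 0, 1, 2, 6, 5, 2, 4, 3, 2, 0, 1, 2, 6, 5, 2, 4, 3, 2, 0, 1, 2, 6, 5, 2, 4, 3, 2, 0, 1, 2, 6, 5, 2, 4, 3, 2, 0, 1, 2, 6, 5, 2, 4, 3, 2, 0, 1, 2, 6, 5, 2, 4, 3, 2, 0, 1, 2, 6, 5, 2, 4, 3, 2, 0, 1, 2, 6, 5, 2, 4, 3, 2, 0,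 1, 2, 6, 2, 1, 0, 2, 3, 4], [6, 5, 2, 4, 3, 2, 0, 1, 2, 6, 5, 2, 4, 3, 2, 0, 1, 2, 6, 5, 2, 4, 3, 2, 0, 1, 2, 6, 5, 2, 4, 3, 2, 0, 1, 2, 6, 5, 2, 4, 3, 2, 0, 1, 2, 6, 5, 2, 4, 3, 2, 0, 1, 2, 0, 2, 1, 0, 2, 3, 4, 2, 5, 6, 2, 1, 0, 2, 3, 4, 2, 5, 6, 2, 1, 0, 2, 3, 4, 2, 5, 6, 2, 1, 0, 2, 3, 4, 2, 5, 6, 2, 1, 0, 2, 3, 4, 2, 5, 6, 2, 1, 0, 2, 3, 4, 2, 5, 6, 2, 1, 0, 2, 3, 4, 2, 5, 6, 2, 1, 0, 2, 3, 4, 2, 5, 6, 2, 1, 0, 2, 3, 4, 2, 5, 6, 2, 1, 0, 2, 3, 4, 2, 5, 6, 0, 6, 5, 2, 4, 3, 2, 0, 1, 2, 6, 5, 2, 4, 3, 2, 0, 1, 2, 6, 5, 2, 4, 3, 2, 0, 1, 2, 6, 5, 2, 4, 3, 2, 0, 1], [4, 3, 2, 0, 1, 2, 6, 5, 2, 4, 3, 2, 0, 1, 2, 6, 5, 2, 4, 3, 2, 0, 1, 2, 6, 5, 2, 4, 3, 2, 0, 1, 2, 6, 2, 1, 0, 2, 3, 4, 2, 5, 6, 2, 1, 0, 2, 3, 4, 2, 5, 6, 2, 1, 0, 2, 3, 4, 2, 5, 6, 2, 1, 0, 2, 3, 4, 2, 5, 6, 2, 1, 0, 2, 3, 4, 2, 5, 6,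 2, 1, 0, 2, 3, 4, 2, 5, 6, 2, 1, 0, 2, 3, 4, 2, 5, 6, 2, 1, 0, 2, 3, 4, 2, 5, 6, 2, 1, 0, 2, 3, 4, 2, 5, 6, 2, 1, 0, 2, 3, 4, 2, 5, 6, 5, 2, 4, 3, 2, 0, 1, 2, 6, 5, 2, 4, 3, 2, 0, 1, 2, 6, 5, 2, 4, 3, 2, 0, 1, 2, 6, 5, 2, 4, 3, 2, 0, 1, 2, 6, 5, 2, 4, 3, 2, 0, 1, 2, 6, 5, 2, 4, 3, 2, 0, 1, 2, 6, 5], [6, 5, 2, 4, 3, 2, 0, 1, 2, 6, 5, 2, 4, 3, 2, 0, 1, 2, 6, 5, 2, 4, 3, 2, 0, 1, 2, 6, 2, 1, 0, 2, 3, 4, 2, 5, 6, 2, 1, 0, 2, 3, 4, 2, 5, 6, 2, 1, 0, 2, 3, 4, 2, 5, 6, 2, 1, 0, 2, 3, 4, 2, 5, 6, 2, 1, 0, 2, 3, 4, 2, 5, 6, 2, 1, 0, 2, 3, 4, 2, 5, 6, 2, 1, 0, 2, 3, 4, 2, 5, 6, 2, 1, 0, 2, 3, 4, 2, 5, 6, 2, 1, 0, 2, 3, 4, 2, 5, 6, 2, 1, 0, 2, 3, 4, 2, 5, 6, 5, 2, 4, 3, 2, 0, 1, 2, 6, 5, 2, 4, 3, 2, 0, 1, 2, 6, 5, 2, 4, 3, 2, 0, 1, 2, 6, 5, 2, 4, 3, 2, 0, 1, 2, 6, 5, 2, 4, 3, 2, 0, 1, 2, 6, 5, 2, 4, 3, 2, 0, 1,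 2, 6, 5, 2, 4, 3, 2, 0, 1]]
noncomputable def RF2 : List (List (Nat → Nat)) := [[E1, E2, E1, E2, E1], [E3, E2, E3, E2, E3], [E0, E2, E0], [E4, E2, E4], [E6, E2, E6], [E5, E2, E5, E2, E5], [E0, E1, E2, E6, E5, E2, E4, E3, E2, E0, E1, E2, E6, E5, E2, E4, E3, E2, E0, E1, E2, E6, E5, E2, E4, E3, E2, E0, E1, E2, E6, E5, E2, E4, E3, E2, E0, E1, E2, E6, E5, E2, E4, E3, E2, E0, E1, E2, E6, E5, E2, E4, E3, E2, E0, E1, E2, E6, E5, E2, E4, E3, E2, E0, E1, E2, E0, E2, E1, E0, E2, E3, E4, E2, E5, E6, E2, E1, E0, E2, E3, E4, E2, E5, E6, E2, E1, E0, E2, E3, E4, E2, E5, E6, E2, E1, E0, E2, E3, E4, E2, E5, E6, E2, E1, E0, E2, E3, E4, E2, E5, E6, E2, E1, E0, E2, E3, E4, E2, E5, E6, E2, E1, E0, E2, E3, E4, E2, E5, E6, E2, E1, E0, E2, E3, E4, E2, E5, E6, E2, E1, E0, E2, E3, E4, E2, E5, E6, E2, E1, E0, E2, E3, E4, E2, E5,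 E6, E0, E6, E5, E2, E4, E3, E2, E0, E1, E2, E6, E5, E2, E4, E3, E2, E0, E1, E2, E6, E5, E2, E4, E3], [E6, E5, E2, E4, E3, E2, E0, E1, E2, E6, E5, E2, E4, E3, E2, E0, E1, E2, E6, E5, E2, E4, E3, E2, E0, E1, E2, E6, E5, E2, E4, E3, E2, E0, E1, E2, E6, E5, E2, E4, E3, E2, E0, E1, E2, E6, E5, E2, E4, E3, E2, E0, E1, E2, E6, E5, E2, E4, E3, E2, E0, E1, E2, E6, E5, E2, E4, E3, E2, E0, E1, E2, E6, E5, E2, E4, E3, E2, E0, E1, E2, E6, E2, E1, E0, E2, E3, E4, E2, E5, E6, E2, E1, E0, E2, E3, E4, E2, E5, E6, E2, E1, E0, E2, E3, E4, E2, E5, E6, E2, E1, E0, E2, E3, E4, E2, E5, E6, E2, E1, E0, E2, E3, E4, E2, E5, E6, E2, E1, E0, E2, E3, E4, E2, E5, E6, E2, E1, E0, E2, E3, E4, E2, E5, E6, E2, E1, E0, E2, E3, E4, E2, E5, E6, E2, E1, E0, E2, E3, E4, E2, E5, E6, E2, E1, E0, E2, E3, E4, E2, E5, E6, E5, E2, E4, E3, E2,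 E0, E1], [E3, E4, E2, E5, E6, E5, E2, E4, E3, E2, E0, E1, E2, E6, E5, E2, E4, E3, E2, E0, E1, E2, E6, E5, E2, E4, E3, E2, E0, E1, E2, E6, E5, E2, E4, E3, E2, E0, E1, E2, E6, E5, E2, E4, E3, E2, E0, E1, E2, E6, E5, E2, E4, E3, E2, E0, E1, E2, E6, E5, E2, E4, E3, E2, E0, E1, E2, E6, E5, E2, E4, E3, E2, E0, E1, E2, E6, E5, E2, E4, E3, E2, E0, E1, E2, E6, E5, E2, E4, E3, E2, E0, E1, E2, E6, E2, E1, E0, E2, E3, E4, E2, E5, E6, E2, E1, E0, E2, E3, E4, E2, E5, E6, E2, E1, E0, E2, E3, E4, E2, E5, E6, E2, E1, E0, E2, E3, E4, E2, E5, E6, E2, E1, E0, E2, E3, E4, E2, E5, E6, E2, E1, E0, E2, E3, E4, E2, E5, E6, E2, E1, E0, E2, E3, E4, E2, E5, E6, E2, E1, E0, E2, E3, E4, E2, E5, E6, E2, E1, E0, E2, E3, E4, E2, E5, E6, E2, E1, E0], [E6, E5, E2, E4, E3, E2, E0, E1, E2, E6, E5, E2, E4, E3, E2, E0, E1, E2, E6, E5, E2,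 E4, E3, E2, E0, E1, E2, E6, E5, E2, E4, E3, E2, E0, E1, E2, E6, E5, E2, E4, E3, E2, E0, E1, E2, E6, E5, E2, E4, E3, E2, E0, E1, E2, E6, E5, E2, E4, E3, E2, E0, E1, E2, E6, E5, E2, E4, E3, E2, E0, E1, E2, E0, E2, E1, E0, E2, E3, E4, E2, E5, E6, E2, E1, E0, E2, E3, E4, E2, E5, E6, E2, E1, E0, E2, E3, E4, E2, E5, E6, E2, E1, E0, E2, E3, E4, E2, E5, E6, E2, E1, E0, E2, E3, E4, E2, E5, E6, E2, E1, E0, E2, E3, E4, E2, E5, E6, E2, E1, E0, E2, E3, E4, E2, E5, E6, E2, E1, E0, E2, E3, E4, E2, E5, E6, E2, E1, E0, E2, E3, E4, E2, E5, E6, E2, E1, E0, E2, E3, E4, E2, E5, E6, E0, E6, E5, E2, E4, E3, E2, E0, E1, E2, E6, E5, E2, E4, E3, E2, E0, E1], [E0, E1, E2, E6, E5, E2, E4, E3, E2, E0, E1, E2, E6, E5, E2, E4, E3, E2, E0, E1, E2, E6, E5, E2, E4, E3, E2, E0, E1, E2, E6, E5, E2, E4, E3, E2, E0, E1, E2, E6, E2, E1,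 E0, E2, E3, E4, E2, E5, E6, E2, E1, E0, E2, E3, E4, E2, E5, E6, E2, E1, E0, E2, E3, E4, E2, E5, E6, E2, E1, E0, E2, E3, E4, E2, E5, E6, E2, E1, E0, E2, E3, E4, E2, E5, E6, E2, E1, E0, E2, E3, E4, E2, E5, E6, E2, E1, E0, E2, E3, E4, E2, E5, E6, E2, E1, E0, E2, E3, E4, E2, E5, E6, E2, E1, E0, E2, E3, E4, E2, E5, E6, E2, E1, E0, E2, E3, E4, E2, E5, E6, E5, E2, E4, E3, E2, E0, E1, E2, E6, E5, E2, E4, E3, E2, E0, E1, E2, E6, E5, E2, E4, E3, E2, E0, E1, E2, E6, E5, E2, E4, E3, E2, E0, E1, E2, E6, E5, E2, E4, E3, E2, E0, E1, E2, E6, E5, E2, E4, E3], [E4, E3, E2, E0, E1, E2, E6, E5, E2, E4, E3, E2, E0, E1, E2, E6, E5, E2, E4, E3, E2, E0, E1, E2, E6, E5, E2, E4, E3, E2, E0, E1, E2, E6, E5, E2, E4, E3, E2, E0, E1, E2, E6, E2, E1, E0, E2, E3, E4, E2, E5, E6, E2, E1, E0, E2, E3, E4, E2, E5, E6, E2, E1, E0, E2,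 E3, E4, E2, E5, E6, E2, E1, E0, E2, E3, E4, E2, E5, E6, E2, E1, E0, E2, E3, E4, E2, E5, E6, E2, E1, E0, E2, E3, E4, E2, E5, E6, E2, E1, E0, E2, E3, E4, E2, E5, E6, E2, E1, E0, E2, E3, E4, E2, E5, E6, E2, E1, E0, E2, E3, E4, E2, E5, E6, E2, E1, E0, E2, E3, E4, E2, E5, E6, E5, E2, E4, E3, E2, E0, E1, E2, E6, E5, E2, E4, E3, E2, E0, E1, E2, E6, E5, E2, E4, E3, E2, E0, E1, E2, E6, E5, E2, E4, E3, E2, E0, E1, E2, E6, E5, E2, E4, E3, E2, E0, E1, E2, E6, E5], [E5, E6, E2, E1, E0, E2, E3, E4, E2, E5, E6, E2, E1, E0, E2, E3, E4, E2, E5, E6, E2, E1, E0, E2, E3, E4, E2, E5, E6, E2, E1, E0, E2, E3, E4, E2, E5, E6, E2, E1, E0, E2, E3, E4, E2, E5, E6, E2, E1, E0, E2, E3, E4, E2, E5, E6, E2, E1, E0, E2, E3, E4, E2, E5, E6, E2, E1, E0, E2, E3, E4, E2, E5, E6, E2, E1, E0, E2, E3, E4, E2, E5, E6, E5, E2, E4, E3, E2,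 E0, E1, E2, E6, E5, E2, E4, E3, E2, E0, E1, E2, E6, E5, E2, E4, E3, E2, E0, E1, E2, E6, E5, E2, E4, E3, E2, E0, E1, E2, E6, E5, E2, E4, E3, E2, E0, E1, E2, E6, E5, E2, E4, E3, E2, E0, E1, E2, E6, E5, E2, E4, E3, E2, E0, E1, E2, E6, E5, E2, E4, E3, E2, E0, E1, E2, E6, E5, E2, E4, E3, E2, E0, E1, E2, E6, E5, E2, E4, E3, E2, E0, E1, E2, E6, E2, E1, E0, E2, E3, E4], [E6, E5, E2, E4, E3, E2, E0, E1, E2, E6, E5, E2, E4, E3, E2, E0, E1, E2, E6, E5, E2, E4, E3, E2, E0, E1, E2, E6, E5, E2, E4, E3, E2, E0, E1, E2, E6, E5, E2, E4, E3, E2, E0, E1, E2, E6, E5, E2, E4, E3, E2, E0, E1, E2, E0, E2, E1, E0, E2, E3, E4, E2, E5, E6, E2, E1, E0, E2, E3, E4, E2, E5, E6, E2, E1, E0, E2, E3, E4, E2, E5, E6, E2, E1, E0, E2, E3, E4, E2, E5, E6, E2, E1, E0, E2, E3, E4, E2, E5, E6, E2, E1, E0, E2, E3, E4, E2, E5, E6, E2, E1,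 E0, E2, E3, E4, E2, E5, E6, E2, E1, E0, E2, E3, E4, E2, E5, E6, E2, E1, E0, E2, E3, E4, E2, E5, E6, E2, E1, E0, E2, E3, E4, E2, E5, E6, E0, E6, E5, E2, E4, E3, E2, E0, E1, E2, E6, E5, E2, E4, E3, E2, E0, E1, E2, E6, E5, E2, E4, E3, E2, E0, E1, E2, E6, E5, E2, E4, E3, E2, E0, E1], [E4, E3, E2, E0, E1, E2, E6, E5, E2, E4, E3, E2, E0, E1, E2, E6, E5, E2, E4, E3, E2, E0, E1, E2, E6, E5, E2, E4, E3, E2, E0, E1, E2, E6, E2, E1, E0, E2, E3, E4, E2, E5, E6, E2, E1, E0, E2, E3, E4, E2, E5, E6, E2, E1, E0, E2, E3, E4, E2, E5, E6, E2, E1, E0, E2, E3, E4, E2, E5, E6, E2, E1, E0, E2, E3, E4, E2, E5, E6, E2, E1, E0, E2, E3, E4, E2, E5, E6, E2, E1, E0, E2, E3, E4, E2, E5, E6, E2, E1, E0, E2, E3, E4, E2, E5, E6, E2, E1, E0, E2, E3, E4, E2, E5, E6, E2, E1, E0, E2, E3, E4, E2, E5, E6, E5, E2, E4, E3, E2, E0, E1, E2,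 E6, E5, E2, E4, E3, E2, E0, E1, E2, E6, E5, E2, E4, E3, E2, E0, E1, E2, E6, E5, E2, E4, E3, E2, E0, E1, E2, E6, E5, E2, E4, E3, E2, E0, E1, E2, E6, E5, E2, E4, E3, E2, E0, E1, E2, E6, E5], [E6, E5, E2, E4, E3, E2, E0, E1, E2, E6, E5, E2, E4, E3, E2, E0, E1, E2, E6, E5, E2, E4, E3, E2, E0, E1, E2, E6, E2, E1, E0, E2, E3, E4, E2, E5, E6, E2, E1, E0, E2, E3, E4, E2, E5, E6, E2, E1, E0, E2, E3, E4, E2, E5, E6, E2, E1, E0, E2, E3, E4, E2, E5, E6, E2, E1, E0, E2, E3, E4, E2, E5, E6, E2, E1, E0, E2, E3, E4, E2, E5, E6, E2, E1, E0, E2, E3, E4, E2, E5, E6, E2, E1, E0, E2, E3, E4, E2, E5, E6, E2, E1, E0, E2, E3, E4, E2, E5, E6, E2, E1, E0, E2, E3, E4, E2, E5, E6, E5, E2, E4, E3, E2, E0, E1, E2, E6, E5, E2, E4, E3, E2, E0, E1, E2, E6, E5, E2, E4, E3, E2, E0, E1, E2, E6, E5, E2, E4, E3, E2, E0, E1, E2, E6, E5,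 E2, E4, E3, E2, E0, E1, E2, E6, E5, E2, E4, E3, E2, E0, E1, E2, E6, E5, E2, E4, E3, E2, E0, E1]]
def RC2 : List Nat := [3074, 5632, 514, 6144, 7168, 6656, 11494, 10948, 10922, 11482, 11032, 11026, 10766, 11518, 11044, 11056]
def RW3 : List (List Nat) := [[2, 3, 2, 3, 2], [5, 3, 5], [0, 3, 0], [1, 3, 1], [6, 3, 6], [4, 3, 4, 3, 4], [2, 0, 1, 2, 6, 5, 2, 4, 3, 2, 0, 1, 2, 6, 5, 2, 4, 3, 2, 0, 1, 2, 0, 2, 1, 0, 2, 3, 4, 2, 5, 6, 2, 1, 0, 2, 3, 4, 2, 5, 6, 2, 1, 0, 2, 3, 4, 2, 5, 6, 2, 1, 0, 2, 3, 4, 2, 5, 6, 2, 1, 0, 2, 3, 4, 2, 5, 6, 2, 1, 0, 2, 3, 4, 2, 5, 6, 2, 1, 0, 2, 3, 4, 2, 5, 6, 2, 1, 0, 2, 3, 4, 2, 5, 6, 2, 1, 0, 2, 3, 4, 2, 5, 6, 2, 1, 0, 2, 3, 4, 2, 5, 6, 0, 6, 5, 2, 4, 3, 2, 0, 1, 2, 6, 5, 2, 4, 3, 2, 0, 1, 2, 6, 5, 2, 4, 3, 2, 0, 1, 2, 6, 5, 2, 4, 3, 2, 0, 1, 2, 6, 5, 2, 4, 3, 2, 0, 1, 2,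 6, 5, 2, 4, 3, 2, 0, 1, 2, 6, 5, 2, 4, 3, 2, 0, 1, 2, 6, 5, 2, 4], [2, 0, 1, 2, 6, 5, 2, 4, 3, 2, 0, 1, 2, 6, 5, 2, 4, 3, 2, 0, 1, 2, 6, 5, 2, 4, 3, 2, 0, 1, 2, 6, 5, 2, 4, 3, 2, 0, 1, 2, 0, 2, 1, 0, 2, 3, 4, 2, 5, 6, 2, 1, 0, 2, 3, 4, 2, 5, 6, 2, 1, 0, 2, 3, 4, 2, 5, 6, 2, 1, 0, 2, 3, 4, 2, 5, 6, 2, 1, 0, 2, 3, 4, 2, 5, 6, 2, 1, 0, 2, 3, 4, 2, 5, 6, 2, 1, 0, 2, 3, 4, 2, 5, 6, 2, 1, 0, 2, 3, 4, 2, 5, 6, 2, 1, 0, 2, 3, 4, 2, 5, 6, 2, 1, 0, 2, 3, 4, 2, 5, 6, 0, 6, 5, 2, 4, 3, 2, 0, 1, 2, 6, 5, 2, 4, 3, 2, 0, 1, 2, 6, 5, 2, 4, 3, 2, 0, 1, 2, 6, 5, 2, 4, 3, 2, 0, 1, 2, 6, 5, 2, 4, 3, 2, 0, 1, 2, 6, 5, 2, 4], [2, 0, 1, 2, 6, 5, 2, 4, 3, 2, 0, 1, 2, 6, 5, 2, 4, 3, 2, 0, 1, 2, 6, 5, 2, 4, 3, 2, 0, 1, 2, 6, 5, 2, 4, 3, 2, 0, 1, 2, 6, 5, 2, 4, 3, 2, 0, 1, 2, 6, 5, 2, 4, 3, 2, 0, 1, 2, 6, 2, 1, 0, 2, 3, 4, 2,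 5, 6, 2, 1, 0, 2, 3, 4, 2, 5, 6, 2, 1, 0, 2, 3, 4, 2, 5, 6, 2, 1, 0, 2, 3, 4, 2, 5, 6, 2, 1, 0, 2, 3, 4, 2, 5, 6, 2, 1, 0, 2, 3, 4, 2, 5, 6, 2, 1, 0, 2, 3, 4, 2, 5, 6, 2, 1, 0, 2, 3, 4, 2, 5, 6, 2, 1, 0, 2, 3, 4, 2, 5, 6, 2, 1, 0, 2, 3, 4, 2, 5, 6, 5, 2, 4, 3, 2, 0, 1, 2, 6, 5, 2, 4, 3, 2, 0, 1, 2, 6, 5, 2, 4, 3, 2, 0, 1, 2, 6, 5, 2, 4], [2, 0, 1, 2, 6, 5, 2, 4, 3, 2, 0, 1, 2, 6, 5, 2, 4, 3, 2, 0, 1, 2, 6, 5, 2, 4, 3, 2, 0, 1, 2, 6, 5, 2, 4, 3, 2, 0, 1, 2, 6, 5, 2, 4, 3, 2, 0, 1, 2, 6, 2, 1, 0, 2, 3, 4, 2, 5, 6, 2, 1, 0, 2, 3, 4, 2, 5, 6, 2, 1, 0, 2, 3, 4, 2, 5, 6, 2, 1, 0, 2, 3, 4, 2, 5, 6, 2, 1, 0, 2, 3, 4, 2, 5, 6, 2, 1, 0, 2, 3, 4, 2, 5, 6, 2, 1, 0, 2, 3, 4, 2, 5, 6, 2, 1, 0, 2, 3, 4, 2, 5, 6, 2, 1, 0, 2, 3, 4, 2, 5, 6, 2, 1, 0, 2, 3, 4, 2, 5, 6, 5, 2, 4, 3, 2, 0, 1, 2, 6, 5, 2, 4, 3, 2, 0, 1, 2,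 6, 5, 2, 4, 3, 2, 0, 1, 2, 6, 5, 2, 4, 3, 2, 0, 1, 2, 6, 5, 2, 4], [2, 0, 1, 2, 6, 5, 2, 4, 3, 2, 0, 1, 2, 6, 5, 2, 4, 3, 2, 0, 1, 2, 6, 5, 2, 4, 3, 2, 0, 1, 2, 0, 2, 1, 0, 2, 3, 4, 2, 5, 6, 2, 1, 0, 2, 3, 4, 2, 5, 6, 2, 1, 0, 2, 3, 4, 2, 5, 6, 2, 1, 0, 2, 3, 4, 2, 5, 6, 2, 1, 0, 2, 3, 4, 2, 5, 6, 2, 1, 0, 2, 3, 4, 2, 5, 6, 2, 1, 0, 2, 3, 4, 2, 5, 6, 2, 1, 0, 2, 3, 4, 2, 5, 6, 2, 1, 0, 2, 3, 4, 2, 5, 6, 2, 1, 0, 2, 3, 4, 2, 5, 6, 0, 6, 5, 2, 4, 3, 2, 0, 1, 2, 6, 5, 2, 4, 3, 2, 0, 1, 2, 6, 5, 2, 4, 3, 2, 0, 1, 2, 6, 5, 2, 4, 3, 2, 0, 1, 2, 6, 5, 2, 4, 3, 2, 0, 1, 2, 6, 5, 2, 4, 3, 2, 0, 1, 2, 6, 5, 2, 4], [2, 0, 1, 2, 6, 5, 2, 4, 3, 2, 0, 1, 2, 6, 5, 2, 4, 3, 2, 0, 1, 2, 6, 5, 2, 4, 3, 2, 0, 1, 2, 6, 2, 1, 0, 2, 3, 4, 2, 5, 6, 2, 1, 0, 2, 3, 4, 2, 5, 6, 2, 1, 0, 2, 3, 4, 2, 5, 6, 2, 1, 0, 2, 3, 4, 2,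 5, 6, 2, 1, 0, 2, 3, 4, 2, 5, 6, 2, 1, 0, 2, 3, 4, 2, 5, 6, 2, 1, 0, 2, 3, 4, 2, 5, 6, 2, 1, 0, 2, 3, 4, 2, 5, 6, 2, 1, 0, 2, 3, 4, 2, 5, 6, 2, 1, 0, 2, 3, 4, 2, 5, 6, 5, 2, 4, 3, 2, 0, 1, 2, 6, 5, 2, 4, 3, 2, 0, 1, 2, 6, 5, 2, 4, 3, 2, 0, 1, 2, 6, 5, 2, 4, 3, 2, 0, 1, 2, 6, 5, 2, 4, 3, 2, 0, 1, 2, 6, 5, 2, 4, 3, 2, 0, 1, 2, 6, 5, 2, 4], [2, 0, 1, 2, 6, 5, 2, 4, 3, 2, 0, 1, 2, 6, 5, 2, 4, 3, 2, 0, 1, 2, 6, 5, 2, 4, 3, 2, 0, 1, 2, 6, 5, 2, 4, 3, 2, 0, 1, 2, 6, 2, 1, 0, 2, 3, 4, 2, 5, 6, 2, 1, 0, 2, 3, 4, 2, 5, 6, 2, 1, 0, 2, 3, 4, 2, 5, 6, 2, 1, 0, 2, 3, 4, 2, 5, 6, 2, 1, 0, 2, 3, 4, 2, 5, 6, 2, 1, 0, 2, 3, 4, 2, 5, 6, 2, 1, 0, 2, 3, 4, 2, 5, 6, 2, 1, 0, 2, 3, 4, 2, 5, 6, 2, 1, 0, 2, 3, 4, 2, 5, 6, 2, 1, 0, 2, 3, 4, 2, 5, 6, 5, 2, 4, 3, 2, 0, 1, 2, 6, 5, 2, 4, 3, 2, 0, 1, 2, 6, 5, 2, 4, 3, 2, 0, 1, 2,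 6, 5, 2, 4, 3, 2, 0, 1, 2, 6, 5, 2, 4, 3, 2, 0, 1, 2, 6, 5, 2, 4], [4, 2, 5, 6, 2, 1, 0, 2, 3, 4, 2, 5, 6, 2, 1, 0, 2, 3, 4, 2, 5, 6, 2, 1, 0, 2, 3, 4, 2, 5, 6, 2, 1, 0, 2, 3, 4, 2, 5, 6, 5, 2, 4, 3, 2, 0, 1, 2, 6, 5, 2, 4, 3, 2, 0, 1, 2, 6, 5, 2, 4, 3, 2, 0, 1, 2, 6, 5, 2, 4, 3, 2, 0, 1, 2, 6, 5, 2, 4, 3, 2, 0, 1, 2, 6, 5, 2, 4, 3, 2, 0, 1, 2, 6, 5, 2, 4, 3, 2, 0, 1, 2, 6, 5, 2, 4, 3, 2, 0, 1, 2, 6, 5, 2, 4, 3, 2, 0, 1, 2, 6, 5, 2, 4, 3, 2, 0, 1, 2, 6, 2, 1, 0, 2, 3, 4, 2, 5, 6, 2, 1, 0, 2, 3, 4, 2, 5, 6, 2, 1, 0, 2, 3, 4, 2, 5, 6, 2, 1, 0, 2, 3, 4, 2, 5, 6, 2, 1, 0, 2, 3, 4, 2, 5, 6, 2, 1, 0, 2]]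
noncomputable def RF3 : List (List (Nat → Nat)) := [[E2, E3, E2, E3, E2], [E5, E3, E5], [E0, E3, E0], [E1, E3, E1], [E6, E3, E6], [E4, E3, E4, E3, E4], [E2, E0, E1, E2, E6, E5, E2, E4, E3, E2, E0, E1, E2, E6, E5, E2, E4, E3, E2, E0, E1, E2, E0, E2, E1, E0, E2, E3, E4, E2, E5, E6, E2, E1, E0, E2, E3, E4, E2, E5, E6, E2, E1, E0, E2, E3, E4, E2, E5, E6, E2, E1, E0, E2, E3, E4, E2, E5, E6, E2, E1, E0, E2, E3, E4, E2, E5, E6, E2, E1, E0, E2, E3, E4, E2, E5, E6, E2, E1, E0, E2, E3, E4, E2, E5, E6, E2, E1, E0, E2, E3, E4, E2, E5, E6, E2, E1, E0, E2, E3, E4, E2, E5, E6, E2, E1, E0, E2, E3, E4, E2, E5, E6, E0, E6, E5, E2, E4, E3, E2, E0, E1, E2, E6, E5, E2, E4, E3, E2, E0, E1, E2, E6, E5, E2, E4, E3, E2, E0, E1, E2, E6, E5, E2, E4, E3, E2, E0, E1, E2, E6, E5, E2, E4, E3, E2, E0, E1, E2, E6, E5, E2, E4, E3, E2,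 E0, E1, E2, E6, E5, E2, E4, E3, E2, E0, E1, E2, E6, E5, E2, E4], [E2, E0, E1, E2, E6, E5, E2, E4, E3, E2, E0, E1, E2, E6, E5, E2, E4, E3, E2, E0, E1, E2, E6, E5, E2, E4, E3, E2, E0, E1, E2, E6, E5, E2, E4, E3, E2, E0, E1, E2, E0, E2, E1, E0, E2, E3, E4, E2, E5, E6, E2, E1, E0, E2, E3, E4, E2, E5, E6, E2, E1, E0, E2, E3, E4, E2, E5, E6, E2, E1, E0, E2, E3, E4, E2, E5, E6, E2, E1, E0, E2, E3, E4, E2, E5, E6, E2, E1, E0, E2, E3, E4, E2, E5, E6, E2, E1, E0, E2, E3, E4, E2, E5, E6, E2, E1, E0, E2, E3, E4, E2, E5, E6, E2, E1, E0, E2, E3, E4, E2, E5, E6, E2, E1, E0, E2, E3, E4, E2, E5, E6, E0, E6, E5, E2, E4, E3, E2, E0, E1, E2, E6, E5, E2, E4, E3, E2, E0, E1, E2, E6, E5, E2, E4, E3, E2, E0, E1, E2, E6, E5, E2, E4, E3, E2, E0, E1, E2, E6, E5, E2, E4, E3, E2, E0, E1, E2, E6, E5, E2, E4], [E2, E0, E1, E2, E6,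 E5, E2, E4, E3, E2, E0, E1, E2, E6, E5, E2, E4, E3, E2, E0, E1, E2, E6, E5, E2, E4, E3, E2, E0, E1, E2, E6, E5, E2, E4, E3, E2, E0, E1, E2, E6, E5, E2, E4, E3, E2, E0, E1, E2, E6, E5, E2, E4, E3, E2, E0, E1, E2, E6, E2, E1, E0, E2, E3, E4, E2, E5, E6, E2, E1, E0, E2, E3, E4, E2, E5, E6, E2, E1, E0, E2, E3, E4, E2, E5, E6, E2, E1, E0, E2, E3, E4, E2, E5, E6, E2, E1, E0, E2, E3, E4, E2, E5, E6, E2, E1, E0, E2, E3, E4, E2, E5, E6, E2, E1, E0, E2, E3, E4, E2, E5, E6, E2, E1, E0, E2, E3, E4, E2, E5, E6, E2, E1, E0, E2, E3, E4, E2, E5, E6, E2, E1, E0, E2, E3, E4, E2, E5, E6, E5, E2, E4, E3, E2, E0, E1, E2, E6, E5, E2, E4, E3, E2, E0, E1, E2, E6, E5, E2, E4, E3, E2, E0, E1, E2, E6, E5, E2, E4], [E2, E0, E1, E2, E6, E5, E2, E4, E3, E2, E0, E1, E2, E6, E5, E2, E4, E3, E2, E0, E1, E2, E6, E5, E2, E4, E3, E2,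 E0, E1, E2, E6, E5, E2, E4, E3, E2, E0, E1, E2, E6, E5, E2, E4, E3, E2, E0, E1, E2, E6, E2, E1, E0, E2, E3, E4, E2, E5, E6, E2, E1, E0, E2, E3, E4, E2, E5, E6, E2, E1, E0, E2, E3, E4, E2, E5, E6, E2, E1, E0, E2, E3, E4, E2, E5, E6, E2, E1, E0, E2, E3, E4, E2, E5, E6, E2, E1, E0, E2, E3, E4, E2, E5, E6, E2, E1, E0, E2, E3, E4, E2, E5, E6, E2, E1, E0, E2, E3, E4, E2, E5, E6, E2, E1, E0, E2, E3, E4, E2, E5, E6, E2, E1, E0, E2, E3, E4, E2, E5, E6, E5, E2, E4, E3, E2, E0, E1, E2, E6, E5, E2, E4, E3, E2, E0, E1, E2, E6, E5, E2, E4, E3, E2, E0, E1, E2, E6, E5, E2, E4, E3, E2, E0, E1, E2, E6, E5, E2, E4], [E2, E0, E1, E2, E6, E5, E2, E4, E3, E2, E0, E1, E2, E6, E5, E2, E4, E3, E2, E0, E1, E2, E6, E5, E2, E4, E3, E2, E0, E1, E2, E0, E2, E1, E0, E2, E3, E4, E2, E5, E6, E2, E1, E0, E2, E3, E4, E2, E5, E6, E2,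 E1, E0, E2, E3, E4, E2, E5, E6, E2, E1, E0, E2, E3, E4, E2, E5, E6, E2, E1, E0, E2, E3, E4, E2, E5, E6, E2, E1, E0, E2, E3, E4, E2, E5, E6, E2, E1, E0, E2, E3, E4, E2, E5, E6, E2, E1, E0, E2, E3, E4, E2, E5, E6, E2, E1, E0, E2, E3, E4, E2, E5, E6, E2, E1, E0, E2, E3, E4, E2, E5, E6, E0, E6, E5, E2, E4, E3, E2, E0, E1, E2, E6, E5, E2, E4, E3, E2, E0, E1, E2, E6, E5, E2, E4, E3, E2, E0, E1, E2, E6, E5, E2, E4, E3, E2, E0, E1, E2, E6, E5, E2, E4, E3, E2, E0, E1, E2, E6, E5, E2, E4, E3, E2, E0, E1, E2, E6, E5, E2, E4], [E2, E0, E1, E2, E6, E5, E2, E4, E3, E2, E0, E1, E2, E6, E5, E2, E4, E3, E2, E0, E1, E2, E6, E5, E2, E4, E3, E2, E0, E1, E2, E6, E2, E1, E0, E2, E3, E4, E2, E5, E6, E2, E1, E0, E2, E3, E4, E2, E5, E6, E2, E1, E0, E2, E3, E4, E2, E5, E6, E2, E1, E0, E2, E3, E4, E2, E5, E6, E2, E1, E0, E2,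 E3, E4, E2, E5, E6, E2, E1, E0, E2, E3, E4, E2, E5, E6, E2, E1, E0, E2, E3, E4, E2, E5, E6, E2, E1, E0, E2, E3, E4, E2, E5, E6, E2, E1, E0, E2, E3, E4, E2, E5, E6, E2, E1, E0, E2, E3, E4, E2, E5, E6, E5, E2, E4, E3, E2, E0, E1, E2, E6, E5, E2, E4, E3, E2, E0, E1, E2, E6, E5, E2, E4, E3, E2, E0, E1, E2, E6, E5, E2, E4, E3, E2, E0, E1, E2, E6, E5, E2, E4, E3, E2, E0, E1, E2, E6, E5, E2, E4, E3, E2, E0, E1, E2, E6, E5, E2, E4], [E2, E0, E1, E2, E6, E5, E2, E4, E3, E2, E0, E1, E2, E6, E5, E2, E4, E3, E2, E0, E1, E2, E6, E5, E2, E4, E3, E2, E0, E1, E2, E6, E5, E2, E4, E3, E2, E0, E1, E2, E6, E2, E1, E0, E2, E3, E4, E2, E5, E6, E2, E1, E0, E2, E3, E4, E2, E5, E6, E2, E1, E0, E2, E3, E4, E2, E5, E6, E2, E1, E0, E2, E3, E4, E2, E5, E6, E2, E1, E0, E2, E3, E4, E2, E5, E6, E2, E1, E0, E2, E3, E4, E2, E5, E6,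 E2, E1, E0, E2, E3, E4, E2, E5, E6, E2, E1, E0, E2, E3, E4, E2, E5, E6, E2, E1, E0, E2, E3, E4, E2, E5, E6, E2, E1, E0, E2, E3, E4, E2, E5, E6, E5, E2, E4, E3, E2, E0, E1, E2, E6, E5, E2, E4, E3, E2, E0, E1, E2, E6, E5, E2, E4, E3, E2, E0, E1, E2, E6, E5, E2, E4, E3, E2, E0, E1, E2, E6, E5, E2, E4, E3, E2, E0, E1, E2, E6, E5, E2, E4], [E4, E2, E5, E6, E2, E1, E0, E2, E3, E4, E2, E5, E6, E2, E1, E0, E2, E3, E4, E2, E5, E6, E2, E1, E0, E2, E3, E4, E2, E5, E6, E2, E1, E0, E2, E3, E4, E2, E5, E6, E5, E2, E4, E3, E2, E0, E1, E2, E6, E5, E2, E4, E3, E2, E0, E1, E2, E6, E5, E2, E4, E3, E2, E0, E1, E2, E6, E5, E2, E4, E3, E2, E0, E1, E2, E6, E5, E2, E4, E3, E2, E0, E1, E2, E6, E5, E2, E4, E3, E2, E0, E1, E2, E6, E5, E2, E4, E3, E2, E0, E1, E2, E6, E5, E2, E4, E3, E2, E0, E1, E2, E6, E5, E2, E4, E3, E2, E0,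 E1, E2, E6, E5, E2, E4, E3, E2, E0, E1, E2, E6, E2, E1, E0, E2, E3, E4, E2, E5, E6, E2, E1, E0, E2, E3, E4, E2, E5, E6, E2, E1, E0, E2, E3, E4, E2, E5, E6, E2, E1, E0, E2, E3, E4, E2, E5, E6, E2, E1, E0, E2, E3, E4, E2, E5, E6, E2, E1, E0, E2]]
def RC3 : List Nat := [5634, 8192, 1026, 3586, 8704, 7680, 11582, 11546, 10994, 11012, 11564, 11048, 11030, 10852]
def RW4 : List (List Nat) := [[3, 4, 3, 4, 3], [2, 4, 2], [5, 4, 5], [0, 4, 0], [1, 4, 1], [6, 4, 6], [3, 2, 0, 1, 2, 6, 5, 2, 4, 3, 2, 0, 1, 2, 6, 5, 2, 4, 3, 2, 0, 1, 2, 6, 5, 2, 4, 3, 2, 0, 1, 2, 6, 5, 2, 4, 3, 2, 0, 1, 2, 6, 2, 1, 0, 2, 3, 4, 2, 5, 6, 2, 1, 0, 2, 3, 4, 2, 5, 6, 2, 1, 0, 2, 3, 4, 2, 5, 6, 2, 1, 0, 2, 3, 4, 2, 5, 6, 2, 1, 0, 2, 3, 4, 2, 5, 6, 2, 1, 0, 2, 3, 4, 2, 5, 6, 2, 1, 0, 2, 3, 4, 2, 5, 6, 2, 1, 0, 2, 3, 4, 2, 5, 6, 2, 1,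 0, 2, 3, 4, 2, 5, 6, 2, 1, 0, 2, 3, 4, 2, 5, 6, 5, 2, 4, 3, 2, 0, 1, 2, 6, 5, 2, 4, 3, 2, 0, 1, 2, 6, 5, 2, 4, 3, 2, 0, 1, 2, 6, 5, 2, 4, 3, 2, 0, 1, 2, 6, 5, 2, 4, 3, 2, 0, 1, 2, 6, 5, 2], [3, 2, 0, 1, 2, 6, 5, 2, 4, 3, 2, 0, 1, 2, 6, 5, 2, 4, 3, 2, 0, 1, 2, 6, 5, 2, 4, 3, 2, 0, 1, 2, 6, 5, 2, 4, 3, 2, 0, 1, 2, 6, 5, 2, 4, 3, 2, 0, 1, 2, 6, 5, 2, 4, 3, 2, 0, 1, 2, 6, 2, 1, 0, 2, 3, 4, 2, 5, 6, 2, 1, 0, 2, 3, 4, 2, 5, 6, 2, 1, 0, 2, 3, 4, 2, 5, 6, 2, 1, 0, 2, 3, 4, 2, 5, 6, 2, 1, 0, 2, 3, 4, 2, 5, 6, 2, 1, 0, 2, 3, 4, 2, 5, 6, 2, 1, 0, 2, 3, 4, 2, 5, 6, 2, 1, 0, 2, 3, 4, 2, 5, 6, 2, 1, 0, 2, 3, 4, 2, 5, 6, 2, 1, 0, 2, 3, 4, 2, 5, 6, 5, 2, 4, 3, 2, 0, 1, 2, 6, 5, 2, 4, 3, 2, 0, 1, 2, 6, 5, 2, 4, 3, 2, 0, 1, 2, 6, 5, 2], [3, 2, 0, 1, 2, 6, 5, 2, 4, 3, 2, 0, 1, 2, 6, 5, 2, 4, 3, 2, 0, 1, 2, 6, 5, 2, 4,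 3, 2, 0, 1, 2, 6, 2, 1, 0, 2, 3, 4, 2, 5, 6, 2, 1, 0, 2, 3, 4, 2, 5, 6, 2, 1, 0, 2, 3, 4, 2, 5, 6, 2, 1, 0, 2, 3, 4, 2, 5, 6, 2, 1, 0, 2, 3, 4, 2, 5, 6, 2, 1, 0, 2, 3, 4, 2, 5, 6, 2, 1, 0, 2, 3, 4, 2, 5, 6, 2, 1, 0, 2, 3, 4, 2, 5, 6, 2, 1, 0, 2, 3, 4, 2, 5, 6, 2, 1, 0, 2, 3, 4, 2, 5, 6, 5, 2, 4, 3, 2, 0, 1, 2, 6, 5, 2, 4, 3, 2, 0, 1, 2, 6, 5, 2, 4, 3, 2, 0, 1, 2, 6, 5, 2, 4, 3, 2, 0, 1, 2, 6, 5, 2, 4, 3, 2, 0, 1, 2, 6, 5, 2, 4, 3, 2, 0, 1, 2, 6, 5, 2], [3, 2, 0, 1, 2, 0, 2, 1, 0, 2, 3, 4, 2, 5, 6, 2, 1, 0, 2, 3, 4, 2, 5, 6, 2, 1, 0, 2, 3, 4, 2, 5, 6, 2, 1, 0, 2, 3, 4, 2, 5, 6, 2, 1, 0, 2, 3, 4, 2, 5, 6, 2, 1, 0, 2, 3, 4, 2, 5, 6, 2, 1, 0, 2, 3, 4, 2, 5, 6, 2, 1, 0, 2, 3, 4, 2, 5, 6, 2, 1, 0, 2, 3, 4, 2, 5, 6, 2, 1, 0, 2, 3, 4, 2, 5, 6, 0, 6, 5, 2, 4, 3, 2, 0, 1, 2, 6, 5, 2, 4, 3, 2, 0, 1, 2, 6, 5, 2,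 4, 3, 2, 0, 1, 2, 6, 5, 2, 4, 3, 2, 0, 1, 2, 6, 5, 2, 4, 3, 2, 0, 1, 2, 6, 5, 2, 4, 3, 2, 0, 1, 2, 6, 5, 2, 4, 3, 2, 0, 1, 2, 6, 5, 2, 4, 3, 2, 0, 1, 2, 6, 5, 2, 4, 3, 2, 0, 1, 2, 6, 5, 2], [3, 2, 0, 1, 2, 6, 5, 2, 4, 3, 2, 0, 1, 2, 6, 5, 2, 4, 3, 2, 0, 1, 2, 6, 5, 2, 4, 3, 2, 0, 1, 2, 6, 5, 2, 4, 3, 2, 0, 1, 2, 0, 2, 1, 0, 2, 3, 4, 2, 5, 6, 2, 1, 0, 2, 3, 4, 2, 5, 6, 2, 1, 0, 2, 3, 4, 2, 5, 6, 2, 1, 0, 2, 3, 4, 2, 5, 6, 2, 1, 0, 2, 3, 4, 2, 5, 6, 2, 1, 0, 2, 3, 4, 2, 5, 6, 2, 1, 0, 2, 3, 4, 2, 5, 6, 2, 1, 0, 2, 3, 4, 2, 5, 6, 2, 1, 0, 2, 3, 4, 2, 5, 6, 2, 1, 0, 2, 3, 4, 2, 5, 6, 0, 6, 5, 2, 4, 3, 2, 0, 1, 2, 6, 5, 2, 4, 3, 2, 0, 1, 2, 6, 5, 2, 4, 3, 2, 0, 1, 2, 6, 5, 2, 4, 3, 2, 0, 1, 2, 6, 5, 2, 4, 3, 2, 0, 1, 2, 6, 5, 2], [2, 5, 6, 2, 1, 0, 2, 3, 4, 2, 5, 6, 2, 1, 0, 2, 3, 4, 2, 5, 6, 2, 1, 0, 2,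 3, 4, 2, 5, 6, 5, 2, 4, 3, 2, 0, 1, 2, 6, 5, 2, 4, 3, 2, 0, 1, 2, 6, 5, 2, 4, 3, 2, 0, 1, 2, 6, 5, 2, 4, 3, 2, 0, 1, 2, 6, 5, 2, 4, 3, 2, 0, 1, 2, 6, 5, 2, 4, 3, 2, 0, 1, 2, 6, 5, 2, 4, 3, 2, 0, 1, 2, 6, 5, 2, 4, 3, 2, 0, 1, 2, 6, 5, 2, 4, 3, 2, 0, 1, 2, 6, 5, 2, 4, 3, 2, 0, 1, 2, 6, 2, 1, 0, 2, 3, 4, 2, 5, 6, 2, 1, 0, 2, 3, 4, 2, 5, 6, 2, 1, 0, 2, 3, 4, 2, 5, 6, 2, 1, 0, 2, 3, 4, 2, 5, 6, 2, 1, 0, 2, 3, 4, 2, 5, 6, 2, 1, 0, 2, 3, 4, 2, 5, 6, 2, 1, 0, 2, 3], [3, 2, 0, 1, 2, 6, 5, 2, 4, 3, 2, 0, 1, 2, 6, 5, 2, 4, 3, 2, 0, 1, 2, 6, 5, 2, 4, 3, 2, 0, 1, 2, 6, 5, 2, 4, 3, 2, 0, 1, 2, 6, 5, 2, 4, 3, 2, 0, 1, 2, 6, 5, 2, 4, 3, 2, 0, 1, 2, 6, 5, 2, 4, 3, 2, 0, 1, 2, 6, 5, 2, 4, 3, 2, 0, 1, 2, 6, 5, 2, 4, 3, 2, 0, 1, 2, 0, 2, 1, 0, 2, 3, 4, 2, 5, 6, 2, 1, 0, 2, 3, 4, 2, 5, 6, 2, 1, 0, 2, 3, 4, 2, 5, 6, 2, 1,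 0, 2, 3, 4, 2, 5, 6, 2, 1, 0, 2, 3, 4, 2, 5, 6, 2, 1, 0, 2, 3, 4, 2, 5, 6, 2, 1, 0, 2, 3, 4, 2, 5, 6, 2, 1, 0, 2, 3, 4, 2, 5, 6, 2, 1, 0, 2, 3, 4, 2, 5, 6, 2, 1, 0, 2, 3, 4, 2, 5, 6, 0, 6, 5, 2], [3, 2, 0, 1, 2, 6, 5, 2, 4, 3, 2, 0, 1, 2, 6, 5, 2, 4, 3, 2, 0, 1, 2, 6, 5, 2, 4, 3, 2, 0, 1, 2, 6, 5, 2, 4, 3, 2, 0, 1, 2, 6, 5, 2, 4, 3, 2, 0, 1, 2, 0, 2, 1, 0, 2, 3, 4, 2, 5, 6, 2, 1, 0, 2, 3, 4, 2, 5, 6, 2, 1, 0, 2, 3, 4, 2, 5, 6, 2, 1, 0, 2, 3, 4, 2, 5, 6, 2, 1, 0, 2, 3, 4, 2, 5, 6, 2, 1, 0, 2, 3, 4, 2, 5, 6, 2, 1, 0, 2, 3, 4, 2, 5, 6, 2, 1, 0, 2, 3, 4, 2, 5, 6, 2, 1, 0, 2, 3, 4, 2, 5, 6, 2, 1, 0, 2, 3, 4, 2, 5, 6, 0, 6, 5, 2, 4, 3, 2, 0, 1, 2, 6, 5, 2, 4, 3, 2, 0, 1, 2, 6, 5, 2, 4, 3, 2, 0, 1, 2, 6, 5, 2, 4, 3, 2, 0, 1, 2, 6, 5, 2], [2, 5, 6, 2, 1, 0, 2, 3, 4, 2, 5, 6, 2, 1, 0, 2, 3, 4, 2, 5, 6, 2, 1,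 0, 2, 3, 4, 2, 5, 6, 2, 1, 0, 2, 3, 4, 2, 5, 6, 2, 1, 0, 2, 3, 4, 2, 5, 6, 2, 1, 0, 2, 3, 4, 2, 5, 6, 2, 1, 0, 2, 3, 4, 2, 5, 6, 2, 1, 0, 2, 3, 4, 2, 5, 6, 2, 1, 0, 2, 3, 4, 2, 5, 6, 5, 2, 4, 3, 2, 0, 1, 2, 6, 5, 2, 4, 3, 2, 0, 1, 2, 6, 5, 2, 4, 3, 2, 0, 1, 2, 6, 5, 2, 4, 3, 2, 0, 1, 2, 6, 5, 2, 4, 3, 2, 0, 1, 2, 6, 5, 2, 4, 3, 2, 0, 1, 2, 6, 5, 2, 4, 3, 2, 0, 1, 2, 6, 5, 2, 4, 3, 2, 0, 1, 2, 6, 5, 2, 4, 3, 2, 0, 1, 2, 6, 5, 2, 4, 3, 2, 0, 1, 2, 6, 2, 1, 0, 2, 3], [3, 2, 0, 1, 2, 6, 5, 2, 4, 3, 2, 0, 1, 2, 0, 2, 1, 0, 2, 3, 4, 2, 5, 6, 2, 1, 0, 2, 3, 4, 2, 5, 6, 2, 1, 0, 2, 3, 4, 2, 5, 6, 2, 1, 0, 2, 3, 4, 2, 5, 6, 2, 1, 0, 2, 3, 4, 2, 5, 6, 2, 1, 0, 2, 3, 4, 2, 5, 6, 2, 1, 0, 2, 3, 4, 2, 5, 6, 2, 1, 0, 2, 3, 4, 2, 5, 6, 2, 1, 0, 2, 3, 4, 2, 5, 6, 2, 1, 0, 2, 3, 4, 2, 5, 6, 0, 6, 5, 2, 4, 3, 2, 0, 1,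 2, 6, 5, 2, 4, 3, 2, 0, 1, 2, 6, 5, 2, 4, 3, 2, 0, 1, 2, 6, 5, 2, 4, 3, 2, 0, 1, 2, 6, 5, 2, 4, 3, 2, 0, 1, 2, 6, 5, 2, 4, 3, 2, 0, 1, 2, 6, 5, 2, 4, 3, 2, 0, 1, 2, 6, 5, 2, 4, 3, 2, 0, 1, 2, 6, 5, 2], [3, 2, 0, 1, 2, 6, 5, 2, 4, 3, 2, 0, 1, 2, 6, 5, 2, 4, 3, 2, 0, 1, 2, 6, 5, 2, 4, 3, 2, 0, 1, 2, 6, 5, 2, 4, 3, 2, 0, 1, 2, 6, 5, 2, 4, 3, 2, 0, 1, 2, 6, 5, 2, 4, 3, 2, 0, 1, 2, 6, 5, 2, 4, 3, 2, 0, 1, 2, 6, 2, 1, 0, 2, 3, 4, 2, 5, 6, 2, 1, 0, 2, 3, 4, 2, 5, 6, 2, 1, 0, 2, 3, 4, 2, 5, 6, 2, 1, 0, 2, 3, 4, 2, 5, 6, 2, 1, 0, 2, 3, 4, 2, 5, 6, 2, 1, 0, 2, 3, 4, 2, 5, 6, 2, 1, 0, 2, 3, 4, 2, 5, 6, 2, 1, 0, 2, 3, 4, 2, 5, 6, 2, 1, 0, 2, 3, 4, 2, 5, 6, 2, 1, 0, 2, 3, 4, 2, 5, 6, 5, 2, 4, 3, 2, 0, 1, 2, 6, 5, 2, 4, 3, 2, 0, 1, 2, 6, 5, 2], [2, 5, 6, 2, 1, 0, 2, 3, 4, 2, 5, 6, 2, 1, 0, 2, 3, 4, 2, 5, 6, 2, 1,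 0, 2, 3, 4, 2, 5, 6, 2, 1, 0, 2, 3, 4, 2, 5, 6, 0, 6, 5, 2, 4, 3, 2, 0, 1, 2, 6, 5, 2, 4, 3, 2, 0, 1, 2, 6, 5, 2, 4, 3, 2, 0, 1, 2, 6, 5, 2, 4, 3, 2, 0, 1, 2, 6, 5, 2, 4, 3, 2, 0, 1, 2, 6, 5, 2, 4, 3, 2, 0, 1, 2, 6, 5, 2, 4, 3, 2, 0, 1, 2, 6, 5, 2, 4, 3, 2, 0, 1, 2, 6, 5, 2, 4, 3, 2, 0, 1, 2, 6, 5, 2, 4, 3, 2, 0, 1, 2, 0, 2, 1, 0, 2, 3, 4, 2, 5, 6, 2, 1, 0, 2, 3, 4, 2, 5, 6, 2, 1, 0, 2, 3, 4, 2, 5, 6, 2, 1, 0, 2, 3, 4, 2, 5, 6, 2, 1, 0, 2, 3, 4, 2, 5, 6, 2, 1, 0, 2, 3], [2, 5, 6, 5, 2, 4, 3, 2, 0, 1, 2, 6, 5, 2, 4, 3, 2, 0, 1, 2, 6, 5, 2, 4, 3, 2, 0, 1, 2, 6, 5, 2, 4, 3, 2, 0, 1, 2, 6, 5, 2, 4, 3, 2, 0, 1, 2, 6, 5, 2, 4, 3, 2, 0, 1, 2, 6, 5, 2, 4, 3, 2, 0, 1, 2, 6, 5, 2, 4, 3, 2, 0, 1, 2, 6, 5, 2, 4, 3, 2, 0, 1, 2, 6, 5, 2, 4, 3, 2, 0, 1, 2, 6, 2, 1, 0, 2, 3, 4, 2, 5, 6, 2, 1, 0, 2, 3, 4, 2, 5, 6, 2,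 1, 0, 2, 3, 4, 2, 5, 6, 2, 1, 0, 2, 3, 4, 2, 5, 6, 2, 1, 0, 2, 3, 4, 2, 5, 6, 2, 1, 0, 2, 3, 4, 2, 5, 6, 2, 1, 0, 2, 3, 4, 2, 5, 6, 2, 1, 0, 2, 3, 4, 2, 5, 6, 2, 1, 0, 2, 3, 4, 2, 5, 6, 2, 1, 0, 2, 3]]
noncomputable def RF4 : List (List (Nat → Nat)) := [[E3, E4, E3, E4, E3], [E2, E4, E2], [E5, E4, E5], [E0, E4, E0], [E1, E4, E1], [E6, E4, E6], [E3, E2, E0, E1, E2, E6, E5, E2, E4, E3, E2, E0, E1, E2, E6, E5, E2, E4, E3, E2, E0, E1, E2, E6, E5, E2, E4, E3, E2, E0, E1, E2, E6, E5, E2, E4, E3, E2, E0, E1, E2, E6, E2, E1, E0, E2, E3, E4, E2, E5, E6, E2, E1, E0, E2, E3, E4, E2, E5, E6, E2, E1, E0, E2, E3, E4, E2, E5, E6, E2, E1, E0, E2, E3, E4, E2, E5, E6, E2, E1, E0, E2, E3, E4, E2, E5, E6, E2, E1, E0, E2, E3, E4, E2, E5, E6, E2, E1, E0, E2, E3, E4, E2, E5, E6, E2, E1, E0, E2, E3, E4, E2, E5, E6, E2, E1,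 E0, E2, E3, E4, E2, E5, E6, E2, E1, E0, E2, E3, E4, E2, E5, E6, E5, E2, E4, E3, E2, E0, E1, E2, E6, E5, E2, E4, E3, E2, E0, E1, E2, E6, E5, E2, E4, E3, E2, E0, E1, E2, E6, E5, E2, E4, E3, E2, E0, E1, E2, E6, E5, E2, E4, E3, E2, E0, E1, E2, E6, E5, E2], [E3, E2, E0, E1, E2, E6, E5, E2, E4, E3, E2, E0, E1, E2, E6, E5, E2, E4, E3, E2, E0, E1, E2, E6, E5, E2, E4, E3, E2, E0, E1, E2, E6, E5, E2, E4, E3, E2, E0, E1, E2, E6, E5, E2, E4, E3, E2, E0, E1, E2, E6, E5, E2, E4, E3, E2, E0, E1, E2, E6, E2, E1, E0, E2, E3, E4, E2, E5, E6, E2, E1, E0, E2, E3, E4, E2, E5, E6, E2, E1, E0, E2, E3, E4, E2, E5, E6, E2, E1, E0, E2, E3, E4, E2, E5, E6, E2, E1, E0, E2, E3, E4, E2, E5, E6, E2, E1, E0, E2, E3, E4, E2, E5, E6, E2, E1, E0, E2, E3, E4, E2, E5, E6, E2, E1, E0, E2, E3, E4, E2, E5, E6, E2, E1, E0, E2, E3, E4, E2,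 E5, E6, E2, E1, E0, E2, E3, E4, E2, E5, E6, E5, E2, E4, E3, E2, E0, E1, E2, E6, E5, E2, E4, E3, E2, E0, E1, E2, E6, E5, E2, E4, E3, E2, E0, E1, E2, E6, E5, E2], [E3, E2, E0, E1, E2, E6, E5, E2, E4, E3, E2, E0, E1, E2, E6, E5, E2, E4, E3, E2, E0, E1, E2, E6, E5, E2, E4, E3, E2, E0, E1, E2, E6, E2, E1, E0, E2, E3, E4, E2, E5, E6, E2, E1, E0, E2, E3, E4, E2, E5, E6, E2, E1, E0, E2, E3, E4, E2, E5, E6, E2, E1, E0, E2, E3, E4, E2, E5, E6, E2, E1, E0, E2, E3, E4, E2, E5, E6, E2, E1, E0, E2, E3, E4, E2, E5, E6, E2, E1, E0, E2, E3, E4, E2, E5, E6, E2, E1, E0, E2, E3, E4, E2, E5, E6, E2, E1, E0, E2, E3, E4, E2, E5, E6, E2, E1, E0, E2, E3, E4, E2, E5, E6, E5, E2, E4, E3, E2, E0, E1, E2, E6, E5, E2, E4, E3, E2, E0, E1, E2, E6, E5, E2, E4, E3, E2, E0, E1, E2, E6, E5, E2, E4, E3, E2, E0, E1, E2, E6, E5, E2, E4,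 E3, E2, E0, E1, E2, E6, E5, E2, E4, E3, E2, E0, E1, E2, E6, E5, E2], [E3, E2, E0, E1, E2, E0, E2, E1, E0, E2, E3, E4, E2, E5, E6, E2, E1, E0, E2, E3, E4, E2, E5, E6, E2, E1, E0, E2, E3, E4, E2, E5, E6, E2, E1, E0, E2, E3, E4, E2, E5, E6, E2, E1, E0, E2, E3, E4, E2, E5, E6, E2, E1, E0, E2, E3, E4, E2, E5, E6, E2, E1, E0, E2, E3, E4, E2, E5, E6, E2, E1, E0, E2, E3, E4, E2, E5, E6, E2, E1, E0, E2, E3, E4, E2, E5, E6, E2, E1, E0, E2, E3, E4, E2, E5, E6, E0, E6, E5, E2, E4, E3, E2, E0, E1, E2, E6, E5, E2, E4, E3, E2, E0, E1, E2, E6, E5, E2, E4, E3, E2, E0, E1, E2, E6, E5, E2, E4, E3, E2, E0, E1, E2, E6, E5, E2, E4, E3, E2, E0, E1, E2, E6, E5, E2, E4, E3, E2, E0, E1, E2, E6, E5, E2, E4, E3, E2, E0, E1, E2, E6, E5, E2, E4, E3, E2, E0, E1, E2, E6, E5, E2, E4, E3, E2, E0, E1, E2, E6, E5, E2], [E3, E2, E0, E1,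 E2, E6, E5, E2, E4, E3, E2, E0, E1, E2, E6, E5, E2, E4, E3, E2, E0, E1, E2, E6, E5, E2, E4, E3, E2, E0, E1, E2, E6, E5, E2, E4, E3, E2, E0, E1, E2, E0, E2, E1, E0, E2, E3, E4, E2, E5, E6, E2, E1, E0, E2, E3, E4, E2, E5, E6, E2, E1, E0, E2, E3, E4, E2, E5, E6, E2, E1, E0, E2, E3, E4, E2, E5, E6, E2, E1, E0, E2, E3, E4, E2, E5, E6, E2, E1, E0, E2, E3, E4, E2, E5, E6, E2, E1, E0, E2, E3, E4, E2, E5, E6, E2, E1, E0, E2, E3, E4, E2, E5, E6, E2, E1, E0, E2, E3, E4, E2, E5, E6, E2, E1, E0, E2, E3, E4, E2, E5, E6, E0, E6, E5, E2, E4, E3, E2, E0, E1, E2, E6, E5, E2, E4, E3, E2, E0, E1, E2, E6, E5, E2, E4, E3, E2, E0, E1, E2, E6, E5, E2, E4, E3, E2, E0, E1, E2, E6, E5, E2, E4, E3, E2, E0, E1, E2, E6, E5, E2], [E2, E5, E6, E2, E1, E0, E2, E3, E4, E2, E5, E6, E2, E1, E0, E2, E3, E4, E2, E5, E6, E2, E1, E0, E2,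 E3, E4, E2, E5, E6, E5, E2, E4, E3, E2, E0, E1, E2, E6, E5, E2, E4, E3, E2, E0, E1, E2, E6, E5, E2, E4, E3, E2, E0, E1, E2, E6, E5, E2, E4, E3, E2, E0, E1, E2, E6, E5, E2, E4, E3, E2, E0, E1, E2, E6, E5, E2, E4, E3, E2, E0, E1, E2, E6, E5, E2, E4, E3, E2, E0, E1, E2, E6, E5, E2, E4, E3, E2, E0, E1, E2, E6, E5, E2, E4, E3, E2, E0, E1, E2, E6, E5, E2, E4, E3, E2, E0, E1, E2, E6, E2, E1, E0, E2, E3, E4, E2, E5, E6, E2, E1, E0, E2, E3, E4, E2, E5, E6, E2, E1, E0, E2, E3, E4, E2, E5, E6, E2, E1, E0, E2, E3, E4, E2, E5, E6, E2, E1, E0, E2, E3, E4, E2, E5, E6, E2, E1, E0, E2, E3, E4, E2, E5, E6, E2, E1, E0, E2, E3], [E3, E2, E0, E1, E2, E6, E5, E2, E4, E3, E2, E0, E1, E2, E6, E5, E2, E4, E3, E2, E0, E1, E2, E6, E5, E2, E4, E3, E2, E0, E1, E2, E6, E5, E2, E4, E3, E2, E0, E1, E2, E6, E5, E2, E4, E3, E2, E0,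 E1, E2, E6, E5, E2, E4, E3, E2, E0, E1, E2, E6, E5, E2, E4, E3, E2, E0, E1, E2, E6, E5, E2, E4, E3, E2, E0, E1, E2, E6, E5, E2, E4, E3, E2, E0, E1, E2, E0, E2, E1, E0, E2, E3, E4, E2, E5, E6, E2, E1, E0, E2, E3, E4, E2, E5, E6, E2, E1, E0, E2, E3, E4, E2, E5, E6, E2, E1, E0, E2, E3, E4, E2, E5, E6, E2, E1, E0, E2, E3, E4, E2, E5, E6, E2, E1, E0, E2, E3, E4, E2, E5, E6, E2, E1, E0, E2, E3, E4, E2, E5, E6, E2, E1, E0, E2, E3, E4, E2, E5, E6, E2, E1, E0, E2, E3, E4, E2, E5, E6, E2, E1, E0, E2, E3, E4, E2, E5, E6, E0, E6, E5, E2], [E3, E2, E0, E1, E2, E6, E5, E2, E4, E3, E2, E0, E1, E2, E6, E5, E2, E4, E3, E2, E0, E1, E2, E6, E5, E2, E4, E3, E2, E0, E1, E2, E6, E5, E2, E4, E3, E2, E0, E1, E2, E6, E5, E2, E4, E3, E2, E0, E1, E2, E0, E2, E1, E0, E2, E3, E4, E2, E5, E6, E2, E1, E0, E2, E3, E4, E2, E5, E6,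 E2, E1, E0, E2, E3, E4, E2, E5, E6, E2, E1, E0, E2, E3, E4, E2, E5, E6, E2, E1, E0, E2, E3, E4, E2, E5, E6, E2, E1, E0, E2, E3, E4, E2, E5, E6, E2, E1, E0, E2, E3, E4, E2, E5, E6, E2, E1, E0, E2, E3, E4, E2, E5, E6, E2, E1, E0, E2, E3, E4, E2, E5, E6, E2, E1, E0, E2, E3, E4, E2, E5, E6, E0, E6, E5, E2, E4, E3, E2, E0, E1, E2, E6, E5, E2, E4, E3, E2, E0, E1, E2, E6, E5, E2, E4, E3, E2, E0, E1, E2, E6, E5, E2, E4, E3, E2, E0, E1, E2, E6, E5, E2], [E2, E5, E6, E2, E1, E0, E2, E3, E4, E2, E5, E6, E2, E1, E0, E2, E3, E4, E2, E5, E6, E2, E1, E0, E2, E3, E4, E2, E5, E6, E2, E1, E0, E2, E3, E4, E2, E5, E6, E2, E1, E0, E2, E3, E4, E2, E5, E6, E2, E1, E0, E2, E3, E4, E2, E5, E6, E2, E1, E0, E2, E3, E4, E2, E5, E6, E2, E1, E0, E2, E3, E4, E2, E5, E6, E2, E1, E0, E2, E3, E4, E2, E5, E6, E5, E2, E4, E3, E2, E0,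 E1, E2, E6, E5, E2, E4, E3, E2, E0, E1, E2, E6, E5, E2, E4, E3, E2, E0, E1, E2, E6, E5, E2, E4, E3, E2, E0, E1, E2, E6, E5, E2, E4, E3, E2, E0, E1, E2, E6, E5, E2, E4, E3, E2, E0, E1, E2, E6, E5, E2, E4, E3, E2, E0, E1, E2, E6, E5, E2, E4, E3, E2, E0, E1, E2, E6, E5, E2, E4, E3, E2, E0, E1, E2, E6, E5, E2, E4, E3, E2, E0, E1, E2, E6, E2, E1, E0, E2, E3], [E3, E2, E0, E1, E2, E6, E5, E2, E4, E3, E2, E0, E1, E2, E0, E2, E1, E0, E2, E3, E4, E2, E5, E6, E2, E1, E0, E2, E3, E4, E2, E5, E6, E2, E1, E0, E2, E3, E4, E2, E5, E6, E2, E1, E0, E2, E3, E4, E2, E5, E6, E2, E1, E0, E2, E3, E4, E2, E5, E6, E2, E1, E0, E2, E3, E4, E2, E5, E6, E2, E1, E0, E2, E3, E4, E2, E5, E6, E2, E1, E0, E2, E3, E4, E2, E5, E6, E2, E1, E0, E2, E3, E4, E2, E5, E6, E2, E1, E0, E2, E3, E4, E2, E5, E6, E0, E6, E5, E2, E4, E3, E2, E0,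 E1, E2, E6, E5, E2, E4, E3, E2, E0, E1, E2, E6, E5, E2, E4, E3, E2, E0, E1, E2, E6, E5, E2, E4, E3, E2, E0, E1, E2, E6, E5, E2, E4, E3, E2, E0, E1, E2, E6, E5, E2, E4, E3, E2, E0, E1, E2, E6, E5, E2, E4, E3, E2, E0, E1, E2, E6, E5, E2, E4, E3, E2, E0, E1, E2, E6, E5, E2], [E3, E2, E0, E1, E2, E6, E5, E2, E4, E3, E2, E0, E1, E2, E6, E5, E2, E4, E3, E2, E0, E1, E2, E6, E5, E2, E4, E3, E2, E0, E1, E2, E6, E5, E2, E4, E3, E2, E0, E1, E2, E6, E5, E2, E4, E3, E2, E0, E1, E2, E6, E5, E2, E4, E3, E2, E0, E1, E2, E6, E5, E2, E4, E3, E2, E0, E1, E2, E6, E2, E1, E0, E2, E3, E4, E2, E5, E6, E2, E1, E0, E2, E3, E4, E2, E5, E6, E2, E1, E0, E2, E3, E4, E2, E5, E6, E2, E1, E0, E2, E3, E4, E2, E5, E6, E2, E1, E0, E2, E3, E4, E2, E5, E6, E2, E1, E0, E2, E3, E4, E2, E5, E6, E2, E1, E0, E2, E3, E4, E2, E5, E6, E2, E1,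 E0, E2, E3, E4, E2, E5, E6, E2, E1, E0, E2, E3, E4, E2, E5, E6, E2, E1, E0, E2, E3, E4, E2, E5, E6, E5, E2, E4, E3, E2, E0, E1, E2, E6, E5, E2, E4, E3, E2, E0, E1, E2, E6, E5, E2], [E2, E5, E6, E2, E1, E0, E2, E3, E4, E2, E5, E6, E2, E1, E0, E2, E3, E4, E2, E5, E6, E2, E1, E0, E2, E3, E4, E2, E5, E6, E2, E1, E0, E2, E3, E4, E2, E5, E6, E0, E6, E5, E2, E4, E3, E2, E0, E1, E2, E6, E5, E2, E4, E3, E2, E0, E1, E2, E6, E5, E2, E4, E3, E2, E0, E1, E2, E6, E5, E2, E4, E3, E2, E0, E1, E2, E6, E5, E2, E4, E3, E2, E0, E1, E2, E6, E5, E2, E4, E3, E2, E0, E1, E2, E6, E5, E2, E4, E3, E2, E0, E1, E2, E6, E5, E2, E4, E3, E2, E0, E1, E2, E6, E5, E2, E4, E3, E2, E0, E1, E2, E6, E5, E2, E4, E3, E2, E0, E1, E2, E0, E2, E1, E0, E2, E3, E4, E2, E5, E6, E2, E1, E0, E2, E3, E4, E2, E5, E6, E2, E1, E0, E2, E3, E4, E2, E5,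 E6, E2, E1, E0, E2, E3, E4, E2, E5, E6, E2, E1, E0, E2, E3, E4, E2, E5, E6, E2, E1, E0, E2, E3], [E2, E5, E6, E5, E2, E4, E3, E2, E0, E1, E2, E6, E5, E2, E4, E3, E2, E0, E1, E2, E6, E5, E2, E4, E3, E2, E0, E1, E2, E6, E5, E2, E4, E3, E2, E0, E1, E2, E6, E5, E2, E4, E3, E2, E0, E1, E2, E6, E5, E2, E4, E3, E2, E0, E1, E2, E6, E5, E2, E4, E3, E2, E0, E1, E2, E6, E5, E2, E4, E3, E2, E0, E1, E2, E6, E5, E2, E4, E3, E2, E0, E1, E2, E6, E5, E2, E4, E3, E2, E0, E1, E2, E6, E2, E1, E0, E2, E3, E4, E2, E5, E6, E2, E1, E0, E2, E3, E4, E2, E5, E6, E2, E1, E0, E2, E3, E4, E2, E5, E6, E2, E1, E0, E2, E3, E4, E2, E5, E6, E2, E1, E0, E2, E3, E4, E2, E5, E6, E2, E1, E0, E2, E3, E4, E2, E5, E6, E2, E1, E0, E2, E3, E4, E2, E5, E6, E2, E1, E0, E2, E3, E4, E2, E5, E6, E2, E1, E0, E2, E3, E4, E2, E5, E6, E2, E1, E0, E2,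 E3]]
def RC4 : List Nat := [7682, 6146, 9216, 1538, 4098, 9728, 11028, 10992, 11046, 11616, 11544, 10872, 11454, 11526, 10764, 11598, 10974, 11366, 10926]
def RW5 : List (List Nat) := [[2, 5, 2, 5, 2], [3, 5, 3], [1, 5, 1], [4, 5, 4], [0, 5, 0], [6, 5, 6, 5, 6], [2, 4, 3, 2, 0, 1, 2, 6, 5, 2, 4, 3, 2, 0, 1, 2, 6, 5, 2, 4, 3, 2, 0, 1, 2, 0, 2, 1, 0, 2, 3, 4, 2, 5, 6, 2, 1, 0, 2, 3, 4, 2, 5, 6, 2, 1, 0, 2, 3, 4, 2, 5, 6, 2, 1, 0, 2, 3, 4, 2, 5, 6, 2, 1, 0, 2, 3, 4, 2, 5, 6, 2, 1, 0, 2, 3, 4, 2, 5, 6, 2, 1, 0, 2, 3, 4, 2, 5, 6, 2, 1, 0, 2, 3, 4, 2, 5, 6, 2, 1, 0, 2, 3, 4, 2, 5, 6, 2, 1, 0, 2, 3, 4, 2, 5, 6, 0, 6, 5, 2, 4, 3, 2, 0, 1, 2, 6, 5, 2, 4, 3, 2, 0, 1, 2, 6, 5, 2, 4, 3, 2, 0, 1, 2, 6, 5, 2, 4, 3, 2, 0, 1, 2, 6, 5, 2, 4, 3, 2, 0, 1, 2, 6, 5, 2, 4, 3, 2, 0, 1, 2, 6, 5, 2, 4, 3, 2, 0, 1, 2, 6], [2,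 4, 3, 2, 0, 1, 2, 6, 5, 2, 4, 3, 2, 0, 1, 2, 6, 5, 2, 4, 3, 2, 0, 1, 2, 6, 5, 2, 4, 3, 2, 0, 1, 2, 6, 5, 2, 4, 3, 2, 0, 1, 2, 6, 5, 2, 4, 3, 2, 0, 1, 2, 6, 5, 2, 4, 3, 2, 0, 1, 2, 6, 5, 2, 4, 3, 2, 0, 1, 2, 0, 2, 1, 0, 2, 3, 4, 2, 5, 6, 2, 1, 0, 2, 3, 4, 2, 5, 6, 2, 1, 0, 2, 3, 4, 2, 5, 6, 2, 1, 0, 2, 3, 4, 2, 5, 6, 2, 1, 0, 2, 3, 4, 2, 5, 6, 2, 1, 0, 2, 3, 4, 2, 5, 6, 2, 1, 0, 2, 3, 4, 2, 5, 6, 2, 1, 0, 2, 3, 4, 2, 5, 6, 2, 1, 0, 2, 3, 4, 2, 5, 6, 2, 1, 0, 2, 3, 4, 2, 5, 6, 0, 6, 5, 2, 4, 3, 2, 0, 1, 2, 6, 5, 2, 4, 3, 2, 0, 1, 2, 6], [6, 2, 1, 0, 2, 3, 4, 2, 5, 6, 2, 1, 0, 2, 3, 4, 2, 5, 6, 2, 1, 0, 2, 3, 4, 2, 5, 6, 2, 1, 0, 2, 3, 4, 2, 5, 6, 2, 1, 0, 2, 3, 4, 2, 5, 6, 0, 6, 5, 2, 4, 3, 2, 0, 1, 2, 6, 5, 2, 4, 3, 2, 0, 1, 2, 6, 5, 2, 4, 3, 2, 0, 1, 2, 6, 5, 2, 4, 3, 2, 0, 1, 2, 6, 5, 2, 4, 3, 2, 0,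 1, 2, 6, 5, 2, 4, 3, 2, 0, 1, 2, 6, 5, 2, 4, 3, 2, 0, 1, 2, 6, 5, 2, 4, 3, 2, 0, 1, 2, 6, 5, 2, 4, 3, 2, 0, 1, 2, 6, 5, 2, 4, 3, 2, 0, 1, 2, 0, 2, 1, 0, 2, 3, 4, 2, 5, 6, 2, 1, 0, 2, 3, 4, 2, 5, 6, 2, 1, 0, 2, 3, 4, 2, 5, 6, 2, 1, 0, 2, 3, 4, 2, 5, 6, 2, 1, 0, 2, 3, 4, 2], [2, 4, 3, 2, 0, 1, 2, 6, 5, 2, 4, 3, 2, 0, 1, 2, 6, 5, 2, 4, 3, 2, 0, 1, 2, 6, 5, 2, 4, 3, 2, 0, 1, 2, 6, 5, 2, 4, 3, 2, 0, 1, 2, 0, 2, 1, 0, 2, 3, 4, 2, 5, 6, 2, 1, 0, 2, 3, 4, 2, 5, 6, 2, 1, 0, 2, 3, 4, 2, 5, 6, 2, 1, 0, 2, 3, 4, 2, 5, 6, 2, 1, 0, 2, 3, 4, 2, 5, 6, 2, 1, 0, 2, 3, 4, 2, 5, 6, 2, 1, 0, 2, 3, 4, 2, 5, 6, 2, 1, 0, 2, 3, 4, 2, 5, 6, 2, 1, 0, 2, 3, 4, 2, 5, 6, 2, 1, 0, 2, 3, 4, 2, 5, 6, 0, 6, 5, 2, 4, 3, 2, 0, 1, 2, 6, 5, 2, 4, 3, 2, 0, 1, 2, 6, 5, 2, 4, 3, 2, 0, 1, 2, 6, 5, 2, 4, 3, 2, 0, 1, 2, 6, 5, 2, 4, 3, 2, 0, 1,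 2, 6], [6, 2, 1, 0, 2, 3, 4, 2, 5, 6, 2, 1, 0, 2, 3, 4, 2, 5, 6, 2, 1, 0, 2, 3, 4, 2, 5, 6, 2, 1, 0, 2, 3, 4, 2, 5, 6, 2, 1, 0, 2, 3, 4, 2, 5, 6, 2, 1, 0, 2, 3, 4, 2, 5, 6, 2, 1, 0, 2, 3, 4, 2, 5, 6, 2, 1, 0, 2, 3, 4, 2, 5, 6, 5, 2, 4, 3, 2, 0, 1, 2, 6, 5, 2, 4, 3, 2, 0, 1, 2, 6, 5, 2, 4, 3, 2, 0, 1, 2, 6, 5, 2, 4, 3, 2, 0, 1, 2, 6, 5, 2, 4, 3, 2, 0, 1, 2, 6, 5, 2, 4, 3, 2, 0, 1, 2, 6, 5, 2, 4, 3, 2, 0, 1, 2, 6, 5, 2, 4, 3, 2, 0, 1, 2, 6, 5, 2, 4, 3, 2, 0, 1, 2, 6, 5, 2, 4, 3, 2, 0, 1, 2, 6, 2, 1, 0, 2, 3, 4, 2, 5, 6, 2, 1, 0, 2, 3, 4, 2], [6, 2, 1, 0, 2, 3, 4, 2, 5, 6, 2, 1, 0, 2, 3, 4, 2, 5, 6, 2, 1, 0, 2, 3, 4, 2, 5, 6, 2, 1, 0, 2, 3, 4, 2, 5, 6, 2, 1, 0, 2, 3, 4, 2, 5, 6, 2, 1, 0, 2, 3, 4, 2, 5, 6, 2, 1, 0, 2, 3, 4, 2, 5, 6, 5, 2, 4, 3, 2, 0, 1, 2, 6, 5, 2, 4, 3, 2, 0, 1, 2, 6, 5, 2, 4, 3, 2, 0,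 1, 2, 6, 5, 2, 4, 3, 2, 0, 1, 2, 6, 5, 2, 4, 3, 2, 0, 1, 2, 6, 5, 2, 4, 3, 2, 0, 1, 2, 6, 5, 2, 4, 3, 2, 0, 1, 2, 6, 5, 2, 4, 3, 2, 0, 1, 2, 6, 5, 2, 4, 3, 2, 0, 1, 2, 6, 5, 2, 4, 3, 2, 0, 1, 2, 6, 2, 1, 0, 2, 3, 4, 2, 5, 6, 2, 1, 0, 2, 3, 4, 2, 5, 6, 2, 1, 0, 2, 3, 4, 2], [2, 4, 3, 2, 0, 1, 2, 6, 5, 2, 4, 3, 2, 0, 1, 2, 6, 5, 2, 4, 3, 2, 0, 1, 2, 6, 5, 2, 4, 3, 2, 0, 1, 2, 6, 2, 1, 0, 2, 3, 4, 2, 5, 6, 2, 1, 0, 2, 3, 4, 2, 5, 6, 2, 1, 0, 2, 3, 4, 2, 5, 6, 2, 1, 0, 2, 3, 4, 2, 5, 6, 2, 1, 0, 2, 3, 4, 2, 5, 6, 2, 1, 0, 2, 3, 4, 2, 5, 6, 2, 1, 0, 2, 3, 4, 2, 5, 6, 2, 1, 0, 2, 3, 4, 2, 5, 6, 2, 1, 0, 2, 3, 4, 2, 5, 6, 2, 1, 0, 2, 3, 4, 2, 5, 6, 5, 2, 4, 3, 2, 0, 1, 2, 6, 5, 2, 4, 3, 2, 0, 1, 2, 6, 5, 2, 4, 3, 2, 0, 1, 2, 6, 5, 2, 4, 3, 2, 0, 1, 2, 6, 5, 2, 4, 3, 2, 0, 1, 2, 6, 5, 2, 4, 3, 2, 0, 1, 2, 6],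 [2, 4, 3, 2, 0, 1, 2, 6, 2, 1, 0, 2, 3, 4, 2, 5, 6, 2, 1, 0, 2, 3, 4, 2, 5, 6, 2, 1, 0, 2, 3, 4, 2, 5, 6, 2, 1, 0, 2, 3, 4, 2, 5, 6, 2, 1, 0, 2, 3, 4, 2, 5, 6, 2, 1, 0, 2, 3, 4, 2, 5, 6, 2, 1, 0, 2, 3, 4, 2, 5, 6, 2, 1, 0, 2, 3, 4, 2, 5, 6, 2, 1, 0, 2, 3, 4, 2, 5, 6, 2, 1, 0, 2, 3, 4, 2, 5, 6, 5, 2, 4, 3, 2, 0, 1, 2, 6, 5, 2, 4, 3, 2, 0, 1, 2, 6, 5, 2, 4, 3, 2, 0, 1, 2, 6, 5, 2, 4, 3, 2, 0, 1, 2, 6, 5, 2, 4, 3, 2, 0, 1, 2, 6, 5, 2, 4, 3, 2, 0, 1, 2, 6, 5, 2, 4, 3, 2, 0, 1, 2, 6, 5, 2, 4, 3, 2, 0, 1, 2, 6, 5, 2, 4, 3, 2, 0, 1, 2, 6], [2, 4, 3, 2, 0, 1, 2, 6, 5, 2, 4, 3, 2, 0, 1, 2, 6, 5, 2, 4, 3, 2, 0, 1, 2, 6, 5, 2, 4, 3, 2, 0, 1, 2, 6, 5, 2, 4, 3, 2, 0, 1, 2, 6, 5, 2, 4, 3, 2, 0, 1, 2, 0, 2, 1, 0, 2, 3, 4, 2, 5, 6, 2, 1, 0, 2, 3, 4, 2, 5, 6, 2, 1, 0, 2, 3, 4, 2, 5, 6, 2, 1, 0, 2, 3, 4, 2, 5, 6, 2,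 1, 0, 2, 3, 4, 2, 5, 6, 2, 1, 0, 2, 3, 4, 2, 5, 6, 2, 1, 0, 2, 3, 4, 2, 5, 6, 2, 1, 0, 2, 3, 4, 2, 5, 6, 2, 1, 0, 2, 3, 4, 2, 5, 6, 2, 1, 0, 2, 3, 4, 2, 5, 6, 0, 6, 5, 2, 4, 3, 2, 0, 1, 2, 6, 5, 2, 4, 3, 2, 0, 1, 2, 6, 5, 2, 4, 3, 2, 0, 1, 2, 6, 5, 2, 4, 3, 2, 0, 1, 2, 6], [6, 2, 1, 0, 2, 3, 4, 2, 5, 6, 2, 1, 0, 2, 3, 4, 2, 5, 6, 5, 2, 4, 3, 2, 0, 1, 2, 6, 5, 2, 4, 3, 2, 0, 1, 2, 6, 5, 2, 4, 3, 2, 0, 1, 2, 6, 5, 2, 4, 3, 2, 0, 1, 2, 6, 5, 2, 4, 3, 2, 0, 1, 2, 6, 5, 2, 4, 3, 2, 0, 1, 2, 6, 5, 2, 4, 3, 2, 0, 1, 2, 6, 5, 2, 4, 3, 2, 0, 1, 2, 6, 5, 2, 4, 3, 2, 0, 1, 2, 6, 5, 2, 4, 3, 2, 0, 1, 2, 6, 2, 1, 0, 2, 3, 4, 2, 5, 6, 2, 1, 0, 2, 3, 4, 2, 5, 6, 2, 1, 0, 2, 3, 4, 2, 5, 6, 2, 1, 0, 2, 3, 4, 2, 5, 6, 2, 1, 0, 2, 3, 4, 2, 5, 6, 2, 1, 0, 2, 3, 4, 2, 5, 6, 2, 1, 0, 2, 3, 4, 2, 5, 6, 2, 1, 0, 2, 3, 4, 2]]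
noncomputable def RF5 : List (List (Nat → Nat)) := [[E2, E5, E2, E5, E2], [E3, E5, E3], [E1, E5, E1], [E4, E5, E4], [E0, E5, E0], [E6, E5, E6, E5, E6], [E2, E4, E3, E2, E0, E1, E2, E6, E5, E2, E4, E3, E2, E0, E1, E2, E6, E5, E2, E4, E3, E2, E0, E1, E2, E0, E2, E1, E0, E2, E3, E4, E2, E5, E6, E2, E1, E0, E2, E3, E4, E2, E5, E6, E2, E1, E0, E2, E3, E4, E2, E5, E6, E2, E1, E0, E2, E3, E4, E2, E5, E6, E2, E1, E0, E2, E3, E4, E2, E5, E6, E2, E1, E0, E2, E3, E4, E2, E5, E6, E2, E1, E0, E2, E3, E4, E2, E5, E6, E2, E1, E0, E2, E3, E4, E2, E5, E6, E2, E1, E0, E2, E3, E4, E2, E5, E6, E2, E1, E0, E2, E3, E4, E2, E5, E6, E0, E6, E5, E2, E4, E3, E2, E0, E1, E2, E6, E5, E2, E4, E3, E2, E0, E1, E2, E6, E5, E2, E4, E3, E2, E0, E1, E2, E6, E5, E2, E4, E3, E2, E0, E1, E2, E6, E5, E2, E4, E3, E2, E0, E1, E2, E6, E5, E2,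 E4, E3, E2, E0, E1, E2, E6, E5, E2, E4, E3, E2, E0, E1, E2, E6], [E2, E4, E3, E2, E0, E1, E2, E6, E5, E2, E4, E3, E2, E0, E1, E2, E6, E5, E2, E4, E3, E2, E0, E1, E2, E6, E5, E2, E4, E3, E2, E0, E1, E2, E6, E5, E2, E4, E3, E2, E0, E1, E2, E6, E5, E2, E4, E3, E2, E0, E1, E2, E6, E5, E2, E4, E3, E2, E0, E1, E2, E6, E5, E2, E4, E3, E2, E0, E1, E2, E0, E2, E1, E0, E2, E3, E4, E2, E5, E6, E2, E1, E0, E2, E3, E4, E2, E5, E6, E2, E1, E0, E2, E3, E4, E2, E5, E6, E2, E1, E0, E2, E3, E4, E2, E5, E6, E2, E1, E0, E2, E3, E4, E2, E5, E6, E2, E1, E0, E2, E3, E4, E2, E5, E6, E2, E1, E0, E2, E3, E4, E2, E5, E6, E2, E1, E0, E2, E3, E4, E2, E5, E6, E2, E1, E0, E2, E3, E4, E2, E5, E6, E2, E1, E0, E2, E3, E4, E2, E5, E6, E0, E6, E5, E2, E4, E3, E2, E0, E1, E2, E6, E5, E2, E4, E3, E2, E0, E1, E2, E6], [E6, E2, E1, E0, E2,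 E3, E4, E2, E5, E6, E2, E1, E0, E2, E3, E4, E2, E5, E6, E2, E1, E0, E2, E3, E4, E2, E5, E6, E2, E1, E0, E2, E3, E4, E2, E5, E6, E2, E1, E0, E2, E3, E4, E2, E5, E6, E0, E6, E5, E2, E4, E3, E2, E0, E1, E2, E6, E5, E2, E4, E3, E2, E0, E1, E2, E6, E5, E2, E4, E3, E2, E0, E1, E2, E6, E5, E2, E4, E3, E2, E0, E1, E2, E6, E5, E2, E4, E3, E2, E0, E1, E2, E6, E5, E2, E4, E3, E2, E0, E1, E2, E6, E5, E2, E4, E3, E2, E0, E1, E2, E6, E5, E2, E4, E3, E2, E0, E1, E2, E6, E5, E2, E4, E3, E2, E0, E1, E2, E6, E5, E2, E4, E3, E2, E0, E1, E2, E0, E2, E1, E0, E2, E3, E4, E2, E5, E6, E2, E1, E0, E2, E3, E4, E2, E5, E6, E2, E1, E0, E2, E3, E4, E2, E5, E6, E2, E1, E0, E2, E3, E4, E2, E5, E6, E2, E1, E0, E2, E3, E4, E2], [E2, E4, E3, E2, E0, E1, E2, E6, E5, E2, E4, E3, E2, E0, E1, E2, E6, E5, E2, E4, E3, E2, E0, E1, E2, E6,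 E5, E2, E4, E3, E2, E0, E1, E2, E6, E5, E2, E4, E3, E2, E0, E1, E2, E0, E2, E1, E0, E2, E3, E4, E2, E5, E6, E2, E1, E0, E2, E3, E4, E2, E5, E6, E2, E1, E0, E2, E3, E4, E2, E5, E6, E2, E1, E0, E2, E3, E4, E2, E5, E6, E2, E1, E0, E2, E3, E4, E2, E5, E6, E2, E1, E0, E2, E3, E4, E2, E5, E6, E2, E1, E0, E2, E3, E4, E2, E5, E6, E2, E1, E0, E2, E3, E4, E2, E5, E6, E2, E1, E0, E2, E3, E4, E2, E5, E6, E2, E1, E0, E2, E3, E4, E2, E5, E6, E0, E6, E5, E2, E4, E3, E2, E0, E1, E2, E6, E5, E2, E4, E3, E2, E0, E1, E2, E6, E5, E2, E4, E3, E2, E0, E1, E2, E6, E5, E2, E4, E3, E2, E0, E1, E2, E6, E5, E2, E4, E3, E2, E0, E1, E2, E6], [E6, E2, E1, E0, E2, E3, E4, E2, E5, E6, E2, E1, E0, E2, E3, E4, E2, E5, E6, E2, E1, E0, E2, E3, E4, E2, E5, E6, E2, E1, E0, E2, E3, E4, E2, E5, E6, E2, E1, E0, E2, E3, E4, E2, E5, E6, E2,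 E1, E0, E2, E3, E4, E2, E5, E6, E2, E1, E0, E2, E3, E4, E2, E5, E6, E2, E1, E0, E2, E3, E4, E2, E5, E6, E5, E2, E4, E3, E2, E0, E1, E2, E6, E5, E2, E4, E3, E2, E0, E1, E2, E6, E5, E2, E4, E3, E2, E0, E1, E2, E6, E5, E2, E4, E3, E2, E0, E1, E2, E6, E5, E2, E4, E3, E2, E0, E1, E2, E6, E5, E2, E4, E3, E2, E0, E1, E2, E6, E5, E2, E4, E3, E2, E0, E1, E2, E6, E5, E2, E4, E3, E2, E0, E1, E2, E6, E5, E2, E4, E3, E2, E0, E1, E2, E6, E5, E2, E4, E3, E2, E0, E1, E2, E6, E2, E1, E0, E2, E3, E4, E2, E5, E6, E2, E1, E0, E2, E3, E4, E2], [E6, E2, E1, E0, E2, E3, E4, E2, E5, E6, E2, E1, E0, E2, E3, E4, E2, E5, E6, E2, E1, E0, E2, E3, E4, E2, E5, E6, E2, E1, E0, E2, E3, E4, E2, E5, E6, E2, E1, E0, E2, E3, E4, E2, E5, E6, E2, E1, E0, E2, E3, E4, E2, E5, E6, E2, E1, E0, E2, E3, E4, E2, E5, E6, E5, E2, E4, E3, E2, E0,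 E1, E2, E6, E5, E2, E4, E3, E2, E0, E1, E2, E6, E5, E2, E4, E3, E2, E0, E1, E2, E6, E5, E2, E4, E3, E2, E0, E1, E2, E6, E5, E2, E4, E3, E2, E0, E1, E2, E6, E5, E2, E4, E3, E2, E0, E1, E2, E6, E5, E2, E4, E3, E2, E0, E1, E2, E6, E5, E2, E4, E3, E2, E0, E1, E2, E6, E5, E2, E4, E3, E2, E0, E1, E2, E6, E5, E2, E4, E3, E2, E0, E1, E2, E6, E2, E1, E0, E2, E3, E4, E2, E5, E6, E2, E1, E0, E2, E3, E4, E2, E5, E6, E2, E1, E0, E2, E3, E4, E2], [E2, E4, E3, E2, E0, E1, E2, E6, E5, E2, E4, E3, E2, E0, E1, E2, E6, E5, E2, E4, E3, E2, E0, E1, E2, E6, E5, E2, E4, E3, E2, E0, E1, E2, E6, E2, E1, E0, E2, E3, E4, E2, E5, E6, E2, E1, E0, E2, E3, E4, E2, E5, E6, E2, E1, E0, E2, E3, E4, E2, E5, E6, E2, E1, E0, E2, E3, E4, E2, E5, E6, E2, E1, E0, E2, E3, E4, E2, E5, E6, E2, E1, E0, E2, E3, E4, E2, E5, E6, E2, E1, E0, E2,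 E3, E4, E2, E5, E6, E2, E1, E0, E2, E3, E4, E2, E5, E6, E2, E1, E0, E2, E3, E4, E2, E5, E6, E2, E1, E0, E2, E3, E4, E2, E5, E6, E5, E2, E4, E3, E2, E0, E1, E2, E6, E5, E2, E4, E3, E2, E0, E1, E2, E6, E5, E2, E4, E3, E2, E0, E1, E2, E6, E5, E2, E4, E3, E2, E0, E1, E2, E6, E5, E2, E4, E3, E2, E0, E1, E2, E6, E5, E2, E4, E3, E2, E0, E1, E2, E6], [E2, E4, E3, E2, E0, E1, E2, E6, E2, E1, E0, E2, E3, E4, E2, E5, E6, E2, E1, E0, E2, E3, E4, E2, E5, E6, E2, E1, E0, E2, E3, E4, E2, E5, E6, E2, E1, E0, E2, E3, E4, E2, E5, E6, E2, E1, E0, E2, E3, E4, E2, E5, E6, E2, E1, E0, E2, E3, E4, E2, E5, E6, E2, E1, E0, E2, E3, E4, E2, E5, E6, E2, E1, E0, E2, E3, E4, E2, E5, E6, E2, E1, E0, E2, E3, E4, E2, E5, E6, E2, E1, E0, E2, E3, E4, E2, E5, E6, E5, E2, E4, E3, E2, E0, E1, E2, E6, E5, E2, E4, E3, E2, E0, E1, E2, E6,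 E5, E2, E4, E3, E2, E0, E1, E2, E6, E5, E2, E4, E3, E2, E0, E1, E2, E6, E5, E2, E4, E3, E2, E0, E1, E2, E6, E5, E2, E4, E3, E2, E0, E1, E2, E6, E5, E2, E4, E3, E2, E0, E1, E2, E6, E5, E2, E4, E3, E2, E0, E1, E2, E6, E5, E2, E4, E3, E2, E0, E1, E2, E6], [E2, E4, E3, E2, E0, E1, E2, E6, E5, E2, E4, E3, E2, E0, E1, E2, E6, E5, E2, E4, E3, E2, E0, E1, E2, E6, E5, E2, E4, E3, E2, E0, E1, E2, E6, E5, E2, E4, E3, E2, E0, E1, E2, E6, E5, E2, E4, E3, E2, E0, E1, E2, E0, E2, E1, E0, E2, E3, E4, E2, E5, E6, E2, E1, E0, E2, E3, E4, E2, E5, E6, E2, E1, E0, E2, E3, E4, E2, E5, E6, E2, E1, E0, E2, E3, E4, E2, E5, E6, E2, E1, E0, E2, E3, E4, E2, E5, E6, E2, E1, E0, E2, E3, E4, E2, E5, E6, E2, E1, E0, E2, E3, E4, E2, E5, E6, E2, E1, E0, E2, E3, E4, E2, E5, E6, E2, E1, E0, E2, E3, E4, E2, E5, E6, E2, E1, E0, E2, E3,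 E4, E2, E5, E6, E0, E6, E5, E2, E4, E3, E2, E0, E1, E2, E6, E5, E2, E4, E3, E2, E0, E1, E2, E6, E5, E2, E4, E3, E2, E0, E1, E2, E6, E5, E2, E4, E3, E2, E0, E1, E2, E6], [E6, E2, E1, E0, E2, E3, E4, E2, E5, E6, E2, E1, E0, E2, E3, E4, E2, E5, E6, E5, E2, E4, E3, E2, E0, E1, E2, E6, E5, E2, E4, E3, E2, E0, E1, E2, E6, E5, E2, E4, E3, E2, E0, E1, E2, E6, E5, E2, E4, E3, E2, E0, E1, E2, E6, E5, E2, E4, E3, E2, E0, E1, E2, E6, E5, E2, E4, E3, E2, E0, E1, E2, E6, E5, E2, E4, E3, E2, E0, E1, E2, E6, E5, E2, E4, E3, E2, E0, E1, E2, E6, E5, E2, E4, E3, E2, E0, E1, E2, E6, E5, E2, E4, E3, E2, E0, E1, E2, E6, E2, E1, E0, E2, E3, E4, E2, E5, E6, E2, E1, E0, E2, E3, E4, E2, E5, E6, E2, E1, E0, E2, E3, E4, E2, E5, E6, E2, E1, E0, E2, E3, E4, E2, E5, E6, E2, E1, E0, E2, E3, E4, E2, E5, E6, E2, E1, E0, E2, E3, E4,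 E2, E5, E6, E2, E1, E0, E2, E3, E4, E2, E5, E6, E2, E1, E0, E2, E3, E4, E2]]
def RC5 : List Nat := [6658, 8194, 4610, 9218, 2050, 10240, 11576, 11486, 11352, 11540, 10786, 10804, 11042, 11096, 11522, 10894]
def RW6 : List (List Nat) := [[5, 6, 5, 6, 5], [2, 6, 2], [3, 6, 3], [1, 6, 1], [0, 6, 0], [4, 6, 4], [2, 1, 0, 2, 3, 4, 2, 5, 6, 2, 1, 0, 2, 3, 4, 2, 5, 6, 2, 1, 0, 2, 3, 4, 2, 5, 6, 2, 1, 0, 2, 3, 4, 2, 5, 6, 2, 1, 0, 2, 3, 4, 2, 5, 6, 2, 1, 0, 2, 3, 4, 2, 5, 6, 2, 1, 0, 2, 3, 4, 2, 5, 6, 2, 1, 0, 2, 3, 4, 2, 5, 6, 2, 1, 0, 2, 3, 4, 2, 5, 6, 2, 1, 0, 2, 3, 4, 2, 5, 6, 5, 2, 4, 3, 2, 0, 1, 2, 6, 5, 2, 4, 3, 2, 0, 1, 2, 6, 5, 2, 4, 3, 2, 0, 1, 2, 6, 5, 2, 4, 3, 2, 0, 1, 2, 6, 5, 2, 4, 3, 2, 0, 1, 2, 6, 5, 2, 4, 3, 2, 0, 1, 2, 6, 5, 2, 4, 3, 2, 0, 1, 2, 6, 5, 2, 4, 3, 2, 0, 1, 2, 6, 5, 2, 4, 3, 2,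 0, 1, 2, 6, 5, 2, 4, 3, 2, 0, 1, 2], [5, 2, 4, 3, 2, 0, 1, 2, 6, 5, 2, 4, 3, 2, 0, 1, 2, 6, 5, 2, 4, 3, 2, 0, 1, 2, 6, 5, 2, 4, 3, 2, 0, 1, 2, 6, 5, 2, 4, 3, 2, 0, 1, 2, 6, 5, 2, 4, 3, 2, 0, 1, 2, 0, 2, 1, 0, 2, 3, 4, 2, 5, 6, 2, 1, 0, 2, 3, 4, 2, 5, 6, 2, 1, 0, 2, 3, 4, 2, 5, 6, 2, 1, 0, 2, 3, 4, 2, 5, 6, 2, 1, 0, 2, 3, 4, 2, 5, 6, 2, 1, 0, 2, 3, 4, 2, 5, 6, 2, 1, 0, 2, 3, 4, 2, 5, 6, 2, 1, 0, 2, 3, 4, 2, 5, 6, 2, 1, 0, 2, 3, 4, 2, 5, 6, 2, 1, 0, 2, 3, 4, 2, 5, 6, 0, 6, 5, 2, 4, 3, 2, 0, 1, 2, 6, 5, 2, 4, 3, 2, 0, 1, 2, 6, 5, 2, 4, 3, 2, 0, 1, 2, 6, 5, 2, 4, 3, 2, 0, 1, 2], [5, 2, 4, 3, 2, 0, 1, 2, 6, 5, 2, 4, 3, 2, 0, 1, 2, 6, 5, 2, 4, 3, 2, 0, 1, 2, 6, 5, 2, 4, 3, 2, 0, 1, 2, 6, 5, 2, 4, 3, 2, 0, 1, 2, 6, 5, 2, 4, 3, 2, 0, 1, 2, 6, 5, 2, 4, 3, 2, 0, 1, 2, 6, 5, 2, 4, 3, 2, 0, 1, 2, 6, 5, 2, 4, 3,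 2, 0, 1, 2, 6, 5, 2, 4, 3, 2, 0, 1, 2, 6, 2, 1, 0, 2, 3, 4, 2, 5, 6, 2, 1, 0, 2, 3, 4, 2, 5, 6, 2, 1, 0, 2, 3, 4, 2, 5, 6, 2, 1, 0, 2, 3, 4, 2, 5, 6, 2, 1, 0, 2, 3, 4, 2, 5, 6, 2, 1, 0, 2, 3, 4, 2, 5, 6, 2, 1, 0, 2, 3, 4, 2, 5, 6, 2, 1, 0, 2, 3, 4, 2, 5, 6, 2, 1, 0, 2, 3, 4, 2, 5, 6, 2, 1, 0, 2, 3, 4, 2, 5], [2, 1, 0, 2, 3, 4, 2, 5, 6, 2, 1, 0, 2, 3, 4, 2, 5, 6, 2, 1, 0, 2, 3, 4, 2, 5, 6, 2, 1, 0, 2, 3, 4, 2, 5, 6, 2, 1, 0, 2, 3, 4, 2, 5, 6, 2, 1, 0, 2, 3, 4, 2, 5, 6, 5, 2, 4, 3, 2, 0, 1, 2, 6, 5, 2, 4, 3, 2, 0, 1, 2, 6, 5, 2, 4, 3, 2, 0, 1, 2, 6, 5, 2, 4, 3, 2, 0, 1, 2, 6, 5, 2, 4, 3, 2, 0, 1, 2, 6, 5, 2, 4, 3, 2, 0, 1, 2, 6, 5, 2, 4, 3, 2, 0, 1, 2, 6, 5, 2, 4, 3, 2, 0, 1, 2, 6, 5, 2, 4, 3, 2, 0, 1, 2, 6, 5, 2, 4, 3, 2, 0, 1, 2, 6, 2, 1, 0, 2, 3, 4, 2, 5, 6, 2, 1, 0, 2, 3, 4, 2, 5, 6, 2, 1, 0, 2, 3,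 4, 2, 5, 6, 2, 1, 0, 2, 3, 4, 2, 5], [5, 2, 4, 3, 2, 0, 1, 2, 6, 5, 2, 4, 3, 2, 0, 1, 2, 6, 5, 2, 4, 3, 2, 0, 1, 2, 6, 5, 2, 4, 3, 2, 0, 1, 2, 0, 2, 1, 0, 2, 3, 4, 2, 5, 6, 2, 1, 0, 2, 3, 4, 2, 5, 6, 2, 1, 0, 2, 3, 4, 2, 5, 6, 2, 1, 0, 2, 3, 4, 2, 5, 6, 2, 1, 0, 2, 3, 4, 2, 5, 6, 2, 1, 0, 2, 3, 4, 2, 5, 6, 2, 1, 0, 2, 3, 4, 2, 5, 6, 2, 1, 0, 2, 3, 4, 2, 5, 6, 2, 1, 0, 2, 3, 4, 2, 5, 6, 2, 1, 0, 2, 3, 4, 2, 5, 6, 0, 6, 5, 2, 4, 3, 2, 0, 1, 2, 6, 5, 2, 4, 3, 2, 0, 1, 2, 6, 5, 2, 4, 3, 2, 0, 1, 2, 6, 5, 2, 4, 3, 2, 0, 1, 2, 6, 5, 2, 4, 3, 2, 0, 1, 2, 6, 5, 2, 4, 3, 2, 0, 1, 2], [5, 2, 4, 3, 2, 0, 1, 2, 6, 5, 2, 4, 3, 2, 0, 1, 2, 6, 5, 2, 4, 3, 2, 0, 1, 2, 6, 5, 2, 4, 3, 2, 0, 1, 2, 6, 5, 2, 4, 3, 2, 0, 1, 2, 6, 2, 1, 0, 2, 3, 4, 2, 5, 6, 2, 1, 0, 2, 3, 4, 2, 5, 6, 2, 1, 0, 2, 3, 4, 2, 5, 6, 2, 1, 0, 2,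 3, 4, 2, 5, 6, 2, 1, 0, 2, 3, 4, 2, 5, 6, 2, 1, 0, 2, 3, 4, 2, 5, 6, 2, 1, 0, 2, 3, 4, 2, 5, 6, 2, 1, 0, 2, 3, 4, 2, 5, 6, 2, 1, 0, 2, 3, 4, 2, 5, 6, 2, 1, 0, 2, 3, 4, 2, 5, 6, 5, 2, 4, 3, 2, 0, 1, 2, 6, 5, 2, 4, 3, 2, 0, 1, 2, 6, 5, 2, 4, 3, 2, 0, 1, 2, 6, 5, 2, 4, 3, 2, 0, 1, 2, 6, 5, 2, 4, 3, 2, 0, 1, 2], [5, 2, 4, 3, 2, 0, 1, 2, 6, 5, 2, 4, 3, 2, 0, 1, 2, 6, 5, 2, 4, 3, 2, 0, 1, 2, 6, 5, 2, 4, 3, 2, 0, 1, 2, 6, 5, 2, 4, 3, 2, 0, 1, 2, 6, 5, 2, 4, 3, 2, 0, 1, 2, 6, 5, 2, 4, 3, 2, 0, 1, 2, 6, 5, 2, 4, 3, 2, 0, 1, 2, 6, 5, 2, 4, 3, 2, 0, 1, 2, 6, 5, 2, 4, 3, 2, 0, 1, 2, 0, 2, 1, 0, 2, 3, 4, 2, 5, 6, 2, 1, 0, 2, 3, 4, 2, 5, 6, 2, 1, 0, 2, 3, 4, 2, 5, 6, 2, 1, 0, 2, 3, 4, 2, 5, 6, 2, 1, 0, 2, 3, 4, 2, 5, 6, 2, 1, 0, 2, 3, 4, 2, 5, 6, 2, 1, 0, 2, 3, 4, 2, 5, 6, 2, 1, 0, 2, 3, 4, 2, 5, 6, 2, 1, 0, 2, 3,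 4, 2, 5, 6, 2, 1, 0, 2, 3, 4, 2, 5, 6, 0]]
noncomputable def RF6 : List (List (Nat → Nat)) := [[E5, E6, E5, E6, E5], [E2, E6, E2], [E3, E6, E3], [E1, E6, E1], [E0, E6, E0], [E4, E6, E4], [E2, E1, E0, E2, E3, E4, E2, E5, E6, E2, E1, E0, E2, E3, E4, E2, E5, E6, E2, E1, E0, E2, E3, E4, E2, E5, E6, E2, E1, E0, E2, E3, E4, E2, E5, E6, E2, E1, E0, E2, E3, E4, E2, E5, E6, E2, E1, E0, E2, E3, E4, E2, E5, E6, E2, E1, E0, E2, E3, E4, E2, E5, E6, E2, E1, E0, E2, E3, E4, E2, E5, E6, E2, E1, E0, E2, E3, E4, E2, E5, E6, E2, E1, E0, E2, E3, E4, E2, E5, E6, E5, E2, E4, E3, E2, E0, E1, E2, E6, E5, E2, E4, E3, E2, E0, E1, E2, E6, E5, E2, E4, E3, E2, E0, E1, E2, E6, E5, E2, E4, E3, E2, E0, E1, E2, E6, E5, E2, E4, E3, E2, E0, E1, E2, E6, E5, E2, E4, E3, E2, E0, E1, E2, E6, E5, E2, E4, E3, E2, E0, E1, E2, E6, E5, E2, E4,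 E3, E2, E0, E1, E2, E6, E5, E2, E4, E3, E2, E0, E1, E2, E6, E5, E2, E4, E3, E2, E0, E1, E2], [E5, E2, E4, E3, E2, E0, E1, E2, E6, E5, E2, E4, E3, E2, E0, E1, E2, E6, E5, E2, E4, E3, E2, E0, E1, E2, E6, E5, E2, E4, E3, E2, E0, E1, E2, E6, E5, E2, E4, E3, E2, E0, E1, E2, E6, E5, E2, E4, E3, E2, E0, E1, E2, E0, E2, E1, E0, E2, E3, E4, E2, E5, E6, E2, E1, E0, E2, E3, E4, E2, E5, E6, E2, E1, E0, E2, E3, E4, E2, E5, E6, E2, E1, E0, E2, E3, E4, E2, E5, E6, E2, E1, E0, E2, E3, E4, E2, E5, E6, E2, E1, E0, E2, E3, E4, E2, E5, E6, E2, E1, E0, E2, E3, E4, E2, E5, E6, E2, E1, E0, E2, E3, E4, E2, E5, E6, E2, E1, E0, E2, E3, E4, E2, E5, E6, E2, E1, E0, E2, E3, E4, E2, E5, E6, E0, E6, E5, E2, E4, E3, E2, E0, E1, E2, E6, E5, E2, E4, E3, E2, E0, E1, E2, E6, E5, E2, E4, E3, E2, E0, E1, E2, E6, E5, E2, E4, E3, E2, E0,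 E1, E2], [E5, E2, E4, E3, E2, E0, E1, E2, E6, E5, E2, E4, E3, E2, E0, E1, E2, E6, E5, E2, E4, E3, E2, E0, E1, E2, E6, E5, E2, E4, E3, E2, E0, E1, E2, E6, E5, E2, E4, E3, E2, E0, E1, E2, E6, E5, E2, E4, E3, E2, E0, E1, E2, E6, E5, E2, E4, E3, E2, E0, E1, E2, E6, E5, E2, E4, E3, E2, E0, E1, E2, E6, E5, E2, E4, E3, E2, E0, E1, E2, E6, E5, E2, E4, E3, E2, E0, E1, E2, E6, E2, E1, E0, E2, E3, E4, E2, E5, E6, E2, E1, E0, E2, E3, E4, E2, E5, E6, E2, E1, E0, E2, E3, E4, E2, E5, E6, E2, E1, E0, E2, E3, E4, E2, E5, E6, E2, E1, E0, E2, E3, E4, E2, E5, E6, E2, E1, E0, E2, E3, E4, E2, E5, E6, E2, E1, E0, E2, E3, E4, E2, E5, E6, E2, E1, E0, E2, E3, E4, E2, E5, E6, E2, E1, E0, E2, E3, E4, E2, E5, E6, E2, E1, E0, E2, E3, E4, E2, E5], [E2, E1, E0, E2, E3, E4, E2, E5, E6, E2, E1, E0, E2, E3, E4, E2, E5, E6, E2, E1, E0,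 E2, E3, E4, E2, E5, E6, E2, E1, E0, E2, E3, E4, E2, E5, E6, E2, E1, E0, E2, E3, E4, E2, E5, E6, E2, E1, E0, E2, E3, E4, E2, E5, E6, E5, E2, E4, E3, E2, E0, E1, E2, E6, E5, E2, E4, E3, E2, E0, E1, E2, E6, E5, E2, E4, E3, E2, E0, E1, E2, E6, E5, E2, E4, E3, E2, E0, E1, E2, E6, E5, E2, E4, E3, E2, E0, E1, E2, E6, E5, E2, E4, E3, E2, E0, E1, E2, E6, E5, E2, E4, E3, E2, E0, E1, E2, E6, E5, E2, E4, E3, E2, E0, E1, E2, E6, E5, E2, E4, E3, E2, E0, E1, E2, E6, E5, E2, E4, E3, E2, E0, E1, E2, E6, E2, E1, E0, E2, E3, E4, E2, E5, E6, E2, E1, E0, E2, E3, E4, E2, E5, E6, E2, E1, E0, E2, E3, E4, E2, E5, E6, E2, E1, E0, E2, E3, E4, E2, E5], [E5, E2, E4, E3, E2, E0, E1, E2, E6, E5, E2, E4, E3, E2, E0, E1, E2, E6, E5, E2, E4, E3, E2, E0, E1, E2, E6, E5, E2, E4, E3, E2, E0, E1, E2, E0, E2, E1, E0, E2, E3, E4, E2, E5,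 E6, E2, E1, E0, E2, E3, E4, E2, E5, E6, E2, E1, E0, E2, E3, E4, E2, E5, E6, E2, E1, E0, E2, E3, E4, E2, E5, E6, E2, E1, E0, E2, E3, E4, E2, E5, E6, E2, E1, E0, E2, E3, E4, E2, E5, E6, E2, E1, E0, E2, E3, E4, E2, E5, E6, E2, E1, E0, E2, E3, E4, E2, E5, E6, E2, E1, E0, E2, E3, E4, E2, E5, E6, E2, E1, E0, E2, E3, E4, E2, E5, E6, E0, E6, E5, E2, E4, E3, E2, E0, E1, E2, E6, E5, E2, E4, E3, E2, E0, E1, E2, E6, E5, E2, E4, E3, E2, E0, E1, E2, E6, E5, E2, E4, E3, E2, E0, E1, E2, E6, E5, E2, E4, E3, E2, E0, E1, E2, E6, E5, E2, E4, E3, E2, E0, E1, E2], [E5, E2, E4, E3, E2, E0, E1, E2, E6, E5, E2, E4, E3, E2, E0, E1, E2, E6, E5, E2, E4, E3, E2, E0, E1, E2, E6, E5, E2, E4, E3, E2, E0, E1, E2, E6, E5, E2, E4, E3, E2, E0, E1, E2, E6, E2, E1, E0, E2, E3, E4, E2, E5, E6, E2, E1, E0, E2, E3, E4, E2, E5, E6, E2, E1,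 E0, E2, E3, E4, E2, E5, E6, E2, E1, E0, E2, E3, E4, E2, E5, E6, E2, E1, E0, E2, E3, E4, E2, E5, E6, E2, E1, E0, E2, E3, E4, E2, E5, E6, E2, E1, E0, E2, E3, E4, E2, E5, E6, E2, E1, E0, E2, E3, E4, E2, E5, E6, E2, E1, E0, E2, E3, E4, E2, E5, E6, E2, E1, E0, E2, E3, E4, E2, E5, E6, E5, E2, E4, E3, E2, E0, E1, E2, E6, E5, E2, E4, E3, E2, E0, E1, E2, E6, E5, E2, E4, E3, E2, E0, E1, E2, E6, E5, E2, E4, E3, E2, E0, E1, E2, E6, E5, E2, E4, E3, E2, E0, E1, E2], [E5, E2, E4, E3, E2, E0, E1, E2, E6, E5, E2, E4, E3, E2, E0, E1, E2, E6, E5, E2, E4, E3, E2, E0, E1, E2, E6, E5, E2, E4, E3, E2, E0, E1, E2, E6, E5, E2, E4, E3, E2, E0, E1, E2, E6, E5, E2, E4, E3, E2, E0, E1, E2, E6, E5, E2, E4, E3, E2, E0, E1, E2, E6, E5, E2, E4, E3, E2, E0, E1, E2, E6, E5, E2, E4, E3, E2, E0, E1, E2, E6, E5, E2, E4, E3, E2, E0, E1,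 E2, E0, E2, E1, E0, E2, E3, E4, E2, E5, E6, E2, E1, E0, E2, E3, E4, E2, E5, E6, E2, E1, E0, E2, E3, E4, E2, E5, E6, E2, E1, E0, E2, E3, E4, E2, E5, E6, E2, E1, E0, E2, E3, E4, E2, E5, E6, E2, E1, E0, E2, E3, E4, E2, E5, E6, E2, E1, E0, E2, E3, E4, E2, E5, E6, E2, E1, E0, E2, E3, E4, E2, E5, E6, E2, E1, E0, E2, E3, E4, E2, E5, E6, E2, E1, E0, E2, E3, E4, E2, E5, E6, E0]]
def RC6 : List Nat := [10242, 7170, 8706, 5122, 2562, 9730, 10752, 11520, 10932, 10824, 11556, 11022, 11448]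
def RW : Nat → List (List Nat) := fun l => (@Nat.rec (fun _ => List (List Nat)) RW0 (fun l _ => (@Nat.rec (fun _ => List (List Nat)) RW1 (fun l _ => (@Nat.rec (fun _ => List (List Nat)) RW2 (fun l _ => (@Nat.rec (fun _ => List (List Nat)) RW3 (fun l _ => (@Nat.rec (fun _ => List (List Nat)) RW4 (fun l _ => (@Nat.rec (fun _ => List (List Nat)) RW5 (fun l _ => RW6) l)) l)) l)) l)) l)) l)
def sp : List Nat := [0, 1, 2, 3, 4, 5, 21826]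
theorem ck0 : allR (ckE (nat_lit 729) (nat_lit 0x3ff) (nat_lit 10) (nat_lit 31) (nat_lit 15) (nat_lit 0) D E0 E0 RF0 sp) (nat_lit 0) (nat_lit 729) = true := by decide +kernel
theorem rf0 : RF0 = (RW0).map (·.map E) := rfl
theorem rc0 : ckRels 7 inv rels 0 RW0 RC0 = true := by decide +kernel
theorem ck1 : allR (ckE (nat_lit 729) (nat_lit 0x3ff) (nat_lit 10) (nat_lit 31) (nat_lit 15) (nat_lit 1) D E1 E1 RF1 sp) (nat_lit 0) (nat_lit 729) = true := by decide +kernel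
theorem rf1 : RF1 = (RW1).map (·.map E) := rfl
theorem rc1 : ckRels 7 inv rels 1 RW1 RC1 = true := by decide +kernel
theorem ck2 : allR (ckE (nat_lit 729) (nat_lit 0x3ff) (nat_lit 10) (nat_lit 31) (nat_lit 15) (nat_lit 2) D E2 E2 RF2 sp) (nat_lit 0) (nat_lit 729) = true := by decide +kernel
theorem rf2 : RF2 = (RW2).map (·.map E) := rfl
theorem rc2 : ckRels 7 inv rels 2 RW2 RC2 = true := by decide +kernel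
theorem ck3 : allR (ckE (nat_lit 729) (nat_lit 0x3ff) (nat_lit 10) (nat_lit 31) (nat_lit 15) (nat_lit 3) D E3 E3 RF3 sp) (nat_lit 0) (nat_lit 729) = true := by decide +kernel
theorem rf3 : RF3 = (RW3).map (·.map E) := rfl
theorem rc3 : ckRels 7 inv rels 3 RW3 RC3 = true := by decide +kernel
theorem ck4 : allR (ckE (nat_lit 729) (nat_lit 0x3ff) (nat_lit 10) (nat_lit 31) (nat_lit 15) (nat_lit 4) D E4 E4 RF4 sp) (nat_lit 0) (nat_lit 729) = true := by decide +kernel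
theorem rf4 : RF4 = (RW4).map (·.map E) := rfl
theorem rc4 : ckRels 7 inv rels 4 RW4 RC4 = true := by decide +kernel
theorem ck5 : allR (ckE (nat_lit 729) (nat_lit 0x3ff) (nat_lit 10) (nat_lit 31) (nat_lit 15) (nat_lit 5) D E5 E5 RF5 sp) (nat_lit 0) (nat_lit 729) = true := by decide +kernel
theorem rf5 : RF5 = (RW5).map (·.map E) := rfl
theorem rc5 : ckRels 7 inv rels 5 RW5 RC5 = true := by decide +kernel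
theorem ck6 : allR (ckE (nat_lit 729) (nat_lit 0x3ff) (nat_lit 10) (nat_lit 31) (nat_lit 15) (nat_lit 6) D E6 E6 RF6 sp) (nat_lit 0) (nat_lit 729) = true := by decide +kernel
theorem rf6 : RF6 = (RW6).map (·.map E) := rfl
theorem rc6 : ckRels 7 inv rels 6 RW6 RC6 = true := by decide +kernel

theorem edgeOK : ∀ l < 7, ∀ i < 729, EdgeOK E 1023 729 15 10 31 inv D RW sp l i := by
  intro l hl i hi
  interval_cases l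

  · exact ckE_sound 729 1023 10 31 15 0 inv D E RW sp i (by
      have := allR_zero _ _ ck0 i hi
      rw [rf0] at this
      exact this)
  · exact ckE_sound 729 1023 10 31 15 1 inv D E RW sp i (by
      have := allR_zero _ _ ck1 i hi
      rw [rf1] at this
      exact this)
  · exact ckE_sound 729 1023 10 31 15 2 inv D E RW sp i (by
      have := allR_zero _ _ ck2 i hi
      rw [rf2] at this
      exact this)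
  · exact ckE_sound 729 1023 10 31 15 3 inv D E RW sp i (by
      have := allR_zero _ _ ck3 i hi
      rw [rf3] at this
      exact this)
  · exact ckE_sound 729 1023 10 31 15 4 inv D E RW sp i (by
      have := allR_zero _ _ ck4 i hi
      rw [rf4] at this
      exact this)
  · exact ckE_sound 729 1023 10 31 15 5 inv D E RW sp i (by
      have := allR_zero _ _ ck5 i hi
      rw [rf5] at this
      exact this)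
  · exact ckE_sound 729 1023 10 31 15 6 inv D E RW sp i (by
      have := allR_zero _ _ ck6 i hi
      rw [rf6] at this
      exact this)
def RB : List (List Nat) := [[5, 4, 5, 4], [31, 2, 2], [31, 5, 5], [4, 2, 4, 2], [5, 3, 5, 3], [6, 2, 6, 2], [1, 3, 1, 3], [6, 3, 6, 3], [3, 4, 3, 4, 3, 4], [0, 3, 0, 3], [2, 4, 2, 4], [2, 5, 2, 5, 2, 5], [2, 0, 2, 0], [3, 0, 3, 0], [31, 3, 3], [4, 0, 4, 0], [0, 2, 0, 2], [3, 5, 3, 5], [0, 5, 0, 5], [3, 6, 3, 6], [31, 4, 4], [1, 4, 1, 4], [6, 4, 6, 4], [0, 4, 0, 4], [2, 3, 2, 3, 2, 3], [3, 2, 3, 2, 3, 2], [6, 1, 6, 1], [5, 0, 5, 0], [5, 6, 5, 6, 5, 6], [4, 5, 4, 5], [5, 1, 5, 1], [1, 5, 1, 5], [5, 2, 5, 2, 5, 2], [6, 0, 6, 0], [4, 3, 4, 3, 4, 3], [3, 1, 3, 1], [2, 1, 2, 1, 2, 1], [4, 1, 4, 1], [1, 2, 1, 2, 1, 2], [2, 6, 2, 6], [1, 6, 1, 6], [4, 6, 4, 6], [31, 1, 1],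 [31, 0, 0], [0, 6, 0, 6], [6, 2, 1, 0, 2, 3, 4, 2, 5, 6, 2, 1, 0, 2, 3, 4, 2, 5, 6, 2, 1, 0, 2, 3, 4, 2, 5, 6, 2, 1, 0, 2, 3, 4, 2, 5, 6, 2, 1, 0, 2, 3, 4, 2, 5, 6, 2, 1, 0, 2, 3, 4, 2, 5, 6, 2, 1, 0, 2, 3, 4, 2, 5, 6, 2, 1, 0, 2, 3, 4, 2, 5, 6, 2, 1, 0, 2, 3, 4, 2, 5, 6, 2, 1, 0, 2, 3, 4, 2, 5, 6, 5, 2, 4, 3, 2, 0, 1, 2, 6, 5, 2, 4, 3, 2, 0, 1, 2, 6, 5, 2, 4, 3, 2, 0, 1, 2, 6, 5, 2, 4, 3, 2, 0, 1, 2, 6, 5, 2, 4, 3, 2, 0, 1, 2, 6, 5, 2, 4, 3, 2, 0, 1, 2, 6, 5, 2, 4, 3, 2, 0, 1, 2, 6, 5, 2, 4, 3, 2, 0, 1, 2, 6, 5, 2, 4, 3, 2, 0, 1, 2, 6, 5, 2, 4, 3, 2, 0, 1, 2], [31, 2, 6, 2, 6], [2, 2]]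
def RBC : List Nat := [36872, 6, 6, 24584, 32776, 28680, 14336, 34824, 30720, 4096, 24576, 26624, 2056, 4104, 6, 6152, 2048, 32768, 8192, 34816, 6, 16384, 38920, 6144, 22528, 22536, 20488, 8200, 40960, 36864, 18440, 18432, 26632, 10248, 30728, 14344, 12296, 16392, 12288, 28672, 20480, 38912, 6, 6, 10240, 43008, 28674, 4]
theorem rbc : ckRB 7 inv rels RB RBC = true := by decide +kernel
theorem sp0k : ckSub (nat_lit 0x3ff) (nat_lit 15) E0 [] [] (nat_lit 0) = true := by decide +kernel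
theorem sp0 {G : Type*} [Group G] (H : Subgroup G) (s : Nat → G) (hinv : ∀ l, s l = (s l)⁻¹) (h31 : s 31 = 1)
    (hrels : ∀ W ∈ rels, (W.map s).prod = 1) (hsub : ∀ w ∈ subw, (w.map s).prod ∈ H)
    (htgt : ∀ l < 7, ∀ i < 729, Nat.land (E l i) 1023 < 729)
    (hlow : ∀ l' < 7, ∀ i' < 729, E l' i' < Nat.shiftLeft (Nat.shiftRight (E 0 0) 15) 15 →
      EdgeP H s (repOf s D) E 1023 l' i') : EdgeP H s (repOf s D) E 1023 0 0 := by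
  have h1 := ckSub_sound E 1023 15 0 0 [] [] sp0k
  exact special_sub H s (repOf s D) E 1023 729 7 _ htgt hlow (repOf_zero s D) [] [] 0 0 (by decide) (by decide)
    (by decide) (by decide) (hsub _ (by decide)) h1.1 h1.2
theorem sp1k : ckSub (nat_lit 0x3ff) (nat_lit 15) E1 [] [] (nat_lit 0) = true := by decide +kernel
theorem sp1 {G : Type*} [Group G] (H : Subgroup G) (s : Nat → G) (hinv : ∀ l, s l = (s l)⁻¹) (h31 : s 31 = 1)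
    (hrels : ∀ W ∈ rels, (W.map s).prod = 1) (hsub : ∀ w ∈ subw, (w.map s).prod ∈ H)
    (htgt : ∀ l < 7, ∀ i < 729, Nat.land (E l i) 1023 < 729)
    (hlow : ∀ l' < 7, ∀ i' < 729, E l' i' < Nat.shiftLeft (Nat.shiftRight (E 1 0) 15) 15 →
      EdgeP H s (repOf s D) E 1023 l' i') : EdgeP H s (repOf s D) E 1023 1 0 := by
  have h1 := ckSub_sound E 1023 15 1 0 [] [] sp1k
  exact special_sub H s (repOf s D) E 1023 729 7 _ htgt hlow (repOf_zero s D) [] [] 1 0 (by decide) (by decide)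
    (by decide) (by decide) (hsub _ (by decide)) h1.1 h1.2
theorem sp2k : ckSub (nat_lit 0x3ff) (nat_lit 15) E2 [] [] (nat_lit 0) = true := by decide +kernel
theorem sp2 {G : Type*} [Group G] (H : Subgroup G) (s : Nat → G) (hinv : ∀ l, s l = (s l)⁻¹) (h31 : s 31 = 1)
    (hrels : ∀ W ∈ rels, (W.map s).prod = 1) (hsub : ∀ w ∈ subw, (w.map s).prod ∈ H)
    (htgt : ∀ l < 7, ∀ i < 729, Nat.land (E l i) 1023 < 729)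
    (hlow : ∀ l' < 7, ∀ i' < 729, E l' i' < Nat.shiftLeft (Nat.shiftRight (E 2 0) 15) 15 →
      EdgeP H s (repOf s D) E 1023 l' i') : EdgeP H s (repOf s D) E 1023 2 0 := by
  have h1 := ckSub_sound E 1023 15 2 0 [] [] sp2k
  exact special_sub H s (repOf s D) E 1023 729 7 _ htgt hlow (repOf_zero s D) [] [] 2 0 (by decide) (by decide)
    (by decide) (by decide) (hsub _ (by decide)) h1.1 h1.2
theorem sp3k : ckSub (nat_lit 0x3ff) (nat_lit 15) E3 [] [] (nat_lit 0) = true := by decide +kernel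
theorem sp3 {G : Type*} [Group G] (H : Subgroup G) (s : Nat → G) (hinv : ∀ l, s l = (s l)⁻¹) (h31 : s 31 = 1)
    (hrels : ∀ W ∈ rels, (W.map s).prod = 1) (hsub : ∀ w ∈ subw, (w.map s).prod ∈ H)
    (htgt : ∀ l < 7, ∀ i < 729, Nat.land (E l i) 1023 < 729)
    (hlow : ∀ l' < 7, ∀ i' < 729, E l' i' < Nat.shiftLeft (Nat.shiftRight (E 3 0) 15) 15 →
      EdgeP H s (repOf s D) E 1023 l' i') : EdgeP H s (repOf s D) E 1023 3 0 := by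
  have h1 := ckSub_sound E 1023 15 3 0 [] [] sp3k
  exact special_sub H s (repOf s D) E 1023 729 7 _ htgt hlow (repOf_zero s D) [] [] 3 0 (by decide) (by decide)
    (by decide) (by decide) (hsub _ (by decide)) h1.1 h1.2
theorem sp4k : ckSub (nat_lit 0x3ff) (nat_lit 15) E4 [] [] (nat_lit 0) = true := by decide +kernel
theorem sp4 {G : Type*} [Group G] (H : Subgroup G) (s : Nat → G) (hinv : ∀ l, s l = (s l)⁻¹) (h31 : s 31 = 1)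
    (hrels : ∀ W ∈ rels, (W.map s).prod = 1) (hsub : ∀ w ∈ subw, (w.map s).prod ∈ H)
    (htgt : ∀ l < 7, ∀ i < 729, Nat.land (E l i) 1023 < 729)
    (hlow : ∀ l' < 7, ∀ i' < 729, E l' i' < Nat.shiftLeft (Nat.shiftRight (E 4 0) 15) 15 →
      EdgeP H s (repOf s D) E 1023 l' i') : EdgeP H s (repOf s D) E 1023 4 0 := by
  have h1 := ckSub_sound E 1023 15 4 0 [] [] sp4k
  exact special_sub H s (repOf s D) E 1023 729 7 _ htgt hlow (repOf_zero s D) [] [] 4 0 (by decide) (by decide)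
    (by decide) (by decide) (hsub _ (by decide)) h1.1 h1.2
theorem sp5k : ckSub (nat_lit 0x3ff) (nat_lit 15) E5 [] [] (nat_lit 0) = true := by decide +kernel
theorem sp5 {G : Type*} [Group G] (H : Subgroup G) (s : Nat → G) (hinv : ∀ l, s l = (s l)⁻¹) (h31 : s 31 = 1)
    (hrels : ∀ W ∈ rels, (W.map s).prod = 1) (hsub : ∀ w ∈ subw, (w.map s).prod ∈ H)
    (htgt : ∀ l < 7, ∀ i < 729, Nat.land (E l i) 1023 < 729)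
    (hlow : ∀ l' < 7, ∀ i' < 729, E l' i' < Nat.shiftLeft (Nat.shiftRight (E 5 0) 15) 15 →
      EdgeP H s (repOf s D) E 1023 l' i') : EdgeP H s (repOf s D) E 1023 5 0 := by
  have h1 := ckSub_sound E 1023 15 5 0 [] [] sp5k
  exact special_sub H s (repOf s D) E 1023 729 7 _ htgt hlow (repOf_zero s D) [] [] 5 0 (by decide) (by decide)
    (by decide) (by decide) (hsub _ (by decide)) h1.1 h1.2
noncomputable def sp21826F : Nat → Nat := fun g => Nat.land (Nat.shiftRight (nat_lit 0x40055400555f002ea002aaf80196801757c00bec00bebe0068a005f7f0034600305f8019d00196fc00d1400d1fe0067c00609f0034f0033ef8018b801817c00cd400c47e0063c00621f0034b00335f801a00019d7c00c9000c5fe0064200627f0034e00324f801a48019f7c00cc400c5fe006940063df0033b00334f8019c0019afc00d3000c87e0066400649f0033f00339f8018b00189fc00ca000c6fe0066c00669f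003200031ef801948018efc00c8c00c87e0063800637f0031f0031df80196001959800d4000d404006a0006562003490034f2001a7001a79400d3c00d34a006980069c20034e003322001a6001a68800d3400d08600698006982003290034c0001a6001a50800cec00d2c8006960069430034a0034a1001a5001941400cfc00d24c0069200690500344003482001a4001998000d1c00d18a0068e00674300337003470801a3801a39800d1c00d0c60067c0068c500346003412801a2801a01800cf800d1080064c006880003440033d18019e801a18400d0c00d0c8006860065e50033c003422001a1001948c00ce400d0400068200674300338003402001a0001971800ce400cfc8006460067e20033c0033f00019f8019c0000cdc00cf8a006720067c20033e0033e20019f001921000c9400cf4c0067a0066e40031f0033c00019e0019b1400cd800cec800676006503003350033a10019d0019d1000ce800cb400066a006724003390032130019a8019c0800cd800ce0800670006405003350033720019b801911000c7000cd8c0066c006684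0031e0033510019a8019a1400cd000cd08006680063650032600333300199801991400cc800c8ca0062c0066220033100331000198801980800cc000cc0a006600062410032f0032f1801978018c8c00c5400cb8c0065c0065a20032d0032d180196801889800cac00cb02006580063e10031d0032b180195801950400ca800c38000650006525003290031f28018e001940c00ca000c9c40064e0064e5003270030d000192801931800c9000c9860064c0063430031800325300192801910800c9000c900006440064830031700324280192001908c00c5800c8c00064000646600321003231001918018f9400c7800c886006440062820031d0032100018f001908c00c8400c4c4006380064060031e00320180190001890000c7000c7cc0063a0063e30031f0030f1801880018f0800c7800c6ca0063a0063a30030e0031d00018e8018d8c00c3400c70c006380063650031b0031b18018d801861800c5c00c68000634006301003190031920018c8018c0400c6000c60c00630006285003130031700018a0018b8800c5c00c080006240062c2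003160030b3001888018a9000c4800c5440062a006142002f70031408018a0018a1400c5000c404006000062600031300310100184001891800c4800c404005ea0062240031100310080188001880800c4000bd000061a0061e60030e0030f100187801848800bf800c3800061c006182003070030d300186801861400c3000c30400618005e43003090030b000185801841800bd400c2880061400610000307003093001848017f1400c2000c2060060e00610600308002f4300179001839400c1c00c1c20060e0060c50030600306300183001788000bec00c146006080060a50030500303280180801821000c0800c10000608005f230030100303000181801780000bdc00c08a00604005fe0002ef003012001808017f9400bf400c006005fc00600000300002f410017e8017f8000bfc00bb80005e4005fc5002fe002fc0001760017e8c00bf400bf00005f8005d65002f0002fb08017d0017d8c00bec00be46005f0005f45002fa002ea20017b8017c8400be000be4a005f2005de5002e8002f820017c0017b1400bb800bdc2005ee005ec5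002f6002e718017a8017a9400bb400bd48005ea005e83002f2002f40801798017a1400bd000bb04005e6005e65002e5002f3180179801789400bac00bc88005e4005e41002f2002f1200178801789400bc400b906005de005e01002f0002ea080174001779000bb800bbc4005de005da2002ec002ee080177001739800bb400bb48005d8005da1002ed002e6300176001760400b9400bb06005d8005d62002eb002eb300175801758400bac00b906005d0005d42002ea002aa000174001748800ba400b8c4005c4005d04002e8002e71001738016f9800b9800b988005ca005cc2002e6002e010016f001728c00b9400b90c005c8005c84002e4002e41001720016e8c00ac000b8c0005c4005c64002e3002e120016f801710400b8000b886005c4005640002df002e11801708016e0c00b3400b80c005c0005c04002e0002de18016d8016f8400b7c00b78c005bc005bc5002de002de18016f0016d1000b7400b74c005ba005ba1002dd002dd18016e8016c9000b2400b700005b8005b61002da002db20016d801651400b6800b68c005b4005b44002cc002da10016d0016c9800b6400b642005b2005b24002d9002d3)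 (Nat.mul (nat_lit 45) g)) (nat_lit 0x1fffffffffff)
noncomputable def sp21826T : Nat → Nat := fun g => Nat.land (Nat.shiftRight (nat_lit 0x32b1001a69400cc840068420034a0001a51000ca04006906003332001a19800d04a0068050033d0001979000ca480067400032e20019c0000c9080066e6003360001941000cb48006424003202001911000cd0c0066820031b2001991800c8ca0066000031228018c8c00cb4c0062230031f0801950c00c3820063e5003271801869400c6860064460032128018f8800c506006263003121801878c00c6c40063600031b3001860c00c600006304003143001810800c2c4006142003102801880000c40c006204002f41001848800c300006186002f21001840000c208005fc6002f43001830400bc4c006065002f90001780000bfca005fe4002f40001770000bf0a005f83002eb00017c8c00ba8a005de5002f620017b0400b9ca005e84002ec2801788c00bc42005c85002ea0801768800b9c2005cc1002eb1801720400aa84005c62002e720016f8800b804005c83002dd1001709000ac86005b83002de20016f0400b686005b23002db0001651000b644005a64)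 (Nat.mul (nat_lit 25) g)) (nat_lit 0x1ffffff)
noncomputable def sp21826L : List Nat := [nat_lit 0x0, nat_lit 0x10000000203016, nat_lit 0x10000000203017, nat_lit 0x0, nat_lit 0x2000803004, nat_lit 0x70005000803006, nat_lit 0xa0000000903001, nat_lit 0x0, nat_lit 0xa0000001003016, nat_lit 0x0, nat_lit 0x10001403010, nat_lit 0x0, nat_lit 0x170003001803007, nat_lit 0x170005001803008, nat_lit 0x17000100000002001805023, nat_lit 0x0, nat_lit 0x1f000d002003005, nat_lit 0x1f000b002003008, nat_lit 0x0, nat_lit 0x120020002603024, nat_lit 0x0, nat_lit 0x290023002a03017, nat_lit 0x90020002a05009, nat_lit 0x0, nat_lit 0x28001400300300a, nat_lit 0x0, nat_lit 0x2e0000003403007, nat_lit 0x28000f00000000003405023, nat_lit 0x0, nat_lit 0x380031003a03018, nat_lit 0x150030003a05009, nat_lit 0x0, nat_lit 0x3f001d004003004,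 nat_lit 0x3f001b004003006, nat_lit 0x0, nat_lit 0x1f000700180040004605019, nat_lit 0x0, nat_lit 0x48002a004a03004, nat_lit 0x49002b004a03006, nat_lit 0x0, nat_lit 0x0, nat_lit 0x38005000520300b, nat_lit 0x0, nat_lit 0x54003b005603011, nat_lit 0x0, nat_lit 0x54003300000000005a0501a, nat_lit 0x0, nat_lit 0x5d0043005e0301b, nat_lit 0x5d003f00190040005e05025, nat_lit 0x0, nat_lit 0x45005e006403007, nat_lit 0x63005f006403008, nat_lit 0x0, nat_lit 0x66004b006a03026, nat_lit 0x69004d006a0301b, nat_lit 0x0, nat_lit 0x66004800260050007005025, nat_lit 0x0, nat_lit 0x72006b007403004, nat_lit 0x540036004a006a007405027, nat_lit 0x0, nat_lit 0x78005b007a03024, nat_lit 0x0, nat_lit 0x7d0041007e0301e, nat_lit 0x0, nat_lit 0x81007f008203026, nat_lit 0x5d007e00820301f, nat_lit 0x0, nat_lit 0x45007e008803005, nat_lit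 0x8a00480022004700890500c, nat_lit 0x0, nat_lit 0x8a0065008e03020, nat_lit 0x860064008e03012, nat_lit 0x0, nat_lit 0x6c008e009403001, nat_lit 0x93009200830091009405009, nat_lit 0x0, nat_lit 0x0, nat_lit 0x6f009a009c0301f, nat_lit 0x0, nat_lit 0x51009a00a003001, nat_lit 0x0, nat_lit 0xa2007700a403020, nat_lit 0x9e007500a40301e, nat_lit 0x0, nat_lit 0xa2005b00aa03012, nat_lit 0x0, nat_lit 0xac00a500ae03007, nat_lit 0x7c00a400ae03005, nat_lit 0x0, nat_lit 0x0, nat_lit 0x6300b400b60300a, nat_lit 0x0, nat_lit 0x8600b400ba03013, nat_lit 0x0, nat_lit 0xb8007100be0300d, nat_lit 0x0, nat_lit 0xbc009100c20300e, nat_lit 0xb8008e00c20301c, nat_lit 0x0, nat_lit 0x7600be00c803018, nat_lit 0x0, nat_lit 0x9e00be00cc03013, nat_lit 0x0, nat_lit 0xca007b00d00300e, nat_lit 0x0, nat_lit 0xce00a700d403010, nat_lit 0xca00a400d40301c,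 nat_lit 0x0, nat_lit 0xd800d100da03012, nat_lit 0xb200d000da03013, nat_lit 0x0, nat_lit 0xdf007d0043007e00e00501d, nat_lit 0x0, nat_lit 0xe300e100e40301f, nat_lit 0x8100e000e40301b, nat_lit 0x0, nat_lit 0xe8009100ea03014, nat_lit 0xe9008d0067008e00ea0501d, nat_lit 0x0, nat_lit 0xe800bb00f00302d, nat_lit 0x0, nat_lit 0x9300ea00f403017, nat_lit 0x0, nat_lit 0xf200eb00f80300e, nat_lit 0x0, nat_lit 0xfb00860061008500fc05021, nat_lit 0x0, nat_lit 0xe800fc010003028, nat_lit 0x0, nat_lit 0xbc00fc01040300d, nat_lit 0x0, nat_lit 0x10600f0010803006, nat_lit 0x10200f1010803011, nat_lit 0x0, nat_lit 0x10d0090008b008f010e05027, nat_lit 0x0, nat_lit 0x93010e01120300b, nat_lit 0x0, nat_lit 0xe9010e011603028, nat_lit 0x0, nat_lit 0xc1010e011a0300d, nat_lit 0x0, nat_lit 0x11d010f011e03020, nat_lit 0x9e0072008e010e011e0500c,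 nat_lit 0x0, nat_lit 0x11800f4012403004, nat_lit 0x11400f5012403006, nat_lit 0x0, nat_lit 0x11800f8012a03011, nat_lit 0x0, nat_lit 0x12200cd012e03011, nat_lit 0x11c00c600bf00cc012e05021, nat_lit 0x0, nat_lit 0x133011f013403029, nat_lit 0x0, nat_lit 0x1370135013803016, nat_lit 0x0, nat_lit 0x1300134013c03022, nat_lit 0x0, nat_lit 0x13f00fd014003005, nat_lit 0x0, nat_lit 0xff0140014403014, nat_lit 0x0, nat_lit 0x103014001480300e, nat_lit 0x147014101480301c, nat_lit 0x0, nat_lit 0x10d009200fc0140014e0501a, nat_lit 0x0, nat_lit 0x14a0109015203008, nat_lit 0x146010b01520300a, nat_lit 0x0, nat_lit 0x1500116015803008, nat_lit 0x146010200eb0117015805019, nat_lit 0x0, nat_lit 0x150011a015e0300a, nat_lit 0x14a010600c3011b015e05019, nat_lit 0x0, nat_lit 0x150011e016403005, nat_lit 0x0, nat_lit 0x1620153016803006,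 nat_lit 0x15c0155016803011, nat_lit 0x12900fa0108015201680501a, nat_lit 0x0, nat_lit 0x132015e017003012, nat_lit 0x166015f017003013, nat_lit 0x16f0162014b016101700500c, nat_lit 0x0, nat_lit 0x1330164017803014, nat_lit 0x0, nat_lit 0x172013d017c03008, nat_lit 0x17a013c017c0300a, nat_lit 0x0, nat_lit 0x181010200e5010101820500c, nat_lit 0x0, nat_lit 0x1460182018603005, nat_lit 0x0, nat_lit 0x1880155018a03013, nat_lit 0x0, nat_lit 0x0, nat_lit 0x14a018e019003007, nat_lit 0x0, nat_lit 0x192015301940301b, nat_lit 0x0, nat_lit 0x197011400970113019805019, nat_lit 0x0, nat_lit 0x1280198019c03014, nat_lit 0x0, nat_lit 0x19f013901a003007, nat_lit 0x0, nat_lit 0x1a3011800ed011701a40500c, nat_lit 0x0, nat_lit 0x1a701a501a80300d, nat_lit 0x12c01a401a80301c, nat_lit 0x0, nat_lit 0x0, nat_lit 0x17e016f016901ae01b00501d,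 nat_lit 0x0, nat_lit 0x1b3014101b403001, nat_lit 0x0, nat_lit 0x14d01b401b803004, nat_lit 0x0, nat_lit 0x14301b401bc0302a, nat_lit 0x0, nat_lit 0x1ba016501c003001, nat_lit 0x0, nat_lit 0x1be015b01c40300b, nat_lit 0x1ba015901c403017, nat_lit 0x0, nat_lit 0x1ba015f01ca03018, nat_lit 0x0, nat_lit 0x1cd019901ce0300b, nat_lit 0x1ba01500112019801ce05009, nat_lit 0x0, nat_lit 0x1be018701d403001, nat_lit 0x0, nat_lit 0x15601bd01d803010, nat_lit 0x0, nat_lit 0x17701c001dc0302a, nat_lit 0x0, nat_lit 0x1df017501e00300b, nat_lit 0x1c9017001e003001, nat_lit 0x1bf017301e003018, nat_lit 0x0, nat_lit 0x1d701c501e80300d, nat_lit 0x16c01c401e803010, nat_lit 0x1cc01c701e803022, nat_lit 0x0, nat_lit 0x1c301570125019d01f005009, nat_lit 0x0, nat_lit 0x1cc01d101f40300e, nat_lit 0x0, nat_lit 0x1da018a01f803001, nat_lit 0x0,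 nat_lit 0x1fb01a101fc03016, nat_lit 0x1de017a013801a001fc05009, nat_lit 0x0, nat_lit 0x18001dd020203010, nat_lit 0x1e601dc020203022, nat_lit 0x0, nat_lit 0x0, nat_lit 0x1e401f5020a03012, nat_lit 0x0, nat_lit 0x20d01fd020e03029, nat_lit 0x1dc01ff020e03014, nat_lit 0x21201c201d103005, nat_lit 0x21201e5020b0300a, nat_lit 0x0, nat_lit 0x20401b1021803001, nat_lit 0x0, nat_lit 0x1ee01e302050219021c0501d, nat_lit 0x0, nat_lit 0x21f01850183018602200501a, nat_lit 0x0, nat_lit 0x1d3022002240300b, nat_lit 0x0, nat_lit 0x18c022002280300d, nat_lit 0x227022102280300e, nat_lit 0x0, nat_lit 0x22a01f8022e03004, nat_lit 0x0, nat_lit 0x22a0189016801ae023205021, nat_lit 0x0, nat_lit 0x234022f02360301e, nat_lit 0x21e01ea01f9022e02360500c, nat_lit 0x0, nat_lit 0x23b01920147014e0150011201140096006d0074007800570055003e000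0000000000000000000000000000000000000000000000000000000000000000000000000000000000000000000000000000000000000000000000000000000000000000000000000000000000000000000000000000000000000000000000000000000000000000000000000000000000000000000000000000000000000000000000000000000000000000000000000000000000000000000000000000000000000000000000000000000000000000000000000000000000000000000000000000000000000000000000000000000000000000000000000000000000000000000000000000000000000000000000000000000000000000000000000000000000000000000000000000000000000000000000000000000000000000000000000000000000000000000000000003d0056005800770073006d009501130111014f014d01480191023cb302e, nat_lit 0x196023c023e023b0402f, nat_lit 0x194023f01920302b, nat_lit 0x155024101470302c, nat_lit 0x1670241016103002, nat_lit 0x1890241014b03003, nat_lit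 0x15c0243014e03002, nat_lit 0x1be024301b403015, nat_lit 0x1880243014103003, nat_lit 0x16d0245015d0300f, nat_lit 0x1ec024501ca03015, nat_lit 0x1ad0245017003003, nat_lit 0x22a0247016103002, nat_lit 0x1c3024901b903015, nat_lit 0x1d6024b01b503003, nat_lit 0x21f024d014e03002, nat_lit 0x1ac024f013103003, nat_lit 0x21e025101e303003, nat_lit 0x2310253017503002, nat_lit 0x256022b0255015d0400f, nat_lit 0x262023402550263013105003, nat_lit 0x1f2025701d10300f, nat_lit 0x226025901b803002, nat_lit 0x25c0221025b01500400f, nat_lit 0x26a0223025b026b011205015, nat_lit 0x25e01a9025d012d04002, nat_lit 0x23a025f01e103002, nat_lit 0x272023802610265026f00d506015, nat_lit 0x2070267021403003, nat_lit 0x1d2026d01980300f, nat_lit 0x20c027300db0300f, nat_lit 0x2750215027900de0402c, nat_lit 0x27c0275020f0276027b00b00602b, nat_lit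 0x27802140276027b027d00a906003, nat_lit 0x280027801cf0277027f005906002, nat_lit 0x5a028102030]
theorem sp21826k : ckBlock (nat_lit 729) (nat_lit 0x3ff) (nat_lit 0xc8000) E inv sp21826T sp21826F RB sp21826L (nat_lit 0) = true := by decide +kernel
theorem sp21826r : Nat.shiftLeft (Nat.shiftRight (E 2 682) 15) 15 = 819200 := by decide +kernel
theorem sp21826t : Nat.land (E 2 682) 1023 = 682 := by decide +kernel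
theorem sp21826l : 321 < sp21826L.length ∧ sp21826F 321 = 682 + 2 ^ 20 * 682 + 2 ^ 40 * 2 := by decide +kernel
theorem sp21826 {G : Type*} [Group G] (H : Subgroup G) (s : Nat → G) (hinv : ∀ l, s l = (s l)⁻¹) (h31 : s 31 = 1)
    (hrels : ∀ W ∈ rels, (W.map s).prod = 1) (hsub : ∀ w ∈ subw, (w.map s).prod ∈ H)
    (htgt : ∀ l < 7, ∀ i < 729, Nat.land (E l i) 1023 < 729)
    (hlow : ∀ l' < 7, ∀ i' < 729, E l' i' < Nat.shiftLeft (Nat.shiftRight (E 2 682) 15) 15 →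
      EdgeP H s (repOf s D) E 1023 l' i') : EdgeP H s (repOf s D) E 1023 2 682 := by
  rw [sp21826r] at hlow
  exact special_block H s 729 7 1023 819200 E inv D sp21826T sp21826F RB hinv h31 htgt hlow
    (ckRB_sound s 7 inv rels hrels hinv h31 RB RBC rbc) sp21826L sp21826k 2 682 682 (by decide) (by decide) sp21826t
    ⟨_, sp21826l⟩ (by decide)

theorem htgt : ∀ l < 7, ∀ i < 729, Nat.land (E l i) 1023 < 729 := fun l hl i hi => (edgeOK l hl i hi).1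

theorem edges {G : Type*} [Group G] (H : Subgroup G) (s : Nat → G) (hinv : ∀ l, s l = (s l)⁻¹) (h31 : s 31 = 1)
    (hrels : ∀ W ∈ rels, (W.map s).prod = 1) (hsub : ∀ w ∈ subw, (w.map s).prod ∈ H) :
    ∀ l < 7, ∀ i < 729, EdgeP H s (repOf s D) E 1023 l i := by
  refine edges_correct H s E 1023 729 7 15 10 31 inv D RW sp (by decide) (fun l hl => hl) (fun l _ => hinv l)
    ?_ ?_ ?_ edgeOK
  · intro l hl w hw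
    interval_cases l
    · exact (ckRels_sound 7 inv rels 0 RW0 RC0 rc0 w hw).1
    · exact (ckRels_sound 7 inv rels 1 RW1 RC1 rc1 w hw).1
    · exact (ckRels_sound 7 inv rels 2 RW2 RC2 rc2 w hw).1
    · exact (ckRels_sound 7 inv rels 3 RW3 RC3 rc3 w hw).1
    · exact (ckRels_sound 7 inv rels 4 RW4 RC4 rc4 w hw).1
    · exact (ckRels_sound 7 inv rels 5 RW5 RC5 rc5 w hw).1
    · exact (ckRels_sound 7 inv rels 6 RW6 RC6 rc6 w hw).1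
  · intro l hl w hw
    interval_cases l
    · obtain ⟨_, c, hc⟩ := ckRels_sound 7 inv rels 0 RW0 RC0 rc0 w hw
      exact ckRel_sound s inv rels hrels 0 w c (fun l' _ => hinv l') hc
    · obtain ⟨_, c, hc⟩ := ckRels_sound 7 inv rels 1 RW1 RC1 rc1 w hw
      exact ckRel_sound s inv rels hrels 1 w c (fun l' _ => hinv l') hc
    · obtain ⟨_, c, hc⟩ := ckRels_sound 7 inv rels 2 RW2 RC2 rc2 w hw
      exact ckRel_sound s inv rels hrels 2 w c (fun l' _ => hinv l') hc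
    · obtain ⟨_, c, hc⟩ := ckRels_sound 7 inv rels 3 RW3 RC3 rc3 w hw
      exact ckRel_sound s inv rels hrels 3 w c (fun l' _ => hinv l') hc
    · obtain ⟨_, c, hc⟩ := ckRels_sound 7 inv rels 4 RW4 RC4 rc4 w hw
      exact ckRel_sound s inv rels hrels 4 w c (fun l' _ => hinv l') hc
    · obtain ⟨_, c, hc⟩ := ckRels_sound 7 inv rels 5 RW5 RC5 rc5 w hw
      exact ckRel_sound s inv rels hrels 5 w c (fun l' _ => hinv l') hc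
    · obtain ⟨_, c, hc⟩ := ckRels_sound 7 inv rels 6 RW6 RC6 rc6 w hw
      exact ckRel_sound s inv rels hrels 6 w c (fun l' _ => hinv l') hc
  · refine hsp_of H s (repOf s D) E 1023 729 7 15 sp (by decide) ?_
    refine List.forall_mem_cons.2 ⟨fun _ _ h => sp0 H s hinv h31 hrels hsub htgt h, ?_⟩
    refine List.forall_mem_cons.2 ⟨fun _ _ h => sp1 H s hinv h31 hrels hsub htgt h, ?_⟩
    refine List.forall_mem_cons.2 ⟨fun _ _ h => sp2 H s hinv h31 hrels hsub htgt h, ?_⟩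
    refine List.forall_mem_cons.2 ⟨fun _ _ h => sp3 H s hinv h31 hrels hsub htgt h, ?_⟩
    refine List.forall_mem_cons.2 ⟨fun _ _ h => sp4 H s hinv h31 hrels hsub htgt h, ?_⟩
    refine List.forall_mem_cons.2 ⟨fun _ _ h => sp5 H s hinv h31 hrels hsub htgt h, ?_⟩
    refine List.forall_mem_cons.2 ⟨fun _ _ h => sp21826 H s hinv h31 hrels hsub htgt h, ?_⟩
    intro c hc
    exact absurd hc List.not_mem_nil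

theorem covers {G : Type*} [Group G] (s : Nat → G) (hinv : ∀ l, s l = (s l)⁻¹) (h31 : s 31 = 1)
    (hrels2 : ∀ p ∈ rels2, ((p.1.map s).prod) ^ p.2 = 1) (H : Subgroup G) (hsub : ∀ w ∈ subw, (w.map s).prod ∈ H) :
    ∀ g ∈ letterGroup s 7, ∀ i < 729, ∃ j < 729, repOf s D i * g * (repOf s D j)⁻¹ ∈ H :=
  cover H s (repOf s D) E 1023 729 7 inv (fun l hl => hl) (fun l _ => hinv l) htgt
    (edges H s hinv h31 (hrels_of s rels2 hrels2) hsub)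

theorem upper {G : Type*} [Group G] (s : Nat → G) (hinv : ∀ l, s l = (s l)⁻¹) (h31 : s 31 = 1)
    (hrels2 : ∀ p ∈ rels2, ((p.1.map s).prod) ^ p.2 = 1) (H : Subgroup G) (hsub : ∀ w ∈ subw, (w.map s).prod ∈ H)
    (hH : Finite H) : Finite (letterGroup s 7) ∧ Nat.card (letterGroup s 7) ≤ 729 * Nat.card H :=
  card_le_of_cover H (repOf s D) 729 (by decide) (repOf_zero s D) _
    (covers s hinv h31 hrels2 H hsub) hH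

theorem upperIndex {G : Type*} [Group G] (s : Nat → G) (hinv : ∀ l, s l = (s l)⁻¹) (h31 : s 31 = 1)
    (hrels2 : ∀ p ∈ rels2, ((p.1.map s).prod) ^ p.2 = 1) (H : Subgroup G) (hsub : ∀ w ∈ subw, (w.map s).prod ∈ H)
    (htop : letterGroup s 7 = ⊤) : H.FiniteIndex ∧ H.index ≤ 729 :=
  index_le_of_cover H (repOf s D) 729 (by decide) (repOf_zero s D)
    (fun g => covers s hinv h31 hrels2 H hsub g (by rw [htop]; exact Subgroup.mem_top g))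


end Cfsg.Agent.H8.Q222t
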