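import Cfsg.Agent.H8.CosetCls
import Cfsg.Agent.H8.T.Q222tP

set_option autoImplicit false
set_option linter.all false
set_option maxRecDepth 100000

namespace Cfsg.Agent.H8.Q222t
noncomputable def chQ0c0 : Nat := nat_lit 0x451835c5735cd615856358d5154553505735cd6358d6354d5354d435d5655995555953519444c56358d615896554d5154952555555094551535559435193354d5154d4350541505434c5314c53348521445434cd2348d134450154d5350d4350d434cd334cd3348d2344d414c52148d1144d0354942509424c9324c922519364d1364892649112515324c9354d53648925489254952649915459154591641506418f63992244912409023c9354912649514451154590441106414f43d8f5390e63512244912409023c92544d154590040d06414f03d8f5380e634115415053d5033ccf1388d53d4e5394d5418f33d8e3398d3358c33d8f5384e6344e5394d5358c1398d2308d6318c22c8d6308c62c8d6318c62d8b62d8a629896314b52cca5290912d4a3294932949525485250822107221074190731806314c511083509810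
noncomputable def chQ0c1 : Nat := nat_lit 0x60d735d5c56d5b46cda169191715c56d5b36cda368d936d5a569192651835c5c36cdb46d5a1695a4691a5655916459565181615815c5b5695a56959565595615855d5755856554595615855d5755956555555515b56d5a5695a5695956559565585615756cda368da36959364d9365583615835cd7558d6554d95615855d5755956555555515a464994609a46499465182609845c9a46499460990601815c5725897658994609845c994611835cd725899461184609745c9725c96258962549a46519464d946518260d84611846018360d84611705c9735cd745d1705c1735cd745816058d63591605816358d50541535415054d5250140501434c13048142509324cd20441845c9745d162589645499461184611845d1745d1745d1745d1645916459164591645915455154551545515451144511444d13449142511324d124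
noncomputable def chQ0c2 : Nat := nat_lit 0x21685a05815f27c9e378dd3745c1785e3745d370dd2709c26ca14811f4791e6751d4759d5711c6715b46d9b5691a6651d2709c26ca037c1e6781d5741d6741c5719c06d5b66c1a6681907d5f57cde3759d370dc5715b56d5a56959570dc66cdb668da664d9660de1759d1705c5715b56d5a569595705c66c5b6699a165991605d2799d2799d26d9a2709c66c9b66c9a2699926598261972759d6719c6719c66d9b66d9b66d9b6699a6699a6699a665996659966598661986619765d97659966559b6689c2719b26c9b6689a664996619825c9d6759c6719c6719b66d9b66d9b66d9a6699a6699a669996659966599661986619865d9765d96659956715b56d5a5695a565595615c56d5b1695a264993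
noncomputable def chQ0 : Nat → Nat := (fun h => @Nat.rec (fun _ => Nat → Nat)
 (fun h => @Nat.rec (fun _ => Nat → Nat)
 (fun i => Nat.land (Nat.shiftRight chQ0c0 (Nat.mul (nat_lit 10) (Nat.land i (nat_lit 255)))) (nat_lit 0x3ff))
 (fun _ _ => (fun i => Nat.land (Nat.shiftRight chQ0c1 (Nat.mul (nat_lit 10) (Nat.land i (nat_lit 255)))) (nat_lit 0x3ff))) (Nat.land h (nat_lit 256)) h)
 (fun _ _ => (fun i => Nat.land (Nat.shiftRight chQ0c2 (Nat.mul (nat_lit 10) (Nat.land i (nat_lit 255)))) (nat_lit 0x3ff))) (Nat.land h (nat_lit 512)) h)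
theorem ch_r0 : allR (ckReach chQ0 [[T0], [T1], [T2], [T3], [T4], [T5], [T6]] (nat_lit 0)) (nat_lit 0) (nat_lit 729) = true := by decide +kernel
theorem ch_c0 : cntT chQ0 (nat_lit 729) (nat_lit 729) (nat_lit 0) = true := by decide +kernel
noncomputable def chQ1c0 : Nat := nat_lit 0x143004d242000000000000000000000000000000000001330048c0000000000000000000000000000000000000000000000000000000000000000000000000000000000000000000000000000000000000000000024800890022902000000000000000000000000000000000000000000000000000000000000000000022800004120800003d1e8000039000006a0018800000000000000020600003c1e6000038000006800180000000000f371b85a4c50000000000038c00d30030c00b300001a200608000000002c400c25900000b2510016400510000000000000000000016aa551a55288152a4d2a834aa150a75421c8e8623a190a8632814c8641190942000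
noncomputable def chQ1c1 : Nat := nat_lit 0x2ca0000000000000000000000000000000000000000000000000000000000000000000000000000000000000000000000000000000000000000000000000000000000000000000000000000000000000000000000000000000000000000000000000000000000000000000000000000000000000000000000000000000000000000000000000000000000000000000002a400000000000000000000000000000000000000000000000000000000000000000000000000000000000000000000000000000000000000000000000000000000000000000000000000000000000000000000000000000000000000000000000000000000000000000000000000000000000000000000000000000000000000000000000000000000000000000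
noncomputable def chQ1c2 : Nat := nat_lit 0x0
noncomputable def chQ1 : Nat → Nat := (fun h => @Nat.rec (fun _ => Nat → Nat)
 (fun h => @Nat.rec (fun _ => Nat → Nat)
 (fun i => Nat.land (Nat.shiftRight chQ1c0 (Nat.mul (nat_lit 9) (Nat.land i (nat_lit 255)))) (nat_lit 511))
 (fun _ _ => (fun i => Nat.land (Nat.shiftRight chQ1c1 (Nat.mul (nat_lit 9) (Nat.land i (nat_lit 255)))) (nat_lit 511))) (Nat.land h (nat_lit 256)) h)
 (fun _ _ => (fun i => Nat.land (Nat.shiftRight chQ1c2 (Nat.mul (nat_lit 9) (Nat.land i (nat_lit 255)))) (nat_lit 511))) (Nat.land h (nat_lit 512)) h)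
theorem ch_r1 : allR (ckReach chQ1 [[T0], [T1], [T2], [T3], [T4], [T5]] (nat_lit 1)) (nat_lit 0) (nat_lit 729) = true := by decide +kernel
theorem ch_c1 : cntT chQ1 (nat_lit 72) (nat_lit 729) (nat_lit 0) = true := by decide +kernel
noncomputable def chQ2c0 : Nat := nat_lit 0xa20000000000000000000000000000000000000093008471008300730000000074626452645444534043333122100000
noncomputable def chQ2c1 : Nat := nat_lit 0x0
noncomputable def chQ2c2 : Nat := nat_lit 0x0
noncomputable def chQ2 : Nat → Nat := (fun h => @Nat.rec (fun _ => Nat → Nat)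
 (fun h => @Nat.rec (fun _ => Nat → Nat)
 (fun i => Nat.land (Nat.shiftRight chQ2c0 (Nat.mul (nat_lit 8) (Nat.land i (nat_lit 255)))) (nat_lit 255))
 (fun _ _ => (fun i => Nat.land (Nat.shiftRight chQ2c1 (Nat.mul (nat_lit 8) (Nat.land i (nat_lit 255)))) (nat_lit 255))) (Nat.land h (nat_lit 256)) h)
 (fun _ _ => (fun i => Nat.land (Nat.shiftRight chQ2c2 (Nat.mul (nat_lit 8) (Nat.land i (nat_lit 255)))) (nat_lit 255))) (Nat.land h (nat_lit 512)) h)
theorem ch_r2 : allR (ckReach chQ2 [[T0], [T1], [T2], [T3], [T4]] (nat_lit 2)) (nat_lit 0) (nat_lit 729) = true := by decide +kernel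
theorem ch_c2 : cntT chQ2 (nat_lit 20) (nat_lit 729) (nat_lit 0) = true := by decide +kernel
noncomputable def chQ3c0 : Nat := nat_lit 0x840198000000000000000000000000000000000000000000000000000000000000000000c8022000000000000000000000000002320000000000000000000000000000000000000000000000000000000000000000000000000000
noncomputable def chQ3c1 : Nat := nat_lit 0x0
noncomputable def chQ3c2 : Nat := nat_lit 0x0
noncomputable def chQ3 : Nat → Nat := (fun h => @Nat.rec (fun _ => Nat → Nat)
 (fun h => @Nat.rec (fun _ => Nat → Nat)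
 (fun i => Nat.land (Nat.shiftRight chQ3c0 (Nat.mul (nat_lit 7) (Nat.land i (nat_lit 255)))) (nat_lit 127))
 (fun _ _ => (fun i => Nat.land (Nat.shiftRight chQ3c1 (Nat.mul (nat_lit 7) (Nat.land i (nat_lit 255)))) (nat_lit 127))) (Nat.land h (nat_lit 256)) h)
 (fun _ _ => (fun i => Nat.land (Nat.shiftRight chQ3c2 (Nat.mul (nat_lit 7) (Nat.land i (nat_lit 255)))) (nat_lit 127))) (Nat.land h (nat_lit 512)) h)
theorem ch_r3 : allR (ckReach chQ3 [[T0], [T1], [T3], [T4]] (nat_lit 43)) (nat_lit 0) (nat_lit 729) = true := by decide +kernel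
theorem ch_c3 : cntT chQ3 (nat_lit 6) (nat_lit 729) (nat_lit 0) = true := by decide +kernel
noncomputable def chQ4c0 : Nat := nat_lit 0xc00021400000
noncomputable def chQ4c1 : Nat := nat_lit 0x0
noncomputable def chQ4c2 : Nat := nat_lit 0x0
noncomputable def chQ4 : Nat → Nat := (fun h => @Nat.rec (fun _ => Nat → Nat)
 (fun h => @Nat.rec (fun _ => Nat → Nat)
 (fun i => Nat.land (Nat.shiftRight chQ4c0 (Nat.mul (nat_lit 6) (Nat.land i (nat_lit 255)))) (nat_lit 63))
 (fun _ _ => (fun i => Nat.land (Nat.shiftRight chQ4c1 (Nat.mul (nat_lit 6) (Nat.land i (nat_lit 255)))) (nat_lit 63))) (Nat.land h (nat_lit 256)) h)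
 (fun _ _ => (fun i => Nat.land (Nat.shiftRight chQ4c2 (Nat.mul (nat_lit 6) (Nat.land i (nat_lit 255)))) (nat_lit 63))) (Nat.land h (nat_lit 512)) h)
theorem ch_r4 : allR (ckReach chQ4 [[T0], [T1]] (nat_lit 3)) (nat_lit 0) (nat_lit 729) = true := by decide +kernel
theorem ch_c4 : cntT chQ4 (nat_lit 3) (nat_lit 729) (nat_lit 0) = true := by decide +kernel
noncomputable def chQ5c0 : Nat := nat_lit 0x800010000000
noncomputable def chQ5c1 : Nat := nat_lit 0x0
noncomputable def chQ5c2 : Nat := nat_lit 0x0
noncomputable def chQ5 : Nat → Nat := (fun h => @Nat.rec (fun _ => Nat → Nat)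
 (fun h => @Nat.rec (fun _ => Nat → Nat)
 (fun i => Nat.land (Nat.shiftRight chQ5c0 (Nat.mul (nat_lit 6) (Nat.land i (nat_lit 255)))) (nat_lit 63))
 (fun _ _ => (fun i => Nat.land (Nat.shiftRight chQ5c1 (Nat.mul (nat_lit 6) (Nat.land i (nat_lit 255)))) (nat_lit 63))) (Nat.land h (nat_lit 256)) h)
 (fun _ _ => (fun i => Nat.land (Nat.shiftRight chQ5c2 (Nat.mul (nat_lit 6) (Nat.land i (nat_lit 255)))) (nat_lit 63))) (Nat.land h (nat_lit 512)) h)
theorem ch_r5 : allR (ckReach chQ5 [[T0]] (nat_lit 4)) (nat_lit 0) (nat_lit 729) = true := by decide +kernel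
theorem ch_c5 : cntT chQ5 (nat_lit 2) (nat_lit 729) (nat_lit 0) = true := by decide +kernel
def chG0 : List (List Nat) := [[0], [1], [2], [3], [4], [5], [6]]
def chG1 : List (List Nat) := [[0], [1], [2], [3], [4], [5]]
def chG2 : List (List Nat) := [[0], [1], [2], [3], [4]]
def chG3 : List (List Nat) := [[0], [1], [3], [4]]
def chG4 : List (List Nat) := [[0], [1]]
def chG5 : List (List Nat) := [[0]]
def chG6 : List (List Nat) := []

theorem ch_lower {G : Type*} [Group G] [Finite G] (s : Nat → G) (ρ : G →* Equiv.Perm (Fin 729))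
    (hρ : ∀ l < 7, ρ (s l) = permL tok l) :
    729 * (72 * (20 * (6 * (3 * (2 * (1)))))) ≤ Nat.card (wordGroup s chG0) := by
  have h0 := card_step s tok ρ hρ chQ0 729 chG0 chG1 (by decide) ⟨0, by decide⟩ ch_r0 ch_c0
    (by decide) (by decide +kernel) inferInstance
  have h1 := card_step s tok ρ hρ chQ1 72 chG1 chG2 (by decide) ⟨1, by decide⟩ ch_r1 ch_c1
    (by decide) (by decide +kernel) inferInstance
  have h2 := card_step s tok ρ hρ chQ2 20 chG2 chG3 (by decide) ⟨2, by decide⟩ ch_r2 ch_c2
    (by decide) (by decide +kernel) inferInstance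
  have h3 := card_step s tok ρ hρ chQ3 6 chG3 chG4 (by decide) ⟨43, by decide⟩ ch_r3 ch_c3
    (by decide) (by decide +kernel) inferInstance
  have h4 := card_step s tok ρ hρ chQ4 3 chG4 chG5 (by decide) ⟨3, by decide⟩ ch_r4 ch_c4
    (by decide) (by decide +kernel) inferInstance
  have h5 := card_step s tok ρ hρ chQ5 2 chG5 chG6 (by decide) ⟨4, by decide⟩ ch_r5 ch_c5
    (by decide) (by decide +kernel) inferInstance
  have e6 : 1 ≤ Nat.card (wordGroup s chG6) := Nat.card_pos
  have e5 := le_trans (Nat.mul_le_mul_left 2 e6) h5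
  have e4 := le_trans (Nat.mul_le_mul_left 3 e5) h4
  have e3 := le_trans (Nat.mul_le_mul_left 6 e4) h3
  have e2 := le_trans (Nat.mul_le_mul_left 20 e3) h2
  have e1 := le_trans (Nat.mul_le_mul_left 72 e2) h1
  have e0 := le_trans (Nat.mul_le_mul_left 729 e1) h0
  exact e0

end Cfsg.Agent.H8.Q222t
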