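import Cfsg.Agent.H8.T.SuzOa

set_option Elab.async false
set_option autoImplicit false
set_option linter.all false
set_option maxRecDepth 100000
set_option maxHeartbeats 400000

namespace Cfsg.Agent.H8.SuzO
open Cfsg.Agent.H8.Suzt (T0 T1 T2 T3 T4 T5 T6)

theorem pk0_0 : allR (ckPerm (nat_lit 1782) X0 X1) (nat_lit 0) (nat_lit 891) = true := by decide +kernel
theorem pk0_1 : allR (ckPerm (nat_lit 1782) X0 X1) (nat_lit 891) (nat_lit 891) = true := by decide +kernel
theorem pk1_0 : allR (ckPerm (nat_lit 1782) X1 X0) (nat_lit 0) (nat_lit 891) = true := by decide +kernel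
theorem pk1_1 : allR (ckPerm (nat_lit 1782) X1 X0) (nat_lit 891) (nat_lit 891) = true := by decide +kernel
theorem pk2_0 : allR (ckPerm (nat_lit 1782) X2 X3) (nat_lit 0) (nat_lit 891) = true := by decide +kernel
theorem pk2_1 : allR (ckPerm (nat_lit 1782) X2 X3) (nat_lit 891) (nat_lit 891) = true := by decide +kernel
theorem pk3_0 : allR (ckPerm (nat_lit 1782) X3 X2) (nat_lit 0) (nat_lit 891) = true := by decide +kernel
theorem pk3_1 : allR (ckPerm (nat_lit 1782) X3 X2) (nat_lit 891) (nat_lit 891) = true := by decide +kernel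
theorem pk4_0 : allR (ckPerm (nat_lit 1782) X4 X5) (nat_lit 0) (nat_lit 891) = true := by decide +kernel
theorem pk4_1 : allR (ckPerm (nat_lit 1782) X4 X5) (nat_lit 891) (nat_lit 891) = true := by decide +kernel
theorem pk5_0 : allR (ckPerm (nat_lit 1782) X5 X4) (nat_lit 0) (nat_lit 891) = true := by decide +kernel
theorem pk5_1 : allR (ckPerm (nat_lit 1782) X5 X4) (nat_lit 891) (nat_lit 891) = true := by decide +kernel
theorem pk6_0 : allR (ckPerm (nat_lit 1782) X6 X7) (nat_lit 0) (nat_lit 891) = true := by decide +kernel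
theorem pk6_1 : allR (ckPerm (nat_lit 1782) X6 X7) (nat_lit 891) (nat_lit 891) = true := by decide +kernel
theorem pk7_0 : allR (ckPerm (nat_lit 1782) X7 X6) (nat_lit 0) (nat_lit 891) = true := by decide +kernel
theorem pk7_1 : allR (ckPerm (nat_lit 1782) X7 X6) (nat_lit 891) (nat_lit 891) = true := by decide +kernel
theorem pk8_0 : allR (ckPerm (nat_lit 1782) X8 X9) (nat_lit 0) (nat_lit 891) = true := by decide +kernel
theorem pk8_1 : allR (ckPerm (nat_lit 1782) X8 X9) (nat_lit 891) (nat_lit 891) = true := by decide +kernel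
theorem pk9_0 : allR (ckPerm (nat_lit 1782) X9 X8) (nat_lit 0) (nat_lit 891) = true := by decide +kernel
theorem pk9_1 : allR (ckPerm (nat_lit 1782) X9 X8) (nat_lit 891) (nat_lit 891) = true := by decide +kernel
theorem pk10_0 : allR (ckPerm (nat_lit 1782) X10 X11) (nat_lit 0) (nat_lit 891) = true := by decide +kernel
theorem pk10_1 : allR (ckPerm (nat_lit 1782) X10 X11) (nat_lit 891) (nat_lit 891) = true := by decide +kernel
theorem pk11_0 : allR (ckPerm (nat_lit 1782) X11 X10) (nat_lit 0) (nat_lit 891) = true := by decide +kernel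
theorem pk11_1 : allR (ckPerm (nat_lit 1782) X11 X10) (nat_lit 891) (nat_lit 891) = true := by decide +kernel
theorem pk12_0 : allR (ckPerm (nat_lit 1782) X12 X13) (nat_lit 0) (nat_lit 891) = true := by decide +kernel
theorem pk12_1 : allR (ckPerm (nat_lit 1782) X12 X13) (nat_lit 891) (nat_lit 891) = true := by decide +kernel
theorem pk13_0 : allR (ckPerm (nat_lit 1782) X13 X12) (nat_lit 0) (nat_lit 891) = true := by decide +kernel
theorem pk13_1 : allR (ckPerm (nat_lit 1782) X13 X12) (nat_lit 891) (nat_lit 891) = true := by decide +kernel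
theorem pk14_0 : allR (ckPerm (nat_lit 1782) X14 X15) (nat_lit 0) (nat_lit 891) = true := by decide +kernel
theorem pk14_1 : allR (ckPerm (nat_lit 1782) X14 X15) (nat_lit 891) (nat_lit 891) = true := by decide +kernel
theorem pk15_0 : allR (ckPerm (nat_lit 1782) X15 X14) (nat_lit 0) (nat_lit 891) = true := by decide +kernel
theorem pk15_1 : allR (ckPerm (nat_lit 1782) X15 X14) (nat_lit 891) (nat_lit 891) = true := by decide +kernel
theorem pk16_0 : allR (ckPerm (nat_lit 1782) X16 X17) (nat_lit 0) (nat_lit 891) = true := by decide +kernel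
theorem pk16_1 : allR (ckPerm (nat_lit 1782) X16 X17) (nat_lit 891) (nat_lit 891) = true := by decide +kernel
theorem pk17_0 : allR (ckPerm (nat_lit 1782) X17 X16) (nat_lit 0) (nat_lit 891) = true := by decide +kernel
theorem pk17_1 : allR (ckPerm (nat_lit 1782) X17 X16) (nat_lit 891) (nat_lit 891) = true := by decide +kernel
theorem pk18_0 : allR (ckPerm (nat_lit 1782) X18 X19) (nat_lit 0) (nat_lit 891) = true := by decide +kernel
theorem pk18_1 : allR (ckPerm (nat_lit 1782) X18 X19) (nat_lit 891) (nat_lit 891) = true := by decide +kernel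
theorem pk19_0 : allR (ckPerm (nat_lit 1782) X19 X18) (nat_lit 0) (nat_lit 891) = true := by decide +kernel
theorem pk19_1 : allR (ckPerm (nat_lit 1782) X19 X18) (nat_lit 891) (nat_lit 891) = true := by decide +kernel
theorem pk20_0 : allR (ckPerm (nat_lit 1782) X20 X21) (nat_lit 0) (nat_lit 891) = true := by decide +kernel
theorem pk20_1 : allR (ckPerm (nat_lit 1782) X20 X21) (nat_lit 891) (nat_lit 891) = true := by decide +kernel
theorem pk21_0 : allR (ckPerm (nat_lit 1782) X21 X20) (nat_lit 0) (nat_lit 891) = true := by decide +kernel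
theorem pk21_1 : allR (ckPerm (nat_lit 1782) X21 X20) (nat_lit 891) (nat_lit 891) = true := by decide +kernel
theorem pk22_0 : allR (ckPerm (nat_lit 1782) X22 X23) (nat_lit 0) (nat_lit 891) = true := by decide +kernel
theorem pk22_1 : allR (ckPerm (nat_lit 1782) X22 X23) (nat_lit 891) (nat_lit 891) = true := by decide +kernel
theorem pk23_0 : allR (ckPerm (nat_lit 1782) X23 X22) (nat_lit 0) (nat_lit 891) = true := by decide +kernel
theorem pk23_1 : allR (ckPerm (nat_lit 1782) X23 X22) (nat_lit 891) (nat_lit 891) = true := by decide +kernel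
theorem pk24_0 : allR (ckPerm (nat_lit 1782) X24 X25) (nat_lit 0) (nat_lit 891) = true := by decide +kernel
theorem pk24_1 : allR (ckPerm (nat_lit 1782) X24 X25) (nat_lit 891) (nat_lit 891) = true := by decide +kernel
theorem pk25_0 : allR (ckPerm (nat_lit 1782) X25 X24) (nat_lit 0) (nat_lit 891) = true := by decide +kernel
theorem pk25_1 : allR (ckPerm (nat_lit 1782) X25 X24) (nat_lit 891) (nat_lit 891) = true := by decide +kernel
theorem pk26_0 : allR (ckPerm (nat_lit 1782) X26 X27) (nat_lit 0) (nat_lit 891) = true := by decide +kernel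
theorem pk26_1 : allR (ckPerm (nat_lit 1782) X26 X27) (nat_lit 891) (nat_lit 891) = true := by decide +kernel
theorem pk27_0 : allR (ckPerm (nat_lit 1782) X27 X26) (nat_lit 0) (nat_lit 891) = true := by decide +kernel
theorem pk27_1 : allR (ckPerm (nat_lit 1782) X27 X26) (nat_lit 891) (nat_lit 891) = true := by decide +kernel
theorem pk28_0 : allR (ckPerm (nat_lit 1782) X28 X29) (nat_lit 0) (nat_lit 891) = true := by decide +kernel
theorem pk28_1 : allR (ckPerm (nat_lit 1782) X28 X29) (nat_lit 891) (nat_lit 891) = true := by decide +kernel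
theorem pk29_0 : allR (ckPerm (nat_lit 1782) X29 X28) (nat_lit 0) (nat_lit 891) = true := by decide +kernel
theorem pk29_1 : allR (ckPerm (nat_lit 1782) X29 X28) (nat_lit 891) (nat_lit 891) = true := by decide +kernel
theorem pk30_0 : allR (ckPerm (nat_lit 1782) X30 X31) (nat_lit 0) (nat_lit 891) = true := by decide +kernel
theorem pk30_1 : allR (ckPerm (nat_lit 1782) X30 X31) (nat_lit 891) (nat_lit 891) = true := by decide +kernel
theorem pk31_0 : allR (ckPerm (nat_lit 1782) X31 X30) (nat_lit 0) (nat_lit 891) = true := by decide +kernel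
theorem pk31_1 : allR (ckPerm (nat_lit 1782) X31 X30) (nat_lit 891) (nat_lit 891) = true := by decide +kernel
theorem pk32_0 : allR (ckPerm (nat_lit 1782) X32 X33) (nat_lit 0) (nat_lit 891) = true := by decide +kernel
theorem pk32_1 : allR (ckPerm (nat_lit 1782) X32 X33) (nat_lit 891) (nat_lit 891) = true := by decide +kernel
theorem pk33_0 : allR (ckPerm (nat_lit 1782) X33 X32) (nat_lit 0) (nat_lit 891) = true := by decide +kernel
theorem pk33_1 : allR (ckPerm (nat_lit 1782) X33 X32) (nat_lit 891) (nat_lit 891) = true := by decide +kernel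
theorem pk34_0 : allR (ckPerm (nat_lit 1782) X34 X35) (nat_lit 0) (nat_lit 891) = true := by decide +kernel
theorem pk34_1 : allR (ckPerm (nat_lit 1782) X34 X35) (nat_lit 891) (nat_lit 891) = true := by decide +kernel
theorem pk35_0 : allR (ckPerm (nat_lit 1782) X35 X34) (nat_lit 0) (nat_lit 891) = true := by decide +kernel
theorem pk35_1 : allR (ckPerm (nat_lit 1782) X35 X34) (nat_lit 891) (nat_lit 891) = true := by decide +kernel
theorem pk36_0 : allR (ckPerm (nat_lit 1782) X36 X37) (nat_lit 0) (nat_lit 891) = true := by decide +kernel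
theorem pk36_1 : allR (ckPerm (nat_lit 1782) X36 X37) (nat_lit 891) (nat_lit 891) = true := by decide +kernel
theorem pk37_0 : allR (ckPerm (nat_lit 1782) X37 X36) (nat_lit 0) (nat_lit 891) = true := by decide +kernel
theorem pk37_1 : allR (ckPerm (nat_lit 1782) X37 X36) (nat_lit 891) (nat_lit 891) = true := by decide +kernel
theorem pk38_0 : allR (ckPerm (nat_lit 1782) X38 X39) (nat_lit 0) (nat_lit 891) = true := by decide +kernel
theorem pk38_1 : allR (ckPerm (nat_lit 1782) X38 X39) (nat_lit 891) (nat_lit 891) = true := by decide +kernel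
theorem pk39_0 : allR (ckPerm (nat_lit 1782) X39 X38) (nat_lit 0) (nat_lit 891) = true := by decide +kernel
theorem pk39_1 : allR (ckPerm (nat_lit 1782) X39 X38) (nat_lit 891) (nat_lit 891) = true := by decide +kernel
theorem pk40_0 : allR (ckPerm (nat_lit 1782) X40 X41) (nat_lit 0) (nat_lit 891) = true := by decide +kernel
theorem pk40_1 : allR (ckPerm (nat_lit 1782) X40 X41) (nat_lit 891) (nat_lit 891) = true := by decide +kernel
theorem pk41_0 : allR (ckPerm (nat_lit 1782) X41 X40) (nat_lit 0) (nat_lit 891) = true := by decide +kernel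
theorem pk41_1 : allR (ckPerm (nat_lit 1782) X41 X40) (nat_lit 891) (nat_lit 891) = true := by decide +kernel
theorem pk42_0 : allR (ckPerm (nat_lit 1782) X42 X43) (nat_lit 0) (nat_lit 891) = true := by decide +kernel
theorem pk42_1 : allR (ckPerm (nat_lit 1782) X42 X43) (nat_lit 891) (nat_lit 891) = true := by decide +kernel
theorem pk43_0 : allR (ckPerm (nat_lit 1782) X43 X42) (nat_lit 0) (nat_lit 891) = true := by decide +kernel
theorem pk43_1 : allR (ckPerm (nat_lit 1782) X43 X42) (nat_lit 891) (nat_lit 891) = true := by decide +kernel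
theorem wk8_0 : allR (OT.ckEqW [X10, X10, X12, X11, X11, X7, X8, X7, X9, X6, X9, X6, X5, X2, X4, X3, X5, X5, T6, X0, T2, T4, X1, T0, T2, X1] [X16]) (nat_lit 0) (nat_lit 66) = true := by decide +kernel
theorem wk8_1 : allR (OT.ckEqW [X10, X10, X12, X11, X11, X7, X8, X7, X9, X6, X9, X6, X5, X2, X4, X3, X5, X5, T6, X0, T2, T4, X1, T0, T2, X1] [X16]) (nat_lit 66) (nat_lit 66) = true := by decide +kernel
theorem wk8_2 : allR (OT.ckEqW [X10, X10, X12, X11, X11, X7, X8, X7, X9, X6, X9, X6, X5, X2, X4, X3, X5, X5, T6, X0, T2, T4, X1, T0, T2, X1] [X16]) (nat_lit 132) (nat_lit 66) = true := by decide +kernel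
theorem wk8_3 : allR (OT.ckEqW [X10, X10, X12, X11, X11, X7, X8, X7, X9, X6, X9, X6, X5, X2, X4, X3, X5, X5, T6, X0, T2, T4, X1, T0, T2, X1] [X16]) (nat_lit 198) (nat_lit 66) = true := by decide +kernel
theorem wk8_4 : allR (OT.ckEqW [X10, X10, X12, X11, X11, X7, X8, X7, X9, X6, X9, X6, X5, X2, X4, X3, X5, X5, T6, X0, T2, T4, X1, T0, T2, X1] [X16]) (nat_lit 264) (nat_lit 66) = true := by decide +kernel
theorem wk8_5 : allR (OT.ckEqW [X10, X10, X12, X11, X11, X7, X8, X7, X9, X6, X9, X6, X5, X2, X4, X3, X5, X5, T6, X0, T2, T4, X1, T0, T2, X1] [X16]) (nat_lit 330) (nat_lit 66) = true := by decide +kernel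
theorem wk8_6 : allR (OT.ckEqW [X10, X10, X12, X11, X11, X7, X8, X7, X9, X6, X9, X6, X5, X2, X4, X3, X5, X5, T6, X0, T2, T4, X1, T0, T2, X1] [X16]) (nat_lit 396) (nat_lit 66) = true := by decide +kernel
theorem wk8_7 : allR (OT.ckEqW [X10, X10, X12, X11, X11, X7, X8, X7, X9, X6, X9, X6, X5, X2, X4, X3, X5, X5, T6, X0, T2, T4, X1, T0, T2, X1] [X16]) (nat_lit 462) (nat_lit 66) = true := by decide +kernel
theorem wk8_8 : allR (OT.ckEqW [X10, X10, X12, X11, X11, X7, X8, X7, X9, X6, X9, X6, X5, X2, X4, X3, X5, X5, T6, X0, T2, T4, X1, T0, T2, X1] [X16]) (nat_lit 528) (nat_lit 66) = true := by decide +kernel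
theorem wk8_9 : allR (OT.ckEqW [X10, X10, X12, X11, X11, X7, X8, X7, X9, X6, X9, X6, X5, X2, X4, X3, X5, X5, T6, X0, T2, T4, X1, T0, T2, X1] [X16]) (nat_lit 594) (nat_lit 66) = true := by decide +kernel
theorem wk8_10 : allR (OT.ckEqW [X10, X10, X12, X11, X11, X7, X8, X7, X9, X6, X9, X6, X5, X2, X4, X3, X5, X5, T6, X0, T2, T4, X1, T0, T2, X1] [X16]) (nat_lit 660) (nat_lit 66) = true := by decide +kernel
theorem wk8_11 : allR (OT.ckEqW [X10, X10, X12, X11, X11, X7, X8, X7, X9, X6, X9, X6, X5, X2, X4, X3, X5, X5, T6, X0, T2, T4, X1, T0, T2, X1] [X16]) (nat_lit 726) (nat_lit 66) = true := by decide +kernel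
theorem wk8_12 : allR (OT.ckEqW [X10, X10, X12, X11, X11, X7, X8, X7, X9, X6, X9, X6, X5, X2, X4, X3, X5, X5, T6, X0, T2, T4, X1, T0, T2, X1] [X16]) (nat_lit 792) (nat_lit 66) = true := by decide +kernel
theorem wk8_13 : allR (OT.ckEqW [X10, X10, X12, X11, X11, X7, X8, X7, X9, X6, X9, X6, X5, X2, X4, X3, X5, X5, T6, X0, T2, T4, X1, T0, T2, X1] [X16]) (nat_lit 858) (nat_lit 66) = true := by decide +kernel
theorem wk8_14 : allR (OT.ckEqW [X10, X10, X12, X11, X11, X7, X8, X7, X9, X6, X9, X6, X5, X2, X4, X3, X5, X5, T6, X0, T2, T4, X1, T0, T2, X1] [X16]) (nat_lit 924) (nat_lit 66) = true := by decide +kernel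
theorem wk8_15 : allR (OT.ckEqW [X10, X10, X12, X11, X11, X7, X8, X7, X9, X6, X9, X6, X5, X2, X4, X3, X5, X5, T6, X0, T2, T4, X1, T0, T2, X1] [X16]) (nat_lit 990) (nat_lit 66) = true := by decide +kernel
theorem wk8_16 : allR (OT.ckEqW [X10, X10, X12, X11, X11, X7, X8, X7, X9, X6, X9, X6, X5, X2, X4, X3, X5, X5, T6, X0, T2, T4, X1, T0, T2, X1] [X16]) (nat_lit 1056) (nat_lit 66) = true := by decide +kernel
theorem wk8_17 : allR (OT.ckEqW [X10, X10, X12, X11, X11, X7, X8, X7, X9, X6, X9, X6, X5, X2, X4, X3, X5, X5, T6, X0, T2, T4, X1, T0, T2, X1] [X16]) (nat_lit 1122) (nat_lit 66) = true := by decide +kernel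
theorem wk8_18 : allR (OT.ckEqW [X10, X10, X12, X11, X11, X7, X8, X7, X9, X6, X9, X6, X5, X2, X4, X3, X5, X5, T6, X0, T2, T4, X1, T0, T2, X1] [X16]) (nat_lit 1188) (nat_lit 66) = true := by decide +kernel
theorem wk8_19 : allR (OT.ckEqW [X10, X10, X12, X11, X11, X7, X8, X7, X9, X6, X9, X6, X5, X2, X4, X3, X5, X5, T6, X0, T2, T4, X1, T0, T2, X1] [X16]) (nat_lit 1254) (nat_lit 66) = true := by decide +kernel
theorem wk8_20 : allR (OT.ckEqW [X10, X10, X12, X11, X11, X7, X8, X7, X9, X6, X9, X6, X5, X2, X4, X3, X5, X5, T6, X0, T2, T4, X1, T0, T2, X1] [X16]) (nat_lit 1320) (nat_lit 66) = true := by decide +kernel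
theorem wk8_21 : allR (OT.ckEqW [X10, X10, X12, X11, X11, X7, X8, X7, X9, X6, X9, X6, X5, X2, X4, X3, X5, X5, T6, X0, T2, T4, X1, T0, T2, X1] [X16]) (nat_lit 1386) (nat_lit 66) = true := by decide +kernel
theorem wk8_22 : allR (OT.ckEqW [X10, X10, X12, X11, X11, X7, X8, X7, X9, X6, X9, X6, X5, X2, X4, X3, X5, X5, T6, X0, T2, T4, X1, T0, T2, X1] [X16]) (nat_lit 1452) (nat_lit 66) = true := by decide +kernel
theorem wk8_23 : allR (OT.ckEqW [X10, X10, X12, X11, X11, X7, X8, X7, X9, X6, X9, X6, X5, X2, X4, X3, X5, X5, T6, X0, T2, T4, X1, T0, T2, X1] [X16]) (nat_lit 1518) (nat_lit 66) = true := by decide +kernel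
theorem wk8_24 : allR (OT.ckEqW [X10, X10, X12, X11, X11, X7, X8, X7, X9, X6, X9, X6, X5, X2, X4, X3, X5, X5, T6, X0, T2, T4, X1, T0, T2, X1] [X16]) (nat_lit 1584) (nat_lit 66) = true := by decide +kernel
theorem wk8_25 : allR (OT.ckEqW [X10, X10, X12, X11, X11, X7, X8, X7, X9, X6, X9, X6, X5, X2, X4, X3, X5, X5, T6, X0, T2, T4, X1, T0, T2, X1] [X16]) (nat_lit 1650) (nat_lit 66) = true := by decide +kernel
theorem wk8_26 : allR (OT.ckEqW [X10, X10, X12, X11, X11, X7, X8, X7, X9, X6, X9, X6, X5, X2, X4, X3, X5, X5, T6, X0, T2, T4, X1, T0, T2, X1] [X16]) (nat_lit 1716) (nat_lit 66) = true := by decide +kernel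
theorem wk9_0 : allR (OT.ckEqW [X14, X14] [X18]) (nat_lit 0) (nat_lit 594) = true := by decide +kernel
theorem wk9_1 : allR (OT.ckEqW [X14, X14] [X18]) (nat_lit 594) (nat_lit 594) = true := by decide +kernel
theorem wk9_2 : allR (OT.ckEqW [X14, X14] [X18]) (nat_lit 1188) (nat_lit 594) = true := by decide +kernel
theorem wk14_0 : allR (OT.ckEqW [X26, X24, X26, X26, X26, X25, X25, X25, X27, X24] [X28]) (nat_lit 0) (nat_lit 162) = true := by decide +kernel
theorem wk14_1 : allR (OT.ckEqW [X26, X24, X26, X26, X26, X25, X25, X25, X27, X24] [X28]) (nat_lit 162) (nat_lit 162) = true := by decide +kernel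
theorem wk14_2 : allR (OT.ckEqW [X26, X24, X26, X26, X26, X25, X25, X25, X27, X24] [X28]) (nat_lit 324) (nat_lit 162) = true := by decide +kernel
theorem wk14_3 : allR (OT.ckEqW [X26, X24, X26, X26, X26, X25, X25, X25, X27, X24] [X28]) (nat_lit 486) (nat_lit 162) = true := by decide +kernel
theorem wk14_4 : allR (OT.ckEqW [X26, X24, X26, X26, X26, X25, X25, X25, X27, X24] [X28]) (nat_lit 648) (nat_lit 162) = true := by decide +kernel
theorem wk14_5 : allR (OT.ckEqW [X26, X24, X26, X26, X26, X25, X25, X25, X27, X24] [X28]) (nat_lit 810) (nat_lit 162) = true := by decide +kernel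
theorem wk14_6 : allR (OT.ckEqW [X26, X24, X26, X26, X26, X25, X25, X25, X27, X24] [X28]) (nat_lit 972) (nat_lit 162) = true := by decide +kernel
theorem wk14_7 : allR (OT.ckEqW [X26, X24, X26, X26, X26, X25, X25, X25, X27, X24] [X28]) (nat_lit 1134) (nat_lit 162) = true := by decide +kernel
theorem wk14_8 : allR (OT.ckEqW [X26, X24, X26, X26, X26, X25, X25, X25, X27, X24] [X28]) (nat_lit 1296) (nat_lit 162) = true := by decide +kernel
theorem wk14_9 : allR (OT.ckEqW [X26, X24, X26, X26, X26, X25, X25, X25, X27, X24] [X28]) (nat_lit 1458) (nat_lit 162) = true := by decide +kernel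
theorem wk14_10 : allR (OT.ckEqW [X26, X24, X26, X26, X26, X25, X25, X25, X27, X24] [X28]) (nat_lit 1620) (nat_lit 162) = true := by decide +kernel
theorem wk15_0 : allR (OT.ckEqW [X26, X26, X26, X24, X26, X25, X25, X26, X25, X25] [X30]) (nat_lit 0) (nat_lit 162) = true := by decide +kernel
theorem wk15_1 : allR (OT.ckEqW [X26, X26, X26, X24, X26, X25, X25, X26, X25, X25] [X30]) (nat_lit 162) (nat_lit 162) = true := by decide +kernel
theorem wk15_2 : allR (OT.ckEqW [X26, X26, X26, X24, X26, X25, X25, X26, X25, X25] [X30]) (nat_lit 324) (nat_lit 162) = true := by decide +kernel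
theorem wk15_3 : allR (OT.ckEqW [X26, X26, X26, X24, X26, X25, X25, X26, X25, X25] [X30]) (nat_lit 486) (nat_lit 162) = true := by decide +kernel
theorem wk15_4 : allR (OT.ckEqW [X26, X26, X26, X24, X26, X25, X25, X26, X25, X25] [X30]) (nat_lit 648) (nat_lit 162) = true := by decide +kernel
theorem wk15_5 : allR (OT.ckEqW [X26, X26, X26, X24, X26, X25, X25, X26, X25, X25] [X30]) (nat_lit 810) (nat_lit 162) = true := by decide +kernel
theorem wk15_6 : allR (OT.ckEqW [X26, X26, X26, X24, X26, X25, X25, X26, X25, X25] [X30]) (nat_lit 972) (nat_lit 162) = true := by decide +kernel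
theorem wk15_7 : allR (OT.ckEqW [X26, X26, X26, X24, X26, X25, X25, X26, X25, X25] [X30]) (nat_lit 1134) (nat_lit 162) = true := by decide +kernel
theorem wk15_8 : allR (OT.ckEqW [X26, X26, X26, X24, X26, X25, X25, X26, X25, X25] [X30]) (nat_lit 1296) (nat_lit 162) = true := by decide +kernel
theorem wk15_9 : allR (OT.ckEqW [X26, X26, X26, X24, X26, X25, X25, X26, X25, X25] [X30]) (nat_lit 1458) (nat_lit 162) = true := by decide +kernel
theorem wk15_10 : allR (OT.ckEqW [X26, X26, X26, X24, X26, X25, X25, X26, X25, X25] [X30]) (nat_lit 1620) (nat_lit 162) = true := by decide +kernel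
theorem wk16_0 : allR (OT.ckEqW [X14, X17, X1, X15, X1, X16, X15, X1] [X32]) (nat_lit 0) (nat_lit 198) = true := by decide +kernel
theorem wk16_1 : allR (OT.ckEqW [X14, X17, X1, X15, X1, X16, X15, X1] [X32]) (nat_lit 198) (nat_lit 198) = true := by decide +kernel
theorem wk16_2 : allR (OT.ckEqW [X14, X17, X1, X15, X1, X16, X15, X1] [X32]) (nat_lit 396) (nat_lit 198) = true := by decide +kernel
theorem wk16_3 : allR (OT.ckEqW [X14, X17, X1, X15, X1, X16, X15, X1] [X32]) (nat_lit 594) (nat_lit 198) = true := by decide +kernel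
theorem wk16_4 : allR (OT.ckEqW [X14, X17, X1, X15, X1, X16, X15, X1] [X32]) (nat_lit 792) (nat_lit 198) = true := by decide +kernel
theorem wk16_5 : allR (OT.ckEqW [X14, X17, X1, X15, X1, X16, X15, X1] [X32]) (nat_lit 990) (nat_lit 198) = true := by decide +kernel
theorem wk16_6 : allR (OT.ckEqW [X14, X17, X1, X15, X1, X16, X15, X1] [X32]) (nat_lit 1188) (nat_lit 198) = true := by decide +kernel
theorem wk16_7 : allR (OT.ckEqW [X14, X17, X1, X15, X1, X16, X15, X1] [X32]) (nat_lit 1386) (nat_lit 198) = true := by decide +kernel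
theorem wk16_8 : allR (OT.ckEqW [X14, X17, X1, X15, X1, X16, X15, X1] [X32]) (nat_lit 1584) (nat_lit 198) = true := by decide +kernel
theorem wk17_0 : allR (OT.ckEqW [X16, X14, X1, X17, X0, X16, X15, X15] [X34]) (nat_lit 0) (nat_lit 198) = true := by decide +kernel
theorem wk17_1 : allR (OT.ckEqW [X16, X14, X1, X17, X0, X16, X15, X15] [X34]) (nat_lit 198) (nat_lit 198) = true := by decide +kernel
theorem wk17_2 : allR (OT.ckEqW [X16, X14, X1, X17, X0, X16, X15, X15] [X34]) (nat_lit 396) (nat_lit 198) = true := by decide +kernel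
theorem wk17_3 : allR (OT.ckEqW [X16, X14, X1, X17, X0, X16, X15, X15] [X34]) (nat_lit 594) (nat_lit 198) = true := by decide +kernel
theorem wk17_4 : allR (OT.ckEqW [X16, X14, X1, X17, X0, X16, X15, X15] [X34]) (nat_lit 792) (nat_lit 198) = true := by decide +kernel
theorem wk17_5 : allR (OT.ckEqW [X16, X14, X1, X17, X0, X16, X15, X15] [X34]) (nat_lit 990) (nat_lit 198) = true := by decide +kernel
theorem wk17_6 : allR (OT.ckEqW [X16, X14, X1, X17, X0, X16, X15, X15] [X34]) (nat_lit 1188) (nat_lit 198) = true := by decide +kernel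
theorem wk17_7 : allR (OT.ckEqW [X16, X14, X1, X17, X0, X16, X15, X15] [X34]) (nat_lit 1386) (nat_lit 198) = true := by decide +kernel
theorem wk17_8 : allR (OT.ckEqW [X16, X14, X1, X17, X0, X16, X15, X15] [X34]) (nat_lit 1584) (nat_lit 198) = true := by decide +kernel
theorem wk10_0 : allR (OT.ckEqW [X17, X15, X1, X17, X14, X1, X17, X14, X0, X17, X15, X17] [X20]) (nat_lit 0) (nat_lit 137) = true := by decide +kernel
theorem wk10_1 : allR (OT.ckEqW [X17, X15, X1, X17, X14, X1, X17, X14, X0, X17, X15, X17] [X20]) (nat_lit 137) (nat_lit 137) = true := by decide +kernel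
theorem wk10_2 : allR (OT.ckEqW [X17, X15, X1, X17, X14, X1, X17, X14, X0, X17, X15, X17] [X20]) (nat_lit 274) (nat_lit 137) = true := by decide +kernel
theorem wk10_3 : allR (OT.ckEqW [X17, X15, X1, X17, X14, X1, X17, X14, X0, X17, X15, X17] [X20]) (nat_lit 411) (nat_lit 137) = true := by decide +kernel
theorem wk10_4 : allR (OT.ckEqW [X17, X15, X1, X17, X14, X1, X17, X14, X0, X17, X15, X17] [X20]) (nat_lit 548) (nat_lit 137) = true := by decide +kernel
theorem wk10_5 : allR (OT.ckEqW [X17, X15, X1, X17, X14, X1, X17, X14, X0, X17, X15, X17] [X20]) (nat_lit 685) (nat_lit 137) = true := by decide +kernel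
theorem wk10_6 : allR (OT.ckEqW [X17, X15, X1, X17, X14, X1, X17, X14, X0, X17, X15, X17] [X20]) (nat_lit 822) (nat_lit 137) = true := by decide +kernel
theorem wk10_7 : allR (OT.ckEqW [X17, X15, X1, X17, X14, X1, X17, X14, X0, X17, X15, X17] [X20]) (nat_lit 959) (nat_lit 137) = true := by decide +kernel
theorem wk10_8 : allR (OT.ckEqW [X17, X15, X1, X17, X14, X1, X17, X14, X0, X17, X15, X17] [X20]) (nat_lit 1096) (nat_lit 137) = true := by decide +kernel
theorem wk10_9 : allR (OT.ckEqW [X17, X15, X1, X17, X14, X1, X17, X14, X0, X17, X15, X17] [X20]) (nat_lit 1233) (nat_lit 137) = true := by decide +kernel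
theorem wk10_10 : allR (OT.ckEqW [X17, X15, X1, X17, X14, X1, X17, X14, X0, X17, X15, X17] [X20]) (nat_lit 1370) (nat_lit 137) = true := by decide +kernel
theorem wk10_11 : allR (OT.ckEqW [X17, X15, X1, X17, X14, X1, X17, X14, X0, X17, X15, X17] [X20]) (nat_lit 1507) (nat_lit 137) = true := by decide +kernel
theorem wk10_12 : allR (OT.ckEqW [X17, X15, X1, X17, X14, X1, X17, X14, X0, X17, X15, X17] [X20]) (nat_lit 1644) (nat_lit 137) = true := by decide +kernel
theorem wk18_0 : allR (OT.ckEqW [X35, X33, X33, X35, X33, X33, X33, X33, X35, X35, X35, X33] [X36]) (nat_lit 0) (nat_lit 137) = true := by decide +kernel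
theorem wk18_1 : allR (OT.ckEqW [X35, X33, X33, X35, X33, X33, X33, X33, X35, X35, X35, X33] [X36]) (nat_lit 137) (nat_lit 137) = true := by decide +kernel
theorem wk18_2 : allR (OT.ckEqW [X35, X33, X33, X35, X33, X33, X33, X33, X35, X35, X35, X33] [X36]) (nat_lit 274) (nat_lit 137) = true := by decide +kernel
theorem wk18_3 : allR (OT.ckEqW [X35, X33, X33, X35, X33, X33, X33, X33, X35, X35, X35, X33] [X36]) (nat_lit 411) (nat_lit 137) = true := by decide +kernel
theorem wk18_4 : allR (OT.ckEqW [X35, X33, X33, X35, X33, X33, X33, X33, X35, X35, X35, X33] [X36]) (nat_lit 548) (nat_lit 137) = true := by decide +kernel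
theorem wk18_5 : allR (OT.ckEqW [X35, X33, X33, X35, X33, X33, X33, X33, X35, X35, X35, X33] [X36]) (nat_lit 685) (nat_lit 137) = true := by decide +kernel
theorem wk18_6 : allR (OT.ckEqW [X35, X33, X33, X35, X33, X33, X33, X33, X35, X35, X35, X33] [X36]) (nat_lit 822) (nat_lit 137) = true := by decide +kernel
theorem wk18_7 : allR (OT.ckEqW [X35, X33, X33, X35, X33, X33, X33, X33, X35, X35, X35, X33] [X36]) (nat_lit 959) (nat_lit 137) = true := by decide +kernel
theorem wk18_8 : allR (OT.ckEqW [X35, X33, X33, X35, X33, X33, X33, X33, X35, X35, X35, X33] [X36]) (nat_lit 1096) (nat_lit 137) = true := by decide +kernel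
theorem wk18_9 : allR (OT.ckEqW [X35, X33, X33, X35, X33, X33, X33, X33, X35, X35, X35, X33] [X36]) (nat_lit 1233) (nat_lit 137) = true := by decide +kernel
theorem wk18_10 : allR (OT.ckEqW [X35, X33, X33, X35, X33, X33, X33, X33, X35, X35, X35, X33] [X36]) (nat_lit 1370) (nat_lit 137) = true := by decide +kernel
theorem wk18_11 : allR (OT.ckEqW [X35, X33, X33, X35, X33, X33, X33, X33, X35, X35, X35, X33] [X36]) (nat_lit 1507) (nat_lit 137) = true := by decide +kernel
theorem wk18_12 : allR (OT.ckEqW [X35, X33, X33, X35, X33, X33, X33, X33, X35, X35, X35, X33] [X36]) (nat_lit 1644) (nat_lit 137) = true := by decide +kernel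
theorem wk1_0 : allR (OT.ckEqW [T2, T1, T5, T3, T1, T4, X1, T6, X0] [X2]) (nat_lit 0) (nat_lit 178) = true := by decide +kernel
theorem wk1_1 : allR (OT.ckEqW [T2, T1, T5, T3, T1, T4, X1, T6, X0] [X2]) (nat_lit 178) (nat_lit 178) = true := by decide +kernel
theorem wk1_2 : allR (OT.ckEqW [T2, T1, T5, T3, T1, T4, X1, T6, X0] [X2]) (nat_lit 356) (nat_lit 178) = true := by decide +kernel
theorem wk1_3 : allR (OT.ckEqW [T2, T1, T5, T3, T1, T4, X1, T6, X0] [X2]) (nat_lit 534) (nat_lit 178) = true := by decide +kernel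
theorem wk1_4 : allR (OT.ckEqW [T2, T1, T5, T3, T1, T4, X1, T6, X0] [X2]) (nat_lit 712) (nat_lit 178) = true := by decide +kernel
theorem wk1_5 : allR (OT.ckEqW [T2, T1, T5, T3, T1, T4, X1, T6, X0] [X2]) (nat_lit 890) (nat_lit 178) = true := by decide +kernel
theorem wk1_6 : allR (OT.ckEqW [T2, T1, T5, T3, T1, T4, X1, T6, X0] [X2]) (nat_lit 1068) (nat_lit 178) = true := by decide +kernel
theorem wk1_7 : allR (OT.ckEqW [T2, T1, T5, T3, T1, T4, X1, T6, X0] [X2]) (nat_lit 1246) (nat_lit 178) = true := by decide +kernel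
theorem wk1_8 : allR (OT.ckEqW [T2, T1, T5, T3, T1, T4, X1, T6, X0] [X2]) (nat_lit 1424) (nat_lit 178) = true := by decide +kernel
theorem wk1_9 : allR (OT.ckEqW [T2, T1, T5, T3, T1, T4, X1, T6, X0] [X2]) (nat_lit 1602) (nat_lit 178) = true := by decide +kernel
theorem wk2_0 : allR (OT.ckEqW [T3, T4, T0, T1, T0, T2, T0, T1, T2] [X4]) (nat_lit 0) (nat_lit 178) = true := by decide +kernel
theorem wk2_1 : allR (OT.ckEqW [T3, T4, T0, T1, T0, T2, T0, T1, T2] [X4]) (nat_lit 178) (nat_lit 178) = true := by decide +kernel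
theorem wk2_2 : allR (OT.ckEqW [T3, T4, T0, T1, T0, T2, T0, T1, T2] [X4]) (nat_lit 356) (nat_lit 178) = true := by decide +kernel
theorem wk2_3 : allR (OT.ckEqW [T3, T4, T0, T1, T0, T2, T0, T1, T2] [X4]) (nat_lit 534) (nat_lit 178) = true := by decide +kernel
theorem wk2_4 : allR (OT.ckEqW [T3, T4, T0, T1, T0, T2, T0, T1, T2] [X4]) (nat_lit 712) (nat_lit 178) = true := by decide +kernel
theorem wk2_5 : allR (OT.ckEqW [T3, T4, T0, T1, T0, T2, T0, T1, T2] [X4]) (nat_lit 890) (nat_lit 178) = true := by decide +kernel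
theorem wk2_6 : allR (OT.ckEqW [T3, T4, T0, T1, T0, T2, T0, T1, T2] [X4]) (nat_lit 1068) (nat_lit 178) = true := by decide +kernel
theorem wk2_7 : allR (OT.ckEqW [T3, T4, T0, T1, T0, T2, T0, T1, T2] [X4]) (nat_lit 1246) (nat_lit 178) = true := by decide +kernel
theorem wk2_8 : allR (OT.ckEqW [T3, T4, T0, T1, T0, T2, T0, T1, T2] [X4]) (nat_lit 1424) (nat_lit 178) = true := by decide +kernel
theorem wk2_9 : allR (OT.ckEqW [T3, T4, T0, T1, T0, T2, T0, T1, T2] [X4]) (nat_lit 1602) (nat_lit 178) = true := by decide +kernel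
theorem wk3_0 : allR (OT.ckEqW [X4, X4, X3, X5, X2, X5, X2, X4, X3] [X6]) (nat_lit 0) (nat_lit 178) = true := by decide +kernel
theorem wk3_1 : allR (OT.ckEqW [X4, X4, X3, X5, X2, X5, X2, X4, X3] [X6]) (nat_lit 178) (nat_lit 178) = true := by decide +kernel
theorem wk3_2 : allR (OT.ckEqW [X4, X4, X3, X5, X2, X5, X2, X4, X3] [X6]) (nat_lit 356) (nat_lit 178) = true := by decide +kernel
theorem wk3_3 : allR (OT.ckEqW [X4, X4, X3, X5, X2, X5, X2, X4, X3] [X6]) (nat_lit 534) (nat_lit 178) = true := by decide +kernel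
theorem wk3_4 : allR (OT.ckEqW [X4, X4, X3, X5, X2, X5, X2, X4, X3] [X6]) (nat_lit 712) (nat_lit 178) = true := by decide +kernel
theorem wk3_5 : allR (OT.ckEqW [X4, X4, X3, X5, X2, X5, X2, X4, X3] [X6]) (nat_lit 890) (nat_lit 178) = true := by decide +kernel
theorem wk3_6 : allR (OT.ckEqW [X4, X4, X3, X5, X2, X5, X2, X4, X3] [X6]) (nat_lit 1068) (nat_lit 178) = true := by decide +kernel
theorem wk3_7 : allR (OT.ckEqW [X4, X4, X3, X5, X2, X5, X2, X4, X3] [X6]) (nat_lit 1246) (nat_lit 178) = true := by decide +kernel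
theorem wk3_8 : allR (OT.ckEqW [X4, X4, X3, X5, X2, X5, X2, X4, X3] [X6]) (nat_lit 1424) (nat_lit 178) = true := by decide +kernel
theorem wk3_9 : allR (OT.ckEqW [X4, X4, X3, X5, X2, X5, X2, X4, X3] [X6]) (nat_lit 1602) (nat_lit 178) = true := by decide +kernel
theorem wk4_0 : allR (OT.ckEqW [X4, X2, X2, X5] [X8]) (nat_lit 0) (nat_lit 356) = true := by decide +kernel
theorem wk4_1 : allR (OT.ckEqW [X4, X2, X2, X5] [X8]) (nat_lit 356) (nat_lit 356) = true := by decide +kernel
theorem wk4_2 : allR (OT.ckEqW [X4, X2, X2, X5] [X8]) (nat_lit 712) (nat_lit 356) = true := by decide +kernel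
theorem wk4_3 : allR (OT.ckEqW [X4, X2, X2, X5] [X8]) (nat_lit 1068) (nat_lit 356) = true := by decide +kernel
theorem wk4_4 : allR (OT.ckEqW [X4, X2, X2, X5] [X8]) (nat_lit 1424) (nat_lit 356) = true := by decide +kernel
theorem wk0_0 : allR (OT.ckEqW [T1, T2, T3, T4, T6, T5] [X0]) (nat_lit 0) (nat_lit 254) = true := by decide +kernel
theorem wk0_1 : allR (OT.ckEqW [T1, T2, T3, T4, T6, T5] [X0]) (nat_lit 254) (nat_lit 254) = true := by decide +kernel
theorem wk0_2 : allR (OT.ckEqW [T1, T2, T3, T4, T6, T5] [X0]) (nat_lit 508) (nat_lit 254) = true := by decide +kernel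
theorem wk0_3 : allR (OT.ckEqW [T1, T2, T3, T4, T6, T5] [X0]) (nat_lit 762) (nat_lit 254) = true := by decide +kernel
theorem wk0_4 : allR (OT.ckEqW [T1, T2, T3, T4, T6, T5] [X0]) (nat_lit 1016) (nat_lit 254) = true := by decide +kernel
theorem wk0_5 : allR (OT.ckEqW [T1, T2, T3, T4, T6, T5] [X0]) (nat_lit 1270) (nat_lit 254) = true := by decide +kernel
theorem wk0_6 : allR (OT.ckEqW [T1, T2, T3, T4, T6, T5] [X0]) (nat_lit 1524) (nat_lit 254) = true := by decide +kernel
theorem wk6_0 : allR (OT.ckEqW [X8, X8, X7, X8, X6, X8] [X12]) (nat_lit 0) (nat_lit 254) = true := by decide +kernel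
theorem wk6_1 : allR (OT.ckEqW [X8, X8, X7, X8, X6, X8] [X12]) (nat_lit 254) (nat_lit 254) = true := by decide +kernel
theorem wk6_2 : allR (OT.ckEqW [X8, X8, X7, X8, X6, X8] [X12]) (nat_lit 508) (nat_lit 254) = true := by decide +kernel
theorem wk6_3 : allR (OT.ckEqW [X8, X8, X7, X8, X6, X8] [X12]) (nat_lit 762) (nat_lit 254) = true := by decide +kernel
theorem wk6_4 : allR (OT.ckEqW [X8, X8, X7, X8, X6, X8] [X12]) (nat_lit 1016) (nat_lit 254) = true := by decide +kernel
theorem wk6_5 : allR (OT.ckEqW [X8, X8, X7, X8, X6, X8] [X12]) (nat_lit 1270) (nat_lit 254) = true := by decide +kernel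
theorem wk6_6 : allR (OT.ckEqW [X8, X8, X7, X8, X6, X8] [X12]) (nat_lit 1524) (nat_lit 254) = true := by decide +kernel
theorem wk11_0 : allR (OT.ckEqW [X17, X0, X16, X14, X17, X14, X1, X14, X1, X1, X17, X15, X17] [X22]) (nat_lit 0) (nat_lit 127) = true := by decide +kernel
theorem wk11_1 : allR (OT.ckEqW [X17, X0, X16, X14, X17, X14, X1, X14, X1, X1, X17, X15, X17] [X22]) (nat_lit 127) (nat_lit 127) = true := by decide +kernel
theorem wk11_2 : allR (OT.ckEqW [X17, X0, X16, X14, X17, X14, X1, X14, X1, X1, X17, X15, X17] [X22]) (nat_lit 254) (nat_lit 127) = true := by decide +kernel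
theorem wk11_3 : allR (OT.ckEqW [X17, X0, X16, X14, X17, X14, X1, X14, X1, X1, X17, X15, X17] [X22]) (nat_lit 381) (nat_lit 127) = true := by decide +kernel
theorem wk11_4 : allR (OT.ckEqW [X17, X0, X16, X14, X17, X14, X1, X14, X1, X1, X17, X15, X17] [X22]) (nat_lit 508) (nat_lit 127) = true := by decide +kernel
theorem wk11_5 : allR (OT.ckEqW [X17, X0, X16, X14, X17, X14, X1, X14, X1, X1, X17, X15, X17] [X22]) (nat_lit 635) (nat_lit 127) = true := by decide +kernel
theorem wk11_6 : allR (OT.ckEqW [X17, X0, X16, X14, X17, X14, X1, X14, X1, X1, X17, X15, X17] [X22]) (nat_lit 762) (nat_lit 127) = true := by decide +kernel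
theorem wk11_7 : allR (OT.ckEqW [X17, X0, X16, X14, X17, X14, X1, X14, X1, X1, X17, X15, X17] [X22]) (nat_lit 889) (nat_lit 127) = true := by decide +kernel
theorem wk11_8 : allR (OT.ckEqW [X17, X0, X16, X14, X17, X14, X1, X14, X1, X1, X17, X15, X17] [X22]) (nat_lit 1016) (nat_lit 127) = true := by decide +kernel
theorem wk11_9 : allR (OT.ckEqW [X17, X0, X16, X14, X17, X14, X1, X14, X1, X1, X17, X15, X17] [X22]) (nat_lit 1143) (nat_lit 127) = true := by decide +kernel
theorem wk11_10 : allR (OT.ckEqW [X17, X0, X16, X14, X17, X14, X1, X14, X1, X1, X17, X15, X17] [X22]) (nat_lit 1270) (nat_lit 127) = true := by decide +kernel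
theorem wk11_11 : allR (OT.ckEqW [X17, X0, X16, X14, X17, X14, X1, X14, X1, X1, X17, X15, X17] [X22]) (nat_lit 1397) (nat_lit 127) = true := by decide +kernel
theorem wk11_12 : allR (OT.ckEqW [X17, X0, X16, X14, X17, X14, X1, X14, X1, X1, X17, X15, X17] [X22]) (nat_lit 1524) (nat_lit 127) = true := by decide +kernel
theorem wk11_13 : allR (OT.ckEqW [X17, X0, X16, X14, X17, X14, X1, X14, X1, X1, X17, X15, X17] [X22]) (nat_lit 1651) (nat_lit 127) = true := by decide +kernel
theorem wk19_0 : allR (OT.ckEqW [X33, X35, X32, X34, X33, X33] [X38]) (nat_lit 0) (nat_lit 254) = true := by decide +kernel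
theorem wk19_1 : allR (OT.ckEqW [X33, X35, X32, X34, X33, X33] [X38]) (nat_lit 254) (nat_lit 254) = true := by decide +kernel
theorem wk19_2 : allR (OT.ckEqW [X33, X35, X32, X34, X33, X33] [X38]) (nat_lit 508) (nat_lit 254) = true := by decide +kernel
theorem wk19_3 : allR (OT.ckEqW [X33, X35, X32, X34, X33, X33] [X38]) (nat_lit 762) (nat_lit 254) = true := by decide +kernel
theorem wk19_4 : allR (OT.ckEqW [X33, X35, X32, X34, X33, X33] [X38]) (nat_lit 1016) (nat_lit 254) = true := by decide +kernel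
theorem wk19_5 : allR (OT.ckEqW [X33, X35, X32, X34, X33, X33] [X38]) (nat_lit 1270) (nat_lit 254) = true := by decide +kernel
theorem wk19_6 : allR (OT.ckEqW [X33, X35, X32, X34, X33, X33] [X38]) (nat_lit 1524) (nat_lit 254) = true := by decide +kernel
theorem wk20_0 : allR (OT.ckEqW [X37, X37, X38, X38, X38, X36] [X40]) (nat_lit 0) (nat_lit 254) = true := by decide +kernel
theorem wk20_1 : allR (OT.ckEqW [X37, X37, X38, X38, X38, X36] [X40]) (nat_lit 254) (nat_lit 254) = true := by decide +kernel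
theorem wk20_2 : allR (OT.ckEqW [X37, X37, X38, X38, X38, X36] [X40]) (nat_lit 508) (nat_lit 254) = true := by decide +kernel
theorem wk20_3 : allR (OT.ckEqW [X37, X37, X38, X38, X38, X36] [X40]) (nat_lit 762) (nat_lit 254) = true := by decide +kernel
theorem wk20_4 : allR (OT.ckEqW [X37, X37, X38, X38, X38, X36] [X40]) (nat_lit 1016) (nat_lit 254) = true := by decide +kernel
theorem wk20_5 : allR (OT.ckEqW [X37, X37, X38, X38, X38, X36] [X40]) (nat_lit 1270) (nat_lit 254) = true := by decide +kernel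
theorem wk20_6 : allR (OT.ckEqW [X37, X37, X38, X38, X38, X36] [X40]) (nat_lit 1524) (nat_lit 254) = true := by decide +kernel
theorem wk13_0 : allR (OT.ckEqW [X22, X20, X22, X20, X22, X21, X21, X23, X21, X22, X21] [X26]) (nat_lit 0) (nat_lit 148) = true := by decide +kernel
theorem wk13_1 : allR (OT.ckEqW [X22, X20, X22, X20, X22, X21, X21, X23, X21, X22, X21] [X26]) (nat_lit 148) (nat_lit 148) = true := by decide +kernel
theorem wk13_2 : allR (OT.ckEqW [X22, X20, X22, X20, X22, X21, X21, X23, X21, X22, X21] [X26]) (nat_lit 296) (nat_lit 148) = true := by decide +kernel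
theorem wk13_3 : allR (OT.ckEqW [X22, X20, X22, X20, X22, X21, X21, X23, X21, X22, X21] [X26]) (nat_lit 444) (nat_lit 148) = true := by decide +kernel
theorem wk13_4 : allR (OT.ckEqW [X22, X20, X22, X20, X22, X21, X21, X23, X21, X22, X21] [X26]) (nat_lit 592) (nat_lit 148) = true := by decide +kernel
theorem wk13_5 : allR (OT.ckEqW [X22, X20, X22, X20, X22, X21, X21, X23, X21, X22, X21] [X26]) (nat_lit 740) (nat_lit 148) = true := by decide +kernel
theorem wk13_6 : allR (OT.ckEqW [X22, X20, X22, X20, X22, X21, X21, X23, X21, X22, X21] [X26]) (nat_lit 888) (nat_lit 148) = true := by decide +kernel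
theorem wk13_7 : allR (OT.ckEqW [X22, X20, X22, X20, X22, X21, X21, X23, X21, X22, X21] [X26]) (nat_lit 1036) (nat_lit 148) = true := by decide +kernel
theorem wk13_8 : allR (OT.ckEqW [X22, X20, X22, X20, X22, X21, X21, X23, X21, X22, X21] [X26]) (nat_lit 1184) (nat_lit 148) = true := by decide +kernel
theorem wk13_9 : allR (OT.ckEqW [X22, X20, X22, X20, X22, X21, X21, X23, X21, X22, X21] [X26]) (nat_lit 1332) (nat_lit 148) = true := by decide +kernel
theorem wk13_10 : allR (OT.ckEqW [X22, X20, X22, X20, X22, X21, X21, X23, X21, X22, X21] [X26]) (nat_lit 1480) (nat_lit 148) = true := by decide +kernel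
theorem wk13_11 : allR (OT.ckEqW [X22, X20, X22, X20, X22, X21, X21, X23, X21, X22, X21] [X26]) (nat_lit 1628) (nat_lit 148) = true := by decide +kernel
theorem wk21_0 : allR (OT.ckEqW [X37, X39, X37, X37, X37, X39, X36, X39, X37, X38, X37] [X42]) (nat_lit 0) (nat_lit 148) = true := by decide +kernel
theorem wk21_1 : allR (OT.ckEqW [X37, X39, X37, X37, X37, X39, X36, X39, X37, X38, X37] [X42]) (nat_lit 148) (nat_lit 148) = true := by decide +kernel
theorem wk21_2 : allR (OT.ckEqW [X37, X39, X37, X37, X37, X39, X36, X39, X37, X38, X37] [X42]) (nat_lit 296) (nat_lit 148) = true := by decide +kernel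
theorem wk21_3 : allR (OT.ckEqW [X37, X39, X37, X37, X37, X39, X36, X39, X37, X38, X37] [X42]) (nat_lit 444) (nat_lit 148) = true := by decide +kernel
theorem wk21_4 : allR (OT.ckEqW [X37, X39, X37, X37, X37, X39, X36, X39, X37, X38, X37] [X42]) (nat_lit 592) (nat_lit 148) = true := by decide +kernel
theorem wk21_5 : allR (OT.ckEqW [X37, X39, X37, X37, X37, X39, X36, X39, X37, X38, X37] [X42]) (nat_lit 740) (nat_lit 148) = true := by decide +kernel
theorem wk21_6 : allR (OT.ckEqW [X37, X39, X37, X37, X37, X39, X36, X39, X37, X38, X37] [X42]) (nat_lit 888) (nat_lit 148) = true := by decide +kernel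
theorem wk21_7 : allR (OT.ckEqW [X37, X39, X37, X37, X37, X39, X36, X39, X37, X38, X37] [X42]) (nat_lit 1036) (nat_lit 148) = true := by decide +kernel
theorem wk21_8 : allR (OT.ckEqW [X37, X39, X37, X37, X37, X39, X36, X39, X37, X38, X37] [X42]) (nat_lit 1184) (nat_lit 148) = true := by decide +kernel
theorem wk21_9 : allR (OT.ckEqW [X37, X39, X37, X37, X37, X39, X36, X39, X37, X38, X37] [X42]) (nat_lit 1332) (nat_lit 148) = true := by decide +kernel
theorem wk21_10 : allR (OT.ckEqW [X37, X39, X37, X37, X37, X39, X36, X39, X37, X38, X37] [X42]) (nat_lit 1480) (nat_lit 148) = true := by decide +kernel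
theorem wk21_11 : allR (OT.ckEqW [X37, X39, X37, X37, X37, X39, X36, X39, X37, X38, X37] [X42]) (nat_lit 1628) (nat_lit 148) = true := by decide +kernel
theorem wk5_0 : allR (OT.ckEqW [X6, X9, X6, X9, X6, X8, X7, X8, X6, X6, X9, X6, X8, X7, X9, X9, X9, X9, X9, X6, X6, X8, X7, X8] [X10]) (nat_lit 0) (nat_lit 71) = true := by decide +kernel
theorem wk5_1 : allR (OT.ckEqW [X6, X9, X6, X9, X6, X8, X7, X8, X6, X6, X9, X6, X8, X7, X9, X9, X9, X9, X9, X6, X6, X8, X7, X8] [X10]) (nat_lit 71) (nat_lit 71) = true := by decide +kernel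
theorem wk5_2 : allR (OT.ckEqW [X6, X9, X6, X9, X6, X8, X7, X8, X6, X6, X9, X6, X8, X7, X9, X9, X9, X9, X9, X6, X6, X8, X7, X8] [X10]) (nat_lit 142) (nat_lit 71) = true := by decide +kernel
theorem wk5_3 : allR (OT.ckEqW [X6, X9, X6, X9, X6, X8, X7, X8, X6, X6, X9, X6, X8, X7, X9, X9, X9, X9, X9, X6, X6, X8, X7, X8] [X10]) (nat_lit 213) (nat_lit 71) = true := by decide +kernel
theorem wk5_4 : allR (OT.ckEqW [X6, X9, X6, X9, X6, X8, X7, X8, X6, X6, X9, X6, X8, X7, X9, X9, X9, X9, X9, X6, X6, X8, X7, X8] [X10]) (nat_lit 284) (nat_lit 71) = true := by decide +kernel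
theorem wk5_5 : allR (OT.ckEqW [X6, X9, X6, X9, X6, X8, X7, X8, X6, X6, X9, X6, X8, X7, X9, X9, X9, X9, X9, X6, X6, X8, X7, X8] [X10]) (nat_lit 355) (nat_lit 71) = true := by decide +kernel
theorem wk5_6 : allR (OT.ckEqW [X6, X9, X6, X9, X6, X8, X7, X8, X6, X6, X9, X6, X8, X7, X9, X9, X9, X9, X9, X6, X6, X8, X7, X8] [X10]) (nat_lit 426) (nat_lit 71) = true := by decide +kernel
theorem wk5_7 : allR (OT.ckEqW [X6, X9, X6, X9, X6, X8, X7, X8, X6, X6, X9, X6, X8, X7, X9, X9, X9, X9, X9, X6, X6, X8, X7, X8] [X10]) (nat_lit 497) (nat_lit 71) = true := by decide +kernel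
theorem wk5_8 : allR (OT.ckEqW [X6, X9, X6, X9, X6, X8, X7, X8, X6, X6, X9, X6, X8, X7, X9, X9, X9, X9, X9, X6, X6, X8, X7, X8] [X10]) (nat_lit 568) (nat_lit 71) = true := by decide +kernel
theorem wk5_9 : allR (OT.ckEqW [X6, X9, X6, X9, X6, X8, X7, X8, X6, X6, X9, X6, X8, X7, X9, X9, X9, X9, X9, X6, X6, X8, X7, X8] [X10]) (nat_lit 639) (nat_lit 71) = true := by decide +kernel
theorem wk5_10 : allR (OT.ckEqW [X6, X9, X6, X9, X6, X8, X7, X8, X6, X6, X9, X6, X8, X7, X9, X9, X9, X9, X9, X6, X6, X8, X7, X8] [X10]) (nat_lit 710) (nat_lit 71) = true := by decide +kernel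
theorem wk5_11 : allR (OT.ckEqW [X6, X9, X6, X9, X6, X8, X7, X8, X6, X6, X9, X6, X8, X7, X9, X9, X9, X9, X9, X6, X6, X8, X7, X8] [X10]) (nat_lit 781) (nat_lit 71) = true := by decide +kernel
theorem wk5_12 : allR (OT.ckEqW [X6, X9, X6, X9, X6, X8, X7, X8, X6, X6, X9, X6, X8, X7, X9, X9, X9, X9, X9, X6, X6, X8, X7, X8] [X10]) (nat_lit 852) (nat_lit 71) = true := by decide +kernel
theorem wk5_13 : allR (OT.ckEqW [X6, X9, X6, X9, X6, X8, X7, X8, X6, X6, X9, X6, X8, X7, X9, X9, X9, X9, X9, X6, X6, X8, X7, X8] [X10]) (nat_lit 923) (nat_lit 71) = true := by decide +kernel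
theorem wk5_14 : allR (OT.ckEqW [X6, X9, X6, X9, X6, X8, X7, X8, X6, X6, X9, X6, X8, X7, X9, X9, X9, X9, X9, X6, X6, X8, X7, X8] [X10]) (nat_lit 994) (nat_lit 71) = true := by decide +kernel
theorem wk5_15 : allR (OT.ckEqW [X6, X9, X6, X9, X6, X8, X7, X8, X6, X6, X9, X6, X8, X7, X9, X9, X9, X9, X9, X6, X6, X8, X7, X8] [X10]) (nat_lit 1065) (nat_lit 71) = true := by decide +kernel
theorem wk5_16 : allR (OT.ckEqW [X6, X9, X6, X9, X6, X8, X7, X8, X6, X6, X9, X6, X8, X7, X9, X9, X9, X9, X9, X6, X6, X8, X7, X8] [X10]) (nat_lit 1136) (nat_lit 71) = true := by decide +kernel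
theorem wk5_17 : allR (OT.ckEqW [X6, X9, X6, X9, X6, X8, X7, X8, X6, X6, X9, X6, X8, X7, X9, X9, X9, X9, X9, X6, X6, X8, X7, X8] [X10]) (nat_lit 1207) (nat_lit 71) = true := by decide +kernel
theorem wk5_18 : allR (OT.ckEqW [X6, X9, X6, X9, X6, X8, X7, X8, X6, X6, X9, X6, X8, X7, X9, X9, X9, X9, X9, X6, X6, X8, X7, X8] [X10]) (nat_lit 1278) (nat_lit 71) = true := by decide +kernel
theorem wk5_19 : allR (OT.ckEqW [X6, X9, X6, X9, X6, X8, X7, X8, X6, X6, X9, X6, X8, X7, X9, X9, X9, X9, X9, X6, X6, X8, X7, X8] [X10]) (nat_lit 1349) (nat_lit 71) = true := by decide +kernel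
theorem wk5_20 : allR (OT.ckEqW [X6, X9, X6, X9, X6, X8, X7, X8, X6, X6, X9, X6, X8, X7, X9, X9, X9, X9, X9, X6, X6, X8, X7, X8] [X10]) (nat_lit 1420) (nat_lit 71) = true := by decide +kernel
theorem wk5_21 : allR (OT.ckEqW [X6, X9, X6, X9, X6, X8, X7, X8, X6, X6, X9, X6, X8, X7, X9, X9, X9, X9, X9, X6, X6, X8, X7, X8] [X10]) (nat_lit 1491) (nat_lit 71) = true := by decide +kernel
theorem wk5_22 : allR (OT.ckEqW [X6, X9, X6, X9, X6, X8, X7, X8, X6, X6, X9, X6, X8, X7, X9, X9, X9, X9, X9, X6, X6, X8, X7, X8] [X10]) (nat_lit 1562) (nat_lit 71) = true := by decide +kernel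
theorem wk5_23 : allR (OT.ckEqW [X6, X9, X6, X9, X6, X8, X7, X8, X6, X6, X9, X6, X8, X7, X9, X9, X9, X9, X9, X6, X6, X8, X7, X8] [X10]) (nat_lit 1633) (nat_lit 71) = true := by decide +kernel
theorem wk5_24 : allR (OT.ckEqW [X6, X9, X6, X9, X6, X8, X7, X8, X6, X6, X9, X6, X8, X7, X9, X9, X9, X9, X9, X6, X6, X8, X7, X8] [X10]) (nat_lit 1704) (nat_lit 71) = true := by decide +kernel
theorem wk12_0 : allR (OT.ckEqW [X22, X22, X22, X21, X21, X22, X21, X21, X22, X20, X23, X20, X23, X23] [X24]) (nat_lit 0) (nat_lit 118) = true := by decide +kernel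
theorem wk12_1 : allR (OT.ckEqW [X22, X22, X22, X21, X21, X22, X21, X21, X22, X20, X23, X20, X23, X23] [X24]) (nat_lit 118) (nat_lit 118) = true := by decide +kernel
theorem wk12_2 : allR (OT.ckEqW [X22, X22, X22, X21, X21, X22, X21, X21, X22, X20, X23, X20, X23, X23] [X24]) (nat_lit 236) (nat_lit 118) = true := by decide +kernel
theorem wk12_3 : allR (OT.ckEqW [X22, X22, X22, X21, X21, X22, X21, X21, X22, X20, X23, X20, X23, X23] [X24]) (nat_lit 354) (nat_lit 118) = true := by decide +kernel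
theorem wk12_4 : allR (OT.ckEqW [X22, X22, X22, X21, X21, X22, X21, X21, X22, X20, X23, X20, X23, X23] [X24]) (nat_lit 472) (nat_lit 118) = true := by decide +kernel
theorem wk12_5 : allR (OT.ckEqW [X22, X22, X22, X21, X21, X22, X21, X21, X22, X20, X23, X20, X23, X23] [X24]) (nat_lit 590) (nat_lit 118) = true := by decide +kernel
theorem wk12_6 : allR (OT.ckEqW [X22, X22, X22, X21, X21, X22, X21, X21, X22, X20, X23, X20, X23, X23] [X24]) (nat_lit 708) (nat_lit 118) = true := by decide +kernel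
theorem wk12_7 : allR (OT.ckEqW [X22, X22, X22, X21, X21, X22, X21, X21, X22, X20, X23, X20, X23, X23] [X24]) (nat_lit 826) (nat_lit 118) = true := by decide +kernel
theorem wk12_8 : allR (OT.ckEqW [X22, X22, X22, X21, X21, X22, X21, X21, X22, X20, X23, X20, X23, X23] [X24]) (nat_lit 944) (nat_lit 118) = true := by decide +kernel
theorem wk12_9 : allR (OT.ckEqW [X22, X22, X22, X21, X21, X22, X21, X21, X22, X20, X23, X20, X23, X23] [X24]) (nat_lit 1062) (nat_lit 118) = true := by decide +kernel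
theorem wk12_10 : allR (OT.ckEqW [X22, X22, X22, X21, X21, X22, X21, X21, X22, X20, X23, X20, X23, X23] [X24]) (nat_lit 1180) (nat_lit 118) = true := by decide +kernel
theorem wk12_11 : allR (OT.ckEqW [X22, X22, X22, X21, X21, X22, X21, X21, X22, X20, X23, X20, X23, X23] [X24]) (nat_lit 1298) (nat_lit 118) = true := by decide +kernel
theorem wk12_12 : allR (OT.ckEqW [X22, X22, X22, X21, X21, X22, X21, X21, X22, X20, X23, X20, X23, X23] [X24]) (nat_lit 1416) (nat_lit 118) = true := by decide +kernel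
theorem wk12_13 : allR (OT.ckEqW [X22, X22, X22, X21, X21, X22, X21, X21, X22, X20, X23, X20, X23, X23] [X24]) (nat_lit 1534) (nat_lit 118) = true := by decide +kernel
theorem wk12_14 : allR (OT.ckEqW [X22, X22, X22, X21, X21, X22, X21, X21, X22, X20, X23, X20, X23, X23] [X24]) (nat_lit 1652) (nat_lit 118) = true := by decide +kernel
theorem wk7_0 : allR (OT.ckEqW [X12, X10, X6, X9, X6, X6, X9, X6, X6, X9, X6, X9, X5, X3, X5, X3, X5, X2, X5, X3, X1, X1, T3, T2, X1, T0, T2] [X14]) (nat_lit 0) (nat_lit 63) = true := by decide +kernel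
theorem wk7_1 : allR (OT.ckEqW [X12, X10, X6, X9, X6, X6, X9, X6, X6, X9, X6, X9, X5, X3, X5, X3, X5, X2, X5, X3, X1, X1, T3, T2, X1, T0, T2] [X14]) (nat_lit 63) (nat_lit 63) = true := by decide +kernel
theorem wk7_2 : allR (OT.ckEqW [X12, X10, X6, X9, X6, X6, X9, X6, X6, X9, X6, X9, X5, X3, X5, X3, X5, X2, X5, X3, X1, X1, T3, T2, X1, T0, T2] [X14]) (nat_lit 126) (nat_lit 63) = true := by decide +kernel
theorem wk7_3 : allR (OT.ckEqW [X12, X10, X6, X9, X6, X6, X9, X6, X6, X9, X6, X9, X5, X3, X5, X3, X5, X2, X5, X3, X1, X1, T3, T2, X1, T0, T2] [X14]) (nat_lit 189) (nat_lit 63) = true := by decide +kernel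
theorem wk7_4 : allR (OT.ckEqW [X12, X10, X6, X9, X6, X6, X9, X6, X6, X9, X6, X9, X5, X3, X5, X3, X5, X2, X5, X3, X1, X1, T3, T2, X1, T0, T2] [X14]) (nat_lit 252) (nat_lit 63) = true := by decide +kernel
theorem wk7_5 : allR (OT.ckEqW [X12, X10, X6, X9, X6, X6, X9, X6, X6, X9, X6, X9, X5, X3, X5, X3, X5, X2, X5, X3, X1, X1, T3, T2, X1, T0, T2] [X14]) (nat_lit 315) (nat_lit 63) = true := by decide +kernel
theorem wk7_6 : allR (OT.ckEqW [X12, X10, X6, X9, X6, X6, X9, X6, X6, X9, X6, X9, X5, X3, X5, X3, X5, X2, X5, X3, X1, X1, T3, T2, X1, T0, T2] [X14]) (nat_lit 378) (nat_lit 63) = true := by decide +kernel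
theorem wk7_7 : allR (OT.ckEqW [X12, X10, X6, X9, X6, X6, X9, X6, X6, X9, X6, X9, X5, X3, X5, X3, X5, X2, X5, X3, X1, X1, T3, T2, X1, T0, T2] [X14]) (nat_lit 441) (nat_lit 63) = true := by decide +kernel
theorem wk7_8 : allR (OT.ckEqW [X12, X10, X6, X9, X6, X6, X9, X6, X6, X9, X6, X9, X5, X3, X5, X3, X5, X2, X5, X3, X1, X1, T3, T2, X1, T0, T2] [X14]) (nat_lit 504) (nat_lit 63) = true := by decide +kernel
theorem wk7_9 : allR (OT.ckEqW [X12, X10, X6, X9, X6, X6, X9, X6, X6, X9, X6, X9, X5, X3, X5, X3, X5, X2, X5, X3, X1, X1, T3, T2, X1, T0, T2] [X14]) (nat_lit 567) (nat_lit 63) = true := by decide +kernel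
theorem wk7_10 : allR (OT.ckEqW [X12, X10, X6, X9, X6, X6, X9, X6, X6, X9, X6, X9, X5, X3, X5, X3, X5, X2, X5, X3, X1, X1, T3, T2, X1, T0, T2] [X14]) (nat_lit 630) (nat_lit 63) = true := by decide +kernel
theorem wk7_11 : allR (OT.ckEqW [X12, X10, X6, X9, X6, X6, X9, X6, X6, X9, X6, X9, X5, X3, X5, X3, X5, X2, X5, X3, X1, X1, T3, T2, X1, T0, T2] [X14]) (nat_lit 693) (nat_lit 63) = true := by decide +kernel
theorem wk7_12 : allR (OT.ckEqW [X12, X10, X6, X9, X6, X6, X9, X6, X6, X9, X6, X9, X5, X3, X5, X3, X5, X2, X5, X3, X1, X1, T3, T2, X1, T0, T2] [X14]) (nat_lit 756) (nat_lit 63) = true := by decide +kernel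
theorem wk7_13 : allR (OT.ckEqW [X12, X10, X6, X9, X6, X6, X9, X6, X6, X9, X6, X9, X5, X3, X5, X3, X5, X2, X5, X3, X1, X1, T3, T2, X1, T0, T2] [X14]) (nat_lit 819) (nat_lit 63) = true := by decide +kernel
theorem wk7_14 : allR (OT.ckEqW [X12, X10, X6, X9, X6, X6, X9, X6, X6, X9, X6, X9, X5, X3, X5, X3, X5, X2, X5, X3, X1, X1, T3, T2, X1, T0, T2] [X14]) (nat_lit 882) (nat_lit 63) = true := by decide +kernel
theorem wk7_15 : allR (OT.ckEqW [X12, X10, X6, X9, X6, X6, X9, X6, X6, X9, X6, X9, X5, X3, X5, X3, X5, X2, X5, X3, X1, X1, T3, T2, X1, T0, T2] [X14]) (nat_lit 945) (nat_lit 63) = true := by decide +kernel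
theorem wk7_16 : allR (OT.ckEqW [X12, X10, X6, X9, X6, X6, X9, X6, X6, X9, X6, X9, X5, X3, X5, X3, X5, X2, X5, X3, X1, X1, T3, T2, X1, T0, T2] [X14]) (nat_lit 1008) (nat_lit 63) = true := by decide +kernel
theorem wk7_17 : allR (OT.ckEqW [X12, X10, X6, X9, X6, X6, X9, X6, X6, X9, X6, X9, X5, X3, X5, X3, X5, X2, X5, X3, X1, X1, T3, T2, X1, T0, T2] [X14]) (nat_lit 1071) (nat_lit 63) = true := by decide +kernel
theorem wk7_18 : allR (OT.ckEqW [X12, X10, X6, X9, X6, X6, X9, X6, X6, X9, X6, X9, X5, X3, X5, X3, X5, X2, X5, X3, X1, X1, T3, T2, X1, T0, T2] [X14]) (nat_lit 1134) (nat_lit 63) = true := by decide +kernel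
theorem wk7_19 : allR (OT.ckEqW [X12, X10, X6, X9, X6, X6, X9, X6, X6, X9, X6, X9, X5, X3, X5, X3, X5, X2, X5, X3, X1, X1, T3, T2, X1, T0, T2] [X14]) (nat_lit 1197) (nat_lit 63) = true := by decide +kernel
theorem wk7_20 : allR (OT.ckEqW [X12, X10, X6, X9, X6, X6, X9, X6, X6, X9, X6, X9, X5, X3, X5, X3, X5, X2, X5, X3, X1, X1, T3, T2, X1, T0, T2] [X14]) (nat_lit 1260) (nat_lit 63) = true := by decide +kernel
theorem wk7_21 : allR (OT.ckEqW [X12, X10, X6, X9, X6, X6, X9, X6, X6, X9, X6, X9, X5, X3, X5, X3, X5, X2, X5, X3, X1, X1, T3, T2, X1, T0, T2] [X14]) (nat_lit 1323) (nat_lit 63) = true := by decide +kernel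
theorem wk7_22 : allR (OT.ckEqW [X12, X10, X6, X9, X6, X6, X9, X6, X6, X9, X6, X9, X5, X3, X5, X3, X5, X2, X5, X3, X1, X1, T3, T2, X1, T0, T2] [X14]) (nat_lit 1386) (nat_lit 63) = true := by decide +kernel
theorem wk7_23 : allR (OT.ckEqW [X12, X10, X6, X9, X6, X6, X9, X6, X6, X9, X6, X9, X5, X3, X5, X3, X5, X2, X5, X3, X1, X1, T3, T2, X1, T0, T2] [X14]) (nat_lit 1449) (nat_lit 63) = true := by decide +kernel
theorem wk7_24 : allR (OT.ckEqW [X12, X10, X6, X9, X6, X6, X9, X6, X6, X9, X6, X9, X5, X3, X5, X3, X5, X2, X5, X3, X1, X1, T3, T2, X1, T0, T2] [X14]) (nat_lit 1512) (nat_lit 63) = true := by decide +kernel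
theorem wk7_25 : allR (OT.ckEqW [X12, X10, X6, X9, X6, X6, X9, X6, X6, X9, X6, X9, X5, X3, X5, X3, X5, X2, X5, X3, X1, X1, T3, T2, X1, T0, T2] [X14]) (nat_lit 1575) (nat_lit 63) = true := by decide +kernel
theorem wk7_26 : allR (OT.ckEqW [X12, X10, X6, X9, X6, X6, X9, X6, X6, X9, X6, X9, X5, X3, X5, X3, X5, X2, X5, X3, X1, X1, T3, T2, X1, T0, T2] [X14]) (nat_lit 1638) (nat_lit 63) = true := by decide +kernel
theorem wk7_27 : allR (OT.ckEqW [X12, X10, X6, X9, X6, X6, X9, X6, X6, X9, X6, X9, X5, X3, X5, X3, X5, X2, X5, X3, X1, X1, T3, T2, X1, T0, T2] [X14]) (nat_lit 1701) (nat_lit 63) = true := by decide +kernel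
theorem wk7_28 : allR (OT.ckEqW [X12, X10, X6, X9, X6, X6, X9, X6, X6, X9, X6, X9, X5, X3, X5, X3, X5, X2, X5, X3, X1, X1, T3, T2, X1, T0, T2] [X14]) (nat_lit 1764) (nat_lit 18) = true := by decide +kernel
theorem wk12_15 : allR (OT.ckEqW [X22, X22, X22, X21, X21, X22, X21, X21, X22, X20, X23, X20, X23, X23] [X24]) (nat_lit 1770) (nat_lit 12) = true := by decide +kernel
theorem wk5_25 : allR (OT.ckEqW [X6, X9, X6, X9, X6, X8, X7, X8, X6, X6, X9, X6, X8, X7, X9, X9, X9, X9, X9, X6, X6, X8, X7, X8] [X10]) (nat_lit 1775) (nat_lit 7) = true := by decide +kernel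
theorem wk13_12 : allR (OT.ckEqW [X22, X20, X22, X20, X22, X21, X21, X23, X21, X22, X21] [X26]) (nat_lit 1776) (nat_lit 6) = true := by decide +kernel
theorem wk21_12 : allR (OT.ckEqW [X37, X39, X37, X37, X37, X39, X36, X39, X37, X38, X37] [X42]) (nat_lit 1776) (nat_lit 6) = true := by decide +kernel
theorem wk11_14 : allR (OT.ckEqW [X17, X0, X16, X14, X17, X14, X1, X14, X1, X1, X17, X15, X17] [X22]) (nat_lit 1778) (nat_lit 4) = true := by decide +kernel
theorem wk0_7 : allR (OT.ckEqW [T1, T2, T3, T4, T6, T5] [X0]) (nat_lit 1778) (nat_lit 4) = true := by decide +kernel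
theorem wk6_7 : allR (OT.ckEqW [X8, X8, X7, X8, X6, X8] [X12]) (nat_lit 1778) (nat_lit 4) = true := by decide +kernel
theorem wk19_7 : allR (OT.ckEqW [X33, X35, X32, X34, X33, X33] [X38]) (nat_lit 1778) (nat_lit 4) = true := by decide +kernel
theorem wk20_7 : allR (OT.ckEqW [X37, X37, X38, X38, X38, X36] [X40]) (nat_lit 1778) (nat_lit 4) = true := by decide +kernel
theorem wk1_10 : allR (OT.ckEqW [T2, T1, T5, T3, T1, T4, X1, T6, X0] [X2]) (nat_lit 1780) (nat_lit 2) = true := by decide +kernel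
theorem wk2_10 : allR (OT.ckEqW [T3, T4, T0, T1, T0, T2, T0, T1, T2] [X4]) (nat_lit 1780) (nat_lit 2) = true := by decide +kernel
theorem wk3_10 : allR (OT.ckEqW [X4, X4, X3, X5, X2, X5, X2, X4, X3] [X6]) (nat_lit 1780) (nat_lit 2) = true := by decide +kernel
theorem wk10_13 : allR (OT.ckEqW [X17, X15, X1, X17, X14, X1, X17, X14, X0, X17, X15, X17] [X20]) (nat_lit 1781) (nat_lit 1) = true := by decide +kernel
theorem wk18_13 : allR (OT.ckEqW [X35, X33, X33, X35, X33, X33, X33, X33, X35, X35, X35, X33] [X36]) (nat_lit 1781) (nat_lit 1) = true := by decide +kernel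
theorem wk4_5 : allR (OT.ckEqW [X4, X2, X2, X5] [X8]) (nat_lit 1780) (nat_lit 2) = true := by decide +kernel

end Cfsg.Agent.H8.SuzO
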