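import Cfsg.Agent.H8.T.TiA

set_option Elab.async false
set_option autoImplicit false
set_option linter.all false
set_option maxRecDepth 100000
set_option maxHeartbeats 400000

namespace Cfsg.Agent.H8.Tits

theorem pk0 : allR (ckPerm (nat_lit 1755) T0 T0) (nat_lit 0) (nat_lit 1755) = true := by decide +kernel
theorem pk1 : allR (ckPerm (nat_lit 1755) T1 T1) (nat_lit 0) (nat_lit 1755) = true := by decide +kernel
theorem pk2 : allR (ckPerm (nat_lit 1755) T2 T3) (nat_lit 0) (nat_lit 1755) = true := by decide +kernel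
theorem pk3 : allR (ckPerm (nat_lit 1755) T3 T2) (nat_lit 0) (nat_lit 1755) = true := by decide +kernel
theorem pk4 : allR (ckPerm (nat_lit 1755) T4 T5) (nat_lit 0) (nat_lit 1755) = true := by decide +kernel
theorem pk5 : allR (ckPerm (nat_lit 1755) T5 T4) (nat_lit 0) (nat_lit 1755) = true := by decide +kernel
theorem pk6 : allR (ckPerm (nat_lit 1755) T6 T7) (nat_lit 0) (nat_lit 1755) = true := by decide +kernel
theorem pk7 : allR (ckPerm (nat_lit 1755) T7 T6) (nat_lit 0) (nat_lit 1755) = true := by decide +kernel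
theorem pk8 : allR (ckPerm (nat_lit 1755) T8 T9) (nat_lit 0) (nat_lit 1755) = true := by decide +kernel
theorem pk9 : allR (ckPerm (nat_lit 1755) T9 T8) (nat_lit 0) (nat_lit 1755) = true := by decide +kernel
theorem pk10 : allR (ckPerm (nat_lit 1755) T10 T11) (nat_lit 0) (nat_lit 1755) = true := by decide +kernel
theorem pk11 : allR (ckPerm (nat_lit 1755) T11 T10) (nat_lit 0) (nat_lit 1755) = true := by decide +kernel
theorem pk12 : allR (ckPerm (nat_lit 1755) T12 T13) (nat_lit 0) (nat_lit 1755) = true := by decide +kernel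
theorem pk13 : allR (ckPerm (nat_lit 1755) T13 T12) (nat_lit 0) (nat_lit 1755) = true := by decide +kernel
theorem pk14 : allR (ckPerm (nat_lit 1755) T14 T15) (nat_lit 0) (nat_lit 1755) = true := by decide +kernel
theorem pk15 : allR (ckPerm (nat_lit 1755) T15 T14) (nat_lit 0) (nat_lit 1755) = true := by decide +kernel
theorem pk16 : allR (ckPerm (nat_lit 1755) T16 T17) (nat_lit 0) (nat_lit 1755) = true := by decide +kernel
theorem pk17 : allR (ckPerm (nat_lit 1755) T17 T16) (nat_lit 0) (nat_lit 1755) = true := by decide +kernel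
theorem wk0 : allR (OT.ckEqW [T0, T1, T0, T2, T4, T3, T5] [T6]) (nat_lit 0) (nat_lit 1755) = true := by decide +kernel
theorem wk1 : allR (OT.ckEqW [T0, T1, T2, T4, T1, T5, T2] [T8]) (nat_lit 0) (nat_lit 1755) = true := by decide +kernel
theorem wk2 : allR (OT.ckEqW [T8, T8, T8, T6, T8, T8, T7, T8, T8] [T10]) (nat_lit 0) (nat_lit 1755) = true := by decide +kernel
theorem wk3 : allR (OT.ckEqW [T7, T7, T8, T8, T8, T8, T6, T8, T8] [T12]) (nat_lit 0) (nat_lit 1755) = true := by decide +kernel
theorem wk4 : allR (OT.ckEqW [T10, T12, T11, T13, T11, T12, T11] [T14]) (nat_lit 0) (nat_lit 1755) = true := by decide +kernel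
theorem wk5 : allR (OT.ckEqW [T12, T12, T11, T13, T13, T11, T12, T12] [T16]) (nat_lit 0) (nat_lit 1755) = true := by decide +kernel
/-- a letter acts on the coded vectors -/
noncomputable def ckVec (C t : Nat → Nat) (i : Nat) : Bool := Nat.beq (appN C (VC i) (nat_lit 52)) (VC (t i))
noncomputable def ckInc (i : Nat) : Bool := band (Nat.ble (Nat.succ (VC i)) (nat_lit 0x10000000000000)) (Nat.ble (Nat.succ (VC i)) (VC (Nat.succ i)))
theorem vA : allR (ckVec CA T0) (nat_lit 0) (nat_lit 1755) = true := by decide +kernel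
theorem vA_ : allR (ckVec CA_ T1) (nat_lit 0) (nat_lit 1755) = true := by decide +kernel
theorem vB : allR (ckVec CB T3) (nat_lit 0) (nat_lit 1755) = true := by decide +kernel
theorem vB_ : allR (ckVec CB_ T5) (nat_lit 0) (nat_lit 1755) = true := by decide +kernel
theorem vinc : allR ckInc (nat_lit 0) (nat_lit 1754) = true := by decide +kernel
theorem vlast : Nat.ble (Nat.succ (VC (nat_lit 1754))) (nat_lit 0x10000000000000) = true := by decide +kernel

end Cfsg.Agent.H8.Tits
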