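import Cfsg.Agent.H8.T.TiR
import Cfsg.Agent.H8.T.TiA

set_option Elab.async false
set_option autoImplicit false
set_option linter.all false
set_option maxRecDepth 100000
set_option maxHeartbeats 400000

namespace Cfsg.Agent.H8.Tits
open Cfsg.Lie Matrix
theorem two_cols : ∀ j < 52, (1 : Mt) *ᵥ dec (2 ^ j) = dec (two j) := fun j _ => by rw [Matrix.one_mulVec]; rfl
theorem qA : ∀ j < 52, ckMul c33 c24 CA j = true := by decide +kernel
theorem mA : ∀ j < 52, (chevF4.x (ZMod 2) 33 1 * chevF4.x (ZMod 2) 24 1) *ᵥ dec (2 ^ j) = dec (CA j) :=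
  mul_cols _ _ _ _ _ r33 r24 l24 qA
theorem qA_ : ∀ j < 52, ckMul c14 c23 CA_ j = true := by decide +kernel
theorem mA_ : ∀ j < 52, (chevF4.x (ZMod 2) 14 1 * chevF4.x (ZMod 2) 23 1) *ᵥ dec (2 ^ j) = dec (CA_ j) :=
  mul_cols _ _ _ _ _ r14 r23 l23 qA_
def uB : ℕ → ℕ := fun j => ([4294967297, 2, 4294967300, 4831838216, 16, 736, 64, 128, 768, 512, 1024, 10240, 45056, 8192, 147456, 32768, 458752, 131072, 262144, 139984896, 1048576, 555745280, 4194304, 4320133122, 16777216, 167772160, 24226299908, 134217728, 78651588608, 536870912, 1073741824, 6442450944, 4294967296, 8589934592, 17179869184, 103079215104, 68719476736, 687194767360, 3023656976384, 549755813888, 9895604649984, 2199023255552, 30786325577728, 8796093022208, 17592186044416, 35184372088832, 1618481116086272, 140737488355328, 281474976710656, 1688849860263936, 1125899906842624, 2251799813685248] : List ℕ).getD j 0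
theorem tB : ∀ j < 52, ckMul c25 c28 uB j = true := by decide +kernel
theorem qB : ∀ j < 52, ckMul c27 uB CB j = true := by decide +kernel
theorem mB : ∀ j < 52, (chevF4.x (ZMod 2) 27 1 * (chevF4.x (ZMod 2) 25 1 * chevF4.x (ZMod 2) 28 1)) *ᵥ dec (2 ^ j) = dec (CB j) :=
  mul_cols _ _ _ _ _ r27 (mul_cols _ _ _ _ _ r25 r28 l28 tB) (by decide +kernel) qB
def uB_ : ℕ → ℕ := fun j => ([8388609, 2, 8388612, 75497480, 16, 32, 96, 128, 256, 928, 1024, 2048, 4096, 14336, 16384, 36864, 65536, 212992, 327680, 524288, 1572864, 2097152, 4194304, 8388608, 25165824, 33554432, 67108864, 172490752, 268435456, 631242756, 1342177280, 2147483648, 6450839554, 8589934592, 19394461696, 34359738368, 111937585152, 137438953472, 274877906944, 962072674304, 1099511627776, 2473901162496, 4398046511104, 14293651161088, 21990232555520, 35184372088832, 70368744177664, 211106232532992, 281474976710656, 562949953421312, 2040693581152256, 2251799813685248] : List ℕ).getD j 0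
theorem tB_ : ∀ j < 52, ckMul c22 c19 uB_ j = true := by decide +kernel
theorem qB_ : ∀ j < 52, ckMul c20 uB_ CB_ j = true := by decide +kernel
theorem mB_ : ∀ j < 52, (chevF4.x (ZMod 2) 20 1 * (chevF4.x (ZMod 2) 22 1 * chevF4.x (ZMod 2) 19 1)) *ᵥ dec (2 ^ j) = dec (CB_ j) :=
  mul_cols _ _ _ _ _ r20 (mul_cols _ _ _ _ _ r22 r19 l19 tB_) (by decide +kernel) qB_
theorem qB2 : ∀ j < 52, ckMul c28 c30 CB2 j = true := by decide +kernel
theorem mB2 : ∀ j < 52, (chevF4.x (ZMod 2) 28 1 * chevF4.x (ZMod 2) 30 1) *ᵥ dec (2 ^ j) = dec (CB2 j) :=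
  mul_cols _ _ _ _ _ r28 r30 l30 qB2
theorem qB2_ : ∀ j < 52, ckMul c19 c17 CB2_ j = true := by decide +kernel
theorem mB2_ : ∀ j < 52, (chevF4.x (ZMod 2) 19 1 * chevF4.x (ZMod 2) 17 1) *ᵥ dec (2 ^ j) = dec (CB2_ j) :=
  mul_cols _ _ _ _ _ r19 r17 l17 qB2_
def uB3 : ℕ → ℕ := fun j => ([1, 2, 4, 17716740104, 16, 864, 576, 128, 768, 512, 1024, 34816, 12288, 8192, 278528, 32768, 196608, 131072, 262144, 169345024, 135266304, 17181966342, 4194304, 6467616768, 4311744512, 167772160, 603979780, 134217728, 104421392384, 536870912, 69793218560, 6442450944, 4294967296, 8589934592, 17179869184, 103079215104, 68719476736, 2336462209024, 824633720832, 549755813888, 18691697672192, 2199023255552, 13194139533312, 8796093022208, 17592186044416, 35184372088832, 1899956092796928, 1266637395197952, 281474976710656, 1688849860263936, 1125899906842624, 2251799813685248] : List ℕ).getD j 0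
theorem tB3 : ∀ j < 52, ckMul c25 c30 uB3 j = true := by decide +kernel
theorem qB3 : ∀ j < 52, ckMul c27 uB3 CB3 j = true := by decide +kernel
theorem mB3 : ∀ j < 52, (chevF4.x (ZMod 2) 27 1 * (chevF4.x (ZMod 2) 25 1 * chevF4.x (ZMod 2) 30 1)) *ᵥ dec (2 ^ j) = dec (CB3 j) :=
  mul_cols _ _ _ _ _ r27 (mul_cols _ _ _ _ _ r25 r30 l30 tB3) (by decide +kernel) qB3
def uB3_ : ℕ → ℕ := fun j => ([1, 2, 4, 69206024, 16, 32, 96, 128, 288, 864, 1024, 2048, 4096, 12288, 16384, 34816, 65536, 196608, 278528, 524288, 1572864, 2097152, 4194304, 8388608, 25165824, 34078720, 67108864, 169345024, 268435456, 603979780, 1342177280, 2155872256, 6467616768, 8589934592, 17181966342, 34628173824, 104421392384, 137438953472, 274877906944, 824633720832, 1099511627776, 2336462209024, 4398046511104, 13194139533312, 18691697672192, 35184372088832, 70368744177664, 211106232532992, 281474976710656, 633318697598976, 1899956092796928, 2251799813685248] : List ℕ).getD j 0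
theorem tB3_ : ∀ j < 52, ckMul c22 c17 uB3_ j = true := by decide +kernel
theorem qB3_ : ∀ j < 52, ckMul c20 uB3_ CB3_ j = true := by decide +kernel
theorem mB3_ : ∀ j < 52, (chevF4.x (ZMod 2) 20 1 * (chevF4.x (ZMod 2) 22 1 * chevF4.x (ZMod 2) 17 1)) *ᵥ dec (2 ^ j) = dec (CB3_ j) :=
  mul_cols _ _ _ _ _ r20 (mul_cols _ _ _ _ _ r22 r17 l17 tB3_) (by decide +kernel) qB3_
theorem eAA : ∀ j < 52, ckMul CA CA two j = true := by decide +kernel
theorem eAA_ : ∀ j < 52, ckMul CA_ CA_ two j = true := by decide +kernel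
theorem eBB : ∀ j < 52, ckMul CB CB CB2 j = true := by decide +kernel
theorem eBB_ : ∀ j < 52, ckMul CB_ CB_ CB2_ j = true := by decide +kernel
theorem eB3 : ∀ j < 52, ckMul CB2 CB CB3 j = true := by decide +kernel
theorem eB3_ : ∀ j < 52, ckMul CB2_ CB_ CB3_ j = true := by decide +kernel
theorem eB4 : ∀ j < 52, ckMul CB CB3 two j = true := by decide +kernel
theorem eB4_ : ∀ j < 52, ckMul CB_ CB3_ two j = true := by decide +kernel
theorem eB5 : ∀ j < 52, ckMul CB3 CB two j = true := by decide +kernel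
theorem eB5_ : ∀ j < 52, ckMul CB3_ CB_ two j = true := by decide +kernel
theorem lCA : ∀ j < 52, CA j < 2 ^ 52 := by decide +kernel
theorem lCA_ : ∀ j < 52, CA_ j < 2 ^ 52 := by decide +kernel
theorem lCB : ∀ j < 52, CB j < 2 ^ 52 := by decide +kernel
theorem lCB_ : ∀ j < 52, CB_ j < 2 ^ 52 := by decide +kernel
theorem lCB2 : ∀ j < 52, CB2 j < 2 ^ 52 := by decide +kernel
theorem lCB3 : ∀ j < 52, CB3 j < 2 ^ 52 := by decide +kernel
theorem lCB2_ : ∀ j < 52, CB2_ j < 2 ^ 52 := by decide +kernel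
theorem lCB3_ : ∀ j < 52, CB3_ j < 2 ^ 52 := by decide +kernel

end Cfsg.Agent.H8.Tits
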