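import Cfsg.Agent.H8.T.Fi22btO
import Cfsg.Agent.H8.F4Vec

set_option autoImplicit false
set_option linter.all false
set_option maxRecDepth 100000

namespace Cfsg.Agent.H8.U6t
open Cfsg.Agent.H8.Fi22bt

noncomputable def vcc0 : Nat := nat_lit 0x7d0b50000000075000000000000000000000000000000d0de05e55050d7dee55e5e50900000000000000000000000000000a0db050d0be5d00000000000000000000000505f90500000000000000000690000000000990000000000000000000
noncomputable def vcc1 : Nat := nat_lit 0xf69aadddd5b50adad0000979000000000000f6ddd5000000000000000aa5000000000000000000000000099dad5557ddbb50090dd055dd055000009d000000000000ad500000000000000000000000000000070d7adb55eb577da7d0b5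
noncomputable def vcc2 : Nat := nat_lit 0x32922996d0f50a5000000000000000000000000cc96fd7057a5000000000000000000000000000000000000669ff9add0e5090000679000000000000000c2966d7d5000000000000000000ffdda5000000000000000000000000
noncomputable def vcc3 : Nat := nat_lit 0xf99f99090005d96e9000000000000000000429ab9829e4405d0fd9650000000000000000000000000000003c92c990d9fd065d050d50000000000000000000000000000000000000000009696f907d000f79fe9000
noncomputable def vcc4 : Nat := nat_lit 0x696095a9c499e9000000000000000000000000bd9db9129f59b44781934ebd6650000000000000000000000000000000000000004c9a598c9799e340bd60df95a0506d9f5a75000000000000000000000000000000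
noncomputable def vcc5 : Nat := nat_lit 0xba92497b9ed96590005442d4d81634e11bbdf65000000000000000000000000000000000000000000000000000e69d591c9fb9d99b347114945edf0d695944e5d6f5f9d605d75000000000000000000000000000000000000000000000
noncomputable def vcc6 : Nat := nat_lit 0x759b696b9000a99ae95342a4d111948e1394bed995644e81b5dff53e4b0d90569df05775000000000000000000000000000000000000000000000000000000000000000000000000000000000000f09f99c390ed349000000000000000000000
noncomputable def vcc7 : Nat := nat_lit 0x699000339000000000000000000000000000000000239041849ea99a9959000000014cd4000a81361f348d4b114495bd095000000000000000000000000000000000000000000000000000000000000000000ef97f9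
noncomputable def vcc8 : Nat := nat_lit 0x769031df9bf9c199b9000000569de9000ac4ca4000a113f18948042e1c941e1eedf448a4b8143955dce4171e0d4e450d99d000000000000000000000000000000000000000000000000000000000000000000000000000000000
noncomputable def vcc9 : Nat := nat_lit 0x59990000000000000000000000000000000000000000008399d97316a90000000000849843d40000000214610000c41d4000511c61149000000000000000000000000000000000000000000000000000000000000000000000000000
noncomputable def vcc10 : Nat := nat_lit 0x3a4000000f414f1000dc4104000ce1c012942744e1ee9a141a4000581cf11392e4204471e991e4871779000000000000000000000000000000000000000000000000000000000000000000000000000000000000000000000000000000000000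
noncomputable def vcc11 : Nat := nat_lit 0x161000000e244d4000000261000fa9000000000000000000000000000000000000000000000000000000000000000000000000000000000000000000000000000000000000000024fc1d69af9c897413190000000005f92197e9000000a24354
noncomputable def vcc12 : Nat := nat_lit 0xb998e4874271d7900000000000000000000000000000000000000000000000000000000000000000000000000000000000000000000000000000000d0000000000000000000000000000006d9000000000000000914d316840000000000c1ec1
noncomputable def vcc13 : Nat := nat_lit 0x6c1a69ec48b13894190000000000000002899ed8190000000003b4d41c54000000000f311a11f1000000d244544040000006412010007c4c740003e1391be9a844f44a4000000f212f1000fd9d14c04000371301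
noncomputable def vcc14 : Nat := nat_lit 0x614000000000000000000e21f84bc1000000000a31b24000000000861000000000000000000000000000000000000000000000000000000000000000000000000000000000000000000000000000000000000000000000
noncomputable def vcc15 : Nat := nat_lit 0x3740000009414910005e9509464a411f40000000008518f1000000000d843f4304000000621401000599579714174000c71c91a79a09000000000000000000000000000000000000000000000000000000000000000000000000000000000000
noncomputable def vcc16 : Nat := nat_lit 0x9c11b148900000000000000000000079534d889119000000000000000000bc42b1cb42540000000000000000001d1f144a10000000004b46ed1540000000006318a1801000000724924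
noncomputable def vcc17 : Nat := nat_lit 0xb210000000000005c1524000000000000000000000000000000000000000000000000000000000000000000000000000000000000000000000000000000000000000000000
noncomputable def vcc18 : Nat := nat_lit 0x9c4f7d624000000000931e311910000b9b095c4f111648f4000000000000000000251000000000000364fedcf4000000000151101000000b79000784e844740000009212910000d9d09000000000000000000000000000000000000000
noncomputable def vcc19 : Nat := nat_lit 0x7214b10000000000000000002c533d44d189000000000000000000000000000000cb12b4000000000000000000000000000000521a444d13a1000000000000000000d95c4d1b48540000000000000000008d159d2a1000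
noncomputable def vcc20 : Nat := nat_lit 0x0
noncomputable def vcc21 : Nat := nat_lit 0xe41b7db31000000059e59e09a34f81611864000000000000000000000000000000c51000000000000a95abdc642f4000000000000000000b9d451000000000e79000000e1467db840000000007c18910000a97a9709000000000
noncomputable def vcc22 : Nat := nat_lit 0x225cc514d43d0000000000000000000000000000000000000000000003b1000000000000000000d443d10000000000000008c5c3d24d8b4000000000000000000000000000000f75a6d2d1ca1000000000000000000ae55dd6c4f24000000
noncomputable def vcc23 : Nat := nat_lit 0x57ddc10000007d997dda9000000000000000000000000000000000000000000000000000000000000000000000000000000000000000000000000000000000000000000000000000000000000000000000000000d21000000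
noncomputable def vcc24 : Nat := nat_lit 0x6e548db41531000000000000eb9e7db59911681d34000000000000000000000000000000000565a5ddbd26400000000000000000000000000000067513d351000000000000000e9d000000de532db14584000
noncomputable def vcc25 : Nat := nat_lit 0xa210000000000000000000000008251c584d23d7440000000000000000000000000000000000000000000000005d5afdd6dcd1000000000000000000000000000fb55adbddfc4000
noncomputable def vcc26 : Nat := nat_lit 0x514000000000000000000000000000000fe5fddac10000000007e5c2ddd9aa90000000000000000000000000000000000000000000000000000000000000000000000000000000000000000000000000000000000000003c5fadc25000000000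
noncomputable def vcc27 : Nat := nat_lit 0xc4541d38d5410000000000000000009e518dbb95590819810000000000000000000000005f5b657bdd5d73400000000000000000000000000000000000000000000000032583d0000000000000000000000009750000000002153cd42d
noncomputable def vcc28 : Nat := nat_lit 0x4c56ad1250000000000000000000000000000000000000000000000000000000000000000005a5bd576ddfd000000000000000000000000000000000000000000000f556b5eddbad034000000000000000000000000000000000000000000
noncomputable def vcc29 : Nat := nat_lit 0x815ccd22dad9000000000000000000000000000000000000000000000000000000000000000000000000000000000000000000a55000000000000000000000000000000000000000000000000000000000000000000000000000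
noncomputable def vcc30 : Nat := nat_lit 0x425000000000000000000000000000000000000000000000000285c1512d4cd044000000000000000000000000000000000000000000000000ab56dd000
noncomputable def vcc31 : Nat := nat_lit 0x9b59ad655eadefd000000000000000000000000000000000000000000000000000000000000000000000000c35245c8d31d00000000000000000000000034511d88d5b9000011000000000000000e6595dbf575d7fd000
noncomputable def vcc32 : Nat := nat_lit 0xd55000000000000000000000000000000000000000000000000000000000000000000000000ed5ba5000000000000000000000000000000000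
noncomputable def vcc33 : Nat := nat_lit 0x1cde6d000000000000000000000000000000000000000000000000000000000000000000000000db59dd00000000000000000088511582d2cd000000000000000000000000000000000000079000000000000000000000000000000000000000
noncomputable def vcc34 : Nat := nat_lit 0x7f5000ef59bdea50000000000000000000000000000000000000000000000000000000000000000000000000000000000000000000000000000000000000000000000000000000000000000000000000000000000000e931565dc85
noncomputable def vcc35 : Nat := nat_lit 0x7507550009559a5000000000000000000000000000000000000000000000000000000000000000000000000000000000000000000000000845bfd235c1d00000000000000000000000000033544528d81d000000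
noncomputable def vcc36 : Nat := nat_lit 0x79d000000000000000000000000000000000000000000000000000000000000000000000000000000000000000000000000000000000000000000000000000000000000000000000000000000000000000000000000000000000000
noncomputable def vcc37 : Nat := nat_lit 0xdf50003856bd9d5b6d0000000000000000000000000000000000000000000000000000000000000000000000000000000000000000000000000000000000007b5000000000000000000000415f5d1858cd000000000000000000000000000000
noncomputable def vcc38 : Nat := nat_lit 0x7650000000000000000000000000000000000000000000000000000000000000000000000000000000000000000000000000000000000000000000000000000000000000000000000000000000000000000000000000000007ed650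
noncomputable def vcc39 : Nat := nat_lit 0xed00000009d0000000000000000000000000000000000000000000000000000000000000000000000000000000000000000000000000000000d506a50008350000000000000000000000000001455fd43521d000
noncomputable def vcc40 : Nat := nat_lit 0xe75d9d000000000000000000000000000000000000000000000000000000000000000000000000000000000000000000000000000000000000000000000000000000000000000000000000
noncomputable def vcc41 : Nat := nat_lit 0xbd0d650006d556d000000000000000000000000000000000000000000000000000000000000000000000000000000000000000000000000000000000000000000000000000000000000000950000000000000000000000000f50af5000485fbd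
noncomputable def vcc42 : Nat := nat_lit 0xe95ded310000000
noncomputable def vcc43 : Nat := nat_lit 0x8400000006d0000000000000000000000000000000a50fa5000135000000000
noncomputable def vcc44 : Nat := nat_lit 0x4100000005d0a65000000000000000000000000000000000000000000000b75a9daed000000000000000000000000000000000000000000000000000000000000000000000000000000000000000000000000000000000000000000000
noncomputable def vcc45 : Nat := nat_lit 0xb95000000240000c10fd5000000000000000000000000000000000000000000000000000000000000000000000000000000000000000000000000000000000000000000000000000000000000000000000000000000000000000000000000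
noncomputable def vcc46 : Nat := nat_lit 0x140000fd0000000000000000000000000000000000000000000000000000000000000000000000000000000000000000000000000000000000000000000000000000000000000000000000000000000000000000000000000000000000000
noncomputable def vcc47 : Nat := nat_lit 0x0
noncomputable def vcc48 : Nat := nat_lit 0x110000000c40000000000000000000000000000000000000590575595000000000000000000000000000000000000000
noncomputable def vcc49 : Nat := nat_lit 0xa90000000210000000000000000000000000000000000000000000000000000000000000000000000000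
noncomputable def vcc50 : Nat := nat_lit 0x440000000000000000000000000000000000000000000000000000
noncomputable def vcc51 : Nat := nat_lit 0x810000000340000000000000000000000000b90d90000000000000000000
noncomputable def vcc52 : Nat := nat_lit 0x0
noncomputable def vcc53 : Nat := nat_lit 0xe90790000000000000000000000
noncomputable def vcc54 : Nat := nat_lit 0x0
noncomputable def vc : Nat → Nat := (fun h => @Nat.rec (fun _ => Nat → Nat)
 (fun h => @Nat.rec (fun _ => Nat → Nat)
 (fun h => @Nat.rec (fun _ => Nat → Nat)
 (fun h => @Nat.rec (fun _ => Nat → Nat)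
 (fun h => @Nat.rec (fun _ => Nat → Nat)
 (fun h => @Nat.rec (fun _ => Nat → Nat)
 (fun i => Nat.land (Nat.shiftRight vcc0 (Nat.mul (nat_lit 12) (Nat.land i (nat_lit 63)))) (nat_lit 0xfff))
 (fun _ _ => (fun i => Nat.land (Nat.shiftRight vcc1 (Nat.mul (nat_lit 12) (Nat.land i (nat_lit 63)))) (nat_lit 0xfff))) (Nat.land h (nat_lit 64)) h)
 (fun _ _ => (fun h => @Nat.rec (fun _ => Nat → Nat)
 (fun i => Nat.land (Nat.shiftRight vcc2 (Nat.mul (nat_lit 12) (Nat.land i (nat_lit 63)))) (nat_lit 0xfff))
 (fun _ _ => (fun i => Nat.land (Nat.shiftRight vcc3 (Nat.mul (nat_lit 12) (Nat.land i (nat_lit 63)))) (nat_lit 0xfff))) (Nat.land h (nat_lit 64)) h)) (Nat.land h (nat_lit 128)) h)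
 (fun _ _ => (fun h => @Nat.rec (fun _ => Nat → Nat)
 (fun h => @Nat.rec (fun _ => Nat → Nat)
 (fun i => Nat.land (Nat.shiftRight vcc4 (Nat.mul (nat_lit 12) (Nat.land i (nat_lit 63)))) (nat_lit 0xfff))
 (fun _ _ => (fun i => Nat.land (Nat.shiftRight vcc5 (Nat.mul (nat_lit 12) (Nat.land i (nat_lit 63)))) (nat_lit 0xfff))) (Nat.land h (nat_lit 64)) h)
 (fun _ _ => (fun h => @Nat.rec (fun _ => Nat → Nat)
 (fun i => Nat.land (Nat.shiftRight vcc6 (Nat.mul (nat_lit 12) (Nat.land i (nat_lit 63)))) (nat_lit 0xfff))
 (fun _ _ => (fun i => Nat.land (Nat.shiftRight vcc7 (Nat.mul (nat_lit 12) (Nat.land i (nat_lit 63)))) (nat_lit 0xfff))) (Nat.land h (nat_lit 64)) h)) (Nat.land h (nat_lit 128)) h)) (Nat.land h (nat_lit 256)) h)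
 (fun _ _ => (fun h => @Nat.rec (fun _ => Nat → Nat)
 (fun h => @Nat.rec (fun _ => Nat → Nat)
 (fun h => @Nat.rec (fun _ => Nat → Nat)
 (fun i => Nat.land (Nat.shiftRight vcc8 (Nat.mul (nat_lit 12) (Nat.land i (nat_lit 63)))) (nat_lit 0xfff))
 (fun _ _ => (fun i => Nat.land (Nat.shiftRight vcc9 (Nat.mul (nat_lit 12) (Nat.land i (nat_lit 63)))) (nat_lit 0xfff))) (Nat.land h (nat_lit 64)) h)
 (fun _ _ => (fun h => @Nat.rec (fun _ => Nat → Nat)
 (fun i => Nat.land (Nat.shiftRight vcc10 (Nat.mul (nat_lit 12) (Nat.land i (nat_lit 63)))) (nat_lit 0xfff))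
 (fun _ _ => (fun i => Nat.land (Nat.shiftRight vcc11 (Nat.mul (nat_lit 12) (Nat.land i (nat_lit 63)))) (nat_lit 0xfff))) (Nat.land h (nat_lit 64)) h)) (Nat.land h (nat_lit 128)) h)
 (fun _ _ => (fun h => @Nat.rec (fun _ => Nat → Nat)
 (fun h => @Nat.rec (fun _ => Nat → Nat)
 (fun i => Nat.land (Nat.shiftRight vcc12 (Nat.mul (nat_lit 12) (Nat.land i (nat_lit 63)))) (nat_lit 0xfff))
 (fun _ _ => (fun i => Nat.land (Nat.shiftRight vcc13 (Nat.mul (nat_lit 12) (Nat.land i (nat_lit 63)))) (nat_lit 0xfff))) (Nat.land h (nat_lit 64)) h)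
 (fun _ _ => (fun h => @Nat.rec (fun _ => Nat → Nat)
 (fun i => Nat.land (Nat.shiftRight vcc14 (Nat.mul (nat_lit 12) (Nat.land i (nat_lit 63)))) (nat_lit 0xfff))
 (fun _ _ => (fun i => Nat.land (Nat.shiftRight vcc15 (Nat.mul (nat_lit 12) (Nat.land i (nat_lit 63)))) (nat_lit 0xfff))) (Nat.land h (nat_lit 64)) h)) (Nat.land h (nat_lit 128)) h)) (Nat.land h (nat_lit 256)) h)) (Nat.land h (nat_lit 512)) h)
 (fun _ _ => (fun h => @Nat.rec (fun _ => Nat → Nat)
 (fun h => @Nat.rec (fun _ => Nat → Nat)
 (fun h => @Nat.rec (fun _ => Nat → Nat)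
 (fun h => @Nat.rec (fun _ => Nat → Nat)
 (fun i => Nat.land (Nat.shiftRight vcc16 (Nat.mul (nat_lit 12) (Nat.land i (nat_lit 63)))) (nat_lit 0xfff))
 (fun _ _ => (fun i => Nat.land (Nat.shiftRight vcc17 (Nat.mul (nat_lit 12) (Nat.land i (nat_lit 63)))) (nat_lit 0xfff))) (Nat.land h (nat_lit 64)) h)
 (fun _ _ => (fun h => @Nat.rec (fun _ => Nat → Nat)
 (fun i => Nat.land (Nat.shiftRight vcc18 (Nat.mul (nat_lit 12) (Nat.land i (nat_lit 63)))) (nat_lit 0xfff))
 (fun _ _ => (fun i => Nat.land (Nat.shiftRight vcc19 (Nat.mul (nat_lit 12) (Nat.land i (nat_lit 63)))) (nat_lit 0xfff))) (Nat.land h (nat_lit 64)) h)) (Nat.land h (nat_lit 128)) h)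
 (fun _ _ => (fun h => @Nat.rec (fun _ => Nat → Nat)
 (fun h => @Nat.rec (fun _ => Nat → Nat)
 (fun i => Nat.land (Nat.shiftRight vcc20 (Nat.mul (nat_lit 12) (Nat.land i (nat_lit 63)))) (nat_lit 0xfff))
 (fun _ _ => (fun i => Nat.land (Nat.shiftRight vcc21 (Nat.mul (nat_lit 12) (Nat.land i (nat_lit 63)))) (nat_lit 0xfff))) (Nat.land h (nat_lit 64)) h)
 (fun _ _ => (fun h => @Nat.rec (fun _ => Nat → Nat)
 (fun i => Nat.land (Nat.shiftRight vcc22 (Nat.mul (nat_lit 12) (Nat.land i (nat_lit 63)))) (nat_lit 0xfff))
 (fun _ _ => (fun i => Nat.land (Nat.shiftRight vcc23 (Nat.mul (nat_lit 12) (Nat.land i (nat_lit 63)))) (nat_lit 0xfff))) (Nat.land h (nat_lit 64)) h)) (Nat.land h (nat_lit 128)) h)) (Nat.land h (nat_lit 256)) h)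
 (fun _ _ => (fun h => @Nat.rec (fun _ => Nat → Nat)
 (fun h => @Nat.rec (fun _ => Nat → Nat)
 (fun h => @Nat.rec (fun _ => Nat → Nat)
 (fun i => Nat.land (Nat.shiftRight vcc24 (Nat.mul (nat_lit 12) (Nat.land i (nat_lit 63)))) (nat_lit 0xfff))
 (fun _ _ => (fun i => Nat.land (Nat.shiftRight vcc25 (Nat.mul (nat_lit 12) (Nat.land i (nat_lit 63)))) (nat_lit 0xfff))) (Nat.land h (nat_lit 64)) h)
 (fun _ _ => (fun h => @Nat.rec (fun _ => Nat → Nat)
 (fun i => Nat.land (Nat.shiftRight vcc26 (Nat.mul (nat_lit 12) (Nat.land i (nat_lit 63)))) (nat_lit 0xfff))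
 (fun _ _ => (fun i => Nat.land (Nat.shiftRight vcc27 (Nat.mul (nat_lit 12) (Nat.land i (nat_lit 63)))) (nat_lit 0xfff))) (Nat.land h (nat_lit 64)) h)) (Nat.land h (nat_lit 128)) h)
 (fun _ _ => (fun h => @Nat.rec (fun _ => Nat → Nat)
 (fun h => @Nat.rec (fun _ => Nat → Nat)
 (fun i => Nat.land (Nat.shiftRight vcc28 (Nat.mul (nat_lit 12) (Nat.land i (nat_lit 63)))) (nat_lit 0xfff))
 (fun _ _ => (fun i => Nat.land (Nat.shiftRight vcc29 (Nat.mul (nat_lit 12) (Nat.land i (nat_lit 63)))) (nat_lit 0xfff))) (Nat.land h (nat_lit 64)) h)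
 (fun _ _ => (fun h => @Nat.rec (fun _ => Nat → Nat)
 (fun i => Nat.land (Nat.shiftRight vcc30 (Nat.mul (nat_lit 12) (Nat.land i (nat_lit 63)))) (nat_lit 0xfff))
 (fun _ _ => (fun i => Nat.land (Nat.shiftRight vcc31 (Nat.mul (nat_lit 12) (Nat.land i (nat_lit 63)))) (nat_lit 0xfff))) (Nat.land h (nat_lit 64)) h)) (Nat.land h (nat_lit 128)) h)) (Nat.land h (nat_lit 256)) h)) (Nat.land h (nat_lit 512)) h)) (Nat.land h (nat_lit 0x400)) h)
 (fun _ _ => (fun h => @Nat.rec (fun _ => Nat → Nat)
 (fun h => @Nat.rec (fun _ => Nat → Nat)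
 (fun h => @Nat.rec (fun _ => Nat → Nat)
 (fun h => @Nat.rec (fun _ => Nat → Nat)
 (fun h => @Nat.rec (fun _ => Nat → Nat)
 (fun i => Nat.land (Nat.shiftRight vcc32 (Nat.mul (nat_lit 12) (Nat.land i (nat_lit 63)))) (nat_lit 0xfff))
 (fun _ _ => (fun i => Nat.land (Nat.shiftRight vcc33 (Nat.mul (nat_lit 12) (Nat.land i (nat_lit 63)))) (nat_lit 0xfff))) (Nat.land h (nat_lit 64)) h)
 (fun _ _ => (fun h => @Nat.rec (fun _ => Nat → Nat)
 (fun i => Nat.land (Nat.shiftRight vcc34 (Nat.mul (nat_lit 12) (Nat.land i (nat_lit 63)))) (nat_lit 0xfff))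
 (fun _ _ => (fun i => Nat.land (Nat.shiftRight vcc35 (Nat.mul (nat_lit 12) (Nat.land i (nat_lit 63)))) (nat_lit 0xfff))) (Nat.land h (nat_lit 64)) h)) (Nat.land h (nat_lit 128)) h)
 (fun _ _ => (fun h => @Nat.rec (fun _ => Nat → Nat)
 (fun h => @Nat.rec (fun _ => Nat → Nat)
 (fun i => Nat.land (Nat.shiftRight vcc36 (Nat.mul (nat_lit 12) (Nat.land i (nat_lit 63)))) (nat_lit 0xfff))
 (fun _ _ => (fun i => Nat.land (Nat.shiftRight vcc37 (Nat.mul (nat_lit 12) (Nat.land i (nat_lit 63)))) (nat_lit 0xfff))) (Nat.land h (nat_lit 64)) h)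
 (fun _ _ => (fun h => @Nat.rec (fun _ => Nat → Nat)
 (fun i => Nat.land (Nat.shiftRight vcc38 (Nat.mul (nat_lit 12) (Nat.land i (nat_lit 63)))) (nat_lit 0xfff))
 (fun _ _ => (fun i => Nat.land (Nat.shiftRight vcc39 (Nat.mul (nat_lit 12) (Nat.land i (nat_lit 63)))) (nat_lit 0xfff))) (Nat.land h (nat_lit 64)) h)) (Nat.land h (nat_lit 128)) h)) (Nat.land h (nat_lit 256)) h)
 (fun _ _ => (fun h => @Nat.rec (fun _ => Nat → Nat)
 (fun h => @Nat.rec (fun _ => Nat → Nat)
 (fun h => @Nat.rec (fun _ => Nat → Nat)
 (fun i => Nat.land (Nat.shiftRight vcc40 (Nat.mul (nat_lit 12) (Nat.land i (nat_lit 63)))) (nat_lit 0xfff))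
 (fun _ _ => (fun i => Nat.land (Nat.shiftRight vcc41 (Nat.mul (nat_lit 12) (Nat.land i (nat_lit 63)))) (nat_lit 0xfff))) (Nat.land h (nat_lit 64)) h)
 (fun _ _ => (fun h => @Nat.rec (fun _ => Nat → Nat)
 (fun i => Nat.land (Nat.shiftRight vcc42 (Nat.mul (nat_lit 12) (Nat.land i (nat_lit 63)))) (nat_lit 0xfff))
 (fun _ _ => (fun i => Nat.land (Nat.shiftRight vcc43 (Nat.mul (nat_lit 12) (Nat.land i (nat_lit 63)))) (nat_lit 0xfff))) (Nat.land h (nat_lit 64)) h)) (Nat.land h (nat_lit 128)) h)
 (fun _ _ => (fun h => @Nat.rec (fun _ => Nat → Nat)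
 (fun h => @Nat.rec (fun _ => Nat → Nat)
 (fun i => Nat.land (Nat.shiftRight vcc44 (Nat.mul (nat_lit 12) (Nat.land i (nat_lit 63)))) (nat_lit 0xfff))
 (fun _ _ => (fun i => Nat.land (Nat.shiftRight vcc45 (Nat.mul (nat_lit 12) (Nat.land i (nat_lit 63)))) (nat_lit 0xfff))) (Nat.land h (nat_lit 64)) h)
 (fun _ _ => (fun h => @Nat.rec (fun _ => Nat → Nat)
 (fun i => Nat.land (Nat.shiftRight vcc46 (Nat.mul (nat_lit 12) (Nat.land i (nat_lit 63)))) (nat_lit 0xfff))
 (fun _ _ => (fun i => Nat.land (Nat.shiftRight vcc47 (Nat.mul (nat_lit 12) (Nat.land i (nat_lit 63)))) (nat_lit 0xfff))) (Nat.land h (nat_lit 64)) h)) (Nat.land h (nat_lit 128)) h)) (Nat.land h (nat_lit 256)) h)) (Nat.land h (nat_lit 512)) h)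
 (fun _ _ => (fun h => @Nat.rec (fun _ => Nat → Nat)
 (fun h => @Nat.rec (fun _ => Nat → Nat)
 (fun h => @Nat.rec (fun _ => Nat → Nat)
 (fun i => Nat.land (Nat.shiftRight vcc48 (Nat.mul (nat_lit 12) (Nat.land i (nat_lit 63)))) (nat_lit 0xfff))
 (fun _ _ => (fun i => Nat.land (Nat.shiftRight vcc49 (Nat.mul (nat_lit 12) (Nat.land i (nat_lit 63)))) (nat_lit 0xfff))) (Nat.land h (nat_lit 64)) h)
 (fun _ _ => (fun h => @Nat.rec (fun _ => Nat → Nat)
 (fun i => Nat.land (Nat.shiftRight vcc50 (Nat.mul (nat_lit 12) (Nat.land i (nat_lit 63)))) (nat_lit 0xfff))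
 (fun _ _ => (fun i => Nat.land (Nat.shiftRight vcc51 (Nat.mul (nat_lit 12) (Nat.land i (nat_lit 63)))) (nat_lit 0xfff))) (Nat.land h (nat_lit 64)) h)) (Nat.land h (nat_lit 128)) h)
 (fun _ _ => (fun h => @Nat.rec (fun _ => Nat → Nat)
 (fun h => @Nat.rec (fun _ => Nat → Nat)
 (fun i => Nat.land (Nat.shiftRight vcc52 (Nat.mul (nat_lit 12) (Nat.land i (nat_lit 63)))) (nat_lit 0xfff))
 (fun _ _ => (fun i => Nat.land (Nat.shiftRight vcc53 (Nat.mul (nat_lit 12) (Nat.land i (nat_lit 63)))) (nat_lit 0xfff))) (Nat.land h (nat_lit 64)) h)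
 (fun _ _ => (fun i => Nat.land (Nat.shiftRight vcc54 (Nat.mul (nat_lit 12) (Nat.land i (nat_lit 63)))) (nat_lit 0xfff))) (Nat.land h (nat_lit 128)) h)) (Nat.land h (nat_lit 256)) h)) (Nat.land h (nat_lit 0x400)) h)) (Nat.land h (nat_lit 0x800)) h)
noncomputable def ixc0 : Nat := nat_lit 0x1e20000000002d000000000070e7cb26123a00000000000070e0000000001e20000000002d023a7cb2610000000000002d000000000070e0000000001e226123a7cb00027d05c31800031827d05c00005c31827d000000000000000
noncomputable def ixc1 : Nat := nat_lit 0x1d88830c400005609b84d00006118803b00000000000009a04048e10c0001100d51380004b305b0d700000000000001c0b70f80e80000790b85760005450e705a00000000000002d00000000026600000000025e0000000007936ef3011e9000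
noncomputable def ixc2 : Nat := nat_lit 0xd513811000005b0d74b300048e10c04000000000000001c0b85760790000e705a5450000f80e80b700000000000002d09b84d05600018803b0610008830c41d800000000000009a00000000025e0000000007930000000002663011e96ef000
noncomputable def ixc3 : Nat := nat_lit 0x5a5450e70000e80b70f80005760790b800000000000002d03b0611880000c41d888300084d05609b00000000000009a0d74b305b00010c04048e0001381100d500000000000001c00000000079300000000026600000000025e1e96ef301000
noncomputable def ixc4 : Nat := nat_lit 0x6c20bb60e0009c16d02ab0002c5603ac3000000000000c588d02ca7950006638821290001ea7d973c000000000000a825be1f67cf0007798c54230000ba4f085c000000000000c1f0000000002a90000000003ea0000000002b835534049b000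
noncomputable def ixc5 : Nat := nat_lit 0x2b40000000001ad0000000003e149035021f0000000000004e20000000002640000000004af41b5a32ff0000000000001b80000000003eb00000000040a4c122c49c0007970db5bc0008c368525900036c6c19c4000000000000bbe
noncomputable def ixc6 : Nat := nat_lit 0x1760000000004a20000000004cb58d1de42f00000000000055d0000000002c00000000002af34760d35f0000000000002aa0000000003ff0000000001b62293414b50004f11876f200085a7d04ee0000da42594b000000000000cd0
noncomputable def ixc7 : Nat := nat_lit 0x4190000000002bf0000000003f54a74d435e0000000000002b30000000001b40000000002a633c34f22700000000000061a00000000036600000000025d2f85ab4120007db37387f00059b97d15d00017c6fb665000000000000b7b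
noncomputable def ixc8 : Nat := nat_lit 0x8821296630007d973c1ea0002ca7958d0000000000000a828c54237790004f085c0ba0001f67cf5be000000000000c1f6d02ab9c1000603ac32c50000bb60e6c2000000000000c580000000003ea0000000002b80000000002a934049b355000
noncomputable def ixc9 : Nat := nat_lit 0x1b40000000002a60000000002b334f22733c00000000000036600000000025d00000000061a5ab4122f80000000000002bf0000000003f50000000004194d435e4a700097d15d59b0006fb66517c00037387f7db000000000000b7b
noncomputable def ixc10 : Nat := nat_lit 0x2640000000004af0000000004e25a32ff41b0000000000003eb00000000040a0000000001b822c49c4c10000000000001ad0000000003e10000000002b435021f4900006852598c30006c19c436c0000db5bc797000000000000bbe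
noncomputable def ixc11 : Nat := nat_lit 0x2c00000000002af00000000055d60d35f3470000000000003ff0000000001b60000000002aa3414b52290000000000004a20000000004cb0000000001761de42f58d0007d04ee85a00042594b0da0001876f24f1000000000000cd0
noncomputable def ixc12 : Nat := nat_lit 0x85c0ba4f00007cf5be1f60004237798c5000000000000c1fac32c560300060e6c20bb0002ab9c16d0000000000000c5873c1ea7d90007958d02ca000129663882000000000000a820000000002b80000000002a90000000003ea49b355340000
noncomputable def ixc13 : Nat := nat_lit 0x1b60000000002aa0000000003ff4b52293410000000000004cb0000000001760000000004a242f58d1de0000000000002af00000000055d0000000002c035f34760d00094b0da4250006f24f11870004ee85a7d0000000000000cd0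
noncomputable def ixc14 : Nat := nat_lit 0x25d00000000061a0000000003664122f85ab0000000000003f50000000004190000000002bf35e4a74d40000000000002a60000000002b30000000001b422733c34f00066517c6fb00087f7db37300015d59b97d000000000000b7b
noncomputable def ixc15 : Nat := nat_lit 0x40a0000000001b80000000003eb49c4c122c0000000000003e10000000002b40000000001ad21f4903500000000000004af0000000004e20000000002642ff41b5a30009c436c6c10005bc7970db0002598c3685000000000000bbe
noncomputable def ixc16 : Nat := nat_lit 0x77b0925bb0008c268322200036a6ad9c2000000000000cd39ce2376c00006cf7960ec00026d8cf7a8000000000000b796661896fc00085b7dc3720000ea59c94d000000000000b3d00000000022a0000000003430000000003594042b53e6000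
noncomputable def ixc17 : Nat := nat_lit 0x22b0000000002200000000004945472b62a800000000000059a0000000001e10000000003f737464e2600000000000002240000000004a000000000035a4052ac55500085d0ae4ef0007ce5bd1da00042477a8c4000000000000c91
noncomputable def ixc18 : Nat := nat_lit 0x1dc00000000055e00000000040c4c325a4f80000000000004ae00000000036400000000034b3f056541000000000000033e0000000003520000000001581b53df3fb00059d13563500094a6fd42e0001134cca41000000000000c1c
noncomputable def ixc19 : Nat := nat_lit 0x4ca00000000022f00000000034c3f158c2bb00000000000033d00000000022800000000021d2a53de2b200000000000057000000000041a0000000002fb3a74e34d50008d22cc7940006648801150001e87da73e000000000000ad4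
noncomputable def ixc20 : Nat := nat_lit 0x2b00000000005820000000001b922d3486330000000000005730000000004110000000004673ac4b04d70000000000002c10000000001dd0000000006bf66f36025b00010d18b21c00001e1a93f80003dc156012000000000000010
noncomputable def ixc21 : Nat := nat_lit 0x5600c15fa000b286b43e30001bb4a1c0e000000000000c5b782345a7b00055fb782330000eb6b361d000000000000bbc06a09d22100007c1ae6f00006ab08905f00000000000005800000000034d0000000006410000000001771df2cf6fa000
noncomputable def ixc22 : Nat := nat_lit 0x5107d1d900009c1717cd00077807107a000000000000078a431286430006507121360002cd94c725000000000000a445850c24c2000b2758f3e40001ba4bcc0d000000000000c0f0000000002300000000002250000000006016b22bc2ad000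
noncomputable def ixc23 : Nat := nat_lit 0x7592f69c300061cac52c60001146846e5000000000000ac610a18a15700004110e3f90003dd15102a000000000000011b3915c58400058e6440f4000376a40651000000000000b3a0000000004d60000000003b10000000004b13f6572468000
noncomputable def ixc24 : Nat := nat_lit 0x60200000000035b0000000001741db5c240600000000000015a0000000003440000000004bb5791b73e70000000000003ab0000000006290000000003b946d30657100001d48d10f0001ac0d61370004b203015000000000000001a
noncomputable def ixc25 : Nat := nat_lit 0xb7e23254d00055660409800033fa8360f000000000000cc705d6ac09100017207009e0006f107b12300000000000005980b23988100070f97f17900017d7227f700000000000098000000000054c0000000002b90000000001b12235f9356000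
noncomputable def ixc26 : Nat := nat_lit 0x7242ce97c000642a7e1bd00012b64f711000000000000a7f7c315e73d0008d182526a0002386e29d00000000000009d101b33b1aa0001b314f1f800034e02c15500000000000000a00000000041c0000000005a40000000003053b036562a000
noncomputable def ixc27 : Nat := nat_lit 0x445f40ad0001af0880c500062c06015200000000000003eb2915b40b00057a4cd0f3000498a30636000000000000cc66e412a78100097a86530d0001be61ba7c000000000000ad10000000001270000000003ec000000000583634175377000
noncomputable def ixc28 : Nat := nat_lit 0x3070000000002fc0000000006e162b3b226b00000000000012500000000054e0000000004014b71734f90000000000004000000000001110000000003e24914b61590001ab5740460000d902f5430000f621e0ac000000000000028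
noncomputable def ixc29 : Nat := nat_lit 0x1b22b104200021b02b2a400027c2261a80000000000000067f917a7230008b980c23b0002367109bc0000000000009f78f31c17c20007f88ba1bf0001e67f58f60000000000008f70000000002650000000003750000000006626ee3002cb000
noncomputable def ixc30 : Nat := nat_lit 0x97b15f6e30008647c517b00026c87e9550000000000009f410b5750450000d802e5440000f71530ab0000000000000296f355193c00036ba3111200013462d426000000000000d470000000004bd0000000000e900000000049643057b126000
noncomputable def ixc31 : Nat := nat_lit 0x8f41e77c10007c48b81c00001e57f68bc000000000000a4d6c62a79810005f5a842c40000766076ae000000000000d480e662e05e0000b90435f60000c612409000000000000003f0000000001540000000004950000000003533fc1b0548000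
noncomputable def ixc32 : Nat := nat_lit 0x7960ec6cf0008cf7a826d0002376c09ce000000000000b797dc37285b00059c94d0ea0001896fc666000000000000b3d6832228c20006ad9c236a0000925bb77b000000000000cd300000000034300000000035900000000022a2b53e6404000
noncomputable def ixc33 : Nat := nat_lit 0x22800000000021d00000000033d3de2b22a500000000000041a0000000002fb0000000005704e34d53a700000000000022f00000000034c0000000004ca58c2bb3f10008801156640007da73e1e80002cc7948d2000000000000ad4
noncomputable def ixc34 : Nat := nat_lit 0x1e10000000003f700000000059a64e2603740000000000004a000000000035a0000000002242ac55540500000000000022000000000049400000000022b2b62a85470005bd1da7ce00077a8c44240000ae4ef85d000000000000c91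
noncomputable def ixc35 : Nat := nat_lit 0x36400000000034b0000000004ae5654103f000000000000035200000000015800000000033e3df3fb1b500000000000055e00000000040c0000000001dc25a4f84c30006fd42e94a0004cca4111300013563559d000000000000c1c
noncomputable def ixc36 : Nat := nat_lit 0x54e0000000004010000000001251734f94b70000000000001110000000003e20000000004004b61594910000000000002fc0000000006e10000000003073b226b62b00002f5430d900021e0ac0f60005740461ab000000000000028
noncomputable def ixc37 : Nat := nat_lit 0xa842c45f50006076ae0760002a79816c6000000000000d480435f60b90001240900c600062e05e0e600000000000003f8b81c07c40007f68bc1e50001e77c18f4000000000000a4d0000000004950000000003530000000001541b05483fc000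
noncomputable def ixc38 : Nat := nat_lit 0x80c23b8b90007109bc23600017a7237f90000000000009f78ba1bf7f80007f58f61e60001c17c28f30000000000008f702b2a421b0002261a827c0002b10421b20000000000000060000000003750000000006620000000002653002cb6ee000
noncomputable def ixc39 : Nat := nat_lit 0x2e5440d80001530ab0f700057504510b000000000000029a3111236b00062d42613400055193c6f3000000000000d477c517b86400087e95526c00015f6e397b0000000000009f40000000000e90000000004960000000004bd57b126430000
noncomputable def ixc40 : Nat := nat_lit 0x4110000000004670000000005734b04d73ac0000000000001dd0000000006bf0000000002c136025b66f0000000000005820000000001b90000000002b034863322d0001a93f801e0001560123dc00018b21c10d000000000000010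
noncomputable def ixc41 : Nat := nat_lit 0x10e3f904100015102a3dd00018a15710a0000000000000116440f458e000a4065137600015c584b39000000000000b3aac52c661c0006846e51140002f69c3759000000000000ac60000000003b10000000004b10000000004d65724683f6000
noncomputable def ixc42 : Nat := nat_lit 0xb7823355f0006b361d0eb000345a7b782000000000000bbc1ae6f007c00008905f6ab00009d22106a0000000000000586b43e3b280004a1c0e1bb0000c15fa560000000000000c5b00000000064100000000017700000000034d2cf6fa1df000
noncomputable def ixc43 : Nat := nat_lit 0x71213665000094c7252cd000128643a43000000000000a4458f3e4b270004bcc0d1ba0000c24c2585000000000000c0f1717cd09c00007107a77800007d1d90510000000000000780000000002250000000006010000000002302bc2ad6b2000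
noncomputable def ixc44 : Nat := nat_lit 0x3440000000004bb00000000015a1b73e75790000000000006290000000003b90000000003ab30657146d00000000000035b0000000001740000000006025c24061db0000d61371ac0000301504b200048d10f01d00000000000001a
noncomputable def ixc45 : Nat := nat_lit 0x4cd0f357a000a3063649800015b40bb29000000000000cc686530d97a00061ba7c1be00012a7816e4000000000000ad10880c51af00006015262c0005f40ad04400000000000003e0000000003ec000000000583000000000127175377634000
noncomputable def ixc46 : Nat := nat_lit 0x7009e17200007b1236f10006ac09105d00000000000005997f17970f0007227f717d00023988180b000000000000980604098556000a8360f33f00023254db7e000000000000cc70000000002b90000000001b100000000054c5f9356223000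
noncomputable def ixc47 : Nat := nat_lit 0x82526a8d10006e29d023800015e73d7c30000000000009d114f1f81b300002c15534e00033b1aa01b00000000000000aa7e1bd64200064f71112b0002ce97c724000000000000a7f0000000005a400000000030500000000041c36562a3b0000
noncomputable def ixc48 : Nat := nat_lit 0x94d0ea59c0006fc66618900037285b7dc000000000000b3d9c236a6ad0005bb77b0920002228c2683000000000000cd37a826d8cf0006c09ce2370000ec6cf796000000000000b7900000000035900000000022a0000000003433e64042b5000
noncomputable def ixc49 : Nat := nat_lit 0x15800000000033e0000000003523fb1b53df00000000000040c0000000001dc00000000055e4f84c325a00000000000034b0000000004ae0000000003644103f0565000a411134cc00063559d13500042e94a6fd000000000000c1c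
noncomputable def ixc50 : Nat := nat_lit 0x2fb00000000057000000000041a4d53a74e300000000000034c0000000004ca00000000022f2bb3f158c00000000000021d00000000033d0000000002282b22a53de00073e1e87da0007948d22cc000115664880000000000000ad4
noncomputable def ixc51 : Nat := nat_lit 0x35a0000000002240000000004a05554052ac00000000000049400000000022b0000000002202a85472b60000000000003f700000000059a0000000001e126037464e0008c442477a0004ef85d0ae0001da7ce5bd000000000000c91
noncomputable def ixc52 : Nat := nat_lit 0x3b90000000003ab00000000062957146d30600000000000017400000000060200000000035b4061db5c20000000000004bb00000000015a0000000003443e75791b70001504b203000010f01d48d0001371ac0d600000000000001a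
noncomputable def ixc53 : Nat := nat_lit 0x15534e02c0001aa01b33b0001f81b314f00000000000000a71112b64f00097c7242ce0001bd642a7e000000000000a7f9d02386e200073d7c315e00026a8d18250000000000009d100000000030500000000041c0000000005a462a3b0365000
noncomputable def ixc54 : Nat := nat_lit 0xa7c1be61b0007816e412a00030d97a865000000000000ad115262c0600000ad0445f40000c51af08800000000000003e636498a3000040bb2915b0000f357a4cd000000000000cc60000000005830000000001270000000003ec377634175000
noncomputable def ixc55 : Nat := nat_lit 0x7f717d72200088180b23900017970f97f00000000000098060f33fa8300054db7e232000098556604000000000000cc71236f107b00009105d6ac00009e1720700000000000000590000000001b100000000054c0000000002b93562235f9000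
noncomputable def ixc56 : Nat := nat_lit 0x3e20000000004000000000001111594914b60000000000006e10000000003070000000002fc26b62b3b200000000000040100000000012500000000054e4f94b71730000ac0f621e0000461ab5740005430d902f000000000000028
noncomputable def ixc57 : Nat := nat_lit 0x42613462d00093c6f355100011236ba31000000000000d4795526c87e0006e397b15f00017b8647c50000000000009f40ab0f715300004510b5750005440d802e0000000000000290000000004960000000004bd0000000000e912643057b000
noncomputable def ixc58 : Nat := nat_lit 0x900c612400005e0e662e0005f60b904300000000000003f8bc1e57f60007c18f41e70001c07c48b8000000000000a4d6ae0766070009816c62a70002c45f5a84000000000000d480000000003530000000001540000000004955483fc1b0000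
noncomputable def ixc59 : Nat := nat_lit 0x8f61e67f50007c28f31c10001bf7f88ba0000000000008f71a827c2260000421b22b10002a421b02b0000000000000069bc2367100007237f917a00023b8b980c0000000000009f70000000006620000000002650000000003752cb6ee300000
noncomputable def ixc60 : Nat := nat_lit 0x6bf0000000002c10000000001dd25b66f3600000000000001b90000000002b000000000058263322d3480000000000004670000000005730000000004114d73ac4b00000123dc15600021c10d18b0003f801e1a9000000000000010
noncomputable def ixc61 : Nat := nat_lit 0xc0d1ba4bc0004c25850c20003e4b2758f000000000000c0f07a7780710001d905107d0007cd09c1710000000000000787252cd94c000643a43128000136650712000000000000a440000000006010000000002300000000002252ad6b22bc000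
noncomputable def ixc62 : Nat := nat_lit 0x651376a40000584b3915c0000f458e644000000000000b3a6e51146840009c37592f60002c661cac5000000000000ac602a3dd15100015710a18a0003f904110e0000000000000110000000004b10000000004d60000000003b14683f6572000
noncomputable def ixc63 : Nat := nat_lit 0x5f6ab08900022106a09d0006f007c1ae000000000000058c0e1bb4a10005fa5600c10003e3b286b4000000000000c5b61d0eb6b3000a7b78234500023355fb78000000000000bbc00000000017700000000034d0000000006416fa1df2cf000
noncomputable def ix : Nat → Nat := (fun h => @Nat.rec (fun _ => Nat → Nat)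
 (fun h => @Nat.rec (fun _ => Nat → Nat)
 (fun h => @Nat.rec (fun _ => Nat → Nat)
 (fun h => @Nat.rec (fun _ => Nat → Nat)
 (fun h => @Nat.rec (fun _ => Nat → Nat)
 (fun h => @Nat.rec (fun _ => Nat → Nat)
 (fun i => Nat.land (Nat.shiftRight ixc0 (Nat.mul (nat_lit 12) (Nat.land i (nat_lit 63)))) (nat_lit 0xfff))
 (fun _ _ => (fun i => Nat.land (Nat.shiftRight ixc1 (Nat.mul (nat_lit 12) (Nat.land i (nat_lit 63)))) (nat_lit 0xfff))) (Nat.land h (nat_lit 64)) h)
 (fun _ _ => (fun h => @Nat.rec (fun _ => Nat → Nat)
 (fun i => Nat.land (Nat.shiftRight ixc2 (Nat.mul (nat_lit 12) (Nat.land i (nat_lit 63)))) (nat_lit 0xfff))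
 (fun _ _ => (fun i => Nat.land (Nat.shiftRight ixc3 (Nat.mul (nat_lit 12) (Nat.land i (nat_lit 63)))) (nat_lit 0xfff))) (Nat.land h (nat_lit 64)) h)) (Nat.land h (nat_lit 128)) h)
 (fun _ _ => (fun h => @Nat.rec (fun _ => Nat → Nat)
 (fun h => @Nat.rec (fun _ => Nat → Nat)
 (fun i => Nat.land (Nat.shiftRight ixc4 (Nat.mul (nat_lit 12) (Nat.land i (nat_lit 63)))) (nat_lit 0xfff))
 (fun _ _ => (fun i => Nat.land (Nat.shiftRight ixc5 (Nat.mul (nat_lit 12) (Nat.land i (nat_lit 63)))) (nat_lit 0xfff))) (Nat.land h (nat_lit 64)) h)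
 (fun _ _ => (fun h => @Nat.rec (fun _ => Nat → Nat)
 (fun i => Nat.land (Nat.shiftRight ixc6 (Nat.mul (nat_lit 12) (Nat.land i (nat_lit 63)))) (nat_lit 0xfff))
 (fun _ _ => (fun i => Nat.land (Nat.shiftRight ixc7 (Nat.mul (nat_lit 12) (Nat.land i (nat_lit 63)))) (nat_lit 0xfff))) (Nat.land h (nat_lit 64)) h)) (Nat.land h (nat_lit 128)) h)) (Nat.land h (nat_lit 256)) h)
 (fun _ _ => (fun h => @Nat.rec (fun _ => Nat → Nat)
 (fun h => @Nat.rec (fun _ => Nat → Nat)
 (fun h => @Nat.rec (fun _ => Nat → Nat)
 (fun i => Nat.land (Nat.shiftRight ixc8 (Nat.mul (nat_lit 12) (Nat.land i (nat_lit 63)))) (nat_lit 0xfff))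
 (fun _ _ => (fun i => Nat.land (Nat.shiftRight ixc9 (Nat.mul (nat_lit 12) (Nat.land i (nat_lit 63)))) (nat_lit 0xfff))) (Nat.land h (nat_lit 64)) h)
 (fun _ _ => (fun h => @Nat.rec (fun _ => Nat → Nat)
 (fun i => Nat.land (Nat.shiftRight ixc10 (Nat.mul (nat_lit 12) (Nat.land i (nat_lit 63)))) (nat_lit 0xfff))
 (fun _ _ => (fun i => Nat.land (Nat.shiftRight ixc11 (Nat.mul (nat_lit 12) (Nat.land i (nat_lit 63)))) (nat_lit 0xfff))) (Nat.land h (nat_lit 64)) h)) (Nat.land h (nat_lit 128)) h)
 (fun _ _ => (fun h => @Nat.rec (fun _ => Nat → Nat)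
 (fun h => @Nat.rec (fun _ => Nat → Nat)
 (fun i => Nat.land (Nat.shiftRight ixc12 (Nat.mul (nat_lit 12) (Nat.land i (nat_lit 63)))) (nat_lit 0xfff))
 (fun _ _ => (fun i => Nat.land (Nat.shiftRight ixc13 (Nat.mul (nat_lit 12) (Nat.land i (nat_lit 63)))) (nat_lit 0xfff))) (Nat.land h (nat_lit 64)) h)
 (fun _ _ => (fun h => @Nat.rec (fun _ => Nat → Nat)
 (fun i => Nat.land (Nat.shiftRight ixc14 (Nat.mul (nat_lit 12) (Nat.land i (nat_lit 63)))) (nat_lit 0xfff))
 (fun _ _ => (fun i => Nat.land (Nat.shiftRight ixc15 (Nat.mul (nat_lit 12) (Nat.land i (nat_lit 63)))) (nat_lit 0xfff))) (Nat.land h (nat_lit 64)) h)) (Nat.land h (nat_lit 128)) h)) (Nat.land h (nat_lit 256)) h)) (Nat.land h (nat_lit 512)) h)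
 (fun _ _ => (fun h => @Nat.rec (fun _ => Nat → Nat)
 (fun h => @Nat.rec (fun _ => Nat → Nat)
 (fun h => @Nat.rec (fun _ => Nat → Nat)
 (fun h => @Nat.rec (fun _ => Nat → Nat)
 (fun i => Nat.land (Nat.shiftRight ixc16 (Nat.mul (nat_lit 12) (Nat.land i (nat_lit 63)))) (nat_lit 0xfff))
 (fun _ _ => (fun i => Nat.land (Nat.shiftRight ixc17 (Nat.mul (nat_lit 12) (Nat.land i (nat_lit 63)))) (nat_lit 0xfff))) (Nat.land h (nat_lit 64)) h)
 (fun _ _ => (fun h => @Nat.rec (fun _ => Nat → Nat)
 (fun i => Nat.land (Nat.shiftRight ixc18 (Nat.mul (nat_lit 12) (Nat.land i (nat_lit 63)))) (nat_lit 0xfff))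
 (fun _ _ => (fun i => Nat.land (Nat.shiftRight ixc19 (Nat.mul (nat_lit 12) (Nat.land i (nat_lit 63)))) (nat_lit 0xfff))) (Nat.land h (nat_lit 64)) h)) (Nat.land h (nat_lit 128)) h)
 (fun _ _ => (fun h => @Nat.rec (fun _ => Nat → Nat)
 (fun h => @Nat.rec (fun _ => Nat → Nat)
 (fun i => Nat.land (Nat.shiftRight ixc20 (Nat.mul (nat_lit 12) (Nat.land i (nat_lit 63)))) (nat_lit 0xfff))
 (fun _ _ => (fun i => Nat.land (Nat.shiftRight ixc21 (Nat.mul (nat_lit 12) (Nat.land i (nat_lit 63)))) (nat_lit 0xfff))) (Nat.land h (nat_lit 64)) h)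
 (fun _ _ => (fun h => @Nat.rec (fun _ => Nat → Nat)
 (fun i => Nat.land (Nat.shiftRight ixc22 (Nat.mul (nat_lit 12) (Nat.land i (nat_lit 63)))) (nat_lit 0xfff))
 (fun _ _ => (fun i => Nat.land (Nat.shiftRight ixc23 (Nat.mul (nat_lit 12) (Nat.land i (nat_lit 63)))) (nat_lit 0xfff))) (Nat.land h (nat_lit 64)) h)) (Nat.land h (nat_lit 128)) h)) (Nat.land h (nat_lit 256)) h)
 (fun _ _ => (fun h => @Nat.rec (fun _ => Nat → Nat)
 (fun h => @Nat.rec (fun _ => Nat → Nat)
 (fun h => @Nat.rec (fun _ => Nat → Nat)
 (fun i => Nat.land (Nat.shiftRight ixc24 (Nat.mul (nat_lit 12) (Nat.land i (nat_lit 63)))) (nat_lit 0xfff))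
 (fun _ _ => (fun i => Nat.land (Nat.shiftRight ixc25 (Nat.mul (nat_lit 12) (Nat.land i (nat_lit 63)))) (nat_lit 0xfff))) (Nat.land h (nat_lit 64)) h)
 (fun _ _ => (fun h => @Nat.rec (fun _ => Nat → Nat)
 (fun i => Nat.land (Nat.shiftRight ixc26 (Nat.mul (nat_lit 12) (Nat.land i (nat_lit 63)))) (nat_lit 0xfff))
 (fun _ _ => (fun i => Nat.land (Nat.shiftRight ixc27 (Nat.mul (nat_lit 12) (Nat.land i (nat_lit 63)))) (nat_lit 0xfff))) (Nat.land h (nat_lit 64)) h)) (Nat.land h (nat_lit 128)) h)
 (fun _ _ => (fun h => @Nat.rec (fun _ => Nat → Nat)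
 (fun h => @Nat.rec (fun _ => Nat → Nat)
 (fun i => Nat.land (Nat.shiftRight ixc28 (Nat.mul (nat_lit 12) (Nat.land i (nat_lit 63)))) (nat_lit 0xfff))
 (fun _ _ => (fun i => Nat.land (Nat.shiftRight ixc29 (Nat.mul (nat_lit 12) (Nat.land i (nat_lit 63)))) (nat_lit 0xfff))) (Nat.land h (nat_lit 64)) h)
 (fun _ _ => (fun h => @Nat.rec (fun _ => Nat → Nat)
 (fun i => Nat.land (Nat.shiftRight ixc30 (Nat.mul (nat_lit 12) (Nat.land i (nat_lit 63)))) (nat_lit 0xfff))
 (fun _ _ => (fun i => Nat.land (Nat.shiftRight ixc31 (Nat.mul (nat_lit 12) (Nat.land i (nat_lit 63)))) (nat_lit 0xfff))) (Nat.land h (nat_lit 64)) h)) (Nat.land h (nat_lit 128)) h)) (Nat.land h (nat_lit 256)) h)) (Nat.land h (nat_lit 512)) h)) (Nat.land h (nat_lit 0x400)) h)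
 (fun _ _ => (fun h => @Nat.rec (fun _ => Nat → Nat)
 (fun h => @Nat.rec (fun _ => Nat → Nat)
 (fun h => @Nat.rec (fun _ => Nat → Nat)
 (fun h => @Nat.rec (fun _ => Nat → Nat)
 (fun h => @Nat.rec (fun _ => Nat → Nat)
 (fun i => Nat.land (Nat.shiftRight ixc32 (Nat.mul (nat_lit 12) (Nat.land i (nat_lit 63)))) (nat_lit 0xfff))
 (fun _ _ => (fun i => Nat.land (Nat.shiftRight ixc33 (Nat.mul (nat_lit 12) (Nat.land i (nat_lit 63)))) (nat_lit 0xfff))) (Nat.land h (nat_lit 64)) h)
 (fun _ _ => (fun h => @Nat.rec (fun _ => Nat → Nat)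
 (fun i => Nat.land (Nat.shiftRight ixc34 (Nat.mul (nat_lit 12) (Nat.land i (nat_lit 63)))) (nat_lit 0xfff))
 (fun _ _ => (fun i => Nat.land (Nat.shiftRight ixc35 (Nat.mul (nat_lit 12) (Nat.land i (nat_lit 63)))) (nat_lit 0xfff))) (Nat.land h (nat_lit 64)) h)) (Nat.land h (nat_lit 128)) h)
 (fun _ _ => (fun h => @Nat.rec (fun _ => Nat → Nat)
 (fun h => @Nat.rec (fun _ => Nat → Nat)
 (fun i => Nat.land (Nat.shiftRight ixc36 (Nat.mul (nat_lit 12) (Nat.land i (nat_lit 63)))) (nat_lit 0xfff))
 (fun _ _ => (fun i => Nat.land (Nat.shiftRight ixc37 (Nat.mul (nat_lit 12) (Nat.land i (nat_lit 63)))) (nat_lit 0xfff))) (Nat.land h (nat_lit 64)) h)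
 (fun _ _ => (fun h => @Nat.rec (fun _ => Nat → Nat)
 (fun i => Nat.land (Nat.shiftRight ixc38 (Nat.mul (nat_lit 12) (Nat.land i (nat_lit 63)))) (nat_lit 0xfff))
 (fun _ _ => (fun i => Nat.land (Nat.shiftRight ixc39 (Nat.mul (nat_lit 12) (Nat.land i (nat_lit 63)))) (nat_lit 0xfff))) (Nat.land h (nat_lit 64)) h)) (Nat.land h (nat_lit 128)) h)) (Nat.land h (nat_lit 256)) h)
 (fun _ _ => (fun h => @Nat.rec (fun _ => Nat → Nat)
 (fun h => @Nat.rec (fun _ => Nat → Nat)
 (fun h => @Nat.rec (fun _ => Nat → Nat)
 (fun i => Nat.land (Nat.shiftRight ixc40 (Nat.mul (nat_lit 12) (Nat.land i (nat_lit 63)))) (nat_lit 0xfff))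
 (fun _ _ => (fun i => Nat.land (Nat.shiftRight ixc41 (Nat.mul (nat_lit 12) (Nat.land i (nat_lit 63)))) (nat_lit 0xfff))) (Nat.land h (nat_lit 64)) h)
 (fun _ _ => (fun h => @Nat.rec (fun _ => Nat → Nat)
 (fun i => Nat.land (Nat.shiftRight ixc42 (Nat.mul (nat_lit 12) (Nat.land i (nat_lit 63)))) (nat_lit 0xfff))
 (fun _ _ => (fun i => Nat.land (Nat.shiftRight ixc43 (Nat.mul (nat_lit 12) (Nat.land i (nat_lit 63)))) (nat_lit 0xfff))) (Nat.land h (nat_lit 64)) h)) (Nat.land h (nat_lit 128)) h)
 (fun _ _ => (fun h => @Nat.rec (fun _ => Nat → Nat)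
 (fun h => @Nat.rec (fun _ => Nat → Nat)
 (fun i => Nat.land (Nat.shiftRight ixc44 (Nat.mul (nat_lit 12) (Nat.land i (nat_lit 63)))) (nat_lit 0xfff))
 (fun _ _ => (fun i => Nat.land (Nat.shiftRight ixc45 (Nat.mul (nat_lit 12) (Nat.land i (nat_lit 63)))) (nat_lit 0xfff))) (Nat.land h (nat_lit 64)) h)
 (fun _ _ => (fun h => @Nat.rec (fun _ => Nat → Nat)
 (fun i => Nat.land (Nat.shiftRight ixc46 (Nat.mul (nat_lit 12) (Nat.land i (nat_lit 63)))) (nat_lit 0xfff))
 (fun _ _ => (fun i => Nat.land (Nat.shiftRight ixc47 (Nat.mul (nat_lit 12) (Nat.land i (nat_lit 63)))) (nat_lit 0xfff))) (Nat.land h (nat_lit 64)) h)) (Nat.land h (nat_lit 128)) h)) (Nat.land h (nat_lit 256)) h)) (Nat.land h (nat_lit 512)) h)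
 (fun _ _ => (fun h => @Nat.rec (fun _ => Nat → Nat)
 (fun h => @Nat.rec (fun _ => Nat → Nat)
 (fun h => @Nat.rec (fun _ => Nat → Nat)
 (fun h => @Nat.rec (fun _ => Nat → Nat)
 (fun i => Nat.land (Nat.shiftRight ixc48 (Nat.mul (nat_lit 12) (Nat.land i (nat_lit 63)))) (nat_lit 0xfff))
 (fun _ _ => (fun i => Nat.land (Nat.shiftRight ixc49 (Nat.mul (nat_lit 12) (Nat.land i (nat_lit 63)))) (nat_lit 0xfff))) (Nat.land h (nat_lit 64)) h)
 (fun _ _ => (fun h => @Nat.rec (fun _ => Nat → Nat)
 (fun i => Nat.land (Nat.shiftRight ixc50 (Nat.mul (nat_lit 12) (Nat.land i (nat_lit 63)))) (nat_lit 0xfff))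
 (fun _ _ => (fun i => Nat.land (Nat.shiftRight ixc51 (Nat.mul (nat_lit 12) (Nat.land i (nat_lit 63)))) (nat_lit 0xfff))) (Nat.land h (nat_lit 64)) h)) (Nat.land h (nat_lit 128)) h)
 (fun _ _ => (fun h => @Nat.rec (fun _ => Nat → Nat)
 (fun h => @Nat.rec (fun _ => Nat → Nat)
 (fun i => Nat.land (Nat.shiftRight ixc52 (Nat.mul (nat_lit 12) (Nat.land i (nat_lit 63)))) (nat_lit 0xfff))
 (fun _ _ => (fun i => Nat.land (Nat.shiftRight ixc53 (Nat.mul (nat_lit 12) (Nat.land i (nat_lit 63)))) (nat_lit 0xfff))) (Nat.land h (nat_lit 64)) h)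
 (fun _ _ => (fun h => @Nat.rec (fun _ => Nat → Nat)
 (fun i => Nat.land (Nat.shiftRight ixc54 (Nat.mul (nat_lit 12) (Nat.land i (nat_lit 63)))) (nat_lit 0xfff))
 (fun _ _ => (fun i => Nat.land (Nat.shiftRight ixc55 (Nat.mul (nat_lit 12) (Nat.land i (nat_lit 63)))) (nat_lit 0xfff))) (Nat.land h (nat_lit 64)) h)) (Nat.land h (nat_lit 128)) h)) (Nat.land h (nat_lit 256)) h)
 (fun _ _ => (fun h => @Nat.rec (fun _ => Nat → Nat)
 (fun h => @Nat.rec (fun _ => Nat → Nat)
 (fun h => @Nat.rec (fun _ => Nat → Nat)
 (fun i => Nat.land (Nat.shiftRight ixc56 (Nat.mul (nat_lit 12) (Nat.land i (nat_lit 63)))) (nat_lit 0xfff))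
 (fun _ _ => (fun i => Nat.land (Nat.shiftRight ixc57 (Nat.mul (nat_lit 12) (Nat.land i (nat_lit 63)))) (nat_lit 0xfff))) (Nat.land h (nat_lit 64)) h)
 (fun _ _ => (fun h => @Nat.rec (fun _ => Nat → Nat)
 (fun i => Nat.land (Nat.shiftRight ixc58 (Nat.mul (nat_lit 12) (Nat.land i (nat_lit 63)))) (nat_lit 0xfff))
 (fun _ _ => (fun i => Nat.land (Nat.shiftRight ixc59 (Nat.mul (nat_lit 12) (Nat.land i (nat_lit 63)))) (nat_lit 0xfff))) (Nat.land h (nat_lit 64)) h)) (Nat.land h (nat_lit 128)) h)
 (fun _ _ => (fun h => @Nat.rec (fun _ => Nat → Nat)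
 (fun h => @Nat.rec (fun _ => Nat → Nat)
 (fun i => Nat.land (Nat.shiftRight ixc60 (Nat.mul (nat_lit 12) (Nat.land i (nat_lit 63)))) (nat_lit 0xfff))
 (fun _ _ => (fun i => Nat.land (Nat.shiftRight ixc61 (Nat.mul (nat_lit 12) (Nat.land i (nat_lit 63)))) (nat_lit 0xfff))) (Nat.land h (nat_lit 64)) h)
 (fun _ _ => (fun h => @Nat.rec (fun _ => Nat → Nat)
 (fun i => Nat.land (Nat.shiftRight ixc62 (Nat.mul (nat_lit 12) (Nat.land i (nat_lit 63)))) (nat_lit 0xfff))
 (fun _ _ => (fun i => Nat.land (Nat.shiftRight ixc63 (Nat.mul (nat_lit 12) (Nat.land i (nat_lit 63)))) (nat_lit 0xfff))) (Nat.land h (nat_lit 64)) h)) (Nat.land h (nat_lit 128)) h)) (Nat.land h (nat_lit 256)) h)) (Nat.land h (nat_lit 512)) h)) (Nat.land h (nat_lit 0x400)) h)) (Nat.land h (nat_lit 0x800)) h)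

/-- the vectors of the transvections. -/
noncomputable def u2 : Nat := 3808
noncomputable def u3 : Nat := 1280
noncomputable def u4 : Nat := 3584
noncomputable def u5 : Nat := 1360
noncomputable def u6 : Nat := 224
noncomputable def u7 : Nat := 3813
noncomputable def u8 : Nat := 14
noncomputable def uA : Nat := 239

theorem ck2 : allR (fun i => @Bool.rec (fun _ => Bool) true (trT [T2] (fun j => ckTau6 F4.z F4.z F4.w F4.v F4.w F4.v (vc i) (vc j)) i) (Nat.beq (clC i) 2)) (nat_lit 0) (nat_lit 3510) = true := by decide +kernel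
theorem ck3 : allR (fun i => @Bool.rec (fun _ => Bool) true (trT [T3] (fun j => ckTau6 F4.z F4.z F4.z F4.z F4.o F4.o (vc i) (vc j)) i) (Nat.beq (clC i) 2)) (nat_lit 0) (nat_lit 3510) = true := by decide +kernel
theorem ck4 : allR (fun i => @Bool.rec (fun _ => Bool) true (trT [T4] (fun j => ckTau6 F4.z F4.z F4.z F4.z F4.w F4.v (vc i) (vc j)) i) (Nat.beq (clC i) 2)) (nat_lit 0) (nat_lit 3510) = true := by decide +kernel
theorem ck5 : allR (fun i => @Bool.rec (fun _ => Bool) true (trT [T5] (fun j => ckTau6 F4.z F4.z F4.o F4.o F4.o F4.o (vc i) (vc j)) i) (Nat.beq (clC i) 2)) (nat_lit 0) (nat_lit 3510) = true := by decide +kernel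
theorem ck6 : allR (fun i => @Bool.rec (fun _ => Bool) true (trT [T6] (fun j => ckTau6 F4.z F4.z F4.w F4.v F4.z F4.z (vc i) (vc j)) i) (Nat.beq (clC i) 2)) (nat_lit 0) (nat_lit 3510) = true := by decide +kernel
theorem ck7 : allR (fun i => @Bool.rec (fun _ => Bool) true (trT [T7] (fun j => ckTau6 F4.o F4.o F4.w F4.v F4.w F4.v (vc i) (vc j)) i) (Nat.beq (clC i) 2)) (nat_lit 0) (nat_lit 3510) = true := by decide +kernel
theorem ck8 : allR (fun i => @Bool.rec (fun _ => Bool) true (trT [T8] (fun j => ckTau6 F4.w F4.v F4.z F4.z F4.z F4.z (vc i) (vc j)) i) (Nat.beq (clC i) 2)) (nat_lit 0) (nat_lit 3510) = true := by decide +kernel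
theorem ckA : allR (fun i => @Bool.rec (fun _ => Bool) true (trT [T1, T2, T3, T7, T4, T3, T2, T1, T0, T1, T2, T3, T4, T7, T3, T2, T1] (fun j => ckTau6 F4.v F4.v F4.w F4.v F4.z F4.z (vc i) (vc j)) i) (Nat.beq (clC i) 2)) (nat_lit 0) (nat_lit 3510) = true := by decide +kernel
theorem ckIx : allR (fun i => @Bool.rec (fun _ => Bool) true (ckIx6 ix (vc i) i) (Nat.beq (clC i) 2)) (nat_lit 0) (nat_lit 3510) = true := by decide +kernel
theorem ckZ1 : allR (fun i => @Bool.rec (fun _ => Bool) true (@Bool.rec (fun _ => Bool) true
   (@Bool.rec (fun _ => Bool) true (@Bool.rec (fun _ => Bool) true (@Bool.rec (fun _ => Bool) true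
   (@Bool.rec (fun _ => Bool) true (@Bool.rec (fun _ => Bool) true (@Bool.rec (fun _ => Bool) (Nat.beq i 1) true
   (Nat.beq i 2)) (Nat.beq (T8 i) i)) (Nat.beq (T7 i) i)) (Nat.beq (T6 i) i)) (Nat.beq (T5 i) i)) (Nat.beq (T4 i) i))
   (Nat.beq (T3 i) i)) (Nat.beq (clC i) 1)) (nat_lit 0) (nat_lit 3510) = true := by decide +kernel
theorem ckZ2 : allR (fun i => @Bool.rec (fun _ => Bool) true (Nat.beq (T0 i) i) (Nat.beq (clC i) 2)) (nat_lit 0) (nat_lit 3510) = true := by decide +kernel
theorem ckZ3 : allR (fun i => @Bool.rec (fun _ => Bool) (@Bool.rec (fun _ => Bool) (Nat.beq i 0) true (Nat.beq (clC i) 1)) true (Nat.beq (clC i) 2)) (nat_lit 0) (nat_lit 3510) = true := by decide +kernel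

end Cfsg.Agent.H8.U6t
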