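import Cfsg.Agent.H8.CosetCls
import Cfsg.Agent.H8.T.Z322tP

set_option autoImplicit false
set_option linter.all false
set_option maxRecDepth 100000

namespace Cfsg.Agent.H8.Z322t
noncomputable def chQ0c0 : Nat := nat_lit 0x9b4d269329acd66d349a4ca6b34994ce6b349a4ca6b34994ce6b34994ce6933984d2673099cc66933984ce633299cc665369bcc265369bcce632692492452691492452392c924b249148e492390496492291c9247209248e412390c8e432291c86452693c82452693c864d279145a25148944e25138a44e21158a44e29138844e231489c42271189c4625128b44a2d1788c5a2f128bc5a05038240e01038040e03058240e010380c0a07018140a0d0683c1a0f0283c1a08f3783cde2f079bc5e4f479bc5e4f6793d9ecf77bbd9eef67ab81c6e171385c4e671b89cce77339dcee672b8da2d26b349acd769359aed56bb59a8c26331d8cc762b198ec4612d96eb55b2dd68b759a994ea453a8d429749a5d248741218ee7638198c252218d04a10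
noncomputable def chQ0c1 : Nat := nat_lit 0xba5daed75b95daeb73bb5d2eb76bb5d6eb73bb5daeb75b9ddaeb73badd2ed76baddaeb73ba5d6e776badceeb76ba5c6eb74badd6ed74ba5caeb74b95d2e776b8d86c566b3596cb63b2596cb63b359acb66b2d8ecd64b359acb65b1d9acb63b2d92cd65b1d96c965b3592c962b3596c765b3592c365b2596cb66b2592c565b258ac965b258ac764b1d8ec567b358aa556a9d5aab56aad4eab54aad56a754ab556a755ab552a356aad4eab54aad5aa954a9556ad54aa54aab54a954eab56aa552a555aa54aa955aa54aa754a9d4ea953a854ea352ab55ea553a350e8d43a251a8b45a25168d44a250a8b43a2d128345a35128942a2d1a8944a15168942a1d168942a1d128740a2d128543a250e8744a1d028741a150e8342a351e8f43a04da6734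
noncomputable def chQ0c2 : Nat := nat_lit 0xf978fc7e3e9f4fa7d3e8f4badd4e170f87c3e1f0785c4e0f0b85c6e171b89c5e2ecf67b3d9ec765b3d96d363b2d96db69b5d8ecb6db2db6d367b2db6db6bb2da6d347a3d0e8b4da4d168745a2d369345a2d36934ba1d169b45a6d269745a4d169b49a6d369745a6d2e8f4ba3c8e532392c965b2596ca6572596ca6472596ca64b2d94cae4b2d92cb6532b92ca64b2d94cb65b2b95c9e572d96cae5b2b93cb6532b93cae4b0382c26170382c360b0d84c1e0b0d86c2e0b0d84c161b0985c161b0985c361b0b85c1e0b0d84c361b0b85c1e170d86c2e1b0b83c26170786c2e0f0b86c26070b84c2e130d71b95daeb74badcae576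
noncomputable def chQ0 : Nat → Nat := (fun h => @Nat.rec (fun _ => Nat → Nat)
 (fun h => @Nat.rec (fun _ => Nat → Nat)
 (fun i => Nat.land (Nat.shiftRight chQ0c0 (Nat.mul (nat_lit 9) (Nat.land i (nat_lit 255)))) (nat_lit 511))
 (fun _ _ => (fun i => Nat.land (Nat.shiftRight chQ0c1 (Nat.mul (nat_lit 9) (Nat.land i (nat_lit 255)))) (nat_lit 511))) (Nat.land h (nat_lit 256)) h)
 (fun _ _ => (fun i => Nat.land (Nat.shiftRight chQ0c2 (Nat.mul (nat_lit 9) (Nat.land i (nat_lit 255)))) (nat_lit 511))) (Nat.land h (nat_lit 512)) h)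
theorem ch_r0 : allR (ckReach chQ0 [[T0], [T1], [T2], [T3], [T4], [T5], [T6], [T7]] (nat_lit 0)) (nat_lit 0) (nat_lit 728) = true := by decide +kernel
theorem ch_c0 : cntT chQ0 (nat_lit 728) (nat_lit 728) (nat_lit 0) = true := by decide +kernel
noncomputable def chQ1c0 : Nat := nat_lit 0x24b249248800000000001249248801249148c01249148e49239000000000000249239048e43220000000000000000000000000000000001158900000000045001148944c000000002291289c5227108a44e211388800000089c4625158b44000000000000000041604000000205030000000008240e090380000010481c02070181c0604000040a0b0680800000000001e4f30000000f37800000007a3cde0f378801e6f1793c9ea00003d5ecf20000000e37000000e071b8400e471b85c40071395cae600001cce500341a6d100345a40069b49aa006ab59acd50034d82c2003098a00613158c006331588b25a8016ab6002d56cb4592954c0052a9948a651a552c944b24d228641a190476391d4cc6530154a242198902000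
noncomputable def chQ1c1 : Nat := nat_lit 0x2ca00b15940163000000000b28000163000000000000000000000000165005940163b2002c6000000000000000000000000000000000000000000000000000000000000000000000001530055401550054eab54005540000a9d540153005500000000000000000000000aa802a600aad52a200aa0000000000000000000000000000000000000000000000000000000000000000000000000028744a28028600a2d1283450050c0144005168944a10000000000000000000000145a25128400a250a8800000000000000000000000000000000000000000000000004d400009a0000000000000133004d262009acd26932004d66934990026932998000000000000000004d265339a4ce6600000000000000000000000000000000000000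
noncomputable def chQ1c2 : Nat := nat_lit 0x18200000018200000000000000000000000000000000000000000000000000000000002e200005c80000b9dc80175005c80000b90000000000000000000000000005c80000005d40000b980000000000000000000000000000000000000000000000000000000000000058ac400
noncomputable def chQ1 : Nat → Nat := (fun h => @Nat.rec (fun _ => Nat → Nat)
 (fun h => @Nat.rec (fun _ => Nat → Nat)
 (fun i => Nat.land (Nat.shiftRight chQ1c0 (Nat.mul (nat_lit 9) (Nat.land i (nat_lit 255)))) (nat_lit 511))
 (fun _ _ => (fun i => Nat.land (Nat.shiftRight chQ1c1 (Nat.mul (nat_lit 9) (Nat.land i (nat_lit 255)))) (nat_lit 511))) (Nat.land h (nat_lit 256)) h)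
 (fun _ _ => (fun i => Nat.land (Nat.shiftRight chQ1c2 (Nat.mul (nat_lit 9) (Nat.land i (nat_lit 255)))) (nat_lit 511))) (Nat.land h (nat_lit 512)) h)
theorem ch_r1 : allR (ckReach chQ1 [[T0], [T1], [T2], [T3], [T4], [T6], [T7]] (nat_lit 1)) (nat_lit 0) (nat_lit 728) = true := by decide +kernel
theorem ch_c1 : cntT chQ1 (nat_lit 243) (nat_lit 728) (nat_lit 0) = true := by decide +kernel
noncomputable def chQ2c0 : Nat := nat_lit 0x44800008944c0000000000000000000000000000000000000000000000000000000000000000000000000000000000000000000000000000000000000102818020700000000000000000000000000000000000000000000000000000000000000000000000000003cc000000000000079bc1e6f10000000000000000000000000000000000000000000000000000000038dc00000001c6e17100000000000000000000000000000000d000000000069b44000069350000000000000000300000000304000061b080000623140000000016200002c80000592d000005aad000a2000014800002914a005125000004a254009549a110a0042a0d0275399d4e46531190aa54281108232118400000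
noncomputable def chQ2c1 : Nat := nat_lit 0xa900000000000000000000000000000000000000000000000000000000000000000000000000000000000000000000000000000000000000000000000000000000000000000000000000000000000288000000000000000000000000000000000000000000000000000000000000000000000000000000000000000000000000000000000000000000000000000000000000000000000000000000000009a0026200000000000000000000000000000000000000000000000000000000000000000000000000000000000000000000000000000000000000000000000000000000000000000000024200920000122000000000000000000000000000000000000000000000000000000000000000000000000000000000000000000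
noncomputable def chQ2c2 : Nat := nat_lit 0xb18000000000000000000000000000000000000000000000000000000000000000000000000000000000000000000000000000000000000000000000000000000000000
noncomputable def chQ2 : Nat → Nat := (fun h => @Nat.rec (fun _ => Nat → Nat)
 (fun h => @Nat.rec (fun _ => Nat → Nat)
 (fun i => Nat.land (Nat.shiftRight chQ2c0 (Nat.mul (nat_lit 9) (Nat.land i (nat_lit 255)))) (nat_lit 511))
 (fun _ _ => (fun i => Nat.land (Nat.shiftRight chQ2c1 (Nat.mul (nat_lit 9) (Nat.land i (nat_lit 255)))) (nat_lit 511))) (Nat.land h (nat_lit 256)) h)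
 (fun _ _ => (fun i => Nat.land (Nat.shiftRight chQ2c2 (Nat.mul (nat_lit 9) (Nat.land i (nat_lit 255)))) (nat_lit 511))) (Nat.land h (nat_lit 512)) h)
theorem ch_r2 : allR (ckReach chQ2 [[T0], [T1], [T2], [T3], [T6], [T7]] (nat_lit 2)) (nat_lit 0) (nat_lit 728) = true := by decide +kernel
theorem ch_c2 : cntT chQ2 (nat_lit 72) (nat_lit 728) (nat_lit 0) = true := by decide +kernel
noncomputable def chQ3c0 : Nat := nat_lit 0xa20000000000000000000000009300000000000083000084007300007400716400646254525344434033312210000000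
noncomputable def chQ3c1 : Nat := nat_lit 0x0
noncomputable def chQ3c2 : Nat := nat_lit 0x0
noncomputable def chQ3 : Nat → Nat := (fun h => @Nat.rec (fun _ => Nat → Nat)
 (fun h => @Nat.rec (fun _ => Nat → Nat)
 (fun i => Nat.land (Nat.shiftRight chQ3c0 (Nat.mul (nat_lit 8) (Nat.land i (nat_lit 255)))) (nat_lit 255))
 (fun _ _ => (fun i => Nat.land (Nat.shiftRight chQ3c1 (Nat.mul (nat_lit 8) (Nat.land i (nat_lit 255)))) (nat_lit 255))) (Nat.land h (nat_lit 256)) h)
 (fun _ _ => (fun i => Nat.land (Nat.shiftRight chQ3c2 (Nat.mul (nat_lit 8) (Nat.land i (nat_lit 255)))) (nat_lit 255))) (Nat.land h (nat_lit 512)) h)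
theorem ch_r3 : allR (ckReach chQ3 [[T0], [T1], [T2], [T6], [T7]] (nat_lit 3)) (nat_lit 0) (nat_lit 728) = true := by decide +kernel
theorem ch_c3 : cntT chQ3 (nat_lit 20) (nat_lit 728) (nat_lit 0) = true := by decide +kernel
noncomputable def chQ4c0 : Nat := nat_lit 0x108000000000000000000000000000000064cc00000000000000000000000046880000000000000000020000000000000000000000000000000000000000000000000000000
noncomputable def chQ4c1 : Nat := nat_lit 0x0
noncomputable def chQ4c2 : Nat := nat_lit 0x0
noncomputable def chQ4 : Nat → Nat := (fun h => @Nat.rec (fun _ => Nat → Nat)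
 (fun h => @Nat.rec (fun _ => Nat → Nat)
 (fun i => Nat.land (Nat.shiftRight chQ4c0 (Nat.mul (nat_lit 7) (Nat.land i (nat_lit 255)))) (nat_lit 127))
 (fun _ _ => (fun i => Nat.land (Nat.shiftRight chQ4c1 (Nat.mul (nat_lit 7) (Nat.land i (nat_lit 255)))) (nat_lit 127))) (Nat.land h (nat_lit 256)) h)
 (fun _ _ => (fun i => Nat.land (Nat.shiftRight chQ4c2 (Nat.mul (nat_lit 7) (Nat.land i (nat_lit 255)))) (nat_lit 127))) (Nat.land h (nat_lit 512)) h)
theorem ch_r4 : allR (ckReach chQ4 [[T0], [T1], [T6], [T7]] (nat_lit 31)) (nat_lit 0) (nat_lit 728) = true := by decide +kernel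
theorem ch_c4 : cntT chQ4 (nat_lit 6) (nat_lit 728) (nat_lit 0) = true := by decide +kernel
noncomputable def chQ5c0 : Nat := nat_lit 0xc00850000000
noncomputable def chQ5c1 : Nat := nat_lit 0x0
noncomputable def chQ5c2 : Nat := nat_lit 0x0
noncomputable def chQ5 : Nat → Nat := (fun h => @Nat.rec (fun _ => Nat → Nat)
 (fun h => @Nat.rec (fun _ => Nat → Nat)
 (fun i => Nat.land (Nat.shiftRight chQ5c0 (Nat.mul (nat_lit 6) (Nat.land i (nat_lit 255)))) (nat_lit 63))
 (fun _ _ => (fun i => Nat.land (Nat.shiftRight chQ5c1 (Nat.mul (nat_lit 6) (Nat.land i (nat_lit 255)))) (nat_lit 63))) (Nat.land h (nat_lit 256)) h)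
 (fun _ _ => (fun i => Nat.land (Nat.shiftRight chQ5c2 (Nat.mul (nat_lit 6) (Nat.land i (nat_lit 255)))) (nat_lit 63))) (Nat.land h (nat_lit 512)) h)
theorem ch_r5 : allR (ckReach chQ5 [[T0], [T1]] (nat_lit 4)) (nat_lit 0) (nat_lit 728) = true := by decide +kernel
theorem ch_c5 : cntT chQ5 (nat_lit 3) (nat_lit 728) (nat_lit 0) = true := by decide +kernel
noncomputable def chQ6c0 : Nat := nat_lit 0x800400000000
noncomputable def chQ6c1 : Nat := nat_lit 0x0
noncomputable def chQ6c2 : Nat := nat_lit 0x0
noncomputable def chQ6 : Nat → Nat := (fun h => @Nat.rec (fun _ => Nat → Nat)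
 (fun h => @Nat.rec (fun _ => Nat → Nat)
 (fun i => Nat.land (Nat.shiftRight chQ6c0 (Nat.mul (nat_lit 6) (Nat.land i (nat_lit 255)))) (nat_lit 63))
 (fun _ _ => (fun i => Nat.land (Nat.shiftRight chQ6c1 (Nat.mul (nat_lit 6) (Nat.land i (nat_lit 255)))) (nat_lit 63))) (Nat.land h (nat_lit 256)) h)
 (fun _ _ => (fun i => Nat.land (Nat.shiftRight chQ6c2 (Nat.mul (nat_lit 6) (Nat.land i (nat_lit 255)))) (nat_lit 63))) (Nat.land h (nat_lit 512)) h)
theorem ch_r6 : allR (ckReach chQ6 [[T0]] (nat_lit 5)) (nat_lit 0) (nat_lit 728) = true := by decide +kernel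
theorem ch_c6 : cntT chQ6 (nat_lit 2) (nat_lit 728) (nat_lit 0) = true := by decide +kernel
def chG0 : List (List Nat) := [[0], [1], [2], [3], [4], [5], [6], [7]]
def chG1 : List (List Nat) := [[0], [1], [2], [3], [4], [6], [7]]
def chG2 : List (List Nat) := [[0], [1], [2], [3], [6], [7]]
def chG3 : List (List Nat) := [[0], [1], [2], [6], [7]]
def chG4 : List (List Nat) := [[0], [1], [6], [7]]
def chG5 : List (List Nat) := [[0], [1]]
def chG6 : List (List Nat) := [[0]]
def chG7 : List (List Nat) := []

theorem ch_lower {G : Type*} [Group G] [Finite G] (s : Nat → G) (ρ : G →* Equiv.Perm (Fin 728))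
    (hρ : ∀ l < 8, ρ (s l) = permL tok l) :
    728 * (243 * (72 * (20 * (6 * (3 * (2 * (1))))))) ≤ Nat.card (wordGroup s chG0) := by
  have h0 := card_step s tok ρ hρ chQ0 728 chG0 chG1 (by decide) ⟨0, by decide⟩ ch_r0 ch_c0
    (by decide) (by decide +kernel) inferInstance
  have h1 := card_step s tok ρ hρ chQ1 243 chG1 chG2 (by decide) ⟨1, by decide⟩ ch_r1 ch_c1
    (by decide) (by decide +kernel) inferInstance
  have h2 := card_step s tok ρ hρ chQ2 72 chG2 chG3 (by decide) ⟨2, by decide⟩ ch_r2 ch_c2
    (by decide) (by decide +kernel) inferInstance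
  have h3 := card_step s tok ρ hρ chQ3 20 chG3 chG4 (by decide) ⟨3, by decide⟩ ch_r3 ch_c3
    (by decide) (by decide +kernel) inferInstance
  have h4 := card_step s tok ρ hρ chQ4 6 chG4 chG5 (by decide) ⟨31, by decide⟩ ch_r4 ch_c4
    (by decide) (by decide +kernel) inferInstance
  have h5 := card_step s tok ρ hρ chQ5 3 chG5 chG6 (by decide) ⟨4, by decide⟩ ch_r5 ch_c5
    (by decide) (by decide +kernel) inferInstance
  have h6 := card_step s tok ρ hρ chQ6 2 chG6 chG7 (by decide) ⟨5, by decide⟩ ch_r6 ch_c6
    (by decide) (by decide +kernel) inferInstance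
  have e7 : 1 ≤ Nat.card (wordGroup s chG7) := Nat.card_pos
  have e6 := le_trans (Nat.mul_le_mul_left 2 e7) h6
  have e5 := le_trans (Nat.mul_le_mul_left 3 e6) h5
  have e4 := le_trans (Nat.mul_le_mul_left 6 e5) h4
  have e3 := le_trans (Nat.mul_le_mul_left 20 e4) h3
  have e2 := le_trans (Nat.mul_le_mul_left 72 e3) h2
  have e1 := le_trans (Nat.mul_le_mul_left 243 e2) h1
  have e0 := le_trans (Nat.mul_le_mul_left 728 e1) h0
  exact e0

end Cfsg.Agent.H8.Z322t
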